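import Mathlib

/-!
# Counting Klein four-subgroups by pairs of commuting involutions
-/

set_option autoImplicit false

namespace Cfsg.Agent.ClassicalGeometry.KleinCount

variable {G : Type*} [Group G]

/-- Two distinct commuting involutions. -/
structure CommInv (x y : G) : Prop where
  hx : x ≠ 1
  hy : y ≠ 1
  hxy : x ≠ y
  xx : x * x = 1
  yy : y * y = 1
  comm : x * y = y * x

namespace CommInv

variable {x y : G}

theorem xy_ne_one (h : CommInv x y) : x * y ≠ 1 := by
  intro h1
  apply h.hxy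
  have : x * y = y * y := by rw [h1, h.yy]
  exact mul_right_cancel this

/-- The four-group `{1, x, y, xy}`. -/
def four (h : CommInv x y) : Subgroup G where
  carrier := {1, x, y, x * y}
  one_mem' := by simp
  mul_mem' := by
    intro a b ha hb
    have e1 : x * (x * y) = y := by rw [← mul_assoc, h.xx, one_mul]
    have e2 : y * x = x * y := h.comm.symm
    have e3 : y * (x * y) = x := by rw [h.comm, ← mul_assoc, h.yy, one_mul]
    have e4 : x * y * x = y := by rw [mul_assoc, ← h.comm, e1]
    have e5 : x * y * y = x := by rw [mul_assoc, h.yy, mul_one]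
    have e6 : x * y * (x * y) = 1 := by rw [mul_assoc, e3, h.xx]
    simp only [Set.mem_insert_iff, Set.mem_singleton_iff] at ha hb ⊢
    rcases ha with rfl | rfl | rfl | rfl <;> rcases hb with rfl | rfl | rfl | rfl <;>
      simp [e1, e2, e3, e4, e5, e6, h.xx, h.yy]
  inv_mem' := by
    intro a ha
    have i1 : x⁻¹ = x := inv_eq_of_mul_eq_one_left h.xx
    have i2 : y⁻¹ = y := inv_eq_of_mul_eq_one_left h.yy
    simp only [Set.mem_insert_iff, Set.mem_singleton_iff] at ha ⊢
    rcases ha with rfl | rfl | rfl | rfl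
    · simp
    · simp [i1]
    · simp [i2]
    · rw [mul_inv_rev, i1, i2, ← h.comm]; simp

theorem mem_four (h : CommInv x y) {a : G} :
    a ∈ h.four ↔ a = 1 ∨ a = x ∨ a = y ∨ a = x * y := Iff.rfl

theorem isKleinFour_four (h : CommInv x y) : IsKleinFour h.four := by
  classical
  have hn1 : x * y ≠ x := by
    intro h1
    exact h.hy (mul_left_cancel (h1.trans (mul_one x).symm))
  have hn2 : x * y ≠ y := by
    intro h1
    exact h.hx (mul_right_cancel (h1.trans (one_mul y).symm))
  refine ⟨?_, ?_⟩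
  · have : Nat.card h.four = ((({1, x, y, x * y} : Finset G) : Set G)).ncard := by
      rw [← Nat.card_coe_set_eq]
      congr 1
      simp [four]
      rfl
    rw [this, Set.ncard_coe_finset]
    rw [Finset.card_insert_of_notMem, Finset.card_insert_of_notMem, Finset.card_insert_of_notMem,
      Finset.card_singleton]
    · simpa using hn2.symm
    · simp only [Finset.mem_insert, Finset.mem_singleton, not_or]
      exact ⟨h.hxy, hn1.symm⟩
    · simp only [Finset.mem_insert, Finset.mem_singleton, not_or]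
      exact ⟨h.hx.symm, h.hy.symm, h.xy_ne_one.symm⟩
  · have hdvd : Monoid.exponent h.four ∣ 2 := by
      apply Monoid.exponent_dvd_of_forall_pow_eq_one
      rintro ⟨a, ha⟩
      apply Subtype.ext
      simp only [Subgroup.coe_pow, Subgroup.coe_one]
      rw [pow_two]
      rcases h.mem_four.mp ha with rfl | rfl | rfl | rfl
      · simp
      · exact h.xx
      · exact h.yy
      · rw [mul_assoc, h.comm, ← mul_assoc y, h.yy, one_mul, h.xx]
    rcases (Nat.dvd_prime Nat.prime_two).mp hdvd with h1 | h1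
    · exfalso
      have hxm : x ∈ h.four := h.mem_four.mpr (Or.inr (Or.inl rfl))
      have := Monoid.pow_exponent_eq_one (⟨x, hxm⟩ : h.four)
      rw [h1, pow_one] at this
      exact h.hx (congrArg Subtype.val this)
    · exact h1

end CommInv

theorem sq_of_isKleinFour {V : Subgroup G} (hV : IsKleinFour V) {a : G} (ha : a ∈ V) :
    a * a = 1 := by
  have := Monoid.pow_exponent_eq_one (⟨a, ha⟩ : V)
  rw [hV.exponent_two] at this
  have h := congrArg Subtype.val this
  simpa [pow_two] using h

theorem comm_of_isKleinFour {V : Subgroup G} (hV : IsKleinFour V) {a b : G} (ha : a ∈ V)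
    (hb : b ∈ V) : a * b = b * a := by
  have h := sq_of_isKleinFour hV (V.mul_mem ha hb)
  have ha' := sq_of_isKleinFour hV ha
  have hb' := sq_of_isKleinFour hV hb
  have h1 : a * (a * b * (a * b)) * b = a * b := by rw [h, mul_one]
  rw [← h1]
  calc a * (a * b * (a * b)) * b = (a * a) * (b * a) * (b * b) := by group
    _ = b * a := by rw [ha', hb', one_mul, mul_one]

theorem commInv_of_isKleinFour {V : Subgroup G} (hV : IsKleinFour V) {a b : G} (ha : a ∈ V)
    (hb : b ∈ V) (ha1 : a ≠ 1) (hb1 : b ≠ 1) (hab : a ≠ b) : CommInv a b :=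
  ⟨ha1, hb1, hab, sq_of_isKleinFour hV ha, sq_of_isKleinFour hV hb, comm_of_isKleinFour hV ha hb⟩

theorem four_eq_of_isKleinFour {V : Subgroup G} (hV : IsKleinFour V) {a b : G} (ha : a ∈ V)
    (hb : b ∈ V) (h : CommInv a b) : h.four = V := by
  have hle : h.four ≤ V := by
    intro c hc
    rcases h.mem_four.mp hc with rfl | rfl | rfl | rfl
    · exact V.one_mem
    · exact ha
    · exact hb
    · exact V.mul_mem ha hb
  have hfin : Finite V := Nat.finite_of_card_ne_zero (by rw [hV.card_four]; decide)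
  apply Subgroup.eq_of_le_of_card_ge hle
  rw [hV.card_four, h.isKleinFour_four.card_four]

theorem exists_commInv_of_isKleinFour {V : Subgroup G} (hV : IsKleinFour V) :
    ∃ a b : G, ∃ h : CommInv a b, h.four = V := by
  classical
  have hfin : Finite V := Nat.finite_of_card_ne_zero (by rw [hV.card_four]; decide)
  haveI := Fintype.ofFinite V
  have hc : Fintype.card V = 4 := by rw [← Nat.card_eq_fintype_card, hV.card_four]
  obtain ⟨a, ha⟩ : ∃ a : V, a ∉ ({1} : Finset V) := by
    by_contra hcon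
    push Not at hcon
    have : (Finset.univ : Finset V) ⊆ {1} := fun x _ => hcon x
    have := Finset.card_le_card this
    rw [Finset.card_univ, hc] at this
    simp at this
  obtain ⟨b, hb⟩ : ∃ b : V, b ∉ ({1, a} : Finset V) := by
    by_contra hcon
    push Not at hcon
    have : (Finset.univ : Finset V) ⊆ {1, a} := fun x _ => hcon x
    have h1 := Finset.card_le_card this
    rw [Finset.card_univ, hc] at h1
    have h2 : ({1, a} : Finset V).card ≤ 2 := Finset.card_le_two
    omega
  simp only [Finset.mem_singleton, Finset.mem_insert, not_or] at ha hb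
  have h : CommInv (a : G) (b : G) := commInv_of_isKleinFour hV a.2 b.2
    (fun h => ha (Subtype.ext h)) (fun h => hb.1 (Subtype.ext h)) (fun h => hb.2 (Subtype.ext h.symm))
  exact ⟨a, b, h, four_eq_of_isKleinFour hV a.2 b.2 h⟩

/-- In a four-group there are six ordered pairs of distinct non-trivial elements. -/
theorem card_pairs_of_isKleinFour {V : Type*} [Group V] (hV : IsKleinFour V) :
    Nat.card {p : V × V // p.1 ≠ 1 ∧ p.2 ≠ 1 ∧ p.1 ≠ p.2} = 6 := by
  obtain ⟨e⟩ := IsKleinFour.nonempty_mulEquiv (G₁ := V) (G₂ := DihedralGroup 2)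
  have e' : {p : V × V // p.1 ≠ 1 ∧ p.2 ≠ 1 ∧ p.1 ≠ p.2} ≃
      {p : DihedralGroup 2 × DihedralGroup 2 // p.1 ≠ 1 ∧ p.2 ≠ 1 ∧ p.1 ≠ p.2} := by
    refine (Equiv.prodCongr e.toEquiv e.toEquiv).subtypeEquiv ?_
    rintro ⟨a, b⟩
    simp
  rw [Nat.card_congr e', Nat.card_eq_fintype_card]
  decide

/-- The number of ordered pairs of distinct commuting involutions is six times the number of
Klein four-subgroups. -/
theorem card_commInv : Nat.card {p : G × G // CommInv p.1 p.2} =
    6 * Nat.card {V : Subgroup G // IsKleinFour V} := by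
  have e : (Σ V : {V : Subgroup G // IsKleinFour V},
      {p : V.1 × V.1 // p.1 ≠ 1 ∧ p.2 ≠ 1 ∧ p.1 ≠ p.2}) ≃ {p : G × G // CommInv p.1 p.2} := by
    refine Equiv.ofBijective (fun x => ⟨(x.2.1.1, x.2.1.2), commInv_of_isKleinFour x.1.2 x.2.1.1.2
      x.2.1.2.2 (fun h => x.2.2.1 (Subtype.ext h)) (fun h => x.2.2.2.1 (Subtype.ext h))
      (fun h => x.2.2.2.2 (Subtype.ext h))⟩) ⟨?_, ?_⟩
    · rintro ⟨⟨V, hV⟩, ⟨⟨⟨a, ha⟩, ⟨b, hb⟩⟩, hab⟩⟩ ⟨⟨W, hW⟩, ⟨⟨⟨c, hc⟩, ⟨d, hd⟩⟩, hcd⟩⟩ h
      simp only [Subtype.mk.injEq, Prod.mk.injEq] at h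
      obtain ⟨rfl, rfl⟩ := h
      have hC : CommInv a b := commInv_of_isKleinFour hV ha hb
        (fun h => hab.1 (Subtype.ext h)) (fun h => hab.2.1 (Subtype.ext h))
        (fun h => hab.2.2 (Subtype.ext h))
      have h1 := four_eq_of_isKleinFour hV ha hb hC
      have h2 := four_eq_of_isKleinFour hW hc hd hC
      have h3 : V = W := h1.symm.trans h2
      subst h3
      rfl
    · rintro ⟨⟨a, b⟩, h⟩
      have h' : CommInv a b := h
      refine ⟨⟨⟨h'.four, h'.isKleinFour_four⟩, ⟨(⟨a, h'.mem_four.mpr (Or.inr (Or.inl rfl))⟩,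
        ⟨b, h'.mem_four.mpr (Or.inr (Or.inr (Or.inl rfl)))⟩), ?_, ?_, ?_⟩⟩, rfl⟩
      · exact fun h => h'.hx (congrArg Subtype.val h)
      · exact fun h => h'.hy (congrArg Subtype.val h)
      · exact fun h => h'.hxy (congrArg Subtype.val h)
  rw [← Nat.card_congr e]
  have e2 : (Σ V : {V : Subgroup G // IsKleinFour V},
      {p : V.1 × V.1 // p.1 ≠ 1 ∧ p.2 ≠ 1 ∧ p.1 ≠ p.2}) ≃
      (Σ _ : {V : Subgroup G // IsKleinFour V}, Fin 6) := by
    refine Equiv.sigmaCongrRight fun V => ?_
    exact Nat.equivFinOfCardPos (by rw [card_pairs_of_isKleinFour V.2]; decide) |>.trans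
      (finCongr (card_pairs_of_isKleinFour V.2))
  rw [Nat.card_congr e2, Nat.card_congr (Equiv.sigmaEquivProd _ _), Nat.card_prod, mul_comm]
  simp

end Cfsg.Agent.ClassicalGeometry.KleinCount
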