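import Mathlib
import Cfsg.Agent.LieClassical.OrthSimple

/-!
# Automorphisms of orthogonal groups, part 1: the action on subspaces, unipotent radicals

`P Q = E Q / Z(E Q)`, its action on subspaces of `V`, the unipotent radical `U W` of the stabiliser of a totally
singular subspace `W`, and the fact that it is a `p`-group.
-/

set_option autoImplicit false

namespace Cfsg.Agent.ClassicalGeometry.OrthAut1

open QuadraticMap Cfsg.Agent.LieClassical.OrthCore Cfsg.Agent.LieClassical.OrthTrans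
  Cfsg.Agent.LieClassical.OrthSimple

variable {F V : Type*} [Field F] [AddCommGroup V] [Module F V] {Q : QuadraticForm F V}

/-- The projective group `E Q / Z(E Q)`. -/
abbrev P (Q : QuadraticForm F V) : Type _ := ↥(E Q) ⧸ Subgroup.center ↥(E Q)

/-- Elements of the centre of `E Q` are scalars. -/
theorem center_scalar (hG : Good Q) {z : ↥(E Q)} (hz : z ∈ Subgroup.center ↥(E Q)) :
    ∃ c : F, ∀ v, (z : V ≃ₗ[F] V) v = c • v := by
  have hNE : (Subgroup.center ↥(E Q)).map (E Q).subtype ≤ E Q := Subgroup.map_subtype_le _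
  have hN' : ∀ g ∈ E Q, ∀ n ∈ (Subgroup.center ↥(E Q)).map (E Q).subtype,
      g * n * g⁻¹ ∈ (Subgroup.center ↥(E Q)).map (E Q).subtype := by
    rintro g hg _ ⟨n, hn, rfl⟩
    exact ⟨⟨g, hg⟩ * n * ⟨g, hg⟩⁻¹,
      (inferInstance : (Subgroup.center ↥(E Q)).Normal).conj_mem n hn ⟨g, hg⟩, rfl⟩
  rcases good_normal_dichotomy hG hNE hN' with h | h
  · exact h z ⟨z, hz, rfl⟩
  · exfalso
    obtain ⟨g, hg, hg1⟩ := good_E_ne_bot hG
    apply hg1
    have hcomm : ⁅E Q, E Q⁆ = ⊥ := by
      rw [Subgroup.commutator_eq_bot_iff_le_centralizer]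
      intro a ha
      rw [Subgroup.mem_centralizer_iff]
      intro b hb
      have ha' := ha
      rw [← h] at ha'
      obtain ⟨a', ha', rfl⟩ := ha'
      have := Subgroup.mem_center_iff.1 ha' ⟨b, hb⟩
      exact congrArg Subtype.val this
    rw [hG.E_perfect] at hcomm
    rw [hcomm] at hg
    exact Subgroup.mem_bot.1 hg

/-- An element of `E Q` acting as a scalar is central. -/
theorem mem_center_of_scalar {z : ↥(E Q)} {c : F} (h : ∀ v, (z : V ≃ₗ[F] V) v = c • v) :
    z ∈ Subgroup.center ↥(E Q) := by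
  rw [Subgroup.mem_center_iff]
  intro k
  apply Subtype.ext
  ext v
  show (k : V ≃ₗ[F] V) ((z : V ≃ₗ[F] V) v) = (z : V ≃ₗ[F] V) ((k : V ≃ₗ[F] V) v)
  rw [h, h, map_smul]

/-- The action of linear automorphisms on subspaces. -/
def mapHom : (V ≃ₗ[F] V) →* Equiv.Perm (Submodule F V) where
  toFun g :=
    { toFun := fun W => W.map g.toLinearMap
      invFun := fun W => W.map (g⁻¹ : V ≃ₗ[F] V).toLinearMap
      left_inv := fun W => by
        ext v
        simp only [Submodule.mem_map]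
        constructor
        · rintro ⟨_, ⟨w, hw, rfl⟩, rfl⟩
          have : (g⁻¹ : V ≃ₗ[F] V).toLinearMap (g.toLinearMap w) = w := g.symm_apply_apply w
          rwa [this]
        · intro hv
          exact ⟨g v, ⟨v, hv, rfl⟩, g.symm_apply_apply v⟩
      right_inv := fun W => by
        ext v
        simp only [Submodule.mem_map]
        constructor
        · rintro ⟨_, ⟨w, hw, rfl⟩, rfl⟩
          have : g.toLinearMap ((g⁻¹ : V ≃ₗ[F] V).toLinearMap w) = w := g.apply_symm_apply w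
          rwa [this]
        · intro hv
          exact ⟨g.symm v, ⟨v, hv, rfl⟩, g.apply_symm_apply v⟩ }
  map_one' := by
    ext W v
    simp
  map_mul' g h := by
    ext W v
    simp only [Equiv.coe_fn_mk, Equiv.Perm.coe_mul, Function.comp_apply, Submodule.mem_map]
    constructor
    · rintro ⟨w, hw, rfl⟩
      exact ⟨h w, ⟨w, hw, rfl⟩, rfl⟩
    · rintro ⟨_, ⟨w, hw, rfl⟩, rfl⟩
      exact ⟨w, hw, rfl⟩

theorem mapHom_apply (g : V ≃ₗ[F] V) (W : Submodule F V) :
    mapHom g W = W.map g.toLinearMap := rfl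

theorem mem_mapHom {g : V ≃ₗ[F] V} {W : Submodule F V} {v : V} :
    v ∈ mapHom g W ↔ ∃ w ∈ W, g w = v := Iff.rfl

theorem mapHom_span (g : V ≃ₗ[F] V) (u : V) :
    mapHom g (Submodule.span F {u}) = Submodule.span F {g u} := by
  rw [mapHom_apply, Submodule.map_span, Set.image_singleton]
  rfl

/-- The action of `P Q` on subspaces of `V`. -/
def pact (hG : Good Q) : P Q →* Equiv.Perm (Submodule F V) :=
  QuotientGroup.lift (Subgroup.center ↥(E Q)) (mapHom.comp (E Q).subtype) (by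
    intro z hz
    obtain ⟨c, hc⟩ := center_scalar hG hz
    ext W v
    show v ∈ mapHom (z : V ≃ₗ[F] V) W ↔ v ∈ W
    rw [mem_mapHom]
    constructor
    · rintro ⟨w, hw, rfl⟩
      rw [hc]
      exact W.smul_mem _ hw
    · intro hv
      have hc0 : c ≠ 0 ∨ v = 0 := by
        by_contra hcon
        push Not at hcon
        apply hcon.2
        have h1 := hc v
        rw [hcon.1, zero_smul] at h1
        exact (z : V ≃ₗ[F] V).map_eq_zero_iff.1 h1
      rcases hc0 with hc0 | hv0
      · exact ⟨c⁻¹ • v, W.smul_mem _ hv, by rw [hc, smul_smul, mul_inv_cancel₀ hc0, one_smul]⟩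
      · exact ⟨0, W.zero_mem, by rw [map_zero, hv0]⟩)

theorem pact_mk (hG : Good Q) (g : ↥(E Q)) (W : Submodule F V) :
    pact hG (g : P Q) W = mapHom (g : V ≃ₗ[F] V) W := rfl

/-- The stabiliser of a subspace in `P Q`. -/
def stab (hG : Good Q) (W : Submodule F V) : Subgroup (P Q) where
  carrier := {p | pact hG p W = W}
  mul_mem' {a b} ha hb := by
    show pact hG (a * b) W = W
    rw [map_mul, Equiv.Perm.mul_apply]
    have hb' : pact hG b W = W := hb
    rw [hb']
    exact ha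
  one_mem' := by
    show pact hG 1 W = W
    rw [map_one]; rfl
  inv_mem' {a} ha := by
    show pact hG a⁻¹ W = W
    rw [map_inv, Equiv.Perm.inv_eq_iff_eq]
    exact (show pact hG a W = W from ha).symm

theorem mem_stab {hG : Good Q} {W : Submodule F V} {p : P Q} :
    p ∈ stab hG W ↔ pact hG p W = W := Iff.rfl

theorem mem_stab_of_map_le (hG : Good Q) [FiniteDimensional F V] {W : Submodule F V} {g : ↥(E Q)}
    (h : ∀ w ∈ W, (g : V ≃ₗ[F] V) w ∈ W) : (g : P Q) ∈ stab hG W := by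
  rw [mem_stab, pact_mk]
  have h1 : mapHom (g : V ≃ₗ[F] V) W ≤ W := by
    rintro _ ⟨w, hw, rfl⟩
    exact h w hw
  apply Submodule.eq_of_le_of_finrank_eq h1
  rw [mapHom_apply]
  exact LinearEquiv.finrank_map_eq (g : V ≃ₗ[F] V) W

theorem apply_mem_of_mem_stab {hG : Good Q} {W : Submodule F V} {g : ↥(E Q)}
    (h : (g : P Q) ∈ stab hG W) {w : V} (hw : w ∈ W) : (g : V ≃ₗ[F] V) w ∈ W := by
  rw [mem_stab, pact_mk] at h
  rw [← h]
  exact ⟨w, hw, rfl⟩

/-! ### Unipotent radicals -/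

/-- The unipotent radical of the stabiliser of `W` in `E Q`: elements acting trivially on `W` and on
`W^⊥ / W`. -/
def U (Q : QuadraticForm F V) (W : Submodule F V) : Subgroup ↥(E Q) where
  carrier := {g | (∀ w ∈ W, (g : V ≃ₗ[F] V) w = w) ∧
    ∀ v, (∀ w ∈ W, polar Q w v = 0) → (g : V ≃ₗ[F] V) v - v ∈ W}
  mul_mem' {a b} ha hb := by
    refine ⟨fun w hw => ?_, fun v hv => ?_⟩
    · show (a : V ≃ₗ[F] V) ((b : V ≃ₗ[F] V) w) = w
      rw [hb.1 w hw, ha.1 w hw]
    · show (a : V ≃ₗ[F] V) ((b : V ≃ₗ[F] V) v) - v ∈ W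
      have h1 := hb.2 v hv
      have h2 := ha.2 v hv
      have h3 : (a : V ≃ₗ[F] V) ((b : V ≃ₗ[F] V) v) - v
          = ((b : V ≃ₗ[F] V) v - v) + ((a : V ≃ₗ[F] V) v - v) := by
        have h4 := ha.1 _ h1
        rw [map_sub] at h4
        rw [sub_eq_iff_eq_add.1 h4]
        abel
      rw [h3]
      exact W.add_mem h1 h2
  one_mem' := ⟨fun w _ => rfl, fun v _ => by
    show v - v ∈ W
    rw [sub_self]; exact W.zero_mem⟩
  inv_mem' {a} ha := by
    have h0 : ∀ w ∈ W, (a : V ≃ₗ[F] V).symm w = w := by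
      intro w hw
      rw [LinearEquiv.symm_apply_eq, ha.1 w hw]
    refine ⟨h0, fun v hv => ?_⟩
    show (a : V ≃ₗ[F] V).symm v - v ∈ W
    have h1 := ha.2 v hv
    have h2 := h0 _ h1
    rw [map_sub, LinearEquiv.symm_apply_apply] at h2
    have h3 : (a : V ≃ₗ[F] V).symm v - v = -((a : V ≃ₗ[F] V) v - v) := by
      rw [← h2]; abel
    rw [h3]
    exact W.neg_mem h1

theorem mem_U {W : Submodule F V} {g : ↥(E Q)} :
    g ∈ U Q W ↔ (∀ w ∈ W, (g : V ≃ₗ[F] V) w = w) ∧
      ∀ v, (∀ w ∈ W, polar Q w v = 0) → (g : V ≃ₗ[F] V) v - v ∈ W := Iff.rfl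

theorem coe_mem_O (g : ↥(E Q)) : (g : V ≃ₗ[F] V) ∈ O Q := E_le_O g.2

/-- `(g - 1) v` is orthogonal to `W` for `g ∈ U W`. -/
theorem polar_sub_of_mem_U {W : Submodule F V} {g : ↥(E Q)} (hg : g ∈ U Q W) (v : V) {w : V}
    (hw : w ∈ W) : polar Q w ((g : V ≃ₗ[F] V) v - v) = 0 := by
  rw [polar_sub_right]
  nth_rewrite 1 [← hg.1 w hw]
  rw [polar_map (coe_mem_O g), sub_self]

/-- Totally singular subspaces. -/
def TS (Q : QuadraticForm F V) (W : Submodule F V) : Prop := ∀ w ∈ W, Q w = 0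

theorem TS.polar {W : Submodule F V} (hW : TS Q W) {v w : V} (hv : v ∈ W) (hw : w ∈ W) :
    QuadraticMap.polar Q v w = 0 := by
  have h := hW _ (W.add_mem hv hw)
  rw [Q_add, hW v hv, hW w hw] at h
  simpa using h

/-- `U W` is a `p`-group in characteristic `p`. -/
theorem isPGroup_U (p : ℕ) [hp : Fact p.Prime] [CharP F p] (W : Submodule F V) :
    IsPGroup p (U Q W) := by
  intro g
  refine ⟨2, ?_⟩
  set T : Module.End F V := ((g : ↥(E Q)) : V ≃ₗ[F] V).toLinearMap with hT
  have hW : ∀ w ∈ W, T w = w := fun w hw => g.2.1 w hw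
  have h3 : (T - 1) ^ 3 = 0 := by
    ext v
    have e : ((T - 1) ^ 3 : Module.End F V) v = (T - 1) ((T - 1) ((T - 1) v)) := by
      rw [pow_succ, pow_succ, pow_one]; rfl
    rw [e]
    have h1 : ∀ w ∈ W, polar Q w ((T - 1) v) = 0 := fun w hw => polar_sub_of_mem_U g.2 v hw
    have h2 : (T - 1) ((T - 1) v) ∈ W := g.2.2 _ h1
    show T ((T - 1) ((T - 1) v)) - (T - 1) ((T - 1) v) = 0
    rw [hW _ h2, sub_self]
  have hpp : 3 ≤ p ^ 2 := by
    have := hp.out.two_le
    nlinarith
  have h4 : T ^ (p ^ 2) = 1 := by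
    have : CharP (Module.End F V) p ∨ Subsingleton V := by
      by_cases hV : Subsingleton V
      · exact Or.inr hV
      · left
        rw [not_subsingleton_iff_nontrivial] at hV
        exact charP_of_injective_algebraMap (FaithfulSMul.algebraMap_injective F (Module.End F V)) p
    rcases this with h | h
    · have e : T = (T - 1) + 1 := by abel
      have hc : Commute (T - 1) (1 : Module.End F V) := Commute.one_right _
      rw [e, add_pow_char_pow_of_commute p 2 hc, one_pow,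
        pow_eq_zero_of_le hpp h3, zero_add]
    · ext v
      exact Subsingleton.elim _ _
  apply Subtype.ext
  apply Subtype.ext
  have e5 : ((((g ^ p ^ 2 : ↥(U Q W)) : ↥(E Q)) : V ≃ₗ[F] V)).toLinearMap
      = T ^ (p ^ 2) := by
    rw [hT]
    have : ∀ n : ℕ, ((((g ^ n : ↥(U Q W)) : ↥(E Q)) : V ≃ₗ[F] V)).toLinearMap
        = ((((g : ↥(U Q W)) : ↥(E Q)) : V ≃ₗ[F] V)).toLinearMap ^ n := by
      intro n
      induction n with
      | zero => rfl
      | succ n ih => rw [pow_succ, pow_succ, ← ih]; rfl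
    exact this _
  apply LinearEquiv.toLinearMap_injective
  rw [e5, h4]
  rfl

end Cfsg.Agent.ClassicalGeometry.OrthAut1
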