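import Mathlib
import Cfsg.Agent.ClassicalGeometry.OrthAut1
import Cfsg.Agent.LieClassical.OrthFinite

/-!
# Automorphisms of orthogonal groups, part 2: the unipotent radical of a point stabiliser

The unipotent radical `UP (span {u})` of the stabiliser of a singular point consists of the Siegel
transformations `siegel u w`; it is self-centralising, the stabiliser acts irreducibly on it, and it contains
every normal `p`-subgroup of the stabiliser.
-/

set_option autoImplicit false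

namespace Cfsg.Agent.ClassicalGeometry.OrthAut2

open QuadraticMap Cfsg.Agent.LieClassical.OrthCore Cfsg.Agent.LieClassical.OrthTrans
  Cfsg.Agent.LieClassical.OrthSimple Cfsg.Agent.LieClassical.OrthFinite
  Cfsg.Agent.ClassicalGeometry.OrthAut1

variable {F V : Type*} [Field F] [AddCommGroup V] [Module F V] {Q : QuadraticForm F V}

/-- The image of `U W` in `P Q`. -/
def UP (Q : QuadraticForm F V) (W : Submodule F V) : Subgroup (P Q) :=
  (U Q W).map (QuotientGroup.mk' (Subgroup.center ↥(E Q)))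

/-- Siegel transformations as elements of `E Q`. -/
def sg (u w : V) (hu : Q u = 0) (hw : polar Q u w = 0) : ↥(E Q) :=
  ⟨siegel Q u w hu hw, siegel_mem_E hu hw⟩

theorem coe_sg {u w : V} (hu : Q u = 0) (hw : polar Q u w = 0) :
    ((sg u w hu hw : ↥(E Q)) : V ≃ₗ[F] V) = siegel Q u w hu hw := rfl

theorem sg_apply {u w : V} (hu : Q u = 0) (hw : polar Q u w = 0) (v : V) :
    ((sg u w hu hw : ↥(E Q)) : V ≃ₗ[F] V) v
      = v + polar Q u v • w - polar Q w v • u - (Q w * polar Q u v) • u :=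
  siegel_apply hu hw v

theorem sg_congr {u w w' : V} (hu : Q u = 0) (hw : polar Q u w = 0) (hw' : polar Q u w' = 0)
    (h : w = w') : (sg u w hu hw : ↥(E Q)) = sg u w' hu hw' := by
  subst h; rfl

theorem sg_mul {u w w' : V} (hu : Q u = 0) (hw : polar Q u w = 0) (hw' : polar Q u w' = 0)
    (h : polar Q u (w + w') = 0) :
    (sg u w hu hw * sg u w' hu hw' : ↥(E Q)) = sg u (w + w') hu h :=
  Subtype.ext (siegel_mul hu hw hw' h)

theorem sg_conj (g : ↥(E Q)) {u w : V} (hu : Q u = 0) (hw : polar Q u w = 0)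
    (hu' : Q ((g : V ≃ₗ[F] V) u) = 0)
    (hw' : polar Q ((g : V ≃ₗ[F] V) u) ((g : V ≃ₗ[F] V) w) = 0) :
    g * sg u w hu hw * g⁻¹ = sg ((g : V ≃ₗ[F] V) u) ((g : V ≃ₗ[F] V) w) hu' hw' :=
  Subtype.ext (siegel_conj (coe_mem_O g) hu hw hu' hw')

theorem Q_apply (g : ↥(E Q)) (v : V) : Q ((g : V ≃ₗ[F] V) v) = Q v := mem_O.1 (coe_mem_O g) v

theorem polar_apply (g : ↥(E Q)) (v w : V) :
    polar Q ((g : V ≃ₗ[F] V) v) ((g : V ≃ₗ[F] V) w) = polar Q v w := polar_map (coe_mem_O g) v w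

/-- `siegel u w` is in the unipotent radical of a totally singular `W`, if `u ∈ W` and
`w ∈ W^⊥`. -/
theorem sg_mem_U {W : Submodule F V} (hW : TS Q W) {u w : V} (huW : u ∈ W)
    (hwW : ∀ v ∈ W, polar Q w v = 0) (hu : Q u = 0) (hw : polar Q u w = 0) :
    (sg u w hu hw : ↥(E Q)) ∈ U Q W := by
  refine ⟨fun v hv => ?_, fun v hv => ?_⟩
  · rw [sg_apply, hW.polar huW hv, hwW v hv]
    simp
  · rw [sg_apply, hv u huW]
    have : v + (0 : F) • w - polar Q w v • u - (Q w * 0) • u - v = -(polar Q w v) • u := by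
      module
    rw [this]
    exact W.smul_mem _ huW

theorem TS_span {u : V} (hu : Q u = 0) : TS Q (Submodule.span F {u}) := by
  intro w hw
  obtain ⟨c, rfl⟩ := Submodule.mem_span_singleton.1 hw
  rw [QuadraticMap.map_smul, hu, smul_zero]

theorem sg_mem_U_span {u w : V} (hu : Q u = 0) (hw : polar Q u w = 0) :
    (sg u w hu hw : ↥(E Q)) ∈ U Q (Submodule.span F {u}) := by
  refine sg_mem_U (TS_span hu) (Submodule.mem_span_singleton_self u) ?_ hu hw
  intro v hv
  obtain ⟨c, rfl⟩ := Submodule.mem_span_singleton.1 hv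
  rw [polar_smul_right, polar_comm Q w u, hw, smul_zero]

/-- An isometry fixing `u` and acting trivially on `u^⊥ / u` is a Siegel transformation. -/
theorem eq_siegel (hQ : Nondeg Q) {u : V} (hu : Q u = 0) (hu0 : u ≠ 0) {h : V ≃ₗ[F] V}
    (hO : h ∈ O Q) (h1 : h u = u) (h2 : ∀ v, polar Q u v = 0 → ∃ c : F, h v - v = c • u) :
    ∃ (w : V) (hw : polar Q u w = 0), h = siegel Q u w hu hw := by
  obtain ⟨v, hv⟩ := Cfsg.Agent.LieClassical.OrthTrans.exists_hyp hQ hu hu0
  obtain ⟨w, hwdef⟩ : ∃ w, w = h v - v := ⟨_, rfl⟩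
  have hw : polar Q u w = 0 := by
    rw [hwdef, polar_sub_right]
    nth_rewrite 1 [← h1]
    rw [polar_map hO, sub_self]
  refine ⟨w, hw, ?_⟩
  have hhv : h v = v + w := by rw [hwdef]; abel
  have hQw : Q w = - polar Q w v := by
    have e := mem_O.1 hO v
    rw [hhv, Q_add, hv.right, polar_comm Q v w] at e
    linear_combination e
  ext t
  set a := Cfsg.Agent.LieClassical.OrthTrans.proj Q u v t with ha
  have hau : polar Q u a = 0 := polar_proj_left hv t
  have hav : polar Q v a = 0 := polar_proj_right hv t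
  obtain ⟨c, hc⟩ := h2 a hau
  have hha : h a = a + c • u := by rw [← hc]; abel
  have hc' : c = - polar Q w a := by
    have e := polar_map hO v a
    rw [hhv, hha, polar_add_left, polar_add_right, polar_add_right, polar_smul_right,
      polar_smul_right, hav, hv.pair', polar_comm Q w u, hw] at e
    simp only [smul_eq_mul, mul_one, mul_zero, add_zero, zero_add] at e
    linear_combination e
  have ht : t = a + polar Q v t • u + polar Q u t • v := by
    rw [ha, Cfsg.Agent.LieClassical.OrthTrans.proj]; abel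
  have hsa : siegel Q u w hu hw a = a - polar Q w a • u := by
    rw [siegel_apply, hau]
    module
  have hsu : siegel Q u w hu hw u = u := by
    rw [siegel_apply, polar_self_of_sing hu, polar_comm Q w u, hw]
    module
  have hsv : siegel Q u w hu hw v = v + w := by
    rw [siegel_apply, hv.pair, hQw]
    module
  rw [ht, map_add, map_add, map_add, map_add, map_smul, map_smul, map_smul, map_smul, h1, hsu, hhv,
    hsv, hha, hsa, hc']
  module

theorem mem_U_span_iff (hQ : Nondeg Q) {u : V} (hu : Q u = 0) (hu0 : u ≠ 0) {g : ↥(E Q)} :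
    g ∈ U Q (Submodule.span F {u}) ↔ ∃ (w : V) (hw : polar Q u w = 0), g = sg u w hu hw := by
  constructor
  · intro hg
    have h1 : (g : V ≃ₗ[F] V) u = u := hg.1 u (Submodule.mem_span_singleton_self u)
    have h2 : ∀ v, polar Q u v = 0 → ∃ c : F, (g : V ≃ₗ[F] V) v - v = c • u := by
      intro v hv
      have := hg.2 v (by
        intro w hw
        obtain ⟨c, rfl⟩ := Submodule.mem_span_singleton.1 hw
        rw [polar_smul_left, hv, smul_zero])
      obtain ⟨c, hc⟩ := Submodule.mem_span_singleton.1 this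
      exact ⟨c, hc.symm⟩
    obtain ⟨w, hw, e⟩ := eq_siegel hQ hu hu0 (coe_mem_O g) h1 h2
    exact ⟨w, hw, Subtype.ext e⟩
  · rintro ⟨w, hw, rfl⟩
    exact sg_mem_U_span hu hw

theorem mem_UP_span_iff (hQ : Nondeg Q) {u : V} (hu : Q u = 0) (hu0 : u ≠ 0) {p : P Q} :
    p ∈ UP Q (Submodule.span F {u}) ↔
      ∃ (w : V) (hw : polar Q u w = 0), p = ((sg u w hu hw : ↥(E Q)) : P Q) := by
  constructor
  · rintro ⟨g, hg, rfl⟩
    obtain ⟨w, hw, rfl⟩ := (mem_U_span_iff hQ hu hu0).1 hg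
    exact ⟨w, hw, rfl⟩
  · rintro ⟨w, hw, rfl⟩
    exact ⟨_, (mem_U_span_iff hQ hu hu0).2 ⟨w, hw, rfl⟩, rfl⟩

/-- Conjugating unipotent radicals. -/
theorem conj_mem_U {W : Submodule F V} {g t : ↥(E Q)} (ht : t ∈ U Q W) :
    g * t * g⁻¹ ∈ U Q (mapHom (g : V ≃ₗ[F] V) W) := by
  refine ⟨?_, ?_⟩
  · rintro _ ⟨w, hw, rfl⟩
    show (g : V ≃ₗ[F] V) ((t : V ≃ₗ[F] V) ((g : V ≃ₗ[F] V).symm ((g : V ≃ₗ[F] V) w)))
      = (g : V ≃ₗ[F] V) w
    rw [LinearEquiv.symm_apply_apply, ht.1 w hw]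
  · intro v hv
    obtain ⟨v, rfl⟩ := (g : V ≃ₗ[F] V).surjective v
    have h1 : ∀ w ∈ W, polar Q w v = 0 := by
      intro w hw
      rw [← polar_apply g]
      exact hv _ ⟨w, hw, rfl⟩
    refine ⟨(t : V ≃ₗ[F] V) v - v, ht.2 v h1, ?_⟩
    show (g : V ≃ₗ[F] V) ((t : V ≃ₗ[F] V) v - v) = (g : V ≃ₗ[F] V) ((t : V ≃ₗ[F] V)
      ((g : V ≃ₗ[F] V).symm ((g : V ≃ₗ[F] V) v))) - (g : V ≃ₗ[F] V) v
    rw [LinearEquiv.symm_apply_apply, map_sub]

theorem conj_mem_UP (hG : Good Q) {W : Submodule F V} {p t : P Q} (ht : t ∈ UP Q W) :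
    p * t * p⁻¹ ∈ UP Q (pact hG p W) := by
  obtain ⟨g, rfl⟩ := QuotientGroup.mk_surjective p
  obtain ⟨t, ht, rfl⟩ := ht
  exact ⟨g * t * g⁻¹, conj_mem_U ht, rfl⟩

theorem conj_mem_UP_of_stab {hG : Good Q} {W : Submodule F V} {p t : P Q} (hp : p ∈ stab hG W)
    (ht : t ∈ UP Q W) : p * t * p⁻¹ ∈ UP Q W := by
  have := conj_mem_UP hG (p := p) ht
  rwa [mem_stab.1 hp] at this

theorem UP_le_stab (hG : Good Q) [FiniteDimensional F V] (W : Submodule F V) :
    UP Q W ≤ stab hG W := by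
  rintro _ ⟨g, hg, rfl⟩
  exact mem_stab_of_map_le hG fun w hw => by rw [hg.1 w hw]; exact hw

theorem isPGroup_UP (p : ℕ) [Fact p.Prime] [CharP F p] (W : Submodule F V) :
    IsPGroup p (UP Q W) := (isPGroup_U p W).map _

/-- The Siegel transformations with the same `u` commute. -/
theorem UP_span_comm (hQ : Nondeg Q) {u : V} (hu : Q u = 0) (hu0 : u ≠ 0) {a b : P Q}
    (ha : a ∈ UP Q (Submodule.span F {u})) (hb : b ∈ UP Q (Submodule.span F {u})) :
    a * b = b * a := by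
  obtain ⟨w, hw, rfl⟩ := (mem_UP_span_iff hQ hu hu0).1 ha
  obtain ⟨w', hw', rfl⟩ := (mem_UP_span_iff hQ hu hu0).1 hb
  have h1 : polar Q u (w + w') = 0 := by rw [polar_add_right, hw, hw', add_zero]
  have h2 : polar Q u (w' + w) = 0 := by rw [polar_add_right, hw, hw', add_zero]
  rw [← QuotientGroup.mk_mul, ← QuotientGroup.mk_mul, sg_mul hu hw hw' h1, sg_mul hu hw' hw h2,
    sg_congr hu h1 h2 (add_comm _ _)]

/-! ### Linear algebra around a singular vector -/

theorem sg_eq_one_iff (hQ : Nondeg Q) {u w : V} (hu : Q u = 0) (hu0 : u ≠ 0)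
    (hw : polar Q u w = 0) : (sg u w hu hw : ↥(E Q)) = 1 ↔ ∃ c : F, w = c • u := by
  constructor
  · intro h
    obtain ⟨v, hv⟩ := Cfsg.Agent.LieClassical.OrthTrans.exists_hyp hQ hu hu0
    have h1 := congrArg (fun g : ↥(E Q) => (g : V ≃ₗ[F] V) v) h
    simp only [sg_apply, hv.pair] at h1
    have h2 : v + (1 : F) • w - polar Q w v • u - (Q w * 1) • u = v := h1
    refine ⟨polar Q w v + Q w, ?_⟩
    have h3 : w - (polar Q w v + Q w) • u = (v + (1 : F) • w - polar Q w v • u - (Q w * 1) • u) - v := by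
      module
    rw [h2, sub_self] at h3
    exact sub_eq_zero.1 h3
  · rintro ⟨c, rfl⟩
    apply Subtype.ext
    ext v
    show ((sg u (c • u) hu hw : ↥(E Q)) : V ≃ₗ[F] V) v = v
    rw [sg_apply, QuadraticMap.map_smul, hu, polar_smul_left]
    simp only [smul_eq_mul, mul_zero, zero_mul, zero_smul, sub_zero]
    module

/-- `siegel u w` and `siegel u w'` agree in `P Q` iff `w - w'` is a multiple of `u`. -/
theorem sg_eq_sg_iff (hG : Good Q) {u w w' : V} (hu : Q u = 0) (hu0 : u ≠ 0)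
    (hw : polar Q u w = 0) (hw' : polar Q u w' = 0) :
    ((sg u w hu hw : ↥(E Q)) : P Q) = ((sg u w' hu hw' : ↥(E Q)) : P Q) ↔
      ∃ c : F, w' - w = c • u := by
  constructor
  · intro h
    have h1 := QuotientGroup.eq.1 h
    obtain ⟨c, hc⟩ := center_scalar hG h1
    -- `siegel u w' v = c • siegel u w v`
    have h2 : ∀ v, ((sg u w' hu hw' : ↥(E Q)) : V ≃ₗ[F] V) v
        = c • ((sg u w hu hw : ↥(E Q)) : V ≃ₗ[F] V) v := by
      intro v
      have h3 := hc v
      have h4 : ((sg u w hu hw : ↥(E Q)) : V ≃ₗ[F] V) ((((sg u w hu hw)⁻¹ * sg u w' hu hw' : ↥(E Q)) :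
          V ≃ₗ[F] V) v) = ((sg u w' hu hw' : ↥(E Q)) : V ≃ₗ[F] V) v := by
        show ((sg u w hu hw : ↥(E Q)) : V ≃ₗ[F] V) (((sg u w hu hw : ↥(E Q)) : V ≃ₗ[F] V).symm
          (((sg u w' hu hw' : ↥(E Q)) : V ≃ₗ[F] V) v)) = _
        rw [LinearEquiv.apply_symm_apply]
      rw [← h4, h3, map_smul]
    have hc1 : c = 1 := by
      have h3 := h2 u
      rw [sg_apply, sg_apply, polar_self_of_sing hu, polar_comm Q w u, polar_comm Q w' u, hw, hw']
        at h3
      have h4 : (c - 1) • u = 0 := by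
        have : (c - 1) • u = c • (u + (0 : F) • w - (0 : F) • u - (Q w * 0) • u)
          - (u + (0 : F) • w' - (0 : F) • u - (Q w' * 0) • u) := by module
        rw [this, h3, sub_self]
      rcases smul_eq_zero.1 h4 with h5 | h5
      · exact sub_eq_zero.1 h5
      · exact absurd h5 hu0
    rw [hc1] at h2
    obtain ⟨v, hv⟩ := Cfsg.Agent.LieClassical.OrthTrans.exists_hyp hG.nondeg hu hu0
    have h3 := h2 v
    rw [one_smul, sg_apply, sg_apply, hv.pair] at h3
    refine ⟨(polar Q w' v + Q w') - (polar Q w v + Q w), ?_⟩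
    have h4 : (w' - w) - ((polar Q w' v + Q w') - (polar Q w v + Q w)) • u
        = (v + (1 : F) • w' - polar Q w' v • u - (Q w' * 1) • u)
          - (v + (1 : F) • w - polar Q w v • u - (Q w * 1) • u) := by module
    rw [h3, sub_self] at h4
    exact sub_eq_zero.1 h4
  · rintro ⟨c, hc⟩
    have e : w' = w + c • u := by rw [← hc]; abel
    have hcu : polar Q u (c • u) = 0 := by
      rw [polar_smul_right, polar_self_of_sing hu, smul_zero]
    have h1 : polar Q u (w + c • u) = 0 := by rw [← e]; exact hw'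
    have h2 : (sg u w' hu hw' : ↥(E Q)) = sg u w hu hw * sg u (c • u) hu hcu := by
      rw [sg_mul hu hw hcu h1]
      exact sg_congr hu _ _ e
    rw [h2, (sg_eq_one_iff hG.nondeg hu hu0 hcu).2 ⟨c, rfl⟩, mul_one]

/-- Commutation of `[g]` with `[siegel u w]`, when `g u = l u`. -/
theorem conj_sg_eq_iff (hG : Good Q) {u w : V} (hu : Q u = 0) (hu0 : u ≠ 0)
    (hw : polar Q u w = 0) {g : ↥(E Q)} {l : F} (hg : (g : V ≃ₗ[F] V) u = l • u) :
    (g : P Q) * ((sg u w hu hw : ↥(E Q)) : P Q) * (g : P Q)⁻¹ = ((sg u w hu hw : ↥(E Q)) : P Q) ↔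
      ∃ c : F, l • (g : V ≃ₗ[F] V) w - w = c • u := by
  have hl : l ≠ 0 := by
    rintro rfl
    rw [zero_smul] at hg
    exact hu0 ((g : V ≃ₗ[F] V).map_eq_zero_iff.1 hg)
  have hu' : Q ((g : V ≃ₗ[F] V) u) = 0 := by rw [Q_apply]; exact hu
  have hw' : polar Q ((g : V ≃ₗ[F] V) u) ((g : V ≃ₗ[F] V) w) = 0 := by rw [polar_apply]; exact hw
  have hgw : polar Q u ((g : V ≃ₗ[F] V) w) = 0 := by
    rw [hg, polar_smul_left, smul_eq_mul] at hw'
    exact (mul_eq_zero.1 hw').resolve_left hl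
  have hlgw : polar Q u (l • (g : V ≃ₗ[F] V) w) = 0 := by
    rw [polar_smul_right, hgw, smul_zero]
  have e : g * sg u w hu hw * g⁻¹ = sg u (l • (g : V ≃ₗ[F] V) w) hu hlgw := by
    rw [sg_conj g hu hw hu' hw']
    apply Subtype.ext
    rw [coe_sg, coe_sg]
    have hu'' : Q (l • u) = 0 := by rw [← hg]; exact hu'
    have hw'' : polar Q (l • u) ((g : V ≃ₗ[F] V) w) = 0 := by rw [← hg]; exact hw'
    rw [siegel_congr hu' hw' hu'' hw'' hg rfl, siegel_smul_left hu hu'' hw'' hlgw]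
  rw [← QuotientGroup.mk_mul, ← QuotientGroup.mk_inv, ← QuotientGroup.mk_mul, e, eq_comm,
    sg_eq_sg_iff hG hu hu0 hw hlgw]

end Cfsg.Agent.ClassicalGeometry.OrthAut2
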