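import Mathlib
import Cfsg.Agent.ClassicalGeometry.OrthAut2

/-!
# Automorphisms of orthogonal groups, part 2b: the unipotent radical is the largest normal p-subgroup
-/

set_option autoImplicit false

namespace Cfsg.Agent.ClassicalGeometry.OrthAut2b

open QuadraticMap Cfsg.Agent.LieClassical.OrthCore Cfsg.Agent.LieClassical.OrthTrans
  Cfsg.Agent.LieClassical.OrthSimple Cfsg.Agent.LieClassical.OrthFinite
  Cfsg.Agent.ClassicalGeometry.OrthAut1 Cfsg.Agent.ClassicalGeometry.OrthAut2

variable {F V : Type*} [Field F] [AddCommGroup V] [Module F V] {Q : QuadraticForm F V}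

/-- The stabiliser of a singular point acts irreducibly on `u^⊥ / u`. -/
theorem irred [Finite F] (hG : Good Q) (h7 : 7 ≤ Module.finrank F V) {u : V} (hu : Q u = 0)
    (hu0 : u ≠ 0) (A : Submodule F V) (hAu : u ∈ A) (hAp : ∀ a ∈ A, polar Q u a = 0)
    (hinv : ∀ g : ↥(E Q), (g : V ≃ₗ[F] V) u = u → ∀ a ∈ A, (g : V ≃ₗ[F] V) a ∈ A)
    {t : V} (ht : t ∈ A) (htu : ∀ c : F, t ≠ c • u) : ∀ a, polar Q u a = 0 → a ∈ A := by
  obtain ⟨v, hv⟩ := Cfsg.Agent.LieClassical.OrthTrans.exists_hyp hG.nondeg hu hu0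
  -- invariance under Siegel transformations
  have hsg : ∀ {a b : V} (ha : Q a = 0) (hab : polar Q a b = 0), polar Q a u = 0 →
      polar Q b u = 0 → ∀ c ∈ A, ((sg a b ha hab : ↥(E Q)) : V ≃ₗ[F] V) c ∈ A := by
    intro a b ha hab hau hbu c hc
    refine hinv _ ?_ c hc
    rw [sg_apply, hau, hbu]
    module
  -- the sub-lemma
  have hsub : ∀ {b c : V}, b ∈ A → Q b = 0 → b ≠ 0 → polar Q v b = 0 →
      Q c = 0 → polar Q u c = 0 → polar Q v c = 0 → polar Q b c = 0 → c ∈ A := by
    intro b c hbA hb hb0 hvb hc huc hvc hbc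
    by_cases hdep : ∃ d : F, b = d • c
    · obtain ⟨d, hd⟩ := hdep
      have hd0 : d ≠ 0 := by
        rintro rfl
        rw [zero_smul] at hd
        exact hb0 hd
      have : c = d⁻¹ • b := by rw [hd, smul_smul, inv_mul_cancel₀ hd0, one_smul]
      rw [this]
      exact A.smul_mem _ hbA
    · push Not at hdep
      obtain ⟨a0, ha1, ha2⟩ := exists_sep hG.nondeg hdep
      have hub : polar Q u b = 0 := hAp b hbA
      set a1 := Cfsg.Agent.LieClassical.OrthTrans.proj Q u v a0 with ha1def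
      have e1 : polar Q u a1 = 0 := polar_proj_left hv a0
      have e2 : polar Q v a1 = 0 := polar_proj_right hv a0
      have e3 : polar Q c a1 = 0 := by rw [ha1def, polar_proj_of_perp huc hvc, ha1]
      have e4 : polar Q b a1 = 1 := by rw [ha1def, polar_proj_of_perp hub hvb, ha2]
      set a := a1 - Q a1 • b with hadef
      have f1 : Q a = 0 := by
        rw [hadef, sub_eq_add_neg, ← neg_smul, Q_add, QuadraticMap.map_smul, hb, polar_smul_right,
          polar_comm Q a1 b, e4]
        simp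
      have f2 : polar Q a c = 0 := by
        rw [hadef, polar_sub_left, polar_smul_left, hbc, polar_comm Q a1 c, e3]
        simp
      have f3 : polar Q a b = 1 := by
        rw [hadef, polar_sub_left, polar_smul_left, polar_self_of_sing hb, polar_comm Q a1 b, e4]
        simp
      have f4 : polar Q a u = 0 := by
        rw [hadef, polar_sub_left, polar_smul_left, polar_comm Q a1 u, e1, polar_comm Q b u, hub]
        simp
      have f5 : polar Q c u = 0 := by rw [polar_comm, huc]
      have h1 := hsg f1 f2 f4 f5 b hbA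
      rw [sg_apply, f3, hc, polar_comm Q c b, hbc] at h1
      have h2 : c = (b + (1 : F) • c - (0 : F) • a - (0 * 1 : F) • a) - b := by module
      rw [h2]
      exact A.sub_mem h1 hbA
  -- move `t` into `W`
  have htp : polar Q u t = 0 := hAp t ht
  set t' := t - polar Q v t • u with ht'def
  have ht'A : t' ∈ A := A.sub_mem ht (A.smul_mem _ hAu)
  have ht'u : polar Q u t' = 0 := hAp _ ht'A
  have ht'v : polar Q v t' = 0 := by
    rw [ht'def, polar_sub_right, polar_smul_right, hv.pair']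
    simp
  have ht'0 : t' ≠ 0 := by
    intro h
    exact htu _ (sub_eq_zero.1 h)
  obtain ⟨z, w, hzw, huz, huw, hvz, hvw⟩ := hG.exists_hyp2 hv
  -- a singular `a ∈ W` not orthogonal to `t'`
  obtain ⟨a, ha, hua, hva, hat⟩ : ∃ a, Q a = 0 ∧ polar Q u a = 0 ∧ polar Q v a = 0 ∧
      polar Q a t' ≠ 0 := by
    by_contra hcon
    push Not at hcon
    obtain ⟨a0, ha0⟩ := hG.nondeg.exists_polar_eq ht'0 1
    have h1 : polar Q t' (Cfsg.Agent.LieClassical.OrthTrans.proj Q u v a0) = 1 := by
      rw [polar_proj_of_perp ht'u ht'v, ha0]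
    have h2 : ∀ x, polar Q u x = 0 → polar Q v x = 0 → polar Q x t' = 0 := by
      intro x hx1 hx2
      refine sing_induction_perp (P := fun x => polar Q x t' = 0) hzw huz huw hvz hvw ?_ ?_ x
        hx1 hx2
      · intro a c _ _ _ _ ha hc
        show polar Q (a + c) t' = 0
        rw [polar_add_left, ha, hc, add_zero]
      · intro a ha h1 h2
        exact hcon a ha h1 h2
    rw [polar_comm, h2 _ (polar_proj_left hv a0) (polar_proj_right hv a0)] at h1
    exact zero_ne_one h1
  -- a singular `b` in `A ∩ W`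
  obtain ⟨b, hb0, hb, hbp⟩ := exists_sing_perp (Q := Q) ![u, v, a, t'] (by omega)
  have hub : polar Q u b = 0 := hbp 0
  have hvb : polar Q v b = 0 := hbp 1
  have hab : polar Q a b = 0 := hbp 2
  have htb : polar Q t' b = 0 := hbp 3
  have hbA : b ∈ A := by
    have h1 := hsg ha hab (by rw [polar_comm]; exact hua) (by rw [polar_comm]; exact hub) t' ht'A
    rw [sg_apply, polar_comm Q b t', htb, hb] at h1
    have h2 : polar Q a t' • b = (t' + polar Q a t' • b - (0 : F) • a - (0 * polar Q a t') • a)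
        - t' := by module
    have h3 : polar Q a t' • b ∈ A := by
      rw [h2]
      exact A.sub_mem h1 ht'A
    have h4 : b = (polar Q a t')⁻¹ • (polar Q a t' • b) := by
      rw [smul_smul, inv_mul_cancel₀ hat, one_smul]
    rw [h4]
    exact A.smul_mem _ h3
  -- all singular vectors of `W`
  have hsing : ∀ c, Q c = 0 → polar Q u c = 0 → polar Q v c = 0 → c ∈ A := by
    intro c hc huc hvc
    obtain ⟨b', hb'0, hb', hb'p⟩ := exists_sing_perp (Q := Q) ![u, v, b, c] (by omega)
    have hub' : polar Q u b' = 0 := hb'p 0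
    have hvb' : polar Q v b' = 0 := hb'p 1
    have hbb' : polar Q b b' = 0 := hb'p 2
    have hcb' : polar Q c b' = 0 := hb'p 3
    have hb'A : b' ∈ A := hsub hbA hb hb0 hvb hb' hub' hvb' hbb'
    exact hsub hb'A hb' hb'0 hvb' hc huc hvc (by rw [polar_comm]; exact hcb')
  have hW : ∀ x, polar Q u x = 0 → polar Q v x = 0 → x ∈ A := by
    intro x hx1 hx2
    refine sing_induction_perp (P := fun x => x ∈ A) hzw huz huw hvz hvw ?_ ?_ x hx1 hx2
    · intro a c _ _ _ _ ha hc
      exact A.add_mem ha hc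
    · intro a ha h1 h2
      exact hsing a ha h1 h2
  intro x hx
  have h1 : x = (x - polar Q v x • u) + polar Q v x • u := by abel
  rw [h1]
  refine A.add_mem (hW _ ?_ ?_) (A.smul_mem _ hAu)
  · rw [polar_sub_right, polar_smul_right, hx, polar_self_of_sing hu]
    simp
  · rw [polar_sub_right, polar_smul_right, hv.pair']
    simp

/-- The only singular point fixed by all `siegel u w` is `⟨u⟩`. -/
theorem fix_unique (hG : Good Q) {u v : V} (hu : Q u = 0) (hu0 : u ≠ 0) (hv : Q v = 0) (hv0 : v ≠ 0)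
    (h : ∀ (w : V) (hw : polar Q u w = 0), ∃ c : F, ((sg u w hu hw : ↥(E Q)) : V ≃ₗ[F] V) v = c • v) :
    ∃ c : F, v = c • u := by
  by_cases huv : polar Q u v = 0
  · by_contra hcon
    push Not at hcon
    obtain ⟨y, hy1, hy2⟩ := exists_sep hG.nondeg hcon
    obtain ⟨c, hc⟩ := h y hy1
    rw [sg_apply, huv, polar_comm Q y v, hy2] at hc
    have h1 : u = (1 - c) • v := by
      have : u - (1 - c) • v = c • v - (v + (0 : F) • y - (1 : F) • u - (Q y * 0) • u) := by module
      rw [hc, sub_self] at this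
      exact sub_eq_zero.1 this
    by_cases hc1 : (1 - c) = 0
    · rw [hc1, zero_smul] at h1
      exact hu0 h1
    · apply hcon (1 - c)⁻¹
      rw [h1, smul_smul, inv_mul_cancel₀ hc1, one_smul]
  · exfalso
    have hyp : Hyp Q u ((polar Q u v)⁻¹ • v) := by
      refine ⟨hu, ?_, ?_⟩
      · rw [QuadraticMap.map_smul, hv, smul_zero]
      · rw [polar_smul_right, smul_eq_mul, inv_mul_cancel₀ huv]
    obtain ⟨w, hw0, hw, huw, hvw⟩ := hG.perp _ _ hyp
    have hvw' : polar Q v w = 0 := by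
      rw [polar_smul_left, smul_eq_mul] at hvw
      rcases mul_eq_zero.1 hvw with h | h
      · exact absurd (inv_eq_zero.1 h) huv
      · exact h
    obtain ⟨c, hc⟩ := h w huw
    rw [sg_apply, polar_comm Q w v, hvw', hw] at hc
    have h1 : polar Q u v • w = (c - 1) • v := by
      have : polar Q u v • w - (c - 1) • v
          = (v + polar Q u v • w - (0 : F) • u - (0 * polar Q u v) • u) - c • v := by module
      rw [hc, sub_self] at this
      exact sub_eq_zero.1 this
    have h2 : (c - 1) * polar Q u v = 0 := by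
      have := congrArg (fun x => polar Q u x) h1
      simp only [polar_smul_right, huw, smul_eq_mul, mul_zero] at this
      exact this.symm
    have h3 : c - 1 = 0 := (mul_eq_zero.1 h2).resolve_right huv
    rw [h3, zero_smul] at h1
    exact hw0 ((smul_eq_zero.1 h1).resolve_left huv)

/-- An element of `P Q` commuting with `UP (span {u})` lies in it. -/
theorem centralizer_UP (hG : Good Q) {u : V} (hu : Q u = 0) (hu0 : u ≠ 0) {p : P Q}
    (hp : ∀ r ∈ UP Q (Submodule.span F {u}), p * r = r * p) : p ∈ UP Q (Submodule.span F {u}) := by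
  obtain ⟨g, rfl⟩ := QuotientGroup.mk_surjective p
  have hgu : Q ((g : V ≃ₗ[F] V) u) = 0 := by rw [Q_apply]; exact hu
  have hgu0 : (g : V ≃ₗ[F] V) u ≠ 0 := by
    intro h
    exact hu0 ((g : V ≃ₗ[F] V).map_eq_zero_iff.1 h)
  -- `g u` is a multiple of `u`
  obtain ⟨l, hl⟩ : ∃ l : F, (g : V ≃ₗ[F] V) u = l • u := by
    apply fix_unique hG hu hu0 hgu hgu0
    intro w hw
    have h1 := hp _ ((mem_UP_span_iff hG.nondeg hu hu0).2 ⟨w, hw, rfl⟩)
    have h2 := congrArg (fun p => pact hG p (Submodule.span F {u})) h1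
    simp only [← QuotientGroup.mk_mul, pact_mk] at h2
    rw [mapHom_span, mapHom_span] at h2
    have e1 : ((g * sg u w hu hw : ↥(E Q)) : V ≃ₗ[F] V) u = (g : V ≃ₗ[F] V) u := by
      show (g : V ≃ₗ[F] V) (((sg u w hu hw : ↥(E Q)) : V ≃ₗ[F] V) u) = _
      rw [sg_apply, polar_self_of_sing hu, polar_comm Q w u, hw]
      simp
    have e2 : ((sg u w hu hw * g : ↥(E Q)) : V ≃ₗ[F] V) u
        = ((sg u w hu hw : ↥(E Q)) : V ≃ₗ[F] V) ((g : V ≃ₗ[F] V) u) := rfl
    rw [e1, e2] at h2
    have h3 : ((sg u w hu hw : ↥(E Q)) : V ≃ₗ[F] V) ((g : V ≃ₗ[F] V) u)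
        ∈ Submodule.span F {(g : V ≃ₗ[F] V) u} := by
      rw [h2]
      exact Submodule.mem_span_singleton_self _
    obtain ⟨c, hc⟩ := Submodule.mem_span_singleton.1 h3
    exact ⟨c, hc.symm⟩
  have hl0 : l ≠ 0 := by
    rintro rfl
    rw [zero_smul] at hl
    exact hgu0 hl
  have hcomm : ∀ w, polar Q u w = 0 → ∃ c : F, l • (g : V ≃ₗ[F] V) w - w = c • u := by
    intro w hw
    rw [← conj_sg_eq_iff hG hu hu0 hw hl]
    have h1 := hp _ ((mem_UP_span_iff hG.nondeg hu hu0).2 ⟨w, hw, rfl⟩)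
    rw [h1, mul_assoc, mul_inv_cancel, mul_one]
  -- `l ^ 2 = 1`
  obtain ⟨v, hv⟩ := Cfsg.Agent.LieClassical.OrthTrans.exists_hyp hG.nondeg hu hu0
  obtain ⟨a, b, hab, hua, hub, hva, hvb⟩ := hG.exists_hyp2 hv
  have hll : l * l = 1 := by
    obtain ⟨c, hc⟩ := hcomm a hua
    obtain ⟨d, hd⟩ := hcomm b hub
    have e1 : l • (g : V ≃ₗ[F] V) a = a + c • u := by rw [← hc]; abel
    have e2 : l • (g : V ≃ₗ[F] V) b = b + d • u := by rw [← hd]; abel
    have e3 : polar Q (l • (g : V ≃ₗ[F] V) a) (l • (g : V ≃ₗ[F] V) b) = l * l := by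
      rw [polar_smul_left, polar_smul_right, polar_apply, hab.pair]
      simp
    rw [e1, e2, polar_add_left, polar_add_right, polar_add_right, polar_smul_left, polar_smul_left,
      polar_smul_right, polar_smul_right, hab.pair, polar_comm Q a u, hua, hub,
      polar_self_of_sing hu] at e3
    simp only [smul_eq_mul, mul_zero, add_zero] at e3
    exact e3.symm
  -- `l • g` is a Siegel transformation
  set h : V ≃ₗ[F] V := (g : V ≃ₗ[F] V).trans (LinearEquiv.smulOfNeZero F V l hl0) with hh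
  have hhx : ∀ x, h x = l • (g : V ≃ₗ[F] V) x := fun x => rfl
  have hhO : h ∈ O Q := by
    intro x
    rw [hhx, QuadraticMap.map_smul, Q_apply, hll, one_smul]
  have hhu : h u = u := by rw [hhx, hl, smul_smul, hll, one_smul]
  obtain ⟨w, hw, hs⟩ := eq_siegel hG.nondeg hu hu0 hhO hhu (fun x hx => by
    rw [hhx]; exact hcomm x hx)
  rw [mem_UP_span_iff hG.nondeg hu hu0]
  refine ⟨w, hw, ?_⟩
  rw [QuotientGroup.eq]
  apply mem_center_of_scalar (c := l)
  intro x
  show (g : V ≃ₗ[F] V).symm (siegel Q u w hu hw x) = l • x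
  rw [LinearEquiv.symm_apply_eq, ← hs, hhx, map_smul]

theorem finite_V [Finite F] [FiniteDimensional F V] : Finite V := Module.finite_of_finite F

theorem finite_P [Finite F] [FiniteDimensional F V] : Finite (P Q) := by
  have := finite_V (F := F) (V := V)
  have : Finite (V ≃ₗ[F] V) := Finite.of_injective (fun g : V ≃ₗ[F] V => (g : V → V))
    DFunLike.coe_injective
  infer_instance

/-- The unipotent radical `UP (span {u})` is the largest normal `p`-subgroup of the stabiliser of
`⟨u⟩`. -/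
theorem le_UP_of_normal [Finite F] [FiniteDimensional F V] (hG : Good Q)
    (h7 : 7 ≤ Module.finrank F V) (p : ℕ) [hp : Fact p.Prime] [CharP F p] {u : V} (hu : Q u = 0)
    (hu0 : u ≠ 0) (T : Subgroup (P Q)) (hT : T ≤ stab hG (Submodule.span F {u}))
    (hTn : ∀ g ∈ stab hG (Submodule.span F {u}), ∀ t ∈ T, g * t * g⁻¹ ∈ T) (hTp : IsPGroup p T) :
    T ≤ UP Q (Submodule.span F {u}) := by
  set R := UP Q (Submodule.span F {u}) with hR
  have hRst : R ≤ stab hG (Submodule.span F {u}) := UP_le_stab hG _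
  have hTR : T ≤ Subgroup.normalizer (R : Set (P Q)) := by
    intro t ht
    rw [Subgroup.mem_normalizer_iff]
    intro r
    constructor
    · intro hr
      exact conj_mem_UP_of_stab (hT ht) hr
    · intro hr
      have := conj_mem_UP_of_stab (Subgroup.inv_mem _ (hT ht)) hr
      have e : t⁻¹ * (t * r * t⁻¹) * t⁻¹⁻¹ = r := by group
      rwa [e] at this
  have hRp : IsPGroup p R := isPGroup_UP p _
  set T1 := T ⊔ R with hT1
  have hT1p : IsPGroup p T1 := IsPGroup.to_sup_of_normal_right' hTp hRp hTR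
  have hT1st : T1 ≤ stab hG (Submodule.span F {u}) := sup_le hT hRst
  have hT1n : ∀ g ∈ stab hG (Submodule.span F {u}), ∀ t ∈ T1, g * t * g⁻¹ ∈ T1 := by
    intro g hg t ht
    have h1 : T1 ≤ T1.comap (MulAut.conj g).toMonoidHom := by
      rw [hT1]
      apply sup_le
      · intro x hx
        exact Subgroup.mem_sup_left (hTn g hg x hx)
      · intro x hx
        exact Subgroup.mem_sup_right (conj_mem_UP_of_stab hg hx)
    exact h1 ht
  -- the conjugation action of `T1` on `R`
  let act : MulAction T1 R :=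
    { smul := fun t r => ⟨t * r * (t : P Q)⁻¹, conj_mem_UP_of_stab (hT1st t.2) r.2⟩
      one_smul := fun r => by
        apply Subtype.ext
        show (1 : P Q) * r * (1 : P Q)⁻¹ = r
        simp
      mul_smul := fun a b r => by
        apply Subtype.ext
        show ((a : P Q) * b) * r * ((a : P Q) * b)⁻¹ = a * (b * r * (b : P Q)⁻¹) * (a : P Q)⁻¹
        group }
  have hfinP : Finite (P Q) := finite_P
  have hsmul : ∀ (t : T1) (r : R), ((t • r : R) : P Q) = t * r * (t : P Q)⁻¹ := fun t r => rfl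
  -- `p` divides the order of `R`
  obtain ⟨v, hv⟩ := Cfsg.Agent.LieClassical.OrthTrans.exists_hyp hG.nondeg hu hu0
  obtain ⟨w1, hw10, hw1, huw1, hvw1⟩ := hG.perp u v hv
  have hR1 : (1 : R) ≠ ⟨((sg u w1 hu huw1 : ↥(E Q)) : P Q),
      (mem_UP_span_iff hG.nondeg hu hu0).2 ⟨w1, huw1, rfl⟩⟩ := by
    intro h
    have h1 : (1 : P Q) = ((sg u w1 hu huw1 : ↥(E Q)) : P Q) := congrArg Subtype.val h
    have hz : polar Q u (0 : V) = 0 := polar_zero_right _ _
    have h2 : ((sg u (0 : V) hu hz : ↥(E Q)) : P Q) = ((sg u w1 hu huw1 : ↥(E Q)) : P Q) := by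
      rw [← h1, (sg_eq_one_iff hG.nondeg hu hu0 hz).2 ⟨0, by simp⟩]
      rfl
    obtain ⟨c, hc⟩ := (sg_eq_sg_iff hG hu hu0 hz huw1).1 h2
    rw [sub_zero] at hc
    rw [hc, polar_smul_right, hv.pair', smul_eq_mul, mul_one] at hvw1
    rw [hc, hvw1, zero_smul] at hw10
    exact hw10 rfl
  have hdvd : p ∣ Nat.card R := by
    rcases hRp.card_eq_or_dvd with h | h
    · exfalso
      rw [Nat.card_eq_one_iff_unique] at h
      exact hR1 (@Subsingleton.elim _ h.1 _ _)
    · exact h
  have h1fix : (1 : R) ∈ MulAction.fixedPoints T1 R := by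
    intro t
    apply Subtype.ext
    rw [hsmul]
    show (t : P Q) * 1 * (t : P Q)⁻¹ = 1
    group
  obtain ⟨b, hbfix, hb1⟩ := hT1p.exists_fixed_point_of_prime_dvd_card_of_fixed_point R hdvd h1fix
  obtain ⟨w0, hw0, hbw⟩ := (mem_UP_span_iff hG.nondeg hu hu0).1 b.2
  -- the subspace `A`
  let A : Submodule F V :=
    { carrier := {w | polar Q u w = 0 ∧ ∀ (g : ↥(E Q)) (l : F), (g : P Q) ∈ T1 →
        (g : V ≃ₗ[F] V) u = l • u → ∃ c : F, l • (g : V ≃ₗ[F] V) w - w = c • u}
      add_mem' := by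
        rintro a b ⟨ha1, ha2⟩ ⟨hb1, hb2⟩
        refine ⟨by rw [polar_add_right, ha1, hb1, add_zero], fun g l hg hl => ?_⟩
        obtain ⟨c, hc⟩ := ha2 g l hg hl
        obtain ⟨d, hd⟩ := hb2 g l hg hl
        refine ⟨c + d, ?_⟩
        rw [map_add, add_smul, ← hc, ← hd, smul_add]
        abel
      zero_mem' := ⟨polar_zero_right _ _, fun g l _ _ => ⟨0, by simp⟩⟩
      smul_mem' := by
        rintro x a ⟨ha1, ha2⟩
        refine ⟨by rw [polar_smul_right, ha1, smul_zero], fun g l hg hl => ?_⟩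
        obtain ⟨c, hc⟩ := ha2 g l hg hl
        refine ⟨x * c, ?_⟩
        rw [map_smul, mul_smul, ← hc, smul_sub, smul_comm l x] }
  have hAmem : ∀ w, w ∈ A ↔ (polar Q u w = 0 ∧ ∀ (g : ↥(E Q)) (l : F), (g : P Q) ∈ T1 →
      (g : V ≃ₗ[F] V) u = l • u → ∃ c : F, l • (g : V ≃ₗ[F] V) w - w = c • u) := fun w => Iff.rfl
  have hA : ∀ a, polar Q u a = 0 → a ∈ A := by
    refine irred hG h7 hu hu0 A ?_ (fun a ha => ha.1) ?_ (t := w0) ?_ ?_
    · refine ⟨polar_self_of_sing hu, fun g l _ hl => ⟨l * l - 1, ?_⟩⟩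
      rw [hl]
      module
    · rintro h hhu a ⟨ha1, ha2⟩
      refine ⟨?_, fun g l hg hl => ?_⟩
      · rw [← hhu, polar_apply]; exact ha1
      · have hhst : (h : P Q) ∈ stab hG (Submodule.span F {u}) := by
          rw [mem_stab, pact_mk, mapHom_span, hhu]
        have hhinv : (h : V ≃ₗ[F] V).symm u = u := by
          rw [LinearEquiv.symm_apply_eq, hhu]
        have h1 : ((h⁻¹ * g * h : ↥(E Q)) : P Q) ∈ T1 := by
          have := hT1n _ (Subgroup.inv_mem _ hhst) _ hg
          rw [inv_inv] at this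
          exact this
        have h2 : ((h⁻¹ * g * h : ↥(E Q)) : V ≃ₗ[F] V) u = l • u := by
          show (h : V ≃ₗ[F] V).symm ((g : V ≃ₗ[F] V) ((h : V ≃ₗ[F] V) u)) = l • u
          rw [hhu, hl, map_smul, hhinv]
        obtain ⟨c, hc⟩ := ha2 _ l h1 h2
        refine ⟨c, ?_⟩
        have h3 : (h : V ≃ₗ[F] V) (l • (((h⁻¹ * g * h : ↥(E Q)) : V ≃ₗ[F] V) a) - a)
            = l • (g : V ≃ₗ[F] V) ((h : V ≃ₗ[F] V) a) - (h : V ≃ₗ[F] V) a := by
          rw [map_sub, map_smul]
          congr 2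
          show (h : V ≃ₗ[F] V) ((h : V ≃ₗ[F] V).symm ((g : V ≃ₗ[F] V) ((h : V ≃ₗ[F] V) a))) = _
          rw [LinearEquiv.apply_symm_apply]
        rw [← h3, hc, map_smul, hhu]
    · refine ⟨hw0, fun g l hg hl => ?_⟩
      rw [← conj_sg_eq_iff hG hu hu0 hw0 hl, ← hbw]
      have := hbfix ⟨(g : P Q), hg⟩
      exact congrArg Subtype.val this
    · intro c hc
      apply hb1
      apply Subtype.ext
      rw [hbw, (sg_eq_one_iff hG.nondeg hu hu0 hw0).2 ⟨c, hc⟩]
      rfl
  intro t ht
  apply centralizer_UP hG hu hu0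
  intro r hr
  obtain ⟨w, hw, rfl⟩ := (mem_UP_span_iff hG.nondeg hu hu0).1 hr
  obtain ⟨g, rfl⟩ := QuotientGroup.mk_surjective t
  have hgst := hT ht
  rw [mem_stab, pact_mk, mapHom_span] at hgst
  have h1 : (g : V ≃ₗ[F] V) u ∈ Submodule.span F {u} := by
    rw [← hgst]; exact Submodule.mem_span_singleton_self _
  obtain ⟨l, hl⟩ := Submodule.mem_span_singleton.1 h1
  have h2 := ((hAmem w).1 (hA w hw)).2 g l (Subgroup.mem_sup_left ht) hl.symm
  rw [← conj_sg_eq_iff hG hu hu0 hw hl.symm] at h2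
  nth_rewrite 2 [← h2]
  group

end Cfsg.Agent.ClassicalGeometry.OrthAut2b
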