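import Mathlib
import Cfsg.Agent.ClassicalGeometry.OrthAut2b
import Cfsg.Agent.ClassicalGeometry.OrthAutCard

/-!
# Automorphisms of orthogonal groups, part 3: automorphisms permute the point stabilisers

For an automorphism `α` of `P Q = E Q / Z(E Q)`, `dim V ≥ 7`, the image of the stabiliser of a singular point is
the stabiliser of a singular point, unless `dim V = 8` and it is the stabiliser of a totally singular
4-subspace.
-/

set_option autoImplicit false

namespace Cfsg.Agent.ClassicalGeometry.OrthAut3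

open QuadraticMap Cfsg.Agent.LieClassical.OrthCore Cfsg.Agent.LieClassical.OrthTrans
  Cfsg.Agent.LieClassical.OrthSimple Cfsg.Agent.LieClassical.OrthFinite
  Cfsg.Agent.ClassicalGeometry.OrthAut1 Cfsg.Agent.ClassicalGeometry.OrthAut2
  Cfsg.Agent.ClassicalGeometry.OrthAut2b

variable {F V : Type*} [Field F] [AddCommGroup V] [Module F V] {Q : QuadraticForm F V}

/-! ### The action on singular points -/

/-- Singular points. -/
def Pts (Q : QuadraticForm F V) : Type _ :=
  {L : Submodule F V // ∃ u : V, u ≠ 0 ∧ Q u = 0 ∧ L = Submodule.span F {u}}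

/-- The action of `P Q` on the singular points. -/
@[instance_reducible]
def ptsAct (hG : Good Q) : MulAction (P Q) (Pts Q) where
  smul p L := ⟨pact hG p L.1, by
    obtain ⟨g, rfl⟩ := QuotientGroup.mk_surjective p
    obtain ⟨L, u, hu0, hu, rfl⟩ := L
    refine ⟨(g : V ≃ₗ[F] V) u, ?_, ?_, ?_⟩
    · intro h
      exact hu0 ((g : V ≃ₗ[F] V).map_eq_zero_iff.1 h)
    · rw [Q_apply]; exact hu
    · rw [pact_mk, mapHom_span]⟩
  one_smul L := by
    apply Subtype.ext
    show pact hG 1 L.1 = L.1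
    rw [map_one]; rfl
  mul_smul a b L := by
    apply Subtype.ext
    show pact hG (a * b) L.1 = pact hG a (pact hG b L.1)
    rw [map_mul]; rfl

theorem finite_Pts [Finite F] [FiniteDimensional F V] : Finite (Pts Q) := by
  have := finite_V (F := F) (V := V)
  have : Finite (Submodule F V) := Finite.of_injective (fun W : Submodule F V => (W : Set V))
    SetLike.coe_injective
  exact Subtype.finite

/-- The number of singular points is congruent to one modulo `p`. -/
theorem card_Pts_modEq [Finite F] [FiniteDimensional F V] (hG : Good Q) (p : ℕ)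
    [hp : Fact p.Prime] [CharP F p] : Nat.card (Pts Q) ≡ 1 [MOD p] := by
  letI := ptsAct hG
  have := finite_Pts (F := F) (V := V) (Q := Q)
  obtain ⟨u, hu0, hu⟩ := hG.sing
  have hR : IsPGroup p (UP Q (Submodule.span F {u})) := isPGroup_UP p _
  have h1 := hR.card_modEq_card_fixedPoints (Pts Q)
  have h2 : Nat.card (MulAction.fixedPoints (UP Q (Submodule.span F {u})) (Pts Q)) = 1 := by
    rw [Nat.card_eq_one_iff_unique]
    constructor
    · constructor
      have key : ∀ x : MulAction.fixedPoints (UP Q (Submodule.span F {u})) (Pts Q),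
          (x : Pts Q).1 = Submodule.span F {u} := by
        rintro ⟨⟨L, v, hv0, hv, rfl⟩, hfix⟩
        obtain ⟨c, hc⟩ := fix_unique hG hu hu0 hv hv0 (fun w hw => by
          have h3 := hfix ⟨_, (mem_UP_span_iff hG.nondeg hu hu0).2 ⟨w, hw, rfl⟩⟩
          have h4 : pact hG ((sg u w hu hw : ↥(E Q)) : P Q) (Submodule.span F {v})
              = Submodule.span F {v} := congrArg Subtype.val h3
          rw [pact_mk, mapHom_span] at h4
          have h5 : ((sg u w hu hw : ↥(E Q)) : V ≃ₗ[F] V) v ∈ Submodule.span F {v} := by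
            rw [← h4]; exact Submodule.mem_span_singleton_self _
          obtain ⟨c, hc⟩ := Submodule.mem_span_singleton.1 h5
          exact ⟨c, hc.symm⟩)
        have hc0 : c ≠ 0 := by
          rintro rfl
          rw [zero_smul] at hc
          exact hv0 hc
        show Submodule.span F {v} = Submodule.span F {u}
        rw [hc]
        exact Submodule.span_singleton_smul_eq (IsUnit.mk0 c hc0) u
      intro x y
      apply Subtype.ext
      apply Subtype.ext
      rw [key x, key y]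
    · refine ⟨⟨⟨Submodule.span F {u}, u, hu0, hu, rfl⟩, ?_⟩⟩
      rintro ⟨r, hr⟩
      apply Subtype.ext
      exact mem_stab.1 (UP_le_stab hG _ hr)
  rwa [h2] at h1

/-- A `p`-subgroup of `P Q` fixes a singular point. -/
theorem exists_fixed [Finite F] [FiniteDimensional F V] (hG : Good Q) (p : ℕ)
    [hp : Fact p.Prime] [CharP F p] (S : Subgroup (P Q)) (hS : IsPGroup p S) :
    ∃ u : V, u ≠ 0 ∧ Q u = 0 ∧ S ≤ stab hG (Submodule.span F {u}) := by
  letI := ptsAct hG
  have := finite_Pts (F := F) (V := V) (Q := Q)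
  have hnd : ¬ p ∣ Nat.card (Pts Q) := by
    intro h
    have h1 := card_Pts_modEq hG p
    have h2 : 1 ≡ 0 [MOD p] := h1.symm.trans ((Nat.modEq_zero_iff_dvd).2 h)
    have h3 := (Nat.modEq_zero_iff_dvd).1 h2
    exact hp.out.one_lt.ne' (Nat.dvd_one.1 h3)
  obtain ⟨⟨L, u, hu0, hu, rfl⟩, hfix⟩ := hS.nonempty_fixed_point_of_prime_not_dvd_card (Pts Q) hnd
  refine ⟨u, hu0, hu, fun s hs => ?_⟩
  exact congrArg Subtype.val (hfix ⟨s, hs⟩)

/-- A Sylow `p`-subgroup fixes a singular point and contains its unipotent radical. -/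
theorem sylow_ge [Finite F] [FiniteDimensional F V] (hG : Good Q) (p : ℕ)
    [hp : Fact p.Prime] [CharP F p] (S : Sylow p (P Q)) :
    ∃ u : V, u ≠ 0 ∧ Q u = 0 ∧ (S : Subgroup (P Q)) ≤ stab hG (Submodule.span F {u}) ∧
      UP Q (Submodule.span F {u}) ≤ S := by
  obtain ⟨u, hu0, hu, hS⟩ := exists_fixed hG p (S : Subgroup (P Q)) S.isPGroup'
  refine ⟨u, hu0, hu, hS, ?_⟩
  have hSR : (S : Subgroup (P Q)) ≤
      Subgroup.normalizer (UP Q (Submodule.span F {u}) : Set (P Q)) := by
    intro t ht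
    rw [Subgroup.mem_normalizer_iff]
    intro r
    constructor
    · intro hr
      exact conj_mem_UP_of_stab (hS ht) hr
    · intro hr
      have := conj_mem_UP_of_stab (Subgroup.inv_mem _ (hS ht)) hr
      have e : t⁻¹ * (t * r * t⁻¹) * t⁻¹⁻¹ = r := by group
      rwa [e] at this
  have hsup := IsPGroup.to_sup_of_normal_right' S.isPGroup'
    (isPGroup_UP (Q := Q) p (Submodule.span F {u})) hSR
  have h1 := S.is_maximal' hsup le_sup_left
  rw [← h1]
  exact le_sup_right

/-! ### Overgroups of unipotent radicals -/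

/-- `E Q` is transitive on singular vectors; in `P Q`. -/
theorem exists_pact_eq (hG : Good Q) {u v : V} (hu : Q u = 0) (hv : Q v = 0) (hu0 : u ≠ 0)
    (hv0 : v ≠ 0) : ∃ p : P Q, pact hG p (Submodule.span F {u}) = Submodule.span F {v} := by
  obtain ⟨g, hg, e⟩ := hG.trans_sing hu hv hu0 hv0
  refine ⟨((⟨g, hg⟩ : ↥(E Q)) : P Q), ?_⟩
  rw [pact_mk, mapHom_span]
  show Submodule.span F {g u} = _
  rw [e]

/-- If `M` contains the unipotent radicals of `⟨u⟩` and `⟨v⟩`, `b(u,v) ≠ 0`, then it contains that of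
every `⟨y⟩` opposite to `⟨u⟩`. -/
theorem UP_le_of_opp (hG : Good Q) {M : Subgroup (P Q)} {u v y : V} (hu : Q u = 0) (hv : Q v = 0)
    (hy : Q y = 0) (huv : polar Q u v ≠ 0) (huy : polar Q u y ≠ 0)
    (h1 : UP Q (Submodule.span F {u}) ≤ M) (h2 : UP Q (Submodule.span F {v}) ≤ M) :
    UP Q (Submodule.span F {y}) ≤ M := by
  have hu0 : u ≠ 0 := by
    rintro rfl
    exact huv (polar_zero_left _ _)
  -- normalise
  have hyp1 : Hyp Q u ((polar Q u v)⁻¹ • v) := by
    refine ⟨hu, ?_, ?_⟩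
    · rw [QuadraticMap.map_smul, hv, smul_zero]
    · rw [polar_smul_right, smul_eq_mul, inv_mul_cancel₀ huv]
  have hyp2 : Hyp Q u ((polar Q u y)⁻¹ • y) := by
    refine ⟨hu, ?_, ?_⟩
    · rw [QuadraticMap.map_smul, hy, smul_zero]
    · rw [polar_smul_right, smul_eq_mul, inv_mul_cancel₀ huy]
  have hw : polar Q u ((polar Q u y)⁻¹ • y - (polar Q u v)⁻¹ • v) = 0 := by
    rw [polar_sub_right, hyp1.pair, hyp2.pair, sub_self]
  have hs : ((sg u _ hu hw : ↥(E Q)) : V ≃ₗ[F] V) ((polar Q u v)⁻¹ • v) = (polar Q u y)⁻¹ • y := by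
    have hQ' : Q ((polar Q u y)⁻¹ • y - (polar Q u v)⁻¹ • v)
        = - polar Q ((polar Q u y)⁻¹ • y) ((polar Q u v)⁻¹ • v) := by
      rw [sub_eq_add_neg, Q_add, QuadraticMap.map_neg, polar_neg_right, hyp1.right, hyp2.right]
      ring
    rw [sg_apply, hyp1.pair, hQ', polar_sub_left, hyp1.polar_right]
    module
  have hspan : ∀ {a : V} {c : F}, c ≠ 0 → Submodule.span F {c • a} = Submodule.span F {a} :=
    fun {a c} hc => Submodule.span_singleton_smul_eq (IsUnit.mk0 c hc) a
  have hsM : ((sg u _ hu hw : ↥(E Q)) : P Q) ∈ M :=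
    h1 ((mem_UP_span_iff hG.nondeg hu hu0).2 ⟨_, hw, rfl⟩)
  have hpact : pact hG ((sg u _ hu hw : ↥(E Q)) : P Q) (Submodule.span F {v})
      = Submodule.span F {y} := by
    rw [← hspan (inv_ne_zero huv), pact_mk, mapHom_span, hs, hspan (inv_ne_zero huy)]
  intro r hr
  -- conjugate back
  have h3 : ((sg u _ hu hw : ↥(E Q)) : P Q)⁻¹ * r * ((sg u _ hu hw : ↥(E Q)) : P Q)⁻¹⁻¹ ∈
      UP Q (Submodule.span F {v}) := by
    have h4 := conj_mem_UP hG (p := ((sg u _ hu hw : ↥(E Q)) : P Q)⁻¹) hr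
    rw [map_inv, Equiv.Perm.inv_eq_iff_eq.2 hpact.symm] at h4
    exact h4
  have h5 := M.mul_mem (M.mul_mem hsM (h2 h3)) (M.inv_mem hsM)
  have e : ((sg u _ hu hw : ↥(E Q)) : P Q) * (((sg u _ hu hw : ↥(E Q)) : P Q)⁻¹ * r *
      ((sg u _ hu hw : ↥(E Q)) : P Q)⁻¹⁻¹) * ((sg u _ hu hw : ↥(E Q)) : P Q)⁻¹ = r := by group
  rwa [e] at h5

theorem eq_top_of_opp (hG : Good Q) {M : Subgroup (P Q)} {u v : V} (hu : Q u = 0) (hv : Q v = 0)
    (huv : polar Q u v ≠ 0)
    (h1 : UP Q (Submodule.span F {u}) ≤ M) (h2 : UP Q (Submodule.span F {v}) ≤ M) : M = ⊤ := by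
  have hu0 : u ≠ 0 := by
    rintro rfl
    exact huv (polar_zero_left _ _)
  have hall : ∀ y, Q y = 0 → y ≠ 0 → UP Q (Submodule.span F {y}) ≤ M := by
    intro y hy hy0
    obtain ⟨z, hz, h3, h4⟩ := good_common_opposite hG hu hy hu0 hy0
    have h5 : UP Q (Submodule.span F {z}) ≤ M := UP_le_of_opp hG hu hv hz huv h3 h1 h2
    exact UP_le_of_opp hG hz hu hy (by rw [polar_comm]; exact h3) (by rw [polar_comm]; exact h4)
      h5 h1
  rw [eq_top_iff]
  rintro p -
  obtain ⟨g, rfl⟩ := QuotientGroup.mk_surjective p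
  have h3 : E Q ≤ (M.comap (QuotientGroup.mk' (Subgroup.center ↥(E Q)))).map (E Q).subtype := by
    conv_lhs => rw [E]
    rw [Subgroup.closure_le]
    rintro _ ⟨a, w, ha, hw, rfl⟩
    refine ⟨sg a w ha hw, ?_, rfl⟩
    by_cases ha0 : a = 0
    · have h4 : (sg a w ha hw : ↥(E Q)) = 1 := by
        apply Subtype.ext
        ext v
        show ((sg a w ha hw : ↥(E Q)) : V ≃ₗ[F] V) v = v
        rw [sg_apply, ha0]
        simp
      rw [h4]
      exact Subgroup.one_mem _
    · exact hall a ha ha0 ((mem_UP_span_iff hG.nondeg ha ha0).2 ⟨w, hw, rfl⟩)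
  obtain ⟨g', hg', e⟩ := h3 g.2
  have : g' = g := Subtype.ext e
  rw [← this]
  exact hg'

/-- The span of the singular vectors whose unipotent radical lies in `M`. -/
def spanW (Q : QuadraticForm F V) (M : Subgroup (P Q)) : Submodule F V :=
  Submodule.span F {u | Q u = 0 ∧ UP Q (Submodule.span F {u}) ≤ M}

theorem polar_eq_zero_of_mem_spanW (hG : Good Q) {M : Subgroup (P Q)} (hM : M ≠ ⊤) {v w : V}
    (hv : v ∈ spanW Q M) (hw : w ∈ spanW Q M) : polar Q v w = 0 := by
  refine Submodule.span_induction₂ (p := fun v w _ _ => polar Q v w = 0) ?_ ?_ ?_ ?_ ?_ ?_ ?_ hv hw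
  · rintro a b ⟨ha, ha'⟩ ⟨hb, hb'⟩
    by_contra hcon
    exact hM (eq_top_of_opp hG ha hb hcon ha' hb')
  · intro y _
    exact polar_zero_left _ _
  · intro y _
    exact polar_zero_right _ _
  · intro a b c _ _ _ h1 h2
    rw [polar_add_left, h1, h2, add_zero]
  · intro a b c _ _ _ h1 h2
    rw [polar_add_right, h1, h2, add_zero]
  · intro c a b _ _ h1
    rw [polar_smul_left, h1, smul_zero]
  · intro c a b _ _ h1
    rw [polar_smul_right, h1, smul_zero]

theorem TS_spanW (hG : Good Q) {M : Subgroup (P Q)} (hM : M ≠ ⊤) : TS Q (spanW Q M) := by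
  intro w hw
  refine Submodule.span_induction (p := fun w _ => Q w = 0) ?_ ?_ ?_ ?_ hw
  · rintro a ⟨ha, -⟩
    exact ha
  · exact QuadraticMap.map_zero _
  · intro a b ha hb h1 h2
    rw [Q_add, h1, h2, polar_eq_zero_of_mem_spanW hG hM ha hb]
    simp
  · intro c a _ h1
    rw [QuadraticMap.map_smul, h1, smul_zero]

theorem le_stab_spanW [FiniteDimensional F V] (hG : Good Q) (M : Subgroup (P Q)) :
    M ≤ stab hG (spanW Q M) := by
  intro p hp
  obtain ⟨g, rfl⟩ := QuotientGroup.mk_surjective p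
  apply mem_stab_of_map_le
  intro w hw
  refine Submodule.span_induction (p := fun w _ => (g : V ≃ₗ[F] V) w ∈ spanW Q M) ?_ ?_ ?_ ?_ hw
  · rintro a ⟨ha, ha'⟩
    apply Submodule.subset_span
    refine ⟨by rw [Q_apply]; exact ha, ?_⟩
    intro r hr
    have h1 := conj_mem_UP hG (p := ((g : ↥(E Q)) : P Q)⁻¹) hr
    have h2 : pact hG ((g : ↥(E Q)) : P Q) (Submodule.span F {a})
        = Submodule.span F {(g : V ≃ₗ[F] V) a} := by rw [pact_mk, mapHom_span]
    rw [map_inv, Equiv.Perm.inv_eq_iff_eq.2 h2.symm] at h1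
    have h3 := M.mul_mem (M.mul_mem hp (ha' h1)) (M.inv_mem hp)
    have e : ((g : ↥(E Q)) : P Q) * (((g : ↥(E Q)) : P Q)⁻¹ * r * ((g : ↥(E Q)) : P Q)⁻¹⁻¹) *
        ((g : ↥(E Q)) : P Q)⁻¹ = r := by group
    rwa [e] at h3
  · show (g : V ≃ₗ[F] V) 0 ∈ _
    rw [map_zero]; exact Submodule.zero_mem _
  · intro a b _ _ h1 h2
    show (g : V ≃ₗ[F] V) (a + b) ∈ _
    rw [map_add]
    exact Submodule.add_mem _ h1 h2
  · intro c a _ h1
    show (g : V ≃ₗ[F] V) (c • a) ∈ _
    rw [map_smul]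
    exact Submodule.smul_mem _ _ h1

/-- The stabiliser of a nonzero totally singular subspace is proper. -/
theorem stab_ne_top (hG : Good Q) {W : Submodule F V} (hW : TS Q W) {w : V} (hw : w ∈ W)
    (hw0 : w ≠ 0) : stab hG W ≠ ⊤ := by
  intro h
  obtain ⟨v, hv⟩ := Cfsg.Agent.LieClassical.OrthTrans.exists_hyp hG.nondeg (hW w hw) hw0
  obtain ⟨g, hg, e⟩ := hG.trans_sing (hW w hw) hv.right hw0 hv.right_ne
  have h1 : (((⟨g, hg⟩ : ↥(E Q)) : ↥(E Q)) : P Q) ∈ stab hG W := by rw [h]; trivial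
  have h2 := apply_mem_of_mem_stab h1 hw
  have h3 : v ∈ W := by
    have : ((⟨g, hg⟩ : ↥(E Q)) : V ≃ₗ[F] V) w = v := e
    rwa [this] at h2
  have h4 := hv.pair
  rw [hW.polar hw h3] at h4
  exact zero_ne_one h4

/-- The stabiliser of a singular point is a maximal subgroup. -/
theorem isCoatom_stab [FiniteDimensional F V] (hG : Good Q) {u : V} (hu : Q u = 0) (hu0 : u ≠ 0) :
    IsCoatom (stab hG (Submodule.span F {u})) := by
  refine ⟨stab_ne_top hG (TS_span hu) (Submodule.mem_span_singleton_self u) hu0, ?_⟩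
  intro M hM
  by_contra hMtop
  have h1 : UP Q (Submodule.span F {u}) ≤ M := (UP_le_stab hG _).trans hM.le
  have huW : u ∈ spanW Q M := Submodule.subset_span ⟨hu, h1⟩
  -- all `y` with `UP ⟨y⟩ ≤ M` are multiples of `u`
  have hall : ∀ y, Q y = 0 → UP Q (Submodule.span F {y}) ≤ M → ∃ c : F, y = c • u := by
    intro y hy hyM
    by_contra hcon
    push Not at hcon
    have hyW : y ∈ spanW Q M := Submodule.subset_span ⟨hy, hyM⟩
    have huy := polar_eq_zero_of_mem_spanW hG hMtop huW hyW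
    obtain ⟨z, hz, g, hg, gu, c, hc, gy⟩ := good_move hG hu hy huy hu0 hcon
    have h2 : ((⟨g, hg⟩ : ↥(E Q)) : P Q) ∈ M := by
      apply hM.le
      rw [mem_stab, pact_mk, mapHom_span]
      show Submodule.span F {g u} = _
      rw [gu]
    have h3 := apply_mem_of_mem_stab (le_stab_spanW hG M h2) hyW
    have h4 : c • z ∈ spanW Q M := by
      have : ((⟨g, hg⟩ : ↥(E Q)) : V ≃ₗ[F] V) y = c • z := gy
      rwa [this] at h3
    have h5 := polar_eq_zero_of_mem_spanW hG hMtop hyW h4
    rw [polar_smul_right, hz.pair, smul_eq_mul, mul_one] at h5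
    exact hc h5
  have hspan : spanW Q M = Submodule.span F {u} := by
    apply le_antisymm
    · apply Submodule.span_le.2
      rintro y ⟨hy, hyM⟩
      obtain ⟨c, rfl⟩ := hall y hy hyM
      exact Submodule.smul_mem _ _ (Submodule.mem_span_singleton_self u)
    · rw [Submodule.span_le, Set.singleton_subset_iff]
      exact huW
  have h2 := le_stab_spanW hG M
  rw [hspan] at h2
  exact absurd hM (not_lt_of_ge h2)

/-! ### Size and commutation -/

/-- `|UP ⟨u⟩| ≤ q ^ (n - 2)`. -/
theorem card_UP_span_le [Finite F] [FiniteDimensional F V] (hG : Good Q) {u : V} (hu : Q u = 0)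
    (hu0 : u ≠ 0) : Nat.card (UP Q (Submodule.span F {u})) ≤
      Nat.card F ^ (Module.finrank F V - 2) := by
  obtain ⟨v, hv⟩ := Cfsg.Agent.LieClassical.OrthTrans.exists_hyp hG.nondeg hu hu0
  have := finite_V (F := F) (V := V)
  let f : V →ₗ[F] (F × F) := (polarBilin Q u).prod (polarBilin Q v)
  have hf : ∀ x, f x = (polar Q u x, polar Q v x) := fun x => rfl
  have hsurj : LinearMap.range f = ⊤ := by
    rw [eq_top_iff]
    rintro ⟨a, b⟩ -
    refine ⟨a • v + b • u, ?_⟩
    rw [hf]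
    simp only [polar_add_right, polar_smul_right, hv.pair, hv.pair', hv.polar_left, hv.polar_right,
      smul_eq_mul, mul_one, mul_zero, add_zero, zero_add]
  have hker : Module.finrank F (LinearMap.ker f) = Module.finrank F V - 2 := by
    have h1 := LinearMap.finrank_range_add_finrank_ker f
    rw [hsurj, finrank_top, Module.finrank_prod, Module.finrank_self] at h1
    omega
  have hcard : Nat.card (LinearMap.ker f) = Nat.card F ^ (Module.finrank F V - 2) := by
    rw [← hker]
    exact Module.natCard_eq_pow_finrank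
  rw [← hcard]
  have hmem : ∀ x : LinearMap.ker f, polar Q u x = 0 ∧ polar Q v x = 0 := by
    rintro ⟨x, hx⟩
    rw [LinearMap.mem_ker, hf, Prod.mk_eq_zero] at hx
    exact hx
  let φ : LinearMap.ker f → UP Q (Submodule.span F {u}) := fun x =>
    ⟨((sg u x hu (hmem x).1 : ↥(E Q)) : P Q),
      (mem_UP_span_iff hG.nondeg hu hu0).2 ⟨x, (hmem x).1, rfl⟩⟩
  have hφ : Function.Surjective φ := by
    rintro ⟨r, hr⟩
    obtain ⟨w, hw, rfl⟩ := (mem_UP_span_iff hG.nondeg hu hu0).1 hr
    have h1 : polar Q u (w - polar Q v w • u) = 0 := by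
      rw [polar_sub_right, polar_smul_right, hw, hv.polar_left]; simp
    have h2 : polar Q v (w - polar Q v w • u) = 0 := by
      rw [polar_sub_right, polar_smul_right, hv.pair']; simp
    refine ⟨⟨w - polar Q v w • u, ?_⟩, ?_⟩
    · rw [LinearMap.mem_ker, hf, h1, h2]; rfl
    · apply Subtype.ext
      show ((sg u (w - polar Q v w • u) hu _ : ↥(E Q)) : P Q) = ((sg u w hu hw : ↥(E Q)) : P Q)
      rw [sg_eq_sg_iff hG hu hu0 _ hw]
      exact ⟨polar Q v w, by abel⟩
  exact Nat.card_le_card_of_surjective φ hφ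

/-- Lower bound for `UP W`, `W` totally singular of dimension at least five. -/
theorem lt_card_UP [Finite F] [FiniteDimensional F V] (hG : Good Q) {W : Submodule F V}
    (hW : TS Q W) (hk5 : 5 ≤ Module.finrank F W) :
    Nat.card F ^ (2 * Module.finrank F W - 2) < Nat.card (UP Q W) := by
  have h1 := Cfsg.Agent.ClassicalGeometry.OrthAutCard.card_lt hG.nondeg W hW rfl hk5
  refine lt_of_lt_of_le h1 ?_
  set C := Subgroup.closure {g : V ≃ₗ[F] V | ∃ (u w : V) (hu : Q u = 0) (hw : polar Q u w = 0),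
    u ∈ W ∧ w ∈ W ∧ g = siegel Q u w hu hw} with hC
  have hCE : C ≤ E Q := by
    rw [hC, Subgroup.closure_le]
    rintro _ ⟨u, w, hu, hw, -, -, rfl⟩
    exact siegel_mem_E hu hw
  have hCU : ∀ g (hg : g ∈ C), (⟨g, hCE hg⟩ : ↥(E Q)) ∈ U Q W := by
    have h2 : C ≤ (U Q W).map (E Q).subtype := by
      rw [hC, Subgroup.closure_le]
      rintro _ ⟨u, w, hu, hw, huW, hwW, rfl⟩
      exact ⟨sg u w hu hw, sg_mem_U hW huW (fun v hv => hW.polar hwW hv) hu hw, rfl⟩
    intro g hg
    obtain ⟨g', hg', e⟩ := h2 hg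
    have : g' = ⟨g, hCE hg⟩ := Subtype.ext e
    rw [← this]; exact hg'
  have hfinP : Finite (P Q) := finite_P
  have hW0 : ∃ w ∈ W, w ≠ 0 := by
    have : Nontrivial W := Module.nontrivial_of_finrank_pos (R := F) (by omega)
    obtain ⟨x, hx⟩ := exists_ne (0 : W)
    exact ⟨x, x.2, fun h => hx (Subtype.ext h)⟩
  obtain ⟨w0, hw0, hw00⟩ := hW0
  let φ : C → UP Q W := fun g => ⟨((⟨g, hCE g.2⟩ : ↥(E Q)) : P Q), ⟨_, hCU g g.2, rfl⟩⟩
  have hφ : Function.Injective φ := by
    rintro ⟨g, hg⟩ ⟨g', hg'⟩ h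
    have h2 : ((⟨g, hCE hg⟩ : ↥(E Q)) : P Q) = ((⟨g', hCE hg'⟩ : ↥(E Q)) : P Q) :=
      congrArg Subtype.val h
    rw [QuotientGroup.eq] at h2
    obtain ⟨c, hc⟩ := center_scalar hG h2
    have h3 : g.symm (g' w0) = c • w0 := hc w0
    have h4 : g' w0 = w0 := (hCU g' hg').1 w0 hw0
    have h5 : g w0 = w0 := (hCU g hg).1 w0 hw0
    rw [h4, LinearEquiv.symm_apply_eq, map_smul, h5] at h3
    have h6 : c = 1 := by
      have h7 : (1 - c) • w0 = 0 := by rw [sub_smul, one_smul, ← h3, sub_self]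
      rcases smul_eq_zero.1 h7 with h8 | h8
      · exact (sub_eq_zero.1 h8).symm
      · exact absurd h8 hw00
    apply Subtype.ext
    ext v
    have h7 : g.symm (g' v) = c • v := hc v
    rw [h6, one_smul, LinearEquiv.symm_apply_eq] at h7
    exact h7.symm
  exact Nat.card_le_card_of_injective φ hφ

/-- `UP W` is not abelian if `dim W ≥ 2` and `W^⊥` is not totally isotropic. -/
theorem not_comm_UP (hG : Good Q) {W : Submodule F V} (hW : TS Q W) {u₁ u₂ w₁ w₂ : V}
    (hu₁ : u₁ ∈ W) (hu₂ : u₂ ∈ W) (hu₂0 : u₂ ≠ 0) (hind : ∀ c : F, u₁ ≠ c • u₂)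
    (hw₁ : ∀ v ∈ W, polar Q w₁ v = 0) (hw₂ : ∀ v ∈ W, polar Q w₂ v = 0)
    (hww : polar Q w₁ w₂ ≠ 0) :
    ∃ a ∈ UP Q W, ∃ b ∈ UP Q W, a * b ≠ b * a := by
  have h1 : polar Q u₁ w₁ = 0 := by rw [polar_comm]; exact hw₁ _ hu₁
  have h2 : polar Q u₂ w₂ = 0 := by rw [polar_comm]; exact hw₂ _ hu₂
  have h12 : polar Q u₁ w₂ = 0 := by rw [polar_comm]; exact hw₂ _ hu₁
  have h21 : polar Q u₂ w₁ = 0 := by rw [polar_comm]; exact hw₁ _ hu₂
  refine ⟨((sg u₁ w₁ (hW _ hu₁) h1 : ↥(E Q)) : P Q), ⟨_, sg_mem_U hW hu₁ hw₁ _ _, rfl⟩,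
    ((sg u₂ w₂ (hW _ hu₂) h2 : ↥(E Q)) : P Q), ⟨_, sg_mem_U hW hu₂ hw₂ _ _, rfl⟩, ?_⟩
  intro h
  rw [← QuotientGroup.mk_mul, ← QuotientGroup.mk_mul, QuotientGroup.eq] at h
  obtain ⟨c, hc⟩ := center_scalar hG h
  set s₁ := ((sg u₁ w₁ (hW _ hu₁) h1 : ↥(E Q)) : V ≃ₗ[F] V) with hs₁
  set s₂ := ((sg u₂ w₂ (hW _ hu₂) h2 : ↥(E Q)) : V ≃ₗ[F] V) with hs₂
  have hc' : ∀ v, s₂ (s₁ v) = c • s₁ (s₂ v) := by
    intro v
    have h3 : s₂.symm (s₁.symm (s₂ (s₁ v))) = c • v := hc v
    rw [LinearEquiv.symm_apply_eq, LinearEquiv.symm_apply_eq] at h3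
    rw [h3, map_smul, map_smul]
  have e1 : ∀ v, s₁ v = v + polar Q u₁ v • w₁ - polar Q w₁ v • u₁ - (Q w₁ * polar Q u₁ v) • u₁ :=
    fun v => sg_apply _ _ v
  have e2 : ∀ v, s₂ v = v + polar Q u₂ v • w₂ - polar Q w₂ v • u₂ - (Q w₂ * polar Q u₂ v) • u₂ :=
    fun v => sg_apply _ _ v
  have f11 : s₁ u₁ = u₁ := by
    rw [e1, polar_self_of_sing (hW _ hu₁), hw₁ _ hu₁]; module
  have f12 : s₁ u₂ = u₂ := by
    rw [e1, hW.polar hu₁ hu₂, hw₁ _ hu₂]; module
  have f21 : s₂ u₁ = u₁ := by
    rw [e2, hW.polar hu₂ hu₁, hw₂ _ hu₁]; module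
  have f22 : s₂ u₂ = u₂ := by
    rw [e2, polar_self_of_sing (hW _ hu₂), hw₂ _ hu₂]; module
  have hc1 : c = 1 := by
    have h3 := hc' u₂
    rw [f12, f22, f12] at h3
    have h7 : (1 - c) • u₂ = 0 := by rw [sub_smul, one_smul, ← h3, sub_self]
    rcases smul_eq_zero.1 h7 with h8 | h8
    · exact (sub_eq_zero.1 h8).symm
    · exact absurd h8 hu₂0
  obtain ⟨x, hx1, hx2⟩ := exists_sep hG.nondeg hind
  have h3 := hc' x
  rw [hc1, one_smul] at h3
  have g1 : s₁ x = x + w₁ - polar Q w₁ x • u₁ - Q w₁ • u₁ := by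
    rw [e1, hx2]; module
  have g2 : s₂ x = x - polar Q w₂ x • u₂ := by
    rw [e2, hx1]; module
  have g3 : s₂ w₁ = w₁ - polar Q w₁ w₂ • u₂ := by
    rw [e2, h21, polar_comm Q w₂ w₁]; module
  rw [g1, g2, map_sub, map_sub, map_add, map_sub, map_smul, map_smul, map_smul, g2, g3, f21, g1,
    f12] at h3
  have h4 : polar Q w₁ w₂ • u₂ = 0 := by
    have : polar Q w₁ w₂ • u₂ = (x + w₁ - polar Q w₁ x • u₁ - Q w₁ • u₁ - polar Q w₂ x • u₂) -
      (x - polar Q w₂ x • u₂ + (w₁ - polar Q w₁ w₂ • u₂) - polar Q w₁ x • u₁ - Q w₁ • u₁) := by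
      module
    rw [this, h3, sub_self]
  rcases smul_eq_zero.1 h4 with h5 | h5
  · exact hww h5
  · exact hu₂0 h5

/-! ### The dichotomy -/

/-- The image of a point stabiliser under an automorphism is the stabiliser of a totally singular
subspace containing a radical. -/
theorem exists_TS [Finite F] [FiniteDimensional F V] (hG : Good Q) (α : MulAut (P Q)) {x : V}
    (hx : Q x = 0) (hx0 : x ≠ 0) :
    ∃ (W : Submodule F V), TS Q W ∧ (∃ y ∈ W, y ≠ 0) ∧
      (stab hG (Submodule.span F {x})).map α.toMonoidHom = stab hG W := by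
  obtain ⟨p, hpF⟩ := CharP.exists F
  have hp : Fact p.Prime := ⟨CharP.char_is_prime F p⟩
  have hfinP : Finite (P Q) := finite_P
  set M := (stab hG (Submodule.span F {x})).map α.toMonoidHom with hM
  -- `M` is maximal
  have hMco : IsCoatom M := by
    have h1 := (MulEquiv.mapSubgroup α).isCoatom_iff (stab hG (Submodule.span F {x}))
    exact h1.2 (isCoatom_stab hG hx hx0)
  -- a Sylow subgroup in the stabiliser of `x`
  obtain ⟨S⟩ : Nonempty (Sylow p (P Q)) := inferInstance
  obtain ⟨u, hu0, hu, hSu, -⟩ := sylow_ge hG p S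
  obtain ⟨g, hg⟩ := exists_pact_eq hG hu hx hu0 hx0
  have hSx : ((g • S : Sylow p (P Q)) : Subgroup (P Q)) ≤ stab hG (Submodule.span F {x}) := by
    intro t ht
    rw [Sylow.coe_subgroup_smul] at ht
    rw [Subgroup.mem_pointwise_smul_iff_inv_smul_mem] at ht
    have h1 : g⁻¹ * t * g ∈ (S : Subgroup (P Q)) := by
      have e : (MulAut.conj g)⁻¹ • t = g⁻¹ * t * g := by
        rw [MulAut.smul_def, MulAut.conj_inv_apply]
      rw [← e]; exact ht
    have h2 := mem_stab.1 (hSu h1)
    rw [mem_stab, ← hg]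
    rw [map_mul, map_mul, Equiv.Perm.mul_apply, Equiv.Perm.mul_apply, map_inv,
      Equiv.Perm.inv_eq_iff_eq] at h2
    exact h2
  -- its image is a Sylow subgroup
  have hpm : IsPGroup p (((g • S : Sylow p (P Q)) : Subgroup (P Q)).map α.toMonoidHom) :=
    (g • S).isPGroup'.map _
  obtain ⟨S', hS'⟩ := hpm.exists_le_sylow
  have hcard : Nat.card (((g • S : Sylow p (P Q)) : Subgroup (P Q)).map α.toMonoidHom)
      = Nat.card (S' : Subgroup (P Q)) := by
    rw [Subgroup.card_map_of_injective α.injective, Sylow.card_eq_multiplicity,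
      Sylow.card_eq_multiplicity]
  have hSeq : ((g • S : Sylow p (P Q)) : Subgroup (P Q)).map α.toMonoidHom = S' :=
    Subgroup.eq_of_le_of_card_ge hS' hcard.ge
  obtain ⟨y, hy0, hy, -, hyS⟩ := sylow_ge hG p S'
  have hyM : UP Q (Submodule.span F {y}) ≤ M := by
    refine hyS.trans ?_
    rw [← hSeq]
    exact Subgroup.map_mono hSx
  have hyW : y ∈ spanW Q M := Submodule.subset_span ⟨hy, hyM⟩
  have hTS := TS_spanW hG hMco.1
  refine ⟨spanW Q M, hTS, ⟨y, hyW, hy0⟩, ?_⟩
  rcases hMco.le_iff.1 (le_stab_spanW hG M) with h | h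
  · exact absurd h (stab_ne_top hG hTS hyW hy0)
  · exact h.symm

/-- The inverse image of `UP W` under `α` lies in `UP ⟨x⟩`. -/
theorem map_symm_UP_le [Finite F] [FiniteDimensional F V] (hG : Good Q)
    (h7 : 7 ≤ Module.finrank F V) (α : MulAut (P Q)) {x : V} (hx : Q x = 0) (hx0 : x ≠ 0)
    {W : Submodule F V}
    (hW : (stab hG (Submodule.span F {x})).map α.toMonoidHom = stab hG W) :
    (UP Q W).map α.symm.toMonoidHom ≤ UP Q (Submodule.span F {x}) := by
  obtain ⟨p, hpF⟩ := CharP.exists F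
  have hp : Fact p.Prime := ⟨CharP.char_is_prime F p⟩
  have hsymm : ∀ t, t ∈ stab hG W → α.symm t ∈ stab hG (Submodule.span F {x}) := by
    intro t ht
    rw [← hW] at ht
    obtain ⟨s, hs, rfl⟩ := ht
    have : α.symm (α.toMonoidHom s) = s := α.symm_apply_apply s
    rw [this]; exact hs
  apply le_UP_of_normal hG h7 p hx hx0
  · rintro _ ⟨t, ht, rfl⟩
    exact hsymm t (UP_le_stab hG W ht)
  · rintro g hg _ ⟨t, ht, rfl⟩
    have h1 : α g ∈ stab hG W := by
      rw [← hW]; exact ⟨g, hg, rfl⟩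
    refine ⟨α g * t * (α g)⁻¹, conj_mem_UP_of_stab h1 ht, ?_⟩
    show α.symm (α g * t * (α g)⁻¹) = g * α.symm t * g⁻¹
    rw [map_mul, map_mul, map_inv, MulEquiv.symm_apply_apply]
  · exact (isPGroup_UP p W).map _

/-- The image of a point stabiliser is a point stabiliser, or the stabiliser of a totally singular
4-space in dimension 8. -/
theorem dichotomy [Finite F] [FiniteDimensional F V] (hG : Good Q)
    (h7 : 7 ≤ Module.finrank F V) (α : MulAut (P Q)) {x : V} (hx : Q x = 0) (hx0 : x ≠ 0) :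
    (∃ y, Q y = 0 ∧ y ≠ 0 ∧ (stab hG (Submodule.span F {x})).map α.toMonoidHom
      = stab hG (Submodule.span F {y})) ∨
    (Module.finrank F V = 8 ∧ ∃ W : Submodule F V, TS Q W ∧ Module.finrank F W = 4 ∧
      (stab hG (Submodule.span F {x})).map α.toMonoidHom = stab hG W) := by
  obtain ⟨W, hTS, ⟨y, hyW, hy0⟩, hW⟩ := exists_TS hG α hx hx0
  have hUP := map_symm_UP_le hG h7 α hx hx0 hW
  have hfinP : Finite (P Q) := finite_P
  by_cases hex : ∃ u ∈ W, ∀ c : F, u ≠ c • y
  · right
    obtain ⟨u, huW, hind⟩ := hex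
    -- `UP W` is abelian
    have hcomm : ∀ a ∈ UP Q W, ∀ b ∈ UP Q W, a * b = b * a := by
      intro a ha b hb
      have h1 := UP_span_comm hG.nondeg hx hx0 (hUP ⟨a, ha, rfl⟩) (hUP ⟨b, hb, rfl⟩)
      have h2 := congrArg α h1
      simpa using h2
    -- so `W^⊥` is totally isotropic, hence `W^⊥ = W`
    have hperp : ∀ w, (∀ v ∈ W, polar Q w v = 0) → w ∈ W := by
      have hiso : ∀ w₁ w₂, (∀ v ∈ W, polar Q w₁ v = 0) → (∀ v ∈ W, polar Q w₂ v = 0) →
          polar Q w₁ w₂ = 0 := by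
        intro w₁ w₂ hw₁ hw₂
        by_contra hww
        obtain ⟨a, ha, b, hb, hab⟩ := not_comm_UP hG hTS huW hyW hy0 hind hw₁ hw₂ hww
        exact hab (hcomm a ha b hb)
      have hnd : (polarBilin Q).Nondegenerate := by
        refine ⟨fun a ha => hG.nondeg a ha, fun a ha => hG.nondeg a fun b => ?_⟩
        rw [polar_comm]
        exact ha b
      have hrefl : (polarBilin Q).IsRefl := by
        intro a b h
        rw [polarBilin_apply_apply] at h ⊢
        rw [polar_comm]
        exact h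
      intro w hw
      have h1 : w ∈ LinearMap.BilinForm.orthogonal (polarBilin Q) (LinearMap.BilinForm.orthogonal (polarBilin Q) W) := by
        rw [LinearMap.BilinForm.mem_orthogonal_iff]
        intro v hv
        rw [LinearMap.BilinForm.mem_orthogonal_iff] at hv
        show polar Q v w = 0
        apply hiso v w _ hw
        intro z hz
        have := hv z hz
        rw [polar_comm]
        exact this
      rwa [LinearMap.BilinForm.orthogonal_orthogonal hnd hrefl] at h1
    have hdim : Module.finrank F V = 2 * Module.finrank F W := by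
      have hnd : (polarBilin Q).Nondegenerate := by
        refine ⟨fun a ha => hG.nondeg a ha, fun a ha => hG.nondeg a fun b => ?_⟩
        rw [polar_comm]
        exact ha b
      have hrefl : (polarBilin Q).IsRefl := by
        intro a b h
        rw [polarBilin_apply_apply] at h ⊢
        rw [polar_comm]
        exact h
      have h1 := LinearMap.BilinForm.finrank_orthogonal hnd W
      have h2 : LinearMap.BilinForm.orthogonal (polarBilin Q) W = W := by
        apply le_antisymm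
        · intro w hw
          apply hperp
          intro v hv
          rw [LinearMap.BilinForm.mem_orthogonal_iff] at hw
          have := hw v hv
          rw [polar_comm]
          exact this
        · intro w hw
          rw [LinearMap.BilinForm.mem_orthogonal_iff]
          intro v hv
          exact hTS.polar hv hw
      rw [h2] at h1
      have h3 := Submodule.finrank_le W
      omega
    have hk : Module.finrank F W = 4 := by
      by_contra hne
      have h5 : 5 ≤ Module.finrank F W := by omega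
      have h6 := lt_card_UP hG hTS h5
      have h8 := card_UP_span_le hG hx hx0
      have h9 : Nat.card (UP Q W) ≤ Nat.card (UP Q (Submodule.span F {x})) := by
        have e : Nat.card ((UP Q W).map α.symm.toMonoidHom) = Nat.card (UP Q W) :=
          Subgroup.card_map_of_injective α.symm.injective
        rw [← e]
        exact Subgroup.card_le_of_le hUP
      rw [← hdim] at h6
      omega
    exact ⟨by omega, W, hTS, hk, hW⟩
  · left
    push Not at hex
    refine ⟨y, hTS y hyW, hy0, ?_⟩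
    have : W = Submodule.span F {y} := by
      apply le_antisymm
      · intro u hu
        obtain ⟨c, rfl⟩ := hex u hu
        exact Submodule.smul_mem _ _ (Submodule.mem_span_singleton_self y)
      · rw [Submodule.span_le, Set.singleton_subset_iff]
        exact hyW
    rw [hW, this]

/-- If `α` maps the stabiliser of `⟨x⟩` to that of `⟨y⟩`, it maps the radical to the radical. -/
theorem map_UP_eq [Finite F] [FiniteDimensional F V] (hG : Good Q)
    (h7 : 7 ≤ Module.finrank F V) (α : MulAut (P Q)) {x y : V} (hx : Q x = 0) (hx0 : x ≠ 0)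
    (hy : Q y = 0) (hy0 : y ≠ 0)
    (h : (stab hG (Submodule.span F {x})).map α.toMonoidHom = stab hG (Submodule.span F {y})) :
    (UP Q (Submodule.span F {x})).map α.toMonoidHom = UP Q (Submodule.span F {y}) := by
  apply le_antisymm
  · have h1 : (stab hG (Submodule.span F {y})).map (α⁻¹ : MulAut (P Q)).toMonoidHom
        = stab hG (Submodule.span F {x}) := by
      rw [← h, Subgroup.map_map]
      convert Subgroup.map_id _ using 2
      ext t
      exact α.symm_apply_apply t
    have h2 := map_symm_UP_le hG h7 α⁻¹ hy hy0 h1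
    exact h2
  · intro t ht
    have h2 := map_symm_UP_le hG h7 α hx hx0 h ⟨t, ht, rfl⟩
    exact ⟨_, h2, α.apply_symm_apply t⟩

end Cfsg.Agent.ClassicalGeometry.OrthAut3
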