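import Mathlib
import Cfsg.Agent.ClassicalGeometry.OrthAut3
import Cfsg.Agent.AutOrth.Extend

/-!
# Automorphisms of orthogonal groups, part 4: automorphisms are induced by semisimilarities

Glue between the permutation of the point stabilisers (`OrthAut3`) and the reconstruction of the semisimilarity
(`AutOrth.Extend`).
-/

set_option autoImplicit false

namespace Cfsg.Agent.ClassicalGeometry.OrthAut4

open QuadraticMap Cfsg.Agent.LieClassical.OrthCore Cfsg.Agent.LieClassical.OrthTrans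
  Cfsg.Agent.LieClassical.OrthSimple Cfsg.Agent.LieClassical.OrthFinite
  Cfsg.Agent.ClassicalGeometry.OrthAut1 Cfsg.Agent.ClassicalGeometry.OrthAut3
  Cfsg.Agent.AutOrth.SemiSim Cfsg.Agent.AutOrth.Extend

variable {F V : Type*} [Field F] [AddCommGroup V] [Module F V] {Q : QuadraticForm F V}

/-- The complement of a hyperbolic pair contains a totally singular plane. -/
theorem hasPlaneW [Finite F] (hG : Good Q) (h7 : 7 ≤ Module.finrank F V) {e f : V}
    (h : Hyp Q e f) : HasPlaneW Q e f := by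
  obtain ⟨z, w, hzw, hez, hew, hfz, hfw⟩ := hG.exists_hyp2 h
  obtain ⟨b, hb0, hb, hbp⟩ := exists_sing_perp (Q := Q) ![e, f, z, w] (by omega)
  have heb : polar Q e b = 0 := hbp 0
  have hfb : polar Q f b = 0 := hbp 1
  have hzb : polar Q z b = 0 := hbp 2
  have hwb : polar Q w b = 0 := hbp 3
  refine ⟨⟨z, mem_W.2 ⟨hez, hfz⟩⟩, ⟨b, mem_W.2 ⟨heb, hfb⟩⟩, hzw.left, hb, ?_, ?_, ?_⟩
  · rw [polar_QW]; exact hzb
  · intro h0
    exact hzw.left_ne (congrArg Subtype.val h0)
  · intro a ha
    have h1 : b = a • z := congrArg Subtype.val ha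
    rw [h1, polar_smul_right, hzw.pair', smul_eq_mul, mul_one] at hwb
    rw [h1, hwb, zero_smul] at hb0
    exact hb0 rfl

/-- The image in `P Q` of the Siegel subgroup. -/
theorem map_RS_eq (hG : Good Q) {u : V} (hu : Q u = 0) (hu0 : u ≠ 0) :
    (RS Q u hu).map (QuotientGroup.mk' (Subgroup.center ↥(E Q)))
      = Cfsg.Agent.ClassicalGeometry.OrthAut2.UP Q (Submodule.span F {u}) := by
  ext p
  rw [Cfsg.Agent.ClassicalGeometry.OrthAut2.mem_UP_span_iff hG.nondeg hu hu0]
  constructor
  · rintro ⟨_, ⟨w, hw, rfl⟩, rfl⟩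
    exact ⟨w, hw, rfl⟩
  · rintro ⟨w, hw, rfl⟩
    exact ⟨_, ⟨w, hw, rfl⟩, rfl⟩

/-- An automorphism of `P Q` permuting the point stabilisers is induced by a semisimilarity. -/
theorem exists_semi_P [Finite F] [FiniteDimensional F V] (hG : Good Q)
    (h7 : 7 ≤ Module.finrank F V) (α : MulAut (P Q))
    (hα : ∀ x : V, Q x = 0 → x ≠ 0 → ∃ y, Q y = 0 ∧ y ≠ 0 ∧
      (stab hG (Submodule.span F {x})).map α.toMonoidHom = stab hG (Submodule.span F {y})) :
    ∃ (M : V ≃+ V) (σ : F ≃+* F) (c : F) (hM : IsSemi Q M σ c),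
      ∀ g : ↥(E Q), α (g : P Q) = ((conjE hM g : ↥(E Q)) : P Q) := by
  obtain ⟨e, f, h⟩ := hG.exists_hyp
  refine exists_semisimilarity (π := QuotientGroup.mk' (Subgroup.center ↥(E Q))) hG h
    (hasPlaneW hG h7 h) (QuotientGroup.mk'_surjective _) (QuotientGroup.ker_mk' _) α ?_
  intro u hu hu0
  obtain ⟨y, hy, hy0, hst⟩ := hα u hu hu0
  refine ⟨y, hy, hy0, ?_⟩
  rw [map_RS_eq hG hu hu0, map_RS_eq hG hy hy0]
  exact map_UP_eq hG h7 α hu hu0 hy hy0 hst

section General

variable {P' : Type*} [Group P'] {π : ↥(E Q) →* P'}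

/-- The isomorphism `P Q ≃* P'` for a surjection `π : E Q →* P'` with kernel the centre. -/
noncomputable def isoP (hπ : Function.Surjective π) (hker : π.ker = Subgroup.center ↥(E Q)) :
    P Q ≃* P' :=
  (QuotientGroup.quotientMulEquivOfEq hker.symm).trans
    (QuotientGroup.quotientKerEquivOfSurjective π hπ)

theorem isoP_mk (hπ : Function.Surjective π) (hker : π.ker = Subgroup.center ↥(E Q))
    (g : ↥(E Q)) : isoP hπ hker (g : P Q) = π g := rfl

theorem isoP_symm (hπ : Function.Surjective π) (hker : π.ker = Subgroup.center ↥(E Q))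
    (g : ↥(E Q)) : (isoP hπ hker).symm (π g) = (g : P Q) := by
  rw [MulEquiv.symm_apply_eq, isoP_mk]

/-- An automorphism of `P'` permuting the point stabilisers is induced by a semisimilarity. -/
theorem exists_semi_of_perm [Finite F] [FiniteDimensional F V] (hG : Good Q)
    (h7 : 7 ≤ Module.finrank F V) (hπ : Function.Surjective π)
    (hker : π.ker = Subgroup.center ↥(E Q)) (α : MulAut P')
    (hα : ∀ x : V, Q x = 0 → x ≠ 0 → ∃ y, Q y = 0 ∧ y ≠ 0 ∧
      (stab hG (Submodule.span F {x})).map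
        (((isoP hπ hker).trans α).trans (isoP hπ hker).symm).toMonoidHom
        = stab hG (Submodule.span F {y})) :
    ∃ (M : V ≃+ V) (σ : F ≃+* F) (c : F) (hM : IsSemi Q M σ c),
      ∀ g : ↥(E Q), α (π g) = π (conjE hM g) := by
  obtain ⟨M, σ, c, hM, h⟩ := exists_semi_P hG h7
    (((isoP hπ hker).trans α).trans (isoP hπ hker).symm) hα
  refine ⟨M, σ, c, hM, fun g => ?_⟩
  have h1 := h g
  have h2 := congrArg (isoP hπ hker) h1
  rw [isoP_mk] at h2
  rw [← h2]
  show _ = isoP hπ hker ((isoP hπ hker).symm (α (isoP hπ hker (g : P Q))))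
  rw [MulEquiv.apply_symm_apply, isoP_mk]

/-- Every automorphism of `P'` (isomorphic to `E Q / Z(E Q)`, dimension at least seven) is induced by a
semisimilarity, unless the dimension is eight and there is a totally singular 4-space. -/
theorem exists_semi [Finite F] [FiniteDimensional F V] (hG : Good Q)
    (h7 : 7 ≤ Module.finrank F V)
    (hex : ¬ (Module.finrank F V = 8 ∧ ∃ W : Submodule F V, TS Q W ∧ Module.finrank F W = 4))
    (hπ : Function.Surjective π) (hker : π.ker = Subgroup.center ↥(E Q)) (α : MulAut P') :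
    ∃ (M : V ≃+ V) (σ : F ≃+* F) (c : F) (hM : IsSemi Q M σ c),
      ∀ g : ↥(E Q), α (π g) = π (conjE hM g) := by
  refine exists_semi_of_perm hG h7 hπ hker α ?_
  intro x hx hx0
  rcases dichotomy hG h7 (((isoP hπ hker).trans α).trans (isoP hπ hker).symm) hx hx0 with h | h
  · exact h
  · exfalso
    obtain ⟨h8, W, hW, hW4, -⟩ := h
    exact hex ⟨h8, W, hW, hW4⟩

end General

end Cfsg.Agent.ClassicalGeometry.OrthAut4
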