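import Mathlib
import Cfsg.Agent.LieClassical.QuadForms

/-!
# Split octonions (Zorn vector matrices) on `Fin 4 ⊕ Fin 4 → F`

The product `omul` has norm form `plusForm 4 F`.  We record the composition law, the Moufang
identity and a few more identities used for triality.
-/

set_option autoImplicit false

namespace Cfsg.Agent.ClassicalGeometry.TrialityOct

open QuadraticMap Cfsg.Agent.LieClassical.QuadForms

variable {F : Type*} [Field F]

/-- The octonion product. -/
def omul (x y : Fin 4 ⊕ Fin 4 → F) : Fin 4 ⊕ Fin 4 → F :=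
  Sum.elim
    ![x (.inl 0) * y (.inl 0)
        - (x (.inl 1) * y (.inr 1) + x (.inl 2) * y (.inr 2) + x (.inl 3) * y (.inr 3)),
      x (.inl 0) * y (.inl 1) + y (.inr 0) * x (.inl 1)
        - (x (.inr 2) * y (.inr 3) - x (.inr 3) * y (.inr 2)),
      x (.inl 0) * y (.inl 2) + y (.inr 0) * x (.inl 2)
        - (x (.inr 3) * y (.inr 1) - x (.inr 1) * y (.inr 3)),
      x (.inl 0) * y (.inl 3) + y (.inr 0) * x (.inl 3)
        - (x (.inr 1) * y (.inr 2) - x (.inr 2) * y (.inr 1))]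
    ![x (.inr 0) * y (.inr 0)
        - (x (.inr 1) * y (.inl 1) + x (.inr 2) * y (.inl 2) + x (.inr 3) * y (.inl 3)),
      y (.inl 0) * x (.inr 1) + x (.inr 0) * y (.inr 1)
        - (x (.inl 2) * y (.inl 3) - x (.inl 3) * y (.inl 2)),
      y (.inl 0) * x (.inr 2) + x (.inr 0) * y (.inr 2)
        - (x (.inl 3) * y (.inl 1) - x (.inl 1) * y (.inl 3)),
      y (.inl 0) * x (.inr 3) + x (.inr 0) * y (.inr 3)
        - (x (.inl 1) * y (.inl 2) - x (.inl 2) * y (.inl 1))]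

/-- Conjugation. -/
def oconj (x : Fin 4 ⊕ Fin 4 → F) : Fin 4 ⊕ Fin 4 → F :=
  Sum.elim ![x (.inr 0), - x (.inl 1), - x (.inl 2), - x (.inl 3)]
    ![x (.inl 0), - x (.inr 1), - x (.inr 2), - x (.inr 3)]

/-- The unit. -/
def one8 (F : Type*) [Field F] : Fin 4 ⊕ Fin 4 → F :=
  Sum.elim ![1, 0, 0, 0] ![1, 0, 0, 0]

omit [Field F] in
theorem ext8 {x y : Fin 4 ⊕ Fin 4 → F} (h0 : x (.inl 0) = y (.inl 0)) (h1 : x (.inl 1) = y (.inl 1))
    (h2 : x (.inl 2) = y (.inl 2)) (h3 : x (.inl 3) = y (.inl 3)) (k0 : x (.inr 0) = y (.inr 0))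
    (k1 : x (.inr 1) = y (.inr 1)) (k2 : x (.inr 2) = y (.inr 2)) (k3 : x (.inr 3) = y (.inr 3)) :
    x = y := by
  funext i
  rcases i with i | i <;> fin_cases i <;> assumption

section coords

variable (x y : Fin 4 ⊕ Fin 4 → F)

theorem omul_l0 : omul x y (.inl 0) = x (.inl 0) * y (.inl 0)
    - (x (.inl 1) * y (.inr 1) + x (.inl 2) * y (.inr 2) + x (.inl 3) * y (.inr 3)) := rfl
theorem omul_l1 : omul x y (.inl 1) = x (.inl 0) * y (.inl 1) + y (.inr 0) * x (.inl 1)
    - (x (.inr 2) * y (.inr 3) - x (.inr 3) * y (.inr 2)) := rfl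
theorem omul_l2 : omul x y (.inl 2) = x (.inl 0) * y (.inl 2) + y (.inr 0) * x (.inl 2)
    - (x (.inr 3) * y (.inr 1) - x (.inr 1) * y (.inr 3)) := rfl
theorem omul_l3 : omul x y (.inl 3) = x (.inl 0) * y (.inl 3) + y (.inr 0) * x (.inl 3)
    - (x (.inr 1) * y (.inr 2) - x (.inr 2) * y (.inr 1)) := rfl
theorem omul_r0 : omul x y (.inr 0) = x (.inr 0) * y (.inr 0)
    - (x (.inr 1) * y (.inl 1) + x (.inr 2) * y (.inl 2) + x (.inr 3) * y (.inl 3)) := rfl
theorem omul_r1 : omul x y (.inr 1) = y (.inl 0) * x (.inr 1) + x (.inr 0) * y (.inr 1)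
    - (x (.inl 2) * y (.inl 3) - x (.inl 3) * y (.inl 2)) := rfl
theorem omul_r2 : omul x y (.inr 2) = y (.inl 0) * x (.inr 2) + x (.inr 0) * y (.inr 2)
    - (x (.inl 3) * y (.inl 1) - x (.inl 1) * y (.inl 3)) := rfl
theorem omul_r3 : omul x y (.inr 3) = y (.inl 0) * x (.inr 3) + x (.inr 0) * y (.inr 3)
    - (x (.inl 1) * y (.inl 2) - x (.inl 2) * y (.inl 1)) := rfl

theorem oconj_l0 : oconj x (.inl 0) = x (.inr 0) := rfl
theorem oconj_l1 : oconj x (.inl 1) = - x (.inl 1) := rfl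
theorem oconj_l2 : oconj x (.inl 2) = - x (.inl 2) := rfl
theorem oconj_l3 : oconj x (.inl 3) = - x (.inl 3) := rfl
theorem oconj_r0 : oconj x (.inr 0) = x (.inl 0) := rfl
theorem oconj_r1 : oconj x (.inr 1) = - x (.inr 1) := rfl
theorem oconj_r2 : oconj x (.inr 2) = - x (.inr 2) := rfl
theorem oconj_r3 : oconj x (.inr 3) = - x (.inr 3) := rfl

theorem norm8 : plusForm 4 F x = x (.inl 0) * x (.inr 0) + x (.inl 1) * x (.inr 1)
    + x (.inl 2) * x (.inr 2) + x (.inl 3) * x (.inr 3) := by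
  rw [plusForm_apply, Fin.sum_univ_four]

theorem polar8 : polar (plusForm 4 F) x y = (x (.inl 0) * y (.inr 0) + y (.inl 0) * x (.inr 0))
    + (x (.inl 1) * y (.inr 1) + y (.inl 1) * x (.inr 1))
    + (x (.inl 2) * y (.inr 2) + y (.inl 2) * x (.inr 2))
    + (x (.inl 3) * y (.inr 3) + y (.inl 3) * x (.inr 3)) := by
  rw [polar_plusForm, Fin.sum_univ_four]

end coords

/-- The simp set for coordinates. -/
macro "coord8" : tactic => `(tactic| (apply ext8 <;>
  simp only [omul_l0, omul_l1, omul_l2, omul_l3, omul_r0, omul_r1, omul_r2, omul_r3,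
    oconj_l0, oconj_l1, oconj_l2, oconj_l3, oconj_r0, oconj_r1, oconj_r2, oconj_r3,
    Pi.add_apply, Pi.sub_apply, Pi.neg_apply, Pi.smul_apply, smul_eq_mul, norm8, polar8] <;>
  ring))

theorem norm_omul (x y : Fin 4 ⊕ Fin 4 → F) :
    plusForm 4 F (omul x y) = plusForm 4 F x * plusForm 4 F y := by
  simp only [norm8, omul_l0, omul_l1, omul_l2, omul_l3, omul_r0, omul_r1, omul_r2, omul_r3]
  ring

theorem norm_oconj (x : Fin 4 ⊕ Fin 4 → F) : plusForm 4 F (oconj x) = plusForm 4 F x := by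
  simp only [norm8, oconj_l0, oconj_l1, oconj_l2, oconj_l3, oconj_r0, oconj_r1, oconj_r2, oconj_r3]
  ring

theorem add_omul (x x' y : Fin 4 ⊕ Fin 4 → F) : omul (x + x') y = omul x y + omul x' y := by
  coord8

theorem omul_add (x y y' : Fin 4 ⊕ Fin 4 → F) : omul x (y + y') = omul x y + omul x y' := by
  coord8

theorem smul_omul (c : F) (x y : Fin 4 ⊕ Fin 4 → F) : omul (c • x) y = c • omul x y := by
  coord8

theorem omul_smul (c : F) (x y : Fin 4 ⊕ Fin 4 → F) : omul x (c • y) = c • omul x y := by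
  coord8

theorem one_omul (x : Fin 4 ⊕ Fin 4 → F) : omul (one8 F) x = x := by
  apply ext8 <;>
  simp [omul_l0, omul_l1, omul_l2, omul_l3, omul_r0, omul_r1, omul_r2, omul_r3, one8]

theorem omul_one (x : Fin 4 ⊕ Fin 4 → F) : omul x (one8 F) = x := by
  apply ext8 <;>
  simp [omul_l0, omul_l1, omul_l2, omul_l3, omul_r0, omul_r1, omul_r2, omul_r3, one8]

theorem oconj_oconj (x : Fin 4 ⊕ Fin 4 → F) : oconj (oconj x) = x := by
  coord8

theorem oconj_omul (x y : Fin 4 ⊕ Fin 4 → F) : oconj (omul x y) = omul (oconj y) (oconj x) := by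
  coord8

/-- `x̄ (x y) = N(x) y`. -/
theorem oconj_omul_omul (x y : Fin 4 ⊕ Fin 4 → F) :
    omul (oconj x) (omul x y) = plusForm 4 F x • y := by
  coord8

/-- `x (x̄ y) = N(x) y`. -/
theorem omul_oconj_omul (x y : Fin 4 ⊕ Fin 4 → F) :
    omul x (omul (oconj x) y) = plusForm 4 F x • y := by
  coord8

/-- `(y x) x̄ = N(x) y`. -/
theorem omul_omul_oconj (x y : Fin 4 ⊕ Fin 4 → F) :
    omul (omul y x) (oconj x) = plusForm 4 F x • y := by
  coord8

/-- `(y x̄) x = N(x) y`. -/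
theorem omul_oconj_omul' (x y : Fin 4 ⊕ Fin 4 → F) :
    omul (omul y (oconj x)) x = plusForm 4 F x • y := by
  coord8

/-- The middle Moufang identity `(a (x y)) a = (a x) (y a)`. -/
theorem moufang (a x y : Fin 4 ⊕ Fin 4 → F) :
    omul (omul a (omul x y)) a = omul (omul a x) (omul y a) := by
  coord8

/-- The reflection in terms of the octonion product. -/
theorem omul_oconj_omul_self (a x : Fin 4 ⊕ Fin 4 → F) :
    omul (omul a (oconj x)) a = polar (plusForm 4 F) a x • a - plusForm 4 F a • x := by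
  coord8

end Cfsg.Agent.ClassicalGeometry.TrialityOct
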