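import Mathlib
import Cfsg.Agent.ClassicalGeometry.TrialityOct
import Cfsg.Agent.LieClassical.OrthSimple
import Cfsg.Agent.ClassicalGeometry.OrthAut1

/-!
# Triality for the group `E Q` generated by the Siegel transformations, `Q = plusForm 4 F`
-/

set_option autoImplicit false

namespace Cfsg.Agent.ClassicalGeometry.Triality

open QuadraticMap Cfsg.Agent.LieClassical.QuadForms Cfsg.Agent.LieClassical.OrthCore
  Cfsg.Agent.LieClassical.OrthTrans Cfsg.Agent.LieClassical.OrthSimple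
  Cfsg.Agent.ClassicalGeometry.TrialityOct Cfsg.Agent.ClassicalGeometry.OrthAut1
open scoped commutatorElement

variable {F : Type*} [Field F]

/-- The space of octonions. -/
abbrev V8 (F : Type*) : Type _ := Fin 4 ⊕ Fin 4 → F

theorem nondeg8 : Nondeg (plusForm 4 F) := fun x hx => polar_plusForm_nondeg 4 x hx

/-! ### The nucleus -/

theorem scalar_of_assoc {c : V8 F} (h : ∀ x y : V8 F, omul x (omul c y) = omul (omul x c) y) :
    c = c (.inl 0) • one8 F := by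
  have h3 := congrFun (h (Pi.single (.inl 0) 1) (Pi.single (.inl 1) 1)) (.inr 2)
  have h2 := congrFun (h (Pi.single (.inl 0) 1) (Pi.single (.inl 1) 1)) (.inr 3)
  have h1 := congrFun (h (Pi.single (.inl 0) 1) (Pi.single (.inl 2) 1)) (.inr 3)
  have k3 := congrFun (h (Pi.single (.inl 0) 1) (Pi.single (.inr 1) 1)) (.inl 2)
  have k2 := congrFun (h (Pi.single (.inl 0) 1) (Pi.single (.inr 1) 1)) (.inl 3)
  have k1 := congrFun (h (Pi.single (.inl 0) 1) (Pi.single (.inr 2) 1)) (.inl 3)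
  have k0 := congrFun (h (Pi.single (.inl 1) 1) (Pi.single (.inl 2) 1)) (.inr 3)
  simp only [omul_l0, omul_l1, omul_l2, omul_l3, omul_r0, omul_r1, omul_r2, omul_r3,
    Pi.single_apply] at h1 h2 h3 k0 k1 k2 k3
  simp at h1 h2 h3 k0 k1 k2 k3
  apply ext8 <;> simp [one8, h1, h2.symm, h3, k0, k1, k2, k3]

/-! ### Triality triples -/

/-- `(g, g₁, g₂)` is a triality triple: `g (x y) = g₁ x · g₂ y`. -/
def Tri (g g₁ g₂ : V8 F ≃ₗ[F] V8 F) : Prop := ∀ x y, g (omul x y) = omul (g₁ x) (g₂ y)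

theorem Tri.mul {g g₁ g₂ h h₁ h₂ : V8 F ≃ₗ[F] V8 F} (hg : Tri g g₁ g₂) (hh : Tri h h₁ h₂) :
    Tri (g * h) (g₁ * h₁) (g₂ * h₂) := by
  intro x y
  show g (h (omul x y)) = omul (g₁ (h₁ x)) (g₂ (h₂ y))
  rw [hh, hg]

theorem Tri.one : Tri (1 : V8 F ≃ₗ[F] V8 F) 1 1 := fun _ _ => rfl

theorem Tri.inv {g g₁ g₂ : V8 F ≃ₗ[F] V8 F} (hg : Tri g g₁ g₂) : Tri g⁻¹ g₁⁻¹ g₂⁻¹ := by
  intro x y
  have h := hg (g₁⁻¹ x) (g₂⁻¹ y)
  have e1 : g₁ (g₁⁻¹ x) = x := g₁.apply_symm_apply x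
  have e2 : g₂ (g₂⁻¹ y) = y := g₂.apply_symm_apply y
  rw [e1, e2] at h
  show g.symm (omul x y) = _
  rw [LinearEquiv.symm_apply_eq, h]

theorem norm_one8 : plusForm 4 F (one8 F) = 1 := by
  rw [norm8]; simp [one8]

/-- The group of triality triples of isometries. -/
def triGroup (F : Type*) [Field F] :
    Subgroup ((V8 F ≃ₗ[F] V8 F) × (V8 F ≃ₗ[F] V8 F) × (V8 F ≃ₗ[F] V8 F)) where
  carrier := {t | (t.1 ∈ O (plusForm 4 F) ∧ t.2.1 ∈ O (plusForm 4 F) ∧ t.2.2 ∈ O (plusForm 4 F)) ∧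
    Tri t.1 t.2.1 t.2.2}
  mul_mem' ha hb := ⟨⟨mul_mem ha.1.1 hb.1.1, mul_mem ha.1.2.1 hb.1.2.1,
    mul_mem ha.1.2.2 hb.1.2.2⟩, ha.2.mul hb.2⟩
  one_mem' := ⟨⟨one_mem _, one_mem _, one_mem _⟩, Tri.one⟩
  inv_mem' ha := ⟨⟨inv_mem ha.1.1, inv_mem ha.1.2.1, inv_mem ha.1.2.2⟩, ha.2.inv⟩

theorem mem_triGroup {g g₁ g₂ : V8 F ≃ₗ[F] V8 F} : (g, g₁, g₂) ∈ triGroup F ↔
    (g ∈ O (plusForm 4 F) ∧ g₁ ∈ O (plusForm 4 F) ∧ g₂ ∈ O (plusForm 4 F)) ∧ Tri g g₁ g₂ := Iff.rfl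

/-! ### The triples attached to products of two reflections -/

theorem refl_eq {a : V8 F} (ha : plusForm 4 F a ≠ 0) (x : V8 F) :
    refl (plusForm 4 F) a ha x = (-(plusForm 4 F a)⁻¹) • omul (omul a (oconj x)) a := by
  rw [refl_apply, omul_oconj_omul_self, smul_sub, smul_smul, smul_smul, neg_mul,
    neg_mul, inv_mul_cancel₀ ha]
  module

/-- Left multiplication by a vector of norm `c`, followed by division by `c`. -/
def lin1 (c : F) (a b : V8 F) : V8 F →ₗ[F] V8 F where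
  toFun x := c⁻¹ • omul a (omul (oconj b) x)
  map_add' x y := by rw [omul_add, omul_add, smul_add]
  map_smul' r x := by rw [omul_smul, omul_smul, smul_comm, RingHom.id_apply]

def lin2 (c : F) (a b : V8 F) : V8 F →ₗ[F] V8 F where
  toFun x := c⁻¹ • omul (omul x (oconj b)) a
  map_add' x y := by rw [add_omul, add_omul, smul_add]
  map_smul' r x := by rw [smul_omul, smul_omul, smul_comm, RingHom.id_apply]

theorem lin1_lin1 {c : F} {a b : V8 F} (hc : c ≠ 0) (ha : plusForm 4 F a = c)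
    (hb : plusForm 4 F b = c) (x : V8 F) : lin1 c b a (lin1 c a b x) = x := by
  show c⁻¹ • omul b (omul (oconj a) (c⁻¹ • omul a (omul (oconj b) x))) = x
  rw [omul_smul, oconj_omul_omul, smul_smul, ha, inv_mul_cancel₀ hc, one_smul,
    omul_oconj_omul, smul_smul, hb, inv_mul_cancel₀ hc, one_smul]

theorem lin2_lin2 {c : F} {a b : V8 F} (hc : c ≠ 0) (ha : plusForm 4 F a = c)
    (hb : plusForm 4 F b = c) (x : V8 F) : lin2 c b a (lin2 c a b x) = x := by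
  show c⁻¹ • omul (omul (c⁻¹ • omul (omul x (oconj b)) a) (oconj a)) b = x
  rw [smul_omul, omul_omul_oconj, smul_smul, ha, inv_mul_cancel₀ hc, one_smul,
    omul_oconj_omul', smul_smul, hb, inv_mul_cancel₀ hc, one_smul]

/-- The second member of the triple of `r_a r_b`. -/
def tri1 {c : F} {a b : V8 F} (hc : c ≠ 0) (ha : plusForm 4 F a = c)
    (hb : plusForm 4 F b = c) : V8 F ≃ₗ[F] V8 F :=
  LinearEquiv.ofLinearMap (lin1 c a b) (lin1 c b a)
    (LinearMap.ext fun x => lin1_lin1 hc hb ha x) (LinearMap.ext fun x => lin1_lin1 hc ha hb x)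

def tri2 {c : F} {a b : V8 F} (hc : c ≠ 0) (ha : plusForm 4 F a = c)
    (hb : plusForm 4 F b = c) : V8 F ≃ₗ[F] V8 F :=
  LinearEquiv.ofLinearMap (lin2 c a b) (lin2 c b a)
    (LinearMap.ext fun x => lin2_lin2 hc hb ha x) (LinearMap.ext fun x => lin2_lin2 hc ha hb x)

theorem tri1_apply {c : F} {a b : V8 F} (hc : c ≠ 0) (ha : plusForm 4 F a = c)
    (hb : plusForm 4 F b = c) (x : V8 F) :
    tri1 hc ha hb x = c⁻¹ • omul a (omul (oconj b) x) := rfl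

theorem tri2_apply {c : F} {a b : V8 F} (hc : c ≠ 0) (ha : plusForm 4 F a = c)
    (hb : plusForm 4 F b = c) (x : V8 F) :
    tri2 hc ha hb x = c⁻¹ • omul (omul x (oconj b)) a := rfl

theorem tri1_mem {c : F} {a b : V8 F} (hc : c ≠ 0) (ha : plusForm 4 F a = c)
    (hb : plusForm 4 F b = c) : tri1 hc ha hb ∈ O (plusForm 4 F) := by
  intro x
  rw [tri1_apply, QuadraticMap.map_smul, norm_omul, norm_omul, norm_oconj, ha, hb, smul_eq_mul]
  field_simp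

theorem tri2_mem {c : F} {a b : V8 F} (hc : c ≠ 0) (ha : plusForm 4 F a = c)
    (hb : plusForm 4 F b = c) : tri2 hc ha hb ∈ O (plusForm 4 F) := by
  intro x
  rw [tri2_apply, QuadraticMap.map_smul, norm_omul, norm_omul, norm_oconj, ha, hb, smul_eq_mul]
  field_simp

theorem flex_conj (b z : V8 F) : omul (omul (oconj b) z) (oconj b)
    = oconj (omul (omul b (oconj z)) b) := by
  coord8

theorem refl_mul_refl_apply {c : F} {a b : V8 F} (ha : plusForm 4 F a = c)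
    (hb : plusForm 4 F b = c) (ha' : plusForm 4 F a ≠ 0) (hb' : plusForm 4 F b ≠ 0) (z : V8 F) :
    (refl (plusForm 4 F) a ha' * refl (plusForm 4 F) b hb') z
      = (c⁻¹ * c⁻¹) • omul (omul a (omul (omul (oconj b) z) (oconj b))) a := by
  show refl (plusForm 4 F) a ha' (refl (plusForm 4 F) b hb' z) = _
  rw [refl_eq, refl_eq, ha, hb, flex_conj]
  have h : oconj ((-c⁻¹) • omul (omul b (oconj z)) b)
      = (-c⁻¹) • oconj (omul (omul b (oconj z)) b) := by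
    coord8
  rw [h, omul_smul, smul_omul, smul_smul, neg_mul_neg]

theorem tri_refl {c : F} {a b : V8 F} (hc : c ≠ 0) (ha : plusForm 4 F a = c)
    (hb : plusForm 4 F b = c) (ha' : plusForm 4 F a ≠ 0) (hb' : plusForm 4 F b ≠ 0) :
    Tri (refl (plusForm 4 F) a ha' * refl (plusForm 4 F) b hb') (tri1 hc ha hb)
      (tri2 hc ha hb) := by
  intro x y
  rw [refl_mul_refl_apply ha hb, tri1_apply, tri2_apply, moufang (oconj b) x y, moufang,
    smul_omul, omul_smul, smul_smul]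

theorem refl_mem_triGroup {a b : V8 F} (ha' : plusForm 4 F a ≠ 0) (hb' : plusForm 4 F b ≠ 0)
    (h : plusForm 4 F a = plusForm 4 F b) :
    refl (plusForm 4 F) a ha' * refl (plusForm 4 F) b hb' ∈ (triGroup F).map (MonoidHom.fst _ _) :=
  ⟨(refl (plusForm 4 F) a ha' * refl (plusForm 4 F) b hb', tri1 ha' rfl h.symm,
    tri2 ha' rfl h.symm), ⟨⟨mul_mem (refl_mem_O _) (refl_mem_O _), tri1_mem ha' rfl h.symm,
      tri2_mem ha' rfl h.symm⟩, tri_refl ha' rfl h.symm ha' hb'⟩, rfl⟩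

/-! ### Siegel transformations as products of two reflections -/

section Siegel

variable {V : Type*} [AddCommGroup V] [Module F V] {Q : QuadraticForm F V}

theorem siegel_eq_refl_mul_refl {u w : V} (hu : Q u = 0) (hw : polar Q u w = 0)
    (hw0 : Q w ≠ 0) (h' : Q (w + (-Q w) • u) ≠ 0) :
    refl Q (w + (-Q w) • u) h' * refl Q w hw0 = siegel Q u w hu hw := by
  have hwu : polar Q w u = 0 := by rw [polar_comm]; exact hw
  have hQ : Q (w + (-Q w) • u) = Q w := by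
    rw [Q_add, QuadraticMap.map_smul, hu, polar_smul_right, hwu]
    simp
  ext x
  show refl Q (w + (-Q w) • u) h' (refl Q w hw0 x) = siegel Q u w hu hw x
  simp only [refl_apply, siegel_apply, hQ, polar_sub_right, polar_smul_right, polar_add_left,
    polar_smul_left, polar_self', hw, smul_eq_mul]
  match_scalars
  · ring
  · field_simp
    ring
  · field_simp
    ring

theorem siegel_eq_of_add_smul {u w : V} {t : F} (hu : Q u = 0) (hw : polar Q u w = 0)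
    (hw' : polar Q u (w + t • u) = 0) :
    siegel Q u (w + t • u) hu hw' = siegel Q u w hu hw := by
  have hwu : polar Q w u = 0 := by rw [polar_comm]; exact hw
  have hQ : Q (w + t • u) = Q w := by
    rw [Q_add, QuadraticMap.map_smul, hu, polar_smul_right, hwu]
    simp
  ext x
  simp only [siegel_apply, hQ, polar_add_left, polar_smul_left, smul_eq_mul]
  module

/-- A subgroup containing all `r_a r_b` with `Q a = Q b` contains all Siegel transformations. -/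
theorem E_le_of_refl_mul_refl (hG : Good Q) {D : Subgroup (V ≃ₗ[F] V)}
    (hD : ∀ (a b : V) (ha : Q a ≠ 0) (hb : Q b ≠ 0), Q a = Q b → refl Q a ha * refl Q b hb ∈ D) :
    E Q ≤ D := by
  have hns : ∀ {u w : V} (hu : Q u = 0) (hw : polar Q u w = 0), Q w ≠ 0 →
      siegel Q u w hu hw ∈ D := by
    intro u w hu hw hw0
    have hwu : polar Q w u = 0 := by rw [polar_comm]; exact hw
    have hQ : Q (w + (-Q w) • u) = Q w := by
      rw [Q_add, QuadraticMap.map_smul, hu, polar_smul_right, hwu]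
      simp
    have h' : Q (w + (-Q w) • u) ≠ 0 := by rw [hQ]; exact hw0
    rw [← siegel_eq_refl_mul_refl hu hw hw0 h']
    exact hD _ _ _ _ hQ
  rw [E, Subgroup.closure_le]
  rintro _ ⟨u, w, hu, hw, rfl⟩
  by_cases hw0 : Q w ≠ 0
  · exact hns hu hw hw0
  push Not at hw0
  by_cases hu0 : u = 0
  · have : siegel Q u w hu hw = 1 := by
      ext v
      rw [siegel_apply, hu0]
      simp
    rw [this]
    exact one_mem D
  obtain ⟨u', hu'⟩ := Cfsg.Agent.LieClassical.OrthTrans.exists_hyp hG.nondeg hu hu0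
  -- make `w` orthogonal to `u'`
  set w1 := w + (-polar Q u' w) • u with hw1
  have huw1 : polar Q u w1 = 0 := by
    rw [hw1, polar_add_right, polar_smul_right, hw, hu'.polar_left]; simp
  have hu'w1 : polar Q u' w1 = 0 := by
    rw [hw1, polar_add_right, polar_smul_right, hu'.pair']; simp
  have hQw1 : Q w1 = 0 := by
    rw [hw1, Q_add, QuadraticMap.map_smul, hu, hw0, polar_smul_right, polar_comm Q w u, hw]
    simp
  have hsame : siegel Q u w hu hw = siegel Q u w1 hu huw1 :=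
    (siegel_eq_of_add_smul hu hw huw1).symm
  rw [hsame]
  by_cases hw10 : w1 = 0
  · have : siegel Q u w1 hu huw1 = 1 := by
      ext v
      rw [siegel_apply, hw10]
      simp
    rw [this]
    exact one_mem D
  obtain ⟨w', hw', huw', hu'w'⟩ := exists_hyp_perp hG.nondeg hu' hQw1 hw10 huw1 hu'w1
  obtain ⟨a, c, ⟨ha1, ha2, ha3, ha4⟩, ⟨hc1, hc2, hc3, hc4⟩, hac⟩ :=
    exists_perp4 hG.nondeg hG.dim hu' hw' huw1 huw' hu'w1 hu'w'
  obtain ⟨z, hz0, huz, hw1z⟩ : ∃ z, Q z ≠ 0 ∧ polar Q u z = 0 ∧ polar Q w1 z = 0 := by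
    rcases exists_nonsing hac with h | h | h
    · exact ⟨a, h, ha1, ha3⟩
    · exact ⟨c, h, hc1, hc3⟩
    · exact ⟨a + c, h, by rw [polar_add_right, ha1, hc1, add_zero],
        by rw [polar_add_right, ha3, hc3, add_zero]⟩
  have h1 : polar Q u (w1 + z) = 0 := by rw [polar_add_right, huw1, huz, add_zero]
  have h2 : polar Q u (-z) = 0 := by rw [polar_neg_right, huz, neg_zero]
  have h3 : polar Q u ((w1 + z) + -z) = 0 := by rw [add_neg_cancel_right]; exact huw1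
  have h4 : siegel Q u w1 hu huw1 = siegel Q u ((w1 + z) + -z) hu h3 := by
    congr 1
    abel
  rw [h4, ← siegel_mul hu h1 h2 h3]
  refine mul_mem (hns hu h1 ?_) (hns hu h2 ?_)
  · rw [Q_add, hQw1, hw1z, zero_add, add_zero]
    exact hz0
  · rw [QuadraticMap.map_neg]
    exact hz0

end Siegel

theorem E_le_map_fst (hG : Good (plusForm 4 F)) :
    E (plusForm 4 F) ≤ (triGroup F).map (MonoidHom.fst _ _) :=
  E_le_of_refl_mul_refl hG fun _ _ ha hb h => refl_mem_triGroup ha hb h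

/-! ### Cyclic symmetry of triples -/

/-- Conjugation as an isometry. -/
def kap (F : Type*) [Field F] : V8 F ≃ₗ[F] V8 F where
  toFun := oconj
  map_add' x y := by
    coord8
  map_smul' c x := by
    rw [RingHom.id_apply]
    coord8
  invFun := oconj
  left_inv := oconj_oconj
  right_inv := oconj_oconj

theorem kap_apply (x : V8 F) : kap F x = oconj x := rfl

theorem kap_mem : kap F ∈ O (plusForm 4 F) := fun x => norm_oconj x

theorem kap_mul_kap : kap F * kap F = 1 := by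
  apply LinearEquiv.ext
  intro x
  exact oconj_oconj x

theorem kap_inv : (kap F)⁻¹ = kap F := inv_eq_of_mul_eq_one_left kap_mul_kap

theorem polar_omul (w x z : V8 F) :
    polar (plusForm 4 F) (omul w x) z = polar (plusForm 4 F) w (omul z (oconj x)) := by
  simp only [polar8, omul_l0, omul_l1, omul_l2, omul_l3, omul_r0, omul_r1, omul_r2, omul_r3,
    oconj_l0, oconj_l1, oconj_l2, oconj_l3, oconj_r0, oconj_r1, oconj_r2, oconj_r3]
  ring

/-- `g₁ (z x̄) = g z · conj (g₂ x)`. -/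
theorem Tri.rot' {g g₁ g₂ : V8 F ≃ₗ[F] V8 F} (hg : Tri g g₁ g₂) (h : g ∈ O (plusForm 4 F))
    (h₁ : g₁ ∈ O (plusForm 4 F)) (z x : V8 F) :
    g₁ (omul z (oconj x)) = omul (g z) (oconj (g₂ x)) := by
  have key : ∀ w, polar (plusForm 4 F) (g₁ w) (g₁ (omul z (oconj x)))
      = polar (plusForm 4 F) (g₁ w) (omul (g z) (oconj (g₂ x))) := by
    intro w
    rw [polar_map h₁, ← polar_omul, ← polar_omul, ← hg, polar_map h]
  have h3 : g₁ (omul z (oconj x)) - omul (g z) (oconj (g₂ x)) = 0 := by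
    apply nondeg8
    intro y
    obtain ⟨w, rfl⟩ := g₁.surjective y
    rw [polar_comm, polar_sub_right, key, sub_self]
  exact sub_eq_zero.1 h3

theorem Tri.rot {g g₁ g₂ : V8 F ≃ₗ[F] V8 F} (hg : Tri g g₁ g₂) (h : g ∈ O (plusForm 4 F))
    (h₁ : g₁ ∈ O (plusForm 4 F)) :
    Tri (kap F * g₁ * kap F) g₂ (kap F * g * kap F) := by
  intro x y
  show oconj (g₁ (oconj (omul x y))) = omul (g₂ x) (oconj (g (oconj y)))
  rw [oconj_omul, hg.rot' h h₁, oconj_omul, oconj_oconj]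

theorem rot_mem {g g₁ g₂ : V8 F ≃ₗ[F] V8 F} (h : (g, g₁, g₂) ∈ triGroup F) :
    (kap F * g₁ * kap F, g₂, kap F * g * kap F) ∈ triGroup F :=
  ⟨⟨mul_mem (mul_mem kap_mem h.1.2.1) kap_mem, h.1.2.2, mul_mem (mul_mem kap_mem h.1.1) kap_mem⟩,
    h.2.rot h.1.1 h.1.2.1⟩

theorem kap_conj_conj (g : V8 F ≃ₗ[F] V8 F) : kap F * (kap F * g * kap F) * kap F = g := by
  have : kap F * (kap F * g * kap F) * kap F = (kap F * kap F) * g * (kap F * kap F) := by group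
  rw [this, kap_mul_kap, one_mul, mul_one]

theorem kap_conj_mem {g : V8 F ≃ₗ[F] V8 F} (hg : g ∈ E (plusForm 4 F)) :
    kap F * g * kap F ∈ E (plusForm 4 F) := by
  have := conj_mem_E (kap_mem (F := F)) hg
  rwa [kap_inv] at this

theorem E_le_map_trd (hG : Good (plusForm 4 F)) :
    E (plusForm 4 F) ≤ (triGroup F).map ((MonoidHom.snd _ _).comp (MonoidHom.snd _ _)) := by
  intro g hg
  obtain ⟨⟨t, t₁, t₂⟩, ht, h⟩ := E_le_map_fst hG (kap_conj_mem hg)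
  have h' : t = kap F * g * kap F := h
  subst h'
  refine ⟨_, rot_mem ht, ?_⟩
  exact kap_conj_conj g

theorem E_le_map_snd (hG : Good (plusForm 4 F)) :
    E (plusForm 4 F) ≤ (triGroup F).map ((MonoidHom.fst _ _).comp (MonoidHom.snd _ _)) := by
  intro g hg
  obtain ⟨⟨t, t₁, t₂⟩, ht, h⟩ := E_le_map_trd hG hg
  have h' : t₂ = g := h
  subst h'
  exact ⟨_, rot_mem ht, rfl⟩

/-! ### Lifting to `E` -/

theorem map_commutator_eq (hG : Good (plusForm 4 F))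
    (f : ((V8 F ≃ₗ[F] V8 F) × (V8 F ≃ₗ[F] V8 F) × (V8 F ≃ₗ[F] V8 F)) →* (V8 F ≃ₗ[F] V8 F))
    (h1 : E (plusForm 4 F) ≤ (triGroup F).map f) (h2 : (triGroup F).map f ≤ O (plusForm 4 F)) :
    (⁅triGroup F, triGroup F⁆).map f = E (plusForm 4 F) := by
  rw [Subgroup.map_commutator]
  apply le_antisymm
  · exact (Subgroup.commutator_mono h2 h2).trans hG.commutator_le_E
  · nth_rewrite 1 [← hG.E_perfect]
    exact Subgroup.commutator_mono h1 h1

theorem map_fst_eq (hG : Good (plusForm 4 F)) :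
    (⁅triGroup F, triGroup F⁆).map (MonoidHom.fst _ _) = E (plusForm 4 F) := by
  apply map_commutator_eq hG _ (E_le_map_fst hG)
  rintro _ ⟨t, ht, rfl⟩
  exact ht.1.1

theorem map_snd_eq (hG : Good (plusForm 4 F)) :
    (⁅triGroup F, triGroup F⁆).map ((MonoidHom.fst _ _).comp (MonoidHom.snd _ _))
      = E (plusForm 4 F) := by
  apply map_commutator_eq hG _ (E_le_map_snd hG)
  rintro _ ⟨t, ht, rfl⟩
  exact ht.1.2.1

theorem map_trd_eq (hG : Good (plusForm 4 F)) :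
    (⁅triGroup F, triGroup F⁆).map ((MonoidHom.snd _ _).comp (MonoidHom.snd _ _))
      = E (plusForm 4 F) := by
  apply map_commutator_eq hG _ (E_le_map_trd hG)
  rintro _ ⟨t, ht, rfl⟩
  exact ht.1.2.2

/-- The triality triples inside `E`. -/
def TriE (g g₁ g₂ : V8 F ≃ₗ[F] V8 F) : Prop :=
  (g ∈ E (plusForm 4 F) ∧ g₁ ∈ E (plusForm 4 F) ∧ g₂ ∈ E (plusForm 4 F)) ∧ Tri g g₁ g₂

theorem triE_of_mem (hG : Good (plusForm 4 F)) {g g₁ g₂ : V8 F ≃ₗ[F] V8 F}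
    (h : (g, g₁, g₂) ∈ ⁅triGroup F, triGroup F⁆) : TriE g g₁ g₂ := by
  refine ⟨⟨?_, ?_, ?_⟩, (Subgroup.commutator_le_self _ h).2⟩
  · rw [← map_fst_eq hG]; exact ⟨_, h, rfl⟩
  · rw [← map_snd_eq hG]; exact ⟨_, h, rfl⟩
  · rw [← map_trd_eq hG]; exact ⟨_, h, rfl⟩

/-- Every element of `E` is the first member of a triality triple in `E`. -/
theorem exists_triple (hG : Good (plusForm 4 F)) {g : V8 F ≃ₗ[F] V8 F}
    (hg : g ∈ E (plusForm 4 F)) : ∃ g₁ g₂, TriE g g₁ g₂ := by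
  rw [← map_fst_eq hG] at hg
  obtain ⟨⟨t, t₁, t₂⟩, ht, rfl⟩ := hg
  exact ⟨t₁, t₂, triE_of_mem hG ht⟩

/-- Every element of `E` is the second member of a triality triple in `E`. -/
theorem exists_triple₁ (hG : Good (plusForm 4 F)) {g₁ : V8 F ≃ₗ[F] V8 F}
    (hg : g₁ ∈ E (plusForm 4 F)) : ∃ g g₂, TriE g g₁ g₂ := by
  rw [← map_snd_eq hG] at hg
  obtain ⟨⟨t, t₁, t₂⟩, ht, rfl⟩ := hg
  exact ⟨t, t₂, triE_of_mem hG ht⟩

/-- Every element of `E` is the third member of a triality triple in `E`. -/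
theorem exists_triple₂ (hG : Good (plusForm 4 F)) {g₂ : V8 F ≃ₗ[F] V8 F}
    (hg : g₂ ∈ E (plusForm 4 F)) : ∃ g g₁, TriE g g₁ g₂ := by
  rw [← map_trd_eq hG] at hg
  obtain ⟨⟨t, t₁, t₂⟩, ht, rfl⟩ := hg
  exact ⟨t, t₁, triE_of_mem hG ht⟩

/-! ### Uniqueness of triples -/

theorem omul_left_cancel {a x y : V8 F} (ha : plusForm 4 F a ≠ 0) (h : omul a x = omul a y) :
    x = y := by
  have h1 := congrArg (omul (oconj a)) h
  rw [oconj_omul_omul, oconj_omul_omul] at h1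
  exact smul_right_injective _ ha h1

theorem nucleus {k₁ k₂ : V8 F ≃ₗ[F] V8 F} (h : ∀ x y, omul x y = omul (k₁ x) (k₂ y)) :
    ∃ c : F, c ≠ 0 ∧ (∀ x, k₁ x = c • x) ∧ ∀ x, k₂ x = c⁻¹ • x := by
  set d := k₂ (one8 F) with hd
  set e := k₁ (one8 F) with he
  have hd1 : ∀ x, omul (k₁ x) d = x := fun x => by rw [hd, ← h, omul_one]
  have he1 : ∀ y, omul e (k₂ y) = y := fun y => by rw [he, ← h, one_omul]
  have hN : plusForm 4 F e * plusForm 4 F d = 1 := by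
    rw [← norm_omul, hd1, norm_one8]
  have hNd : plusForm 4 F d ≠ 0 := right_ne_zero_of_mul_eq_one hN
  have hNe : plusForm 4 F e ≠ 0 := left_ne_zero_of_mul_eq_one hN
  have hk1 : ∀ x, plusForm 4 F d • k₁ x = omul x (oconj d) := fun x => by
    rw [← omul_omul_oconj, hd1]
  have hk1' : ∀ x, k₁ x = omul x e := by
    intro x
    apply smul_right_injective _ hNd
    show plusForm 4 F d • k₁ x = plusForm 4 F d • omul x e
    rw [hk1, ← omul_smul, he, hk1, one_omul]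
  have hassoc : ∀ x y : V8 F, omul x (omul e y) = omul (omul x e) y := by
    intro x y
    rw [h x (omul e y), ← hk1']
    congr 1
    exact omul_left_cancel hNe (he1 _)
  have hsc := scalar_of_assoc hassoc
  set c := e (.inl 0) with hc
  have hc0 : c ≠ 0 := by
    intro h0
    rw [h0, zero_smul] at hsc
    rw [hsc, QuadraticMap.map_zero] at hNe
    exact hNe rfl
  refine ⟨c, hc0, fun x => ?_, fun x => ?_⟩
  · rw [hk1', hsc, omul_smul, omul_one]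
  · have := he1 x
    rw [hsc, smul_omul, one_omul] at this
    rw [← this, smul_smul, inv_mul_cancel₀ hc0, one_smul]
    rw [this]

theorem Tri.unique {g g₁ g₂ h₁ h₂ : V8 F ≃ₗ[F] V8 F} (h : Tri g g₁ g₂) (h' : Tri g h₁ h₂) :
    ∃ c : F, c ≠ 0 ∧ (∀ x, h₁ x = c • g₁ x) ∧ ∀ x, h₂ x = c⁻¹ • g₂ x := by
  have h3 := h'.mul h.inv
  rw [mul_inv_cancel] at h3
  obtain ⟨c, hc0, hc1, hc2⟩ := nucleus (k₁ := h₁ * g₁⁻¹) (k₂ := h₂ * g₂⁻¹) (fun x y => h3 x y)
  refine ⟨c, hc0, fun x => ?_, fun x => ?_⟩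
  · rw [← hc1]
    show _ = h₁ (g₁.symm (g₁ x))
    rw [LinearEquiv.symm_apply_apply]
  · rw [← hc2]
    show _ = h₂ (g₂.symm (g₂ x))
    rw [LinearEquiv.symm_apply_apply]

/-- If the first member of a triple is a scalar, so are the two others. -/
theorem Tri.scalar {g g₁ g₂ : V8 F ≃ₗ[F] V8 F} (h : Tri g g₁ g₂) {c : F} (hc : c ≠ 0)
    (hg : ∀ x, g x = c • x) : (∃ d : F, ∀ x, g₁ x = d • x) ∧ ∃ d : F, ∀ x, g₂ x = d • x := by
  have h' : Tri g (LinearEquiv.smulOfNeZero F (V8 F) c hc) 1 := by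
    intro x y
    show g (omul x y) = omul (c • x) y
    rw [hg, smul_omul]
  obtain ⟨d, -, h1, h2⟩ := h'.unique h
  refine ⟨⟨d * c, fun x => ?_⟩, ⟨d⁻¹, fun x => h2 x⟩⟩
  rw [h1, mul_smul]
  rfl

theorem scalar_ne_zero {g : V8 F ≃ₗ[F] V8 F} {c : F} (hg : ∀ x, g x = c • x) : c ≠ 0 := by
  rintro rfl
  have h1 := hg (one8 F)
  rw [zero_smul] at h1
  have h2 := g.map_eq_zero_iff.1 h1
  have h3 := norm_one8 (F := F)
  rw [h2, QuadraticMap.map_zero] at h3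
  exact zero_ne_one h3

theorem TriE.mul {g g₁ g₂ h h₁ h₂ : V8 F ≃ₗ[F] V8 F} (hg : TriE g g₁ g₂) (hh : TriE h h₁ h₂) :
    TriE (g * h) (g₁ * h₁) (g₂ * h₂) :=
  ⟨⟨mul_mem hg.1.1 hh.1.1, mul_mem hg.1.2.1 hh.1.2.1, mul_mem hg.1.2.2 hh.1.2.2⟩, hg.2.mul hh.2⟩

theorem TriE.inv {g g₁ g₂ : V8 F ≃ₗ[F] V8 F} (hg : TriE g g₁ g₂) : TriE g⁻¹ g₁⁻¹ g₂⁻¹ :=
  ⟨⟨inv_mem hg.1.1, inv_mem hg.1.2.1, inv_mem hg.1.2.2⟩, hg.2.inv⟩

theorem TriE.rot {g g₁ g₂ : V8 F ≃ₗ[F] V8 F} (hg : TriE g g₁ g₂) :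
    TriE (kap F * g₁ * kap F) g₂ (kap F * g * kap F) :=
  ⟨⟨kap_conj_mem hg.1.2.1, hg.1.2.2, kap_conj_mem hg.1.1⟩,
    hg.2.rot (E_le_O hg.1.1) (E_le_O hg.1.2.1)⟩

theorem TriE.scalar₁ {g g₁ g₂ : V8 F ≃ₗ[F] V8 F} (h : TriE g g₁ g₂) {c : F}
    (hg : ∀ x, g₁ x = c • x) : (∃ d : F, ∀ x, g x = d • x) ∧ ∃ d : F, ∀ x, g₂ x = d • x := by
  have hc := scalar_ne_zero hg
  have h1 : ∀ x, (kap F * g₁ * kap F) x = c • x := by
    intro x
    show oconj (g₁ (oconj x)) = c • x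
    rw [hg]
    coord8
  obtain ⟨h2, ⟨d, hd⟩⟩ := h.rot.2.scalar hc h1
  refine ⟨⟨d, fun x => ?_⟩, h2⟩
  have h3 : oconj (g (oconj (oconj x))) = d • oconj x := hd (oconj x)
  rw [oconj_oconj] at h3
  rw [← oconj_oconj (g x), h3]
  coord8

/-! ### From a relation to an automorphism modulo the centre -/

theorem exists_mulAut_of_rel {G : Type*} [Group G] (R : G → G → Prop)
    (hmul : ∀ {a b c d}, R a b → R c d → R (a * c) (b * d)) (hinv : ∀ {a b}, R a b → R a⁻¹ b⁻¹)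
    (htot : ∀ a, ∃ b, R a b) (hsurj : ∀ b, ∃ a, R a b)
    (h1 : ∀ {a b}, R a b → a ∈ Subgroup.center G → b ∈ Subgroup.center G)
    (h2 : ∀ {a b}, R a b → b ∈ Subgroup.center G → a ∈ Subgroup.center G) :
    ∃ τ : MulAut (G ⧸ Subgroup.center G), ∀ a b, R a b →
      τ (a : G ⧸ Subgroup.center G) = (b : G ⧸ Subgroup.center G) := by
  classical
  choose f hf using htot
  have key : ∀ {a b b'}, R a b → R a b' → (b : G ⧸ Subgroup.center G) = b' := by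
    intro a b b' hb hb'
    rw [QuotientGroup.eq]
    have h3 := hmul (hinv hb) hb'
    rw [inv_mul_cancel] at h3
    exact h1 h3 (one_mem _)
  let φ : G →* G ⧸ Subgroup.center G := MonoidHom.mk' (fun a => ((f a : G) : G ⧸ Subgroup.center G))
    (fun a b => by
      rw [← QuotientGroup.mk_mul]
      exact key (hf _) (hmul (hf a) (hf b)))
  have hφ : ∀ {a b}, R a b → φ a = (b : G ⧸ Subgroup.center G) := fun h => key (hf _) h
  let ψ : G ⧸ Subgroup.center G →* G ⧸ Subgroup.center G :=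
    QuotientGroup.lift (Subgroup.center G) φ (fun z hz => by
      rw [MonoidHom.mem_ker, hφ (hf z), QuotientGroup.eq_one_iff]
      exact h1 (hf z) hz)
  have hψ : ∀ {a b}, R a b → ψ (a : G ⧸ Subgroup.center G) = (b : G ⧸ Subgroup.center G) :=
    fun h => hφ h
  have hbij : Function.Bijective ψ := by
    constructor
    · rw [injective_iff_map_eq_one]
      intro x hx
      obtain ⟨a, rfl⟩ := QuotientGroup.mk_surjective x
      rw [hψ (hf a), QuotientGroup.eq_one_iff] at hx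
      rw [QuotientGroup.eq_one_iff]
      exact h2 (hf a) hx
    · intro x
      obtain ⟨b, rfl⟩ := QuotientGroup.mk_surjective x
      obtain ⟨a, ha⟩ := hsurj b
      exact ⟨a, hψ ha⟩
  exact ⟨MulEquiv.ofBijective ψ hbij, fun a b h => hψ h⟩

/-! ### The triality automorphisms of `P Q` -/

theorem exists_tau₁ (hG : Good (plusForm 4 F)) : ∃ τ : MulAut (P (plusForm 4 F)),
    ∀ (g g₁ : ↥(E (plusForm 4 F))) (g₂ : V8 F ≃ₗ[F] V8 F), TriE (g : V8 F ≃ₗ[F] V8 F) g₁ g₂ →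
      τ (g : P (plusForm 4 F)) = (g₁ : P (plusForm 4 F)) := by
  obtain ⟨τ, hτ⟩ := exists_mulAut_of_rel (G := ↥(E (plusForm 4 F)))
    (fun g g₁ => ∃ g₂, TriE (g : V8 F ≃ₗ[F] V8 F) (g₁ : V8 F ≃ₗ[F] V8 F) g₂)
    (by
      rintro a b c d ⟨g₂, hg⟩ ⟨h₂, hh⟩
      exact ⟨_, hg.mul hh⟩)
    (by
      rintro a b ⟨g₂, hg⟩
      exact ⟨_, hg.inv⟩)
    (fun a => by
      obtain ⟨g₁, g₂, h⟩ := exists_triple hG a.2
      exact ⟨⟨g₁, h.1.2.1⟩, g₂, h⟩)
    (fun b => by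
      obtain ⟨g, g₂, h⟩ := exists_triple₁ hG b.2
      exact ⟨⟨g, h.1.1⟩, g₂, h⟩)
    (by
      rintro a b ⟨g₂, h⟩ ha
      obtain ⟨c, hc⟩ := center_scalar hG ha
      obtain ⟨⟨d, hd⟩, -⟩ := h.2.scalar (scalar_ne_zero hc) hc
      exact mem_center_of_scalar hd)
    (by
      rintro a b ⟨g₂, h⟩ hb
      obtain ⟨c, hc⟩ := center_scalar hG hb
      obtain ⟨⟨d, hd⟩, -⟩ := h.scalar₁ hc
      exact mem_center_of_scalar hd)
  exact ⟨τ, fun g g₁ g₂ h => hτ g g₁ ⟨g₂, h⟩⟩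

theorem exists_tau₂ (hG : Good (plusForm 4 F)) : ∃ τ : MulAut (P (plusForm 4 F)),
    ∀ (g g₂ : ↥(E (plusForm 4 F))) (g₁ : V8 F ≃ₗ[F] V8 F), TriE (g : V8 F ≃ₗ[F] V8 F) g₁ g₂ →
      τ (g : P (plusForm 4 F)) = (g₂ : P (plusForm 4 F)) := by
  obtain ⟨τ, hτ⟩ := exists_mulAut_of_rel (G := ↥(E (plusForm 4 F)))
    (fun g g₂ => ∃ g₁, TriE (g : V8 F ≃ₗ[F] V8 F) g₁ (g₂ : V8 F ≃ₗ[F] V8 F))
    (by
      rintro a b c d ⟨g₂, hg⟩ ⟨h₂, hh⟩
      exact ⟨_, hg.mul hh⟩)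
    (by
      rintro a b ⟨g₂, hg⟩
      exact ⟨_, hg.inv⟩)
    (fun a => by
      obtain ⟨g₁, g₂, h⟩ := exists_triple hG a.2
      exact ⟨⟨g₂, h.1.2.2⟩, g₁, h⟩)
    (fun b => by
      obtain ⟨g, g₁, h⟩ := exists_triple₂ hG b.2
      exact ⟨⟨g, h.1.1⟩, g₁, h⟩)
    (by
      rintro a b ⟨g₁, h⟩ ha
      obtain ⟨c, hc⟩ := center_scalar hG ha
      obtain ⟨-, ⟨d, hd⟩⟩ := h.2.scalar (scalar_ne_zero hc) hc
      exact mem_center_of_scalar hd)
    (by
      rintro a b ⟨g₁, h⟩ hb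
      obtain ⟨c, hc⟩ := center_scalar hG hb
      obtain ⟨-, ⟨d, hd⟩⟩ := h.rot.scalar₁ hc
      have hd' : ∀ x, (a : V8 F ≃ₗ[F] V8 F) x = d • x := by
        intro x
        have h3 : oconj ((a : V8 F ≃ₗ[F] V8 F) (oconj (oconj x))) = d • oconj x := hd (oconj x)
        rw [oconj_oconj] at h3
        rw [← oconj_oconj ((a : V8 F ≃ₗ[F] V8 F) x), h3]
        coord8
      exact mem_center_of_scalar hd')
  exact ⟨τ, fun g g₁ g₂ h => hτ g g₁ ⟨g₂, h⟩⟩

/-! ### The spaces `x𝕆` and `𝕆x` -/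

/-- Left multiplication. -/
def lmul (x : V8 F) : V8 F →ₗ[F] V8 F where
  toFun y := omul x y
  map_add' := omul_add x
  map_smul' c y := omul_smul c x y

/-- Right multiplication. -/
def rmul (x : V8 F) : V8 F →ₗ[F] V8 F where
  toFun y := omul y x
  map_add' y y' := add_omul y y' x
  map_smul' c y := smul_omul c y x

/-- The space `x𝕆`. -/
def xO (x : V8 F) : Submodule F (V8 F) := LinearMap.range (lmul x)

/-- The space `𝕆x`. -/
def Ox (x : V8 F) : Submodule F (V8 F) := LinearMap.range (rmul x)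

theorem mem_xO {x v : V8 F} : v ∈ xO x ↔ ∃ y, omul x y = v := Iff.rfl

theorem mem_Ox {x v : V8 F} : v ∈ Ox x ↔ ∃ y, omul y x = v := Iff.rfl

theorem mapHom_xO {g g₁ g₂ : V8 F ≃ₗ[F] V8 F} (h : Tri g g₁ g₂) (x : V8 F) :
    mapHom g (xO x) = xO (g₁ x) := by
  ext v
  rw [mem_mapHom, mem_xO]
  constructor
  · rintro ⟨_, ⟨y, rfl⟩, rfl⟩
    exact ⟨g₂ y, (h x y).symm⟩
  · rintro ⟨y, rfl⟩
    obtain ⟨y, rfl⟩ := g₂.surjective y
    exact ⟨omul x y, ⟨y, rfl⟩, h x y⟩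

theorem mapHom_Ox {g g₁ g₂ : V8 F ≃ₗ[F] V8 F} (h : Tri g g₁ g₂) (x : V8 F) :
    mapHom g (Ox x) = Ox (g₂ x) := by
  ext v
  rw [mem_mapHom, mem_Ox]
  constructor
  · rintro ⟨_, ⟨y, rfl⟩, rfl⟩
    exact ⟨g₁ y, (h y x).symm⟩
  · rintro ⟨y, rfl⟩
    obtain ⟨y, rfl⟩ := g₁.surjective y
    exact ⟨omul y x, ⟨y, rfl⟩, h y x⟩

/-- A primitive idempotent. -/
def e8 (F : Type*) [Field F] : V8 F := Pi.single (.inl 0) 1

theorem norm_e8 : plusForm 4 F (e8 F) = 0 := by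
  rw [norm8]; simp [e8]

theorem e8_ne : e8 F ≠ 0 := by
  intro h
  have := congrFun h (.inl 0)
  simp [e8] at this

theorem apply_inr_of_mem_xO_e8 {v : V8 F} (h : v ∈ xO (e8 F)) (i : Fin 4) : v (.inr i) = 0 := by
  obtain ⟨y, rfl⟩ := h
  show omul (e8 F) y (.inr i) = 0
  fin_cases i
  · show omul (e8 F) y (.inr 0) = 0
    rw [omul_r0]; simp [e8]
  · show omul (e8 F) y (.inr 1) = 0
    rw [omul_r1]; simp [e8]
  · show omul (e8 F) y (.inr 2) = 0
    rw [omul_r2]; simp [e8]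
  · show omul (e8 F) y (.inr 3) = 0
    rw [omul_r3]; simp [e8]

theorem eq_smul_of_xO_le {z : V8 F} (h : xO z ≤ xO (e8 F)) : z = z (.inl 0) • e8 F := by
  have h' : ∀ (y : V8 F) (i : Fin 4), omul z y (.inr i) = 0 :=
    fun y i => apply_inr_of_mem_xO_e8 (h ⟨y, rfl⟩) i
  have a1 := h' (Pi.single (.inl 0) 1) 1
  have a2 := h' (Pi.single (.inl 0) 1) 2
  have a3 := h' (Pi.single (.inl 0) 1) 3
  have a0 := h' (Pi.single (.inr 0) 1) 0
  have b2 := h' (Pi.single (.inl 3) 1) 1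
  have b1 := h' (Pi.single (.inl 3) 1) 2
  have b3 := h' (Pi.single (.inl 2) 1) 1
  rw [omul_r1] at a1 b2 b3
  rw [omul_r2] at a2 b1
  rw [omul_r3] at a3
  rw [omul_r0] at a0
  simp at a0 a1 a2 a3 b1 b2 b3
  apply ext8 <;> simp [e8, a0, a1, a2, a3, b1, b2, b3]

theorem apply_of_mem_Ox_e8 {v : V8 F} (h : v ∈ Ox (e8 F)) :
    v (.inl 1) = 0 ∧ v (.inl 2) = 0 ∧ v (.inl 3) = 0 ∧ v (.inr 0) = 0 := by
  obtain ⟨y, rfl⟩ := h
  refine ⟨?_, ?_, ?_, ?_⟩
  · show omul y (e8 F) (.inl 1) = 0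
    rw [omul_l1]; simp [e8]
  · show omul y (e8 F) (.inl 2) = 0
    rw [omul_l2]; simp [e8]
  · show omul y (e8 F) (.inl 3) = 0
    rw [omul_l3]; simp [e8]
  · show omul y (e8 F) (.inr 0) = 0
    rw [omul_r0]; simp [e8]

theorem eq_smul_of_Ox_le {z : V8 F} (h : Ox z ≤ Ox (e8 F)) : z = z (.inl 0) • e8 F := by
  have h' : ∀ (y : V8 F), omul y z (.inl 1) = 0 ∧ omul y z (.inl 2) = 0 ∧ omul y z (.inl 3) = 0 ∧
      omul y z (.inr 0) = 0 := fun y => apply_of_mem_Ox_e8 (h ⟨y, rfl⟩)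
  have a1 := (h' (Pi.single (.inl 0) 1)).1
  have a2 := (h' (Pi.single (.inl 0) 1)).2.1
  have a3 := (h' (Pi.single (.inl 0) 1)).2.2.1
  have a0 := (h' (Pi.single (.inr 0) 1)).2.2.2
  have b3 := (h' (Pi.single (.inr 2) 1)).1
  have b2 := (h' (Pi.single (.inr 1) 1)).2.2.1
  have b1 := (h' (Pi.single (.inr 2) 1)).2.2.1
  rw [omul_l1] at a1 b3
  rw [omul_l2] at a2
  rw [omul_l3] at a3 b1 b2
  rw [omul_r0] at a0
  simp at a0 a1 a2 a3 b1 b2 b3
  apply ext8 <;> simp [e8, a0, a1, a2, a3, b1, b2, b3]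

theorem xO_smul {c : F} (hc : c ≠ 0) (x : V8 F) : xO (c • x) = xO x := by
  ext v
  rw [mem_xO, mem_xO]
  constructor
  · rintro ⟨y, rfl⟩
    exact ⟨c • y, by rw [smul_omul, omul_smul]⟩
  · rintro ⟨y, rfl⟩
    exact ⟨c⁻¹ • y, by rw [smul_omul, omul_smul, smul_smul, mul_inv_cancel₀ hc, one_smul]⟩

theorem Ox_smul {c : F} (hc : c ≠ 0) (x : V8 F) : Ox (c • x) = Ox x := by
  ext v
  rw [mem_Ox, mem_Ox]
  constructor
  · rintro ⟨y, rfl⟩
    exact ⟨c • y, by rw [smul_omul, omul_smul]⟩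
  · rintro ⟨y, rfl⟩
    exact ⟨c⁻¹ • y, by rw [smul_omul, omul_smul, smul_smul, inv_mul_cancel₀ hc, one_smul]⟩

theorem span_eq_span_iff {x z : V8 F} (_hx : x ≠ 0) :
    Submodule.span F {z} = Submodule.span F {x} ↔ ∃ c : F, c ≠ 0 ∧ z = c • x := by
  rw [eq_comm, Submodule.span_singleton_eq_span_singleton]
  constructor
  · rintro ⟨u, rfl⟩
    exact ⟨u, u.ne_zero, rfl⟩
  · rintro ⟨c, hc, rfl⟩
    exact ⟨Units.mk0 c hc, rfl⟩

theorem xO_eq_iff (hG : Good (plusForm 4 F)) {x z : V8 F} (hx : plusForm 4 F x = 0) (hx0 : x ≠ 0)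
    (hz0 : z ≠ 0) : xO z = xO x ↔ Submodule.span F {z} = Submodule.span F {x} := by
  rw [span_eq_span_iff hx0]
  constructor
  · intro h
    obtain ⟨k, hk, rfl⟩ := hG.trans_sing norm_e8 hx e8_ne hx0
    obtain ⟨g, g₂, ht⟩ := exists_triple₁ hG hk
    obtain ⟨z, rfl⟩ := k.surjective z
    rw [← mapHom_xO ht.2, ← mapHom_xO ht.2] at h
    have h1 := eq_smul_of_xO_le ((mapHom g).injective h).le
    refine ⟨z (.inl 0), ?_, ?_⟩
    · intro h0
      rw [h0, zero_smul] at h1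
      exact hz0 (by rw [h1, map_zero])
    · conv_lhs => rw [h1, map_smul]
  · rintro ⟨c, hc, rfl⟩
    exact xO_smul hc x

theorem Ox_eq_iff (hG : Good (plusForm 4 F)) {x z : V8 F} (hx : plusForm 4 F x = 0) (hx0 : x ≠ 0)
    (hz0 : z ≠ 0) : Ox z = Ox x ↔ Submodule.span F {z} = Submodule.span F {x} := by
  rw [span_eq_span_iff hx0]
  constructor
  · intro h
    obtain ⟨k, hk, rfl⟩ := hG.trans_sing norm_e8 hx e8_ne hx0
    obtain ⟨g, g₁, ht⟩ := exists_triple₂ hG hk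
    obtain ⟨z, rfl⟩ := k.surjective z
    rw [← mapHom_Ox ht.2, ← mapHom_Ox ht.2] at h
    have h1 := eq_smul_of_Ox_le ((mapHom g).injective h).le
    refine ⟨z (.inl 0), ?_, ?_⟩
    · intro h0
      rw [h0, zero_smul] at h1
      exact hz0 (by rw [h1, map_zero])
    · conv_lhs => rw [h1, map_smul]
  · rintro ⟨c, hc, rfl⟩
    exact Ox_smul hc x

/-- The triality automorphism maps the stabiliser of `x𝕆` onto the stabiliser of `⟨x⟩`. -/
theorem exists_tau_xO (hG : Good (plusForm 4 F)) : ∃ τ : MulAut (P (plusForm 4 F)),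
    ∀ x : V8 F, plusForm 4 F x = 0 → x ≠ 0 →
      (stab hG (xO x)).map τ.toMonoidHom = stab hG (Submodule.span F {x}) := by
  obtain ⟨τ, hτ⟩ := exists_tau₁ hG
  refine ⟨τ, fun x hx hx0 => ?_⟩
  have key : ∀ (g g₁ : ↥(E (plusForm 4 F))) (g₂ : V8 F ≃ₗ[F] V8 F),
      TriE (g : V8 F ≃ₗ[F] V8 F) g₁ g₂ →
      ((g : P (plusForm 4 F)) ∈ stab hG (xO x) ↔
        (g₁ : P (plusForm 4 F)) ∈ stab hG (Submodule.span F {x})) := by
    intro g g₁ g₂ h
    rw [mem_stab, mem_stab, pact_mk, pact_mk, mapHom_xO h.2, mapHom_span]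
    exact xO_eq_iff hG hx hx0 (fun h0 => hx0 ((g₁ : V8 F ≃ₗ[F] V8 F).map_eq_zero_iff.1 h0))
  ext p
  constructor
  · rintro ⟨q, hq, rfl⟩
    obtain ⟨g, rfl⟩ := QuotientGroup.mk_surjective q
    obtain ⟨g₁, g₂, h⟩ := exists_triple hG g.2
    show τ (g : P (plusForm 4 F)) ∈ _
    rw [hτ g ⟨g₁, h.1.2.1⟩ g₂ h]
    exact (key g ⟨g₁, h.1.2.1⟩ g₂ h).1 hq
  · intro hp
    obtain ⟨g₁, rfl⟩ := QuotientGroup.mk_surjective p
    obtain ⟨g, g₂, h⟩ := exists_triple₁ hG g₁.2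
    exact ⟨((⟨g, h.1.1⟩ : ↥(E (plusForm 4 F))) : P (plusForm 4 F)),
      (key ⟨g, h.1.1⟩ g₁ g₂ h).2 hp, hτ ⟨g, h.1.1⟩ g₁ g₂ h⟩

/-- The second triality automorphism maps the stabiliser of `𝕆x` onto the stabiliser of `⟨x⟩`. -/
theorem exists_tau_Ox (hG : Good (plusForm 4 F)) : ∃ τ : MulAut (P (plusForm 4 F)),
    ∀ x : V8 F, plusForm 4 F x = 0 → x ≠ 0 →
      (stab hG (Ox x)).map τ.toMonoidHom = stab hG (Submodule.span F {x}) := by
  obtain ⟨τ, hτ⟩ := exists_tau₂ hG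
  refine ⟨τ, fun x hx hx0 => ?_⟩
  have key : ∀ (g g₂ : ↥(E (plusForm 4 F))) (g₁ : V8 F ≃ₗ[F] V8 F),
      TriE (g : V8 F ≃ₗ[F] V8 F) g₁ g₂ →
      ((g : P (plusForm 4 F)) ∈ stab hG (Ox x) ↔
        (g₂ : P (plusForm 4 F)) ∈ stab hG (Submodule.span F {x})) := by
    intro g g₂ g₁ h
    rw [mem_stab, mem_stab, pact_mk, pact_mk, mapHom_Ox h.2, mapHom_span]
    exact Ox_eq_iff hG hx hx0 (fun h0 => hx0 ((g₂ : V8 F ≃ₗ[F] V8 F).map_eq_zero_iff.1 h0))
  ext p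
  constructor
  · rintro ⟨q, hq, rfl⟩
    obtain ⟨g, rfl⟩ := QuotientGroup.mk_surjective q
    obtain ⟨g₁, g₂, h⟩ := exists_triple hG g.2
    show τ (g : P (plusForm 4 F)) ∈ _
    rw [hτ g ⟨g₂, h.1.2.2⟩ g₁ h]
    exact (key g ⟨g₂, h.1.2.2⟩ g₁ h).1 hq
  · intro hp
    obtain ⟨g₂, rfl⟩ := QuotientGroup.mk_surjective p
    obtain ⟨g, g₁, h⟩ := exists_triple₂ hG g₂.2
    exact ⟨((⟨g, h.1.1⟩ : ↥(E (plusForm 4 F))) : P (plusForm 4 F)),
      (key ⟨g, h.1.1⟩ g₂ g₁ h).2 hp, hτ ⟨g, h.1.1⟩ g₂ g₁ h⟩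

end Cfsg.Agent.ClassicalGeometry.Triality
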