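/-
Witt's lemma for quadratic forms with non-degenerate polar form, over any field (any
characteristic).  Main results: `extend_family` (extension of an isometry given on a linearly
independent family) and `extend` (extension of an isometry between subspaces).
-/
import Mathlib

set_option autoImplicit false

namespace Cfsg.Agent.ClassicalGeometry.WittQuad

variable {F V : Type*} [Field F] [AddCommGroup V] [Module F V]

/-- the polar form written additively -/
theorem form_add (Q : QuadraticForm F V) (u v : V) :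
    Q (u + v) = Q u + Q v + QuadraticMap.polarBilin Q u v := by
  rw [QuadraticMap.map_add Q, QuadraticMap.polarBilin_apply_apply]

theorem form_smul (Q : QuadraticForm F V) (a : F) (u : V) : Q (a • u) = a * a * Q u := by
  rw [QuadraticMap.map_smul, smul_eq_mul]

theorem polar_comm' (Q : QuadraticForm F V) (u v : V) :
    QuadraticMap.polarBilin Q u v = QuadraticMap.polarBilin Q v u := by
  rw [QuadraticMap.polarBilin_apply_apply, QuadraticMap.polarBilin_apply_apply,
    QuadraticMap.polar_comm]

theorem polar_self' (Q : QuadraticForm F V) (u : V) :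
    QuadraticMap.polarBilin Q u u = 2 * Q u := by
  rw [QuadraticMap.polarBilin_apply_apply, QuadraticMap.polar_self, nsmul_eq_mul]
  norm_num

/-- a map preserving `Q` preserves the polar form -/
theorem polar_map (Q : QuadraticForm F V) (g : V → V) (hadd : ∀ u v, g (u + v) = g u + g v)
    (h : ∀ v, Q (g v) = Q v) (u v : V) :
    QuadraticMap.polarBilin Q (g u) (g v) = QuadraticMap.polarBilin Q u v := by
  have h1 := form_add Q (g u) (g v)
  rw [← hadd, h, h, h, form_add] at h1
  linear_combination -h1

/-- a linear map preserving `Q` is a linear equivalence. -/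
theorem exists_equiv [FiniteDimensional F V] (Q : QuadraticForm F V)
    (hQ : (QuadraticMap.polarBilin Q).Nondegenerate) (g₀ : V →ₗ[F] V)
    (h : ∀ v, Q (g₀ v) = Q v) : ∃ g : V ≃ₗ[F] V, (∀ v, Q (g v) = Q v) ∧ ∀ v, g v = g₀ v := by
  have hinj : Function.Injective g₀ := by
    rw [← LinearMap.ker_eq_bot, LinearMap.ker_eq_bot']
    intro v hv
    apply hQ.1 v
    intro u
    rw [← polar_map Q g₀ (map_add g₀) h, hv, map_zero, LinearMap.zero_apply]
  exact ⟨LinearEquiv.ofInjectiveEndo g₀ hinj, h, fun v => rfl⟩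

/-- the non-degenerate polar form represents every linear functional. -/
theorem exists_orthogonal [FiniteDimensional F V] (Q : QuadraticForm F V)
    (hQ : (QuadraticMap.polarBilin Q).Nondegenerate) {W : Submodule F V} {x : V} (hx : x ∉ W) :
    ∃ u : V, QuadraticMap.polarBilin Q u x = 1 ∧ ∀ w ∈ W, QuadraticMap.polarBilin Q u w = 0 := by
  obtain ⟨f, hf, hW⟩ := Submodule.exists_le_ker_of_notMem hx
  let e := LinearMap.BilinForm.toDual (QuadraticMap.polarBilin Q) hQ
  have he : ∀ (φ : Module.Dual F V) (v : V), QuadraticMap.polarBilin Q (e.symm φ) v = φ v :=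
    fun φ v => LinearMap.BilinForm.apply_toDual_symm_apply (hB := hQ) φ v
  refine ⟨e.symm ((f x)⁻¹ • f), ?_, ?_⟩
  · rw [he, LinearMap.smul_apply, smul_eq_mul, inv_mul_cancel₀ hf]
  · intro w hw
    rw [he, LinearMap.smul_apply, show f w = 0 from hW hw, smul_zero]

/-- Reflection step: if `Q x = Q y`, `x - y ⊥ H` and `y - x` is non-singular, then some isometry
fixes `H` and moves `x` to `y`. -/
theorem step_reflection [FiniteDimensional F V] (Q : QuadraticForm F V)
    (hQ : (QuadraticMap.polarBilin Q).Nondegenerate) (H : Submodule F V) (x y : V)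
    (hQxy : Q x = Q y)
    (hB : ∀ h ∈ H, QuadraticMap.polarBilin Q x h = QuadraticMap.polarBilin Q y h)
    (hw : Q (y - x) ≠ 0) :
    ∃ g : V ≃ₗ[F] V, (∀ v, Q (g v) = Q v) ∧ (∀ h ∈ H, g h = h) ∧ g x = y := by
  set w := y - x with hwdef
  have hyx : y = x + w := by rw [hwdef]; abel
  let g₀ : V →ₗ[F] V := LinearMap.id -
    ((Q w)⁻¹ • (QuadraticMap.polarBilin Q w)).smulRight w
  have hg₀ : ∀ v, g₀ v = v + (-((Q w)⁻¹ * QuadraticMap.polarBilin Q w v)) • w := by
    intro v
    simp [g₀, sub_eq_add_neg]
  have hiso : ∀ v, Q (g₀ v) = Q v := by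
    intro v
    rw [hg₀, form_add, form_smul, map_smul, smul_eq_mul, polar_comm' Q v w]
    field_simp
    ring
  obtain ⟨g, hg, hgg⟩ := exists_equiv Q hQ g₀ hiso
  refine ⟨g, hg, ?_, ?_⟩
  · intro h hh
    rw [hgg, hg₀]
    have : QuadraticMap.polarBilin Q w h = 0 := by
      rw [hwdef, map_sub, LinearMap.sub_apply, hB h hh, sub_self]
    rw [this]; simp
  · rw [hgg, hg₀]
    have : QuadraticMap.polarBilin Q w x = - Q w := by
      rw [hyx, form_add, polar_comm' Q x w] at hQxy
      linear_combination -hQxy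
    rw [this]
    have h1 : -((Q w)⁻¹ * -Q w) = 1 := by field_simp
    rw [h1, one_smul, hyx]

/-- One-step extension: if `x, y ∉ H`, `Q x = Q y` and `x, y` have the same products with `H`, then
some isometry fixes `H` pointwise and maps `x` to `y`. -/
theorem step [FiniteDimensional F V] (Q : QuadraticForm F V)
    (hQ : (QuadraticMap.polarBilin Q).Nondegenerate) (H : Submodule F V) (x y : V)
    (hx : x ∉ H) (hy : y ∉ H) (hQxy : Q x = Q y)
    (hB : ∀ h ∈ H, QuadraticMap.polarBilin Q x h = QuadraticMap.polarBilin Q y h) :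
    ∃ g : V ≃ₗ[F] V, (∀ v, Q (g v) = Q v) ∧ (∀ h ∈ H, g h = h) ∧ g x = y := by
  by_cases hw : Q (y - x) = 0
  swap
  · exact step_reflection Q hQ H x y hQxy hB hw
  set w := y - x with hwdef
  have hyx : y = x + w := by rw [hwdef]; abel
  have hwH : ∀ h ∈ H, QuadraticMap.polarBilin Q w h = 0 := by
    intro h hh
    rw [hwdef, map_sub, LinearMap.sub_apply, hB h hh, sub_self]
  have hwx : QuadraticMap.polarBilin Q w x = 0 := by
    rw [hyx, form_add, polar_comm' Q x w, hw] at hQxy
    linear_combination -hQxy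
  by_cases hxH : x ∈ H ⊔ Submodule.span F {w}
  · -- scaling case
    obtain ⟨h₀, hh₀, z, hz, hsum⟩ := Submodule.mem_sup.mp hxH
    obtain ⟨a, rfl⟩ := Submodule.mem_span_singleton.mp hz
    have ha : a ≠ 0 := by
      rintro rfl
      apply hx
      rw [← hsum, zero_smul, add_zero]; exact hh₀
    have ha1 : a + 1 ≠ 0 := by
      intro h
      apply hy
      have : y = h₀ + (a + 1) • w := by rw [hyx, ← hsum, add_smul, one_smul, add_assoc]
      rw [this, h, zero_smul, add_zero]; exact hh₀
    have hwnH : w ∉ H := by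
      intro h
      apply hx
      rw [← hsum]
      exact H.add_mem hh₀ (H.smul_mem _ h)
    obtain ⟨u, huw, huH⟩ := exists_orthogonal Q hQ hwnH
    obtain ⟨u', hu'w, hu'Q, hu'H⟩ : ∃ u' : V, QuadraticMap.polarBilin Q u' w = 1 ∧ Q u' = 0 ∧
        ∀ h ∈ H, QuadraticMap.polarBilin Q u' h = 0 := by
      refine ⟨u + (-Q u) • w, ?_, ?_, ?_⟩
      · rw [map_add, map_smul, LinearMap.add_apply, LinearMap.smul_apply, huw, polar_self', hw]
        simp
      · rw [form_add, form_smul, map_smul, huw, hw]; simp
      · intro h hh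
        rw [map_add, map_smul, LinearMap.add_apply, LinearMap.smul_apply, huH h hh, hwH h hh]
        simp
    have hwu' : QuadraticMap.polarBilin Q w u' = 1 := by rw [polar_comm']; exact hu'w
    have hc : (a + 1) / a ≠ 0 := div_ne_zero ha1 ha
    obtain ⟨g₁, hg₁, hg₁H, hg₁w⟩ := step_reflection Q hQ H w u' (by rw [hw, hu'Q])
      (fun h hh => by rw [hwH h hh, hu'H h hh]) (by
        have : u' - w = u' + (-1 : F) • w := by rw [neg_smul, one_smul, sub_eq_add_neg]
        rw [this, form_add, form_smul, map_smul, hu'w, hw, hu'Q]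
        simp)
    obtain ⟨g₂, hg₂, hg₂H, hg₂w⟩ := step_reflection Q hQ H u' (((a + 1) / a) • w)
      (by rw [form_smul, hw, hu'Q, mul_zero])
      (fun h hh => by rw [map_smul, LinearMap.smul_apply, hwH h hh, hu'H h hh, smul_zero]) (by
        have : ((a + 1) / a) • w - u' = ((a + 1) / a) • w + (-1 : F) • u' := by
          rw [neg_smul, one_smul, sub_eq_add_neg]
        rw [this, form_add, form_smul, form_smul, map_smul, map_smul, LinearMap.smul_apply,
          hwu', hw, hu'Q]
        simpa using ⟨ha1, ha⟩)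
    refine ⟨g₁.trans g₂, fun v => by rw [LinearEquiv.trans_apply, hg₂, hg₁], fun h hh => by
      rw [LinearEquiv.trans_apply, hg₁H h hh, hg₂H h hh], ?_⟩
    rw [LinearEquiv.trans_apply, ← hsum, map_add, map_smul, hg₁H _ hh₀, hg₁w, map_add, map_smul,
      hg₂H _ hh₀, hg₂w, smul_smul, hyx, ← hsum, mul_div_cancel₀ _ ha, add_smul, one_smul,
      add_assoc]
  · -- Siegel transformation
    obtain ⟨u, hux, huH⟩ := exists_orthogonal Q hQ hxH
    have huw : QuadraticMap.polarBilin Q u w = 0 :=
      huH w (Submodule.mem_sup_right (Submodule.mem_span_singleton_self w))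
    have huH' : ∀ h ∈ H, QuadraticMap.polarBilin Q u h = 0 :=
      fun h hh => huH h (Submodule.mem_sup_left hh)
    let g₀ : V →ₗ[F] V := LinearMap.id + (QuadraticMap.polarBilin Q u).smulRight w
      - (QuadraticMap.polarBilin Q w).smulRight (u + Q u • w)
    have hg₀ : ∀ v, g₀ v = v + ((QuadraticMap.polarBilin Q u v - QuadraticMap.polarBilin Q w v * Q u) • w +
        (-QuadraticMap.polarBilin Q w v) • u) := by
      intro v
      simp only [g₀, LinearMap.sub_apply, LinearMap.add_apply, LinearMap.id_apply,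
        LinearMap.smulRight_apply]
      module
    have hiso : ∀ v, Q (g₀ v) = Q v := by
      intro v
      rw [hg₀]
      simp only [form_add, form_smul, map_add, map_smul, LinearMap.smul_apply, smul_eq_mul]
      rw [polar_comm' Q v w, polar_comm' Q v u, polar_comm' Q w u, huw, hw]
      ring
    obtain ⟨g, hg, hgg⟩ := exists_equiv Q hQ g₀ hiso
    refine ⟨g, hg, ?_, ?_⟩
    · intro h hh
      rw [hgg, hg₀, huH' h hh, hwH h hh]
      simp
    · rw [hgg, hg₀, hux, hwx, hyx]
      simp

/-- **Witt's lemma** for families: an isometry between linearly independent families extends. -/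
theorem extend_family [FiniteDimensional F V] (Q : QuadraticForm F V)
    (hQ : (QuadraticMap.polarBilin Q).Nondegenerate) :
    ∀ (k : ℕ) (x y : Fin k → V), LinearIndependent F x → LinearIndependent F y →
      (∀ i, Q (x i) = Q (y i)) →
      (∀ i j, QuadraticMap.polarBilin Q (x i) (x j) = QuadraticMap.polarBilin Q (y i) (y j)) →
      ∃ g : V ≃ₗ[F] V, (∀ v, Q (g v) = Q v) ∧ ∀ i, g (x i) = y i := by
  intro k
  induction k with
  | zero =>
    intro x y _ _ _ _
    exact ⟨LinearEquiv.refl F V, fun v => rfl, fun i => i.elim0⟩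
  | succ k ih =>
    intro x y hx hy hxy hB
    have hx' := linearIndependent_finSucc'.mp hx
    have hy' := linearIndependent_finSucc'.mp hy
    obtain ⟨g₁, hg₁, hg₁x⟩ := ih (Fin.init x) (Fin.init y) hx'.1 hy'.1 (fun i => hxy i.castSucc)
      (fun i j => hB i.castSucc j.castSucc)
    set H := Submodule.span F (Set.range (Fin.init y)) with hH
    have hmap : ∀ v ∈ Submodule.span F (Set.range (Fin.init x)), g₁ v ∈ H := by
      intro v hv
      have h1 : Submodule.map (g₁ : V →ₗ[F] V) (Submodule.span F (Set.range (Fin.init x))) ≤ H := by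
        rw [Submodule.map_span, Submodule.span_le]
        rintro _ ⟨_, ⟨i, rfl⟩, rfl⟩
        exact Submodule.subset_span ⟨i, (hg₁x i).symm⟩
      exact h1 ⟨v, hv, rfl⟩
    have hmap' : ∀ v ∈ H, g₁.symm v ∈ Submodule.span F (Set.range (Fin.init x)) := by
      intro v hv
      have h1 : Submodule.map (g₁.symm : V →ₗ[F] V) H ≤
          Submodule.span F (Set.range (Fin.init x)) := by
        rw [hH, Submodule.map_span, Submodule.span_le]
        rintro _ ⟨_, ⟨i, rfl⟩, rfl⟩
        exact Submodule.subset_span ⟨i, (g₁.symm_apply_eq.mpr (hg₁x i).symm).symm⟩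
      exact h1 ⟨v, hv, rfl⟩
    have hx0 : g₁ (x (Fin.last k)) ∉ H := by
      intro h
      apply hx'.2
      have := hmap' _ h
      rwa [LinearEquiv.symm_apply_apply] at this
    obtain ⟨g₂, hg₂, hg₂H, hg₂x⟩ := step Q hQ H (g₁ (x (Fin.last k))) (y (Fin.last k)) hx0 hy'.2
      (by rw [hg₁, hxy]) (by
        have hle : H ≤ LinearMap.ker (QuadraticMap.polarBilin Q (g₁ (x (Fin.last k))) -
            QuadraticMap.polarBilin Q (y (Fin.last k))) := by
          rw [hH, Submodule.span_le]
          rintro _ ⟨i, rfl⟩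
          rw [SetLike.mem_coe, LinearMap.mem_ker, LinearMap.sub_apply, ← hg₁x i,
            polar_map Q g₁ (map_add g₁) hg₁, hg₁x i]
          exact sub_eq_zero.mpr (hB (Fin.last k) i.castSucc)
        intro h hh
        have := hle hh
        rw [LinearMap.mem_ker, LinearMap.sub_apply] at this
        exact sub_eq_zero.mp this)
    refine ⟨g₁.trans g₂, fun v => by rw [LinearEquiv.trans_apply, hg₂, hg₁], fun i => ?_⟩
    rw [LinearEquiv.trans_apply]
    refine Fin.lastCases ?_ (fun i => ?_) i
    · exact hg₂x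
    · have : g₁ (x i.castSucc) = y i.castSucc := hg₁x i
      rw [this]
      exact hg₂H _ (Submodule.subset_span ⟨i, rfl⟩)

/-- **Witt's lemma**: any isometry between subspaces of a non-degenerate quadratic space extends
to an isometry of the whole space. -/
theorem extend [FiniteDimensional F V] (Q : QuadraticForm F V)
    (hQ : (QuadraticMap.polarBilin Q).Nondegenerate) (X Y : Submodule F V) (φ : X ≃ₗ[F] Y)
    (hφ : ∀ x : X, Q (φ x : V) = Q (x : V)) :
    ∃ g : V ≃ₗ[F] V, (∀ v : V, Q (g v) = Q v) ∧ ∀ x : X, g (x : V) = (φ x : V) := by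
  let b := Module.finBasis F X
  have hx : LinearIndependent F (fun i => (b i : V)) :=
    b.linearIndependent.map' X.subtype (Submodule.ker_subtype X)
  have hy : LinearIndependent F (fun i => (φ (b i) : V)) := by
    have h1 : LinearIndependent F (fun i => φ (b i)) :=
      b.linearIndependent.map' (φ : X →ₗ[F] Y) φ.ker
    exact h1.map' Y.subtype (Submodule.ker_subtype Y)
  obtain ⟨g, hg, hgx⟩ := extend_family Q hQ _ (fun i => (b i : V)) (fun i => (φ (b i) : V)) hx hy
    (fun i => (hφ _).symm) (fun i j => by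
      have h1 := form_add Q (φ (b i) : V) (φ (b j) : V)
      have h2 := form_add Q (b i : V) (b j : V)
      have h3 := hφ (b i + b j)
      rw [map_add, Submodule.coe_add, Submodule.coe_add] at h3
      rw [hφ, hφ] at h1
      linear_combination h1 - h2 - h3)
  refine ⟨g, hg, ?_⟩
  have : (g : V →ₗ[F] V) ∘ₗ X.subtype = Y.subtype ∘ₗ (φ : X →ₗ[F] Y) :=
    b.ext (fun i => hgx i)
  intro x
  exact LinearMap.congr_fun this x

end Cfsg.Agent.ClassicalGeometry.WittQuad
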