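import Mathlib
import Cfsg.Agent.ClassicalGeometry.TrialityOct
import Cfsg.Agent.ClassicalGeometry.WittQuad
import Cfsg.Agent.LieClassical.OrthCore

/-!
# Totally singular 4-spaces of the split octonions

Every totally singular subspace of dimension 4 of the hyperbolic form `plusForm 4 F` is
`x𝕆` or `𝕆x` for a nonzero singular `x`, and the two families are disjoint.
-/

set_option autoImplicit false

namespace Cfsg.Agent.ClassicalGeometry.TrialitySpaces

open QuadraticMap Cfsg.Agent.LieClassical.QuadForms Cfsg.Agent.ClassicalGeometry.TrialityOct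
  Cfsg.Agent.LieClassical.OrthCore

variable {F : Type*} [Field F]

/-- Left multiplication. -/
def leftMul (x : Fin 4 ⊕ Fin 4 → F) : (Fin 4 ⊕ Fin 4 → F) →ₗ[F] (Fin 4 ⊕ Fin 4 → F) where
  toFun := omul x
  map_add' := omul_add x
  map_smul' c y := omul_smul c x y

/-- Right multiplication. -/
def rightMul (x : Fin 4 ⊕ Fin 4 → F) : (Fin 4 ⊕ Fin 4 → F) →ₗ[F] (Fin 4 ⊕ Fin 4 → F) where
  toFun y := omul y x
  map_add' y z := add_omul y z x
  map_smul' c y := smul_omul c y x

/-- The space `x𝕆`. -/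
def leftSp (x : Fin 4 ⊕ Fin 4 → F) : Submodule F (Fin 4 ⊕ Fin 4 → F) := LinearMap.range (leftMul x)

/-- The space `𝕆x`. -/
def rightSp (x : Fin 4 ⊕ Fin 4 → F) : Submodule F (Fin 4 ⊕ Fin 4 → F) :=
  LinearMap.range (rightMul x)

theorem mem_leftSp {x z : Fin 4 ⊕ Fin 4 → F} : z ∈ leftSp x ↔ ∃ y, omul x y = z := Iff.rfl

theorem mem_rightSp {x z : Fin 4 ⊕ Fin 4 → F} : z ∈ rightSp x ↔ ∃ y, omul y x = z := Iff.rfl

theorem omul_zero (x : Fin 4 ⊕ Fin 4 → F) : omul x 0 = 0 := (leftMul x).map_zero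

theorem zero_omul (x : Fin 4 ⊕ Fin 4 → F) : omul 0 x = 0 := (rightMul x).map_zero

theorem self_mem_leftSp (x : Fin 4 ⊕ Fin 4 → F) : x ∈ leftSp x := ⟨one8 F, omul_one x⟩

theorem self_mem_rightSp (x : Fin 4 ⊕ Fin 4 → F) : x ∈ rightSp x := ⟨one8 F, one_omul x⟩

theorem leftSp_sing {x : Fin 4 ⊕ Fin 4 → F} (hx : plusForm 4 F x = 0) :
    ∀ z ∈ leftSp x, plusForm 4 F z = 0 := by
  rintro _ ⟨y, rfl⟩
  show plusForm 4 F (omul x y) = 0
  rw [norm_omul, hx, zero_mul]

theorem rightSp_sing {x : Fin 4 ⊕ Fin 4 → F} (hx : plusForm 4 F x = 0) :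
    ∀ z ∈ rightSp x, plusForm 4 F z = 0 := by
  rintro _ ⟨y, rfl⟩
  show plusForm 4 F (omul y x) = 0
  rw [norm_omul, hx, mul_zero]

theorem polarBilin_nondegenerate : (polarBilin (plusForm 4 F)).Nondegenerate := by
  constructor
  · intro u hu
    exact polar_plusForm_nondeg 4 u hu
  · intro u hu
    refine polar_plusForm_nondeg 4 u fun v => ?_
    rw [polar_comm]
    exact hu v

/-- A totally singular subspace has dimension at most four. -/
theorem finrank_le_four {W : Submodule F (Fin 4 ⊕ Fin 4 → F)} (hW : ∀ w ∈ W, plusForm 4 F w = 0) :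
    Module.finrank F W ≤ 4 := by
  have h1 : W ≤ LinearMap.BilinForm.orthogonal (polarBilin (plusForm 4 F)) W := by
    intro w hw
    rw [LinearMap.BilinForm.mem_orthogonal_iff]
    intro v hv
    show polarBilin (plusForm 4 F) v w = 0
    rw [polarBilin_apply_apply, polar, hW _ (W.add_mem hv hw), hW v hv, hW w hw]
    simp
  have h2 := LinearMap.BilinForm.finrank_orthogonal (polarBilin_nondegenerate (F := F)) W
  have h3 := Submodule.finrank_mono h1
  have h4 : Module.finrank F (Fin 4 ⊕ Fin 4 → F) = 8 := by simp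
  omega

theorem ker_leftMul_sing {x : Fin 4 ⊕ Fin 4 → F} (h0 : x ≠ 0) :
    ∀ z ∈ LinearMap.ker (leftMul x), plusForm 4 F z = 0 := by
  intro z hz
  have h1 : omul x z = 0 := hz
  have h2 := omul_omul_oconj z x
  rw [h1, zero_omul] at h2
  by_contra hne
  exact h0 ((smul_eq_zero.mp h2.symm).resolve_left hne)

theorem ker_rightMul_sing {x : Fin 4 ⊕ Fin 4 → F} (h0 : x ≠ 0) :
    ∀ z ∈ LinearMap.ker (rightMul x), plusForm 4 F z = 0 := by
  intro z hz
  have h1 : omul z x = 0 := hz
  have h2 := oconj_omul_omul z x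
  rw [h1, omul_zero] at h2
  by_contra hne
  exact h0 ((smul_eq_zero.mp h2.symm).resolve_left hne)

theorem finrank_leftSp {x : Fin 4 ⊕ Fin 4 → F} (hx : plusForm 4 F x = 0) (h0 : x ≠ 0) :
    Module.finrank F (leftSp x) = 4 := by
  have h1 := finrank_le_four (leftSp_sing hx)
  have h2 := finrank_le_four (ker_leftMul_sing h0)
  have h3 := LinearMap.finrank_range_add_finrank_ker (leftMul x)
  have h4 : Module.finrank F (Fin 4 ⊕ Fin 4 → F) = 8 := by simp
  have h5 : Module.finrank F (leftSp x) = Module.finrank F (LinearMap.range (leftMul x)) := rfl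
  omega

theorem finrank_rightSp {x : Fin 4 ⊕ Fin 4 → F} (hx : plusForm 4 F x = 0) (h0 : x ≠ 0) :
    Module.finrank F (rightSp x) = 4 := by
  have h1 := finrank_le_four (rightSp_sing hx)
  have h2 := finrank_le_four (ker_rightMul_sing h0)
  have h3 := LinearMap.finrank_range_add_finrank_ker (rightMul x)
  have h4 : Module.finrank F (Fin 4 ⊕ Fin 4 → F) = 8 := by simp
  have h5 : Module.finrank F (rightSp x) = Module.finrank F (LinearMap.range (rightMul x)) := rfl
  omega

/-- `(x z) ȳ + (x y) z̄ = f(z, y) x`. -/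
theorem omul_lin (x y z : Fin 4 ⊕ Fin 4 → F) :
    omul (omul x z) (oconj y) + omul (omul x y) (oconj z) = polar (plusForm 4 F) z y • x := by
  coord8

/-- The two families are disjoint. -/
theorem leftSp_ne_rightSp {x y : Fin 4 ⊕ Fin 4 → F} (hx : plusForm 4 F x = 0) (hx0 : x ≠ 0)
    (hy : plusForm 4 F y = 0) (hy0 : y ≠ 0) : leftSp x ≠ rightSp y := by
  intro h
  -- `(x z) ȳ = 0` for all `z`
  have h1 : ∀ z, omul (omul x z) (oconj y) = 0 := by
    intro z
    have hz : omul x z ∈ rightSp y := by rw [← h]; exact ⟨z, rfl⟩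
    obtain ⟨w, hw⟩ := hz
    have hw' : omul w y = omul x z := hw
    rw [← hw', omul_omul_oconj, hy, zero_smul]
  have h2 : ∀ z, omul (omul x y) (oconj z) = polar (plusForm 4 F) z y • x := by
    intro z
    have := omul_lin x y z
    rwa [h1, zero_add] at this
  have h3 : omul x y = polar (plusForm 4 F) (one8 F) y • x := by
    have := h2 (one8 F)
    have h4 : oconj (one8 F) = one8 F := by
      apply ext8 <;> simp [oconj, one8]
    rwa [h4, omul_one] at this
  set t := polar (plusForm 4 F) (one8 F) y with ht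
  have h5 : ∀ z, t • omul x (oconj z) = polar (plusForm 4 F) z y • x := by
    intro z
    rw [← h2 z, h3, smul_omul]
  by_cases h0 : t = 0
  · apply hy0
    apply polar_plusForm_nondeg 4 y
    intro z
    have := h5 z
    rw [h0, zero_smul] at this
    rw [polar_comm]
    exact (smul_eq_zero.mp this.symm).resolve_right hx0
  · -- then `x𝕆 ⊆ F x`
    have h6 : leftSp x ≤ Submodule.span F {x} := by
      rintro _ ⟨z, rfl⟩
      have h7 := h5 (oconj z)
      rw [oconj_oconj] at h7
      have h8 : omul x z = (t⁻¹ * polar (plusForm 4 F) (oconj z) y) • x := by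
        rw [← smul_smul, ← h7, smul_smul, inv_mul_cancel₀ h0, one_smul]
      show omul x z ∈ _
      rw [h8]
      exact Submodule.smul_mem _ _ (Submodule.mem_span_singleton_self x)
    have h9 := Submodule.finrank_mono h6
    rw [finrank_leftSp hx hx0, finrank_span_singleton hx0] at h9
    omega

/-- A subspace of one of the two types. -/
def IsOct (W : Submodule F (Fin 4 ⊕ Fin 4 → F)) : Prop :=
  ∃ x, plusForm 4 F x = 0 ∧ x ≠ 0 ∧ (W = leftSp x ∨ W = rightSp x)

theorem omul_ne_zero_of_norm_ne {a x : Fin 4 ⊕ Fin 4 → F} (ha : plusForm 4 F a ≠ 0) (hx : x ≠ 0) :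
    omul a x ≠ 0 := by
  intro h
  have := oconj_omul_omul a x
  rw [h, omul_zero] at this
  exact hx ((smul_eq_zero.mp this.symm).resolve_left ha)

theorem omul_ne_zero_of_norm_ne' {a x : Fin 4 ⊕ Fin 4 → F} (ha : plusForm 4 F a ≠ 0) (hx : x ≠ 0) :
    omul x a ≠ 0 := by
  intro h
  have := omul_omul_oconj a x
  rw [h, zero_omul] at this
  exact hx ((smul_eq_zero.mp this.symm).resolve_left ha)

theorem oconj_ne_zero {x : Fin 4 ⊕ Fin 4 → F} (hx : x ≠ 0) : oconj x ≠ 0 := by
  intro h
  apply hx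
  rw [← oconj_oconj x, h]
  apply ext8 <;> simp [oconj]

/-- The reflection in `a` in terms of the product. -/
theorem refl_apply_oct {a : Fin 4 ⊕ Fin 4 → F} (ha : plusForm 4 F a ≠ 0) (x : Fin 4 ⊕ Fin 4 → F) :
    refl (plusForm 4 F) a ha x = -(plusForm 4 F a)⁻¹ • omul (omul a (oconj x)) a := by
  rw [refl_apply, omul_oconj_omul_self, smul_sub, smul_smul, smul_smul, neg_mul, neg_mul,
    inv_mul_cancel₀ ha]
  module

theorem refl_leftSp {a : Fin 4 ⊕ Fin 4 → F} (ha : plusForm 4 F a ≠ 0) {x : Fin 4 ⊕ Fin 4 → F}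
    (hx : plusForm 4 F x = 0) (h0 : x ≠ 0) :
    (leftSp x).map (refl (plusForm 4 F) a ha).toLinearMap = rightSp (omul (oconj x) a) := by
  have hs : plusForm 4 F (omul (oconj x) a) = 0 := by rw [norm_omul, norm_oconj, hx, zero_mul]
  have hn : omul (oconj x) a ≠ 0 := omul_ne_zero_of_norm_ne' ha (oconj_ne_zero h0)
  apply Submodule.eq_of_le_of_finrank_eq
  · rintro _ ⟨_, ⟨y, rfl⟩, rfl⟩
    show refl (plusForm 4 F) a ha (omul x y) ∈ _
    rw [refl_apply_oct, oconj_omul, moufang]
    exact Submodule.smul_mem _ _ ⟨omul a (oconj y), rfl⟩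
  · rw [finrank_rightSp hs hn]
    exact (LinearEquiv.finrank_map_eq (refl (plusForm 4 F) a ha) (leftSp x)).trans
      (finrank_leftSp hx h0)

theorem refl_rightSp {a : Fin 4 ⊕ Fin 4 → F} (ha : plusForm 4 F a ≠ 0) {x : Fin 4 ⊕ Fin 4 → F}
    (hx : plusForm 4 F x = 0) (h0 : x ≠ 0) :
    (rightSp x).map (refl (plusForm 4 F) a ha).toLinearMap = leftSp (omul a (oconj x)) := by
  have hs : plusForm 4 F (omul a (oconj x)) = 0 := by rw [norm_omul, norm_oconj, hx, mul_zero]
  have hn : omul a (oconj x) ≠ 0 := omul_ne_zero_of_norm_ne ha (oconj_ne_zero h0)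
  apply Submodule.eq_of_le_of_finrank_eq
  · rintro _ ⟨_, ⟨y, rfl⟩, rfl⟩
    show refl (plusForm 4 F) a ha (omul y x) ∈ _
    rw [refl_apply_oct, oconj_omul, moufang]
    exact Submodule.smul_mem _ _ ⟨omul (oconj y) a, rfl⟩
  · rw [finrank_leftSp hs hn]
    exact (LinearEquiv.finrank_map_eq (refl (plusForm 4 F) a ha) (rightSp x)).trans
      (finrank_rightSp hx h0)

theorem isOct_refl {a : Fin 4 ⊕ Fin 4 → F} (ha : plusForm 4 F a ≠ 0)
    {W : Submodule F (Fin 4 ⊕ Fin 4 → F)} (hW : IsOct W) :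
    IsOct (W.map (refl (plusForm 4 F) a ha).toLinearMap) := by
  obtain ⟨x, hx, h0, rfl | rfl⟩ := hW
  · exact ⟨_, by rw [norm_omul, norm_oconj, hx, zero_mul],
      omul_ne_zero_of_norm_ne' ha (oconj_ne_zero h0), Or.inr (refl_leftSp ha hx h0)⟩
  · exact ⟨_, by rw [norm_omul, norm_oconj, hx, mul_zero],
      omul_ne_zero_of_norm_ne ha (oconj_ne_zero h0), Or.inl (refl_rightSp ha hx h0)⟩

section general

variable {V : Type*} [AddCommGroup V] [Module F V] {Q : QuadraticForm F V}

theorem Q_sub_smul {u w : V} (hu : Q u = 0) (hw : polar Q u w = 0) (c : F) :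
    Q (w + c • u) = Q w := by
  rw [Q_add, QuadraticMap.map_smul, hu, polar_smul_right, polar_comm, hw]
  simp

/-- A Siegel transformation with nonsingular parameter is a product of two reflections. -/
theorem siegel_eq_refl_mul {u w : V} (hu : Q u = 0) (hw : polar Q u w = 0) (hQw : Q w ≠ 0)
    (h' : Q (w + (-Q w) • u) ≠ 0) :
    siegel Q u w hu hw = refl Q (w + (-Q w) • u) h' * refl Q w hQw := by
  ext v
  show siegel Q u w hu hw v = refl Q (w + (-Q w) • u) h' (refl Q w hQw v)
  have hwu : polar Q w u = 0 := by rw [polar_comm]; exact hw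
  rw [siegel_apply, refl_apply, refl_apply, Q_sub_smul hu hw]
  simp only [polar_sub_right, polar_smul_right, polar_add_left, polar_smul_left, polar_self',
    hw, smul_eq_mul, mul_zero, add_zero]
  match_scalars
  · ring
  · field_simp
    ring
  · field_simp
    ring

end general

theorem isOct_mul {g h : (Fin 4 ⊕ Fin 4 → F) ≃ₗ[F] (Fin 4 ⊕ Fin 4 → F)}
    (hg : ∀ W, IsOct W → IsOct (W.map g.toLinearMap))
    (hh : ∀ W, IsOct W → IsOct (W.map h.toLinearMap)) :
    ∀ W, IsOct W → IsOct (W.map (g * h).toLinearMap) := by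
  intro W hW
  have := hg _ (hh _ hW)
  rwa [← Submodule.map_comp] at this

theorem isOct_siegel {u w : Fin 4 ⊕ Fin 4 → F} (hu : plusForm 4 F u = 0)
    (hw : polar (plusForm 4 F) u w = 0) :
    ∀ W, IsOct W → IsOct (W.map (siegel (plusForm 4 F) u w hu hw).toLinearMap) := by
  have key : ∀ {w : Fin 4 ⊕ Fin 4 → F} (hw : polar (plusForm 4 F) u w = 0),
      plusForm 4 F w ≠ 0 →
      ∀ W, IsOct W → IsOct (W.map (siegel (plusForm 4 F) u w hu hw).toLinearMap) := by
    intro w hw hQ
    have h' : plusForm 4 F (w + (-plusForm 4 F w) • u) ≠ 0 := by rwa [Q_sub_smul hu hw]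
    rw [siegel_eq_refl_mul hu hw hQ h']
    exact isOct_mul (fun W => isOct_refl h') (fun W => isOct_refl hQ)
  by_cases hQ : plusForm 4 F w = 0
  · -- choose `a` orthogonal to `u` and `w` with `Q a ≠ 0`
    obtain ⟨a, ha1, ha2, ha3⟩ : ∃ a, polar (plusForm 4 F) u a = 0 ∧ polar (plusForm 4 F) w a = 0 ∧
        plusForm 4 F a ≠ 0 := by
      by_contra hcon
      push Not at hcon
      have h1 := finrank_le_four (W := LinearMap.ker (polarBilin (plusForm 4 F) u) ⊓
        LinearMap.ker (polarBilin (plusForm 4 F) w)) (fun z hz => hcon z hz.1 hz.2)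
      have h2 := LinearMap.finrank_range_add_finrank_ker (polarBilin (plusForm 4 F) u)
      have h3 := LinearMap.finrank_range_add_finrank_ker (polarBilin (plusForm 4 F) w)
      have h4 : Module.finrank F (Fin 4 ⊕ Fin 4 → F) = 8 := by simp
      have h5 := Submodule.finrank_le (LinearMap.range (polarBilin (plusForm 4 F) u))
      have h6 := Submodule.finrank_le (LinearMap.range (polarBilin (plusForm 4 F) w))
      rw [Module.finrank_self] at h5 h6
      have h7 := Submodule.finrank_sup_add_finrank_inf_eq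
        (LinearMap.ker (polarBilin (plusForm 4 F) u)) (LinearMap.ker (polarBilin (plusForm 4 F) w))
      have h8 := Submodule.finrank_le (LinearMap.ker (polarBilin (plusForm 4 F) u) ⊔
        LinearMap.ker (polarBilin (plusForm 4 F) w))
      omega
    have hb1 : polar (plusForm 4 F) u (w + a) = 0 := by rw [polar_add_right, hw, ha1, add_zero]
    have hb2 : plusForm 4 F (w + a) ≠ 0 := by
      rw [Q_add, hQ, ha2, zero_add, add_zero]; exact ha3
    have hc1 : polar (plusForm 4 F) u (-a) = 0 := by rw [polar_neg_right, ha1, neg_zero]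
    have hc2 : plusForm 4 F (-a) ≠ 0 := by rwa [QuadraticMap.map_neg]
    have hd : polar (plusForm 4 F) u ((w + a) + -a) = 0 := by rw [add_neg_cancel_right]; exact hw
    have h1 : siegel (plusForm 4 F) u w hu hw =
        siegel (plusForm 4 F) u (w + a) hu hb1 * siegel (plusForm 4 F) u (-a) hu hc1 := by
      rw [siegel_mul hu hb1 hc1 hd]
      ext v
      rw [siegel_apply, siegel_apply, add_neg_cancel_right]
    rw [h1]
    exact isOct_mul (key hb1 hb2) (key hc1 hc2)
  · exact key hw hQ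

theorem nondeg8 : Nondeg (plusForm 4 F) := fun x h => polar_plusForm_nondeg 4 x h

theorem isOct_of_mem_O {g : (Fin 4 ⊕ Fin 4 → F) ≃ₗ[F] (Fin 4 ⊕ Fin 4 → F)}
    (hg : g ∈ O (plusForm 4 F)) : ∀ W, IsOct W → IsOct (W.map g.toLinearMap) := by
  rw [O_eq_closure nondeg8] at hg
  have hinv : ∀ g : (Fin 4 ⊕ Fin 4 → F) ≃ₗ[F] (Fin 4 ⊕ Fin 4 → F),
      g ∈ Subgroup.closure (reflSet (plusForm 4 F) ∪ siegelSet (plusForm 4 F)) →
      (∀ W, IsOct W → IsOct (W.map g.toLinearMap)) ∧
        (∀ W, IsOct W → IsOct (W.map (g⁻¹).toLinearMap)) := by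
    intro g hg
    induction hg using Subgroup.closure_induction with
    | mem x hx =>
      rcases hx with ⟨v, hv, rfl⟩ | ⟨u, w, hu, hw, rfl⟩
      · refine ⟨fun W => isOct_refl hv, ?_⟩
        rw [refl_inv]
        exact fun W => isOct_refl hv
      · refine ⟨isOct_siegel hu hw, ?_⟩
        have hw' : polar (plusForm 4 F) u (-w) = 0 := by rw [polar_neg_right, hw, neg_zero]
        have h1 : (siegel (plusForm 4 F) u w hu hw)⁻¹ = siegel (plusForm 4 F) u (-w) hu hw' := by
          apply inv_eq_of_mul_eq_one_left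
          have hd : polar (plusForm 4 F) u (-w + w) = 0 := by rw [neg_add_cancel, polar_zero_right]
          rw [siegel_mul hu hw' hw hd]
          ext v
          rw [siegel_apply, neg_add_cancel]
          simp
        rw [h1]
        exact isOct_siegel hu hw'
    | one =>
      rw [inv_one]
      have h1 : ∀ W : Submodule F (Fin 4 ⊕ Fin 4 → F), IsOct W →
          IsOct (W.map (1 : (Fin 4 ⊕ Fin 4 → F) ≃ₗ[F] (Fin 4 ⊕ Fin 4 → F)).toLinearMap) := by
        intro W hW
        have : W.map (1 : (Fin 4 ⊕ Fin 4 → F) ≃ₗ[F] (Fin 4 ⊕ Fin 4 → F)).toLinearMap = W :=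
          Submodule.map_id W
        rwa [this]
      exact ⟨h1, h1⟩
    | mul x y _ _ hx hy =>
      refine ⟨isOct_mul hx.1 hy.1, ?_⟩
      rw [mul_inv_rev]
      exact isOct_mul hy.2 hx.2
    | inv x _ hx =>
      rw [inv_inv]
      exact ⟨hx.2, hx.1⟩
  exact (hinv g hg).1

/-- **Classification of the totally singular 4-spaces.** -/
theorem isOct_of_singular {W : Submodule F (Fin 4 ⊕ Fin 4 → F)} (hW : ∀ w ∈ W, plusForm 4 F w = 0)
    (h4 : Module.finrank F W = 4) : IsOct W := by
  set e : Fin 4 ⊕ Fin 4 → F := Pi.single (.inl 0) 1 with he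
  have he1 : plusForm 4 F e = 0 := by
    rw [norm8]; simp [he]
  have he0 : e ≠ 0 := by
    intro h
    have := congrFun h (.inl 0)
    simp [he] at this
  have hdim : Module.finrank F (leftSp e) = Module.finrank F W := by
    rw [finrank_leftSp he1 he0, h4]
  let φ : leftSp e ≃ₗ[F] W := LinearEquiv.ofFinrankEq _ _ hdim
  obtain ⟨g, hg, hgx⟩ := Cfsg.Agent.ClassicalGeometry.WittQuad.extend (plusForm 4 F)
    polarBilin_nondegenerate (leftSp e) W φ (fun x => by
      rw [hW _ (φ x).2, leftSp_sing he1 _ x.2])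
  have h1 : W = (leftSp e).map g.toLinearMap := by
    apply le_antisymm
    · intro w hw
      refine ⟨(φ.symm ⟨w, hw⟩ : leftSp e), (φ.symm ⟨w, hw⟩).2, ?_⟩
      show g _ = w
      rw [hgx, LinearEquiv.apply_symm_apply]
    · rintro _ ⟨x, hx, rfl⟩
      show g x ∈ W
      have := hgx ⟨x, hx⟩
      rw [this]
      exact (φ ⟨x, hx⟩).2
  rw [h1]
  exact isOct_of_mem_O hg _ ⟨e, he1, he0, Or.inl rfl⟩

end Cfsg.Agent.ClassicalGeometry.TrialitySpaces
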