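import Mathlib
import Cfsg.Agent.ClassicalGeometry.OrthAut1
import Cfsg.Agent.ClassicalGeometry.TrialitySpaces

/-!
# Stabilisers of totally singular subspaces determine the subspace; the index of the group of
automorphisms of `P(Ω₈⁺)` permuting the stabilisers of singular points is three.
-/

set_option autoImplicit false

namespace Cfsg.Agent.ClassicalGeometry.TrialityIndex

open QuadraticMap Cfsg.Agent.LieClassical.OrthCore Cfsg.Agent.LieClassical.OrthTrans
  Cfsg.Agent.LieClassical.OrthSimple Cfsg.Agent.ClassicalGeometry.OrthAut1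

/-! ### Abstract group theory -/

section abstract_index

variable {P : Type*} [Group P]

theorem map_mulAut_mul (α β : MulAut P) (K : Subgroup P) :
    K.map (α * β).toMonoidHom = (K.map β.toMonoidHom).map α.toMonoidHom := by
  rw [Subgroup.map_map]
  rfl

theorem map_mulAut_one (K : Subgroup P) : K.map (1 : MulAut P).toMonoidHom = K :=
  Subgroup.map_id K

theorem map_mulAut_inv (α : MulAut P) (K : Subgroup P) :
    (K.map α.toMonoidHom).map (α⁻¹).toMonoidHom = K := by
  rw [← map_mulAut_mul, inv_mul_cancel, map_mulAut_one]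

theorem map_mulAut_inv' (α : MulAut P) (K : Subgroup P) :
    (K.map (α⁻¹).toMonoidHom).map α.toMonoidHom = K := by
  rw [← map_mulAut_mul, mul_inv_cancel, map_mulAut_one]

theorem mul_conj (α : MulAut P) (p : P) : α * MulAut.conj p = MulAut.conj (α p) * α := by
  ext q
  simp [MulAut.conj_apply]

/-- Abstract counting argument: three families of subgroups permuted by the automorphisms. -/
theorem index_three (IsPt IsL IsR : Subgroup P → Prop)
    (hdich : ∀ (α : MulAut P) (K : Subgroup P), IsPt K →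
      IsPt (K.map α.toMonoidHom) ∨ IsL (K.map α.toMonoidHom) ∨ IsR (K.map α.toMonoidHom))
    (htrans : ∀ K K' : Subgroup P, IsPt K → IsPt K' →
      ∃ p : P, K.map (MulAut.conj p).toMonoidHom = K')
    (hconj : ∀ (K : Subgroup P) (p : P), IsPt K → IsPt (K.map (MulAut.conj p).toMonoidHom))
    (hconjL : ∀ (K : Subgroup P) (p : P), IsL K → IsL (K.map (MulAut.conj p).toMonoidHom))
    (hexL : ∃ K, IsL K) (hexR : ∃ K, IsR K)
    (τ τ' : MulAut P) (hτ : ∀ K, IsL K → IsPt (K.map τ.toMonoidHom))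
    (hτ' : ∀ K, IsR K → IsPt (K.map τ'.toMonoidHom))
    (hPL : ∀ K, IsPt K → ¬ IsL K) (hPR : ∀ K, IsPt K → ¬ IsR K) (hLR : ∀ K, IsL K → ¬ IsR K) :
    ∃ Γ : Subgroup (MulAut P),
      (∀ α, α ∈ Γ ↔ ∀ K, IsPt K → IsPt (K.map α.toMonoidHom)) ∧ Γ.index = 3 := by
  obtain ⟨L0, hL0⟩ := hexL
  obtain ⟨R0, hR0⟩ := hexR
  obtain ⟨K0, hK0⟩ : ∃ K, IsPt K := ⟨_, hτ _ hL0⟩
  -- membership can be tested on one subgroup
  have hone : ∀ (α : MulAut P) (K0 : Subgroup P), IsPt K0 → IsPt (K0.map α.toMonoidHom) →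
      ∀ K, IsPt K → IsPt (K.map α.toMonoidHom) := by
    intro α K0 h0 h1 K hK
    obtain ⟨p, hp⟩ := htrans K0 K h0 hK
    rw [← hp, ← map_mulAut_mul, mul_conj, map_mulAut_mul]
    exact hconj _ _ h1
  let Γ : Subgroup (MulAut P) :=
    { carrier := {α | ∀ K, IsPt K → IsPt (K.map α.toMonoidHom)}
      mul_mem' := by
        intro α β hα hβ K hK
        rw [map_mulAut_mul]
        exact hα _ (hβ _ hK)
      one_mem' := by
        intro K hK
        rw [map_mulAut_one]
        exact hK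
      inv_mem' := by
        intro α hα K hK
        refine hone α⁻¹ (K.map α.toMonoidHom) (hα K hK) ?_ K hK
        rw [map_mulAut_inv]
        exact hK }
  have hmem : ∀ α, α ∈ Γ ↔ ∀ K, IsPt K → IsPt (K.map α.toMonoidHom) := fun α => Iff.rfl
  refine ⟨Γ, hmem, ?_⟩
  have hτΓ : τ⁻¹ ∉ Γ := by
    intro h
    have := (hmem _).1 h _ (hτ _ hL0)
    rw [map_mulAut_inv] at this
    exact hPL _ this hL0
  have hτ'Γ : τ'⁻¹ ∉ Γ := by
    intro h
    have := (hmem _).1 h _ (hτ' _ hR0)
    rw [map_mulAut_inv] at this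
    exact hPR _ this hR0
  have hττ' : τ * τ'⁻¹ ∉ Γ := by
    intro h
    have h1 := (hmem _).1 h _ (hτ' _ hR0)
    rw [map_mulAut_mul, map_mulAut_inv] at h1
    obtain ⟨p, hp⟩ := htrans _ _ (hτ _ hL0) h1
    have h5 := congrArg (fun K : Subgroup P => K.map (τ⁻¹).toMonoidHom) hp
    simp only [map_mulAut_inv] at h5
    rw [← map_mulAut_mul, ← map_mulAut_mul, mul_conj, mul_assoc, inv_mul_cancel, mul_one] at h5
    exact hLR _ (hconjL L0 (τ⁻¹ p) hL0) (h5 ▸ hR0)
  have hbij : Function.Bijective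
      (![((1 : MulAut P) : MulAut P ⧸ Γ), ((τ⁻¹ : MulAut P) : MulAut P ⧸ Γ),
        ((τ'⁻¹ : MulAut P) : MulAut P ⧸ Γ)] : Fin 3 → MulAut P ⧸ Γ) := by
    have e01 : ((1 : MulAut P) : MulAut P ⧸ Γ) ≠ ((τ⁻¹ : MulAut P) : MulAut P ⧸ Γ) := by
      intro h
      rw [QuotientGroup.eq, inv_one, one_mul] at h
      exact hτΓ h
    have e02 : ((1 : MulAut P) : MulAut P ⧸ Γ) ≠ ((τ'⁻¹ : MulAut P) : MulAut P ⧸ Γ) := by
      intro h
      rw [QuotientGroup.eq, inv_one, one_mul] at h
      exact hτ'Γ h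
    have e12 : ((τ⁻¹ : MulAut P) : MulAut P ⧸ Γ) ≠ ((τ'⁻¹ : MulAut P) : MulAut P ⧸ Γ) := by
      intro h
      rw [QuotientGroup.eq, inv_inv] at h
      exact hττ' h
    constructor
    · intro i j hij
      fin_cases i <;> fin_cases j <;> first | rfl | skip
      · exact absurd hij e01
      · exact absurd hij e02
      · exact absurd hij.symm e01
      · exact absurd hij e12
      · exact absurd hij.symm e02
      · exact absurd hij.symm e12
    · intro x
      obtain ⟨α, rfl⟩ := QuotientGroup.mk_surjective x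
      rcases hdich α K0 hK0 with h | h | h
      · refine ⟨0, ?_⟩
        show ((1 : MulAut P) : MulAut P ⧸ Γ) = _
        rw [QuotientGroup.eq, inv_one, one_mul]
        exact (hmem _).2 (hone α K0 hK0 h)
      · refine ⟨1, ?_⟩
        show ((τ⁻¹ : MulAut P) : MulAut P ⧸ Γ) = _
        rw [QuotientGroup.eq, inv_inv]
        refine (hmem _).2 (hone _ K0 hK0 ?_)
        rw [map_mulAut_mul]
        exact hτ _ h
      · refine ⟨2, ?_⟩
        show ((τ'⁻¹ : MulAut P) : MulAut P ⧸ Γ) = _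
        rw [QuotientGroup.eq, inv_inv]
        refine (hmem _).2 (hone _ K0 hK0 ?_)
        rw [map_mulAut_mul]
        exact hτ' _ h
  rw [Subgroup.index, ← Nat.card_congr (Equiv.ofBijective _ hbij), Nat.card_fin]

end abstract_index

/-! ### Stabilisers -/

section stabs

variable {F V : Type*} [Field F] [AddCommGroup V] [Module F V] {Q : QuadraticForm F V}

theorem perm_inv_apply {X : Type*} (σ : Equiv.Perm X) (x : X) : σ⁻¹ (σ x) = x :=
  σ.symm_apply_apply x

/-- Conjugating a stabiliser. -/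
theorem map_conj_stab (hG : Good Q) (p : P Q) (W : Submodule F V) :
    (stab hG W).map (MulAut.conj p).toMonoidHom = stab hG (pact hG p W) := by
  ext q
  rw [Subgroup.mem_map]
  constructor
  · rintro ⟨r, hr, rfl⟩
    rw [mem_stab] at hr ⊢
    show pact hG (p * r * p⁻¹) (pact hG p W) = pact hG p W
    rw [map_mul, map_mul, map_inv, Equiv.Perm.mul_apply, Equiv.Perm.mul_apply,
      perm_inv_apply, hr]
  · intro hq
    refine ⟨p⁻¹ * q * p, ?_, ?_⟩
    · rw [mem_stab] at hq ⊢
      rw [map_mul, map_mul, map_inv, Equiv.Perm.mul_apply, Equiv.Perm.mul_apply, hq,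
        perm_inv_apply]
    · show p * (p⁻¹ * q * p) * p⁻¹ = q
      group

/-- The stabiliser of a totally singular subspace determines the subspace. -/
theorem le_of_stab_le (hG : Good Q) [FiniteDimensional F V] {X Y : Submodule F V} (hX : TS Q X)
    (hY : TS Q Y) (hY0 : Y ≠ ⊥) (h : stab hG X ≤ stab hG Y) : X ≤ Y := by
  -- Siegel transformations with first vector in `X` stabilise `Y`
  have key : ∀ u ∈ X, ∀ w, polar Q u w = 0 → ∀ y ∈ Y,
      polar Q u y • w - polar Q w y • u - (Q w * polar Q u y) • u ∈ Y := by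
    intro u hu w hw y hy
    have hQu := hX u hu
    have h1 : ((⟨siegel Q u w hQu hw, siegel_mem_E hQu hw⟩ : ↥(E Q)) : P Q) ∈ stab hG X := by
      apply mem_stab_of_map_le
      intro z hz
      show siegel Q u w hQu hw z ∈ X
      rw [siegel_apply, hX.polar hu hz, mul_zero, zero_smul, zero_smul, add_zero, sub_zero]
      exact X.sub_mem hz (X.smul_mem _ hu)
    have h2 := apply_mem_of_mem_stab (h h1) hy
    have h3 : siegel Q u w hQu hw y ∈ Y := h2
    rw [siegel_apply] at h3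
    have h4 := Y.sub_mem h3 hy
    have h5 : y + polar Q u y • w - polar Q w y • u - (Q w * polar Q u y) • u - y =
        polar Q u y • w - polar Q w y • u - (Q w * polar Q u y) • u := by abel
    rwa [h5] at h4
  intro u hu
  by_contra huY
  have hQu := hX u hu
  have hu0 : u ≠ 0 := fun h0 => huY (h0 ▸ Y.zero_mem)
  by_cases hall : ∀ y ∈ Y, polar Q u y = 0
  · obtain ⟨y, hy, hy0⟩ := Submodule.exists_mem_ne_zero_of_ne_bot hY0
    have hyu : ∀ c : F, y ≠ c • u := by
      intro c hc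
      have hc0 : c ≠ 0 := by
        rintro rfl
        exact hy0 (by rw [hc, zero_smul])
      apply huY
      have : u = c⁻¹ • y := by rw [hc, smul_smul, inv_mul_cancel₀ hc0, one_smul]
      rw [this]
      exact Y.smul_mem _ hy
    obtain ⟨w, hw1, hw2⟩ := exists_sep hG.nondeg hyu
    have h1 := key u hu w hw1 y hy
    rw [hall y hy, polar_comm Q w y, hw2, mul_zero, zero_smul, zero_smul, one_smul, zero_sub,
      sub_zero] at h1
    exact huY (by simpa using Y.neg_mem h1)
  · push Not at hall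
    obtain ⟨y, hy, hy1⟩ := hall
    obtain ⟨u', hu'⟩ := Cfsg.Agent.LieClassical.OrthTrans.exists_hyp hG.nondeg hQu hu0
    obtain ⟨z, z', hz, h1, h2, -, -⟩ := hG.exists_hyp2 hu'
    have hw : polar Q u (z + z') = 0 := by rw [polar_add_right, h1, h2, add_zero]
    have hQw : Q (z + z') = 1 := by rw [Q_add, hz.left, hz.right, hz.pair]; ring
    have h3 := hY _ (key u hu (z + z') hw y hy)
    rw [hQw] at h3
    have h4 : polar Q u y • (z + z') - polar Q (z + z') y • u - (1 * polar Q u y) • u =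
        polar Q u y • (z + z') + (-(polar Q (z + z') y) - polar Q u y) • u := by module
    rw [h4, Q_add, QuadraticMap.map_smul, QuadraticMap.map_smul, hQu, hQw, polar_smul_left,
      polar_smul_right, polar_comm Q (z + z') u, hw] at h3
    simp only [smul_eq_mul, mul_zero, mul_one, add_zero] at h3
    exact hy1 (mul_self_eq_zero.1 h3)

theorem stab_injective (hG : Good Q) [FiniteDimensional F V] {X Y : Submodule F V} (hX : TS Q X)
    (hY : TS Q Y) (hX0 : X ≠ ⊥) (hY0 : Y ≠ ⊥) (h : stab hG X = stab hG Y) : X = Y :=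
  le_antisymm (le_of_stab_le hG hX hY hY0 h.le) (le_of_stab_le hG hY hX hX0 h.ge)

end stabs

/-! ### The two families -/

section families

open Cfsg.Agent.LieClassical.QuadForms Cfsg.Agent.ClassicalGeometry.TrialityOct
  Cfsg.Agent.ClassicalGeometry.TrialitySpaces

variable {F : Type*} [Field F]

/-- Spaces `x𝕆`. -/
def IsLeft (W : Submodule F (Fin 4 ⊕ Fin 4 → F)) : Prop :=
  ∃ x, plusForm 4 F x = 0 ∧ x ≠ 0 ∧ W = leftSp x

/-- Spaces `𝕆x`. -/
def IsRight (W : Submodule F (Fin 4 ⊕ Fin 4 → F)) : Prop :=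
  ∃ x, plusForm 4 F x = 0 ∧ x ≠ 0 ∧ W = rightSp x

theorem IsLeft.refl {a : Fin 4 ⊕ Fin 4 → F} (ha : plusForm 4 F a ≠ 0)
    {W : Submodule F (Fin 4 ⊕ Fin 4 → F)} (hW : IsLeft W) :
    IsRight (W.map (refl (plusForm 4 F) a ha).toLinearMap) := by
  obtain ⟨x, hx, h0, rfl⟩ := hW
  exact ⟨_, by rw [norm_omul, norm_oconj, hx, zero_mul],
      omul_ne_zero_of_norm_ne' ha (oconj_ne_zero h0), refl_leftSp ha hx h0⟩

theorem IsRight.refl {a : Fin 4 ⊕ Fin 4 → F} (ha : plusForm 4 F a ≠ 0)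
    {W : Submodule F (Fin 4 ⊕ Fin 4 → F)} (hW : IsRight W) :
    IsLeft (W.map (LieClassical.OrthCore.refl (plusForm 4 F) a ha).toLinearMap) := by
  obtain ⟨x, hx, h0, rfl⟩ := hW
  exact ⟨_, by rw [norm_omul, norm_oconj, hx, mul_zero],
      omul_ne_zero_of_norm_ne ha (oconj_ne_zero h0), refl_rightSp ha hx h0⟩

/-- A Siegel transformation preserves both families. -/
theorem IsLeft.siegel {u w : Fin 4 ⊕ Fin 4 → F} (hu : plusForm 4 F u = 0)
    (hw : polar (plusForm 4 F) u w = 0) {W : Submodule F (Fin 4 ⊕ Fin 4 → F)} (hW : IsLeft W) :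
    IsLeft (W.map (LieClassical.OrthCore.siegel (plusForm 4 F) u w hu hw).toLinearMap) := by
  have key : ∀ {w : Fin 4 ⊕ Fin 4 → F} (hw : polar (plusForm 4 F) u w = 0),
      plusForm 4 F w ≠ 0 → ∀ W : Submodule F (Fin 4 ⊕ Fin 4 → F), IsLeft W →
      IsLeft (W.map (LieClassical.OrthCore.siegel (plusForm 4 F) u w hu hw).toLinearMap) := by
    intro w hw hQ W hW
    have h' : plusForm 4 F (w + (-plusForm 4 F w) • u) ≠ 0 := by rwa [Q_sub_smul hu hw]
    rw [siegel_eq_refl_mul hu hw hQ h']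
    have := (hW.refl hQ).refl h'
    rwa [← Submodule.map_comp] at this
  by_cases hQ : plusForm 4 F w = 0
  · obtain ⟨a, ha1, ha2, ha3⟩ : ∃ a, polar (plusForm 4 F) u a = 0 ∧ polar (plusForm 4 F) w a = 0 ∧
        plusForm 4 F a ≠ 0 := by
      by_contra hcon
      push Not at hcon
      have h1 := finrank_le_four (W := LinearMap.ker (polarBilin (plusForm 4 F) u) ⊓
        LinearMap.ker (polarBilin (plusForm 4 F) w)) (fun z hz => hcon z hz.1 hz.2)
      have h2 := LinearMap.finrank_range_add_finrank_ker (polarBilin (plusForm 4 F) u)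
      have h3 := LinearMap.finrank_range_add_finrank_ker (polarBilin (plusForm 4 F) w)
      have h4 : Module.finrank F (Fin 4 ⊕ Fin 4 → F) = 8 := by simp
      have h5 := Submodule.finrank_le (LinearMap.range (polarBilin (plusForm 4 F) u))
      have h6 := Submodule.finrank_le (LinearMap.range (polarBilin (plusForm 4 F) w))
      rw [Module.finrank_self] at h5 h6
      have h7 := Submodule.finrank_sup_add_finrank_inf_eq
        (LinearMap.ker (polarBilin (plusForm 4 F) u)) (LinearMap.ker (polarBilin (plusForm 4 F) w))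
      have h8 := Submodule.finrank_le (LinearMap.ker (polarBilin (plusForm 4 F) u) ⊔
        LinearMap.ker (polarBilin (plusForm 4 F) w))
      omega
    have hb1 : polar (plusForm 4 F) u (w + a) = 0 := by rw [polar_add_right, hw, ha1, add_zero]
    have hb2 : plusForm 4 F (w + a) ≠ 0 := by
      rw [Q_add, hQ, ha2, zero_add, add_zero]; exact ha3
    have hc1 : polar (plusForm 4 F) u (-a) = 0 := by rw [polar_neg_right, ha1, neg_zero]
    have hc2 : plusForm 4 F (-a) ≠ 0 := by rwa [QuadraticMap.map_neg]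
    have hd : polar (plusForm 4 F) u ((w + a) + -a) = 0 := by rw [add_neg_cancel_right]; exact hw
    have h1 : LieClassical.OrthCore.siegel (plusForm 4 F) u w hu hw =
        LieClassical.OrthCore.siegel (plusForm 4 F) u (w + a) hu hb1 *
          LieClassical.OrthCore.siegel (plusForm 4 F) u (-a) hu hc1 := by
      rw [siegel_mul hu hb1 hc1 hd]
      ext v
      rw [siegel_apply, siegel_apply, add_neg_cancel_right]
    rw [h1]
    have := key hb1 hb2 _ (key hc1 hc2 W hW)
    rwa [← Submodule.map_comp] at this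
  · exact key hw hQ W hW

theorem IsLeft.map_E {g : (Fin 4 ⊕ Fin 4 → F) ≃ₗ[F] (Fin 4 ⊕ Fin 4 → F)}
    (hg : g ∈ E (plusForm 4 F)) {W : Submodule F (Fin 4 ⊕ Fin 4 → F)} (hW : IsLeft W) :
    IsLeft (W.map g.toLinearMap) := by
  have hinv : (∀ W : Submodule F (Fin 4 ⊕ Fin 4 → F), IsLeft W → IsLeft (W.map g.toLinearMap)) ∧
        (∀ W : Submodule F (Fin 4 ⊕ Fin 4 → F), IsLeft W →
          IsLeft (W.map (g⁻¹).toLinearMap)) := by
    induction hg using Subgroup.closure_induction with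
    | mem x hx =>
      obtain ⟨u, w, hu, hw, rfl⟩ := hx
      refine ⟨fun W hW => hW.siegel hu hw, ?_⟩
      have hw' : polar (plusForm 4 F) u (-w) = 0 := by rw [polar_neg_right, hw, neg_zero]
      have h1 : (LieClassical.OrthCore.siegel (plusForm 4 F) u w hu hw)⁻¹ =
          LieClassical.OrthCore.siegel (plusForm 4 F) u (-w) hu hw' := by
        apply inv_eq_of_mul_eq_one_left
        have hd : polar (plusForm 4 F) u (-w + w) = 0 := by rw [neg_add_cancel, polar_zero_right]
        rw [siegel_mul hu hw' hw hd]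
        ext v
        rw [siegel_apply, neg_add_cancel]
        simp
      rw [h1]
      exact fun W hW => hW.siegel hu hw'
    | one =>
      rw [inv_one]
      have h1 : ∀ W : Submodule F (Fin 4 ⊕ Fin 4 → F), IsLeft W →
          IsLeft (W.map (1 : (Fin 4 ⊕ Fin 4 → F) ≃ₗ[F] (Fin 4 ⊕ Fin 4 → F)).toLinearMap) := by
        intro W hW
        have : W.map (1 : (Fin 4 ⊕ Fin 4 → F) ≃ₗ[F] (Fin 4 ⊕ Fin 4 → F)).toLinearMap = W :=
          Submodule.map_id W
        rwa [this]
      exact ⟨h1, h1⟩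
    | mul x y _ _ hx hy =>
      refine ⟨fun W hW => ?_, fun W hW => ?_⟩
      · have := hx.1 _ (hy.1 _ hW)
        rwa [← Submodule.map_comp] at this
      · rw [mul_inv_rev]
        have := hy.2 _ (hx.2 _ hW)
        rwa [← Submodule.map_comp] at this
    | inv x _ hx =>
      rw [inv_inv]
      exact ⟨hx.2, hx.1⟩
  exact hinv.1 W hW

/-- The final index computation. -/
theorem triality_index (hG : Good (plusForm 4 F))
    (hdich : ∀ (α : MulAut (P (plusForm 4 F))) (x : Fin 4 ⊕ Fin 4 → F), plusForm 4 F x = 0 →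
      x ≠ 0 →
      (∃ y, plusForm 4 F y = 0 ∧ y ≠ 0 ∧
        (stab hG (Submodule.span F {x})).map α.toMonoidHom = stab hG (Submodule.span F {y})) ∨
      (∃ W, TS (plusForm 4 F) W ∧ Module.finrank F W = 4 ∧
        (stab hG (Submodule.span F {x})).map α.toMonoidHom = stab hG W))
    (τ τ' : MulAut (P (plusForm 4 F)))
    (hτ : ∀ x, plusForm 4 F x = 0 → x ≠ 0 → ∃ y, plusForm 4 F y = 0 ∧ y ≠ 0 ∧
      (stab hG (leftSp x)).map τ.toMonoidHom = stab hG (Submodule.span F {y}))
    (hτ' : ∀ x, plusForm 4 F x = 0 → x ≠ 0 → ∃ y, plusForm 4 F y = 0 ∧ y ≠ 0 ∧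
      (stab hG (rightSp x)).map τ'.toMonoidHom = stab hG (Submodule.span F {y})) :
    ∃ Γ : Subgroup (MulAut (P (plusForm 4 F))),
      (∀ α, α ∈ Γ ↔ ∀ x, plusForm 4 F x = 0 → x ≠ 0 → ∃ y, plusForm 4 F y = 0 ∧ y ≠ 0 ∧
        (stab hG (Submodule.span F {x})).map α.toMonoidHom = stab hG (Submodule.span F {y})) ∧
      Γ.index = 3 := by
  let IsPt : Subgroup (P (plusForm 4 F)) → Prop := fun K => ∃ y, plusForm 4 F y = 0 ∧ y ≠ 0 ∧
    K = stab hG (Submodule.span F {y})
  let IsL : Subgroup (P (plusForm 4 F)) → Prop := fun K => ∃ y, plusForm 4 F y = 0 ∧ y ≠ 0 ∧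
    K = stab hG (leftSp y)
  let IsR : Subgroup (P (plusForm 4 F)) → Prop := fun K => ∃ y, plusForm 4 F y = 0 ∧ y ≠ 0 ∧
    K = stab hG (rightSp y)
  have hspanTS : ∀ y, plusForm 4 F y = 0 → TS (plusForm 4 F) (Submodule.span F {y}) := by
    intro y hy w hw
    obtain ⟨c, rfl⟩ := Submodule.mem_span_singleton.1 hw
    rw [QuadraticMap.map_smul, hy, smul_zero]
  have hspan0 : ∀ y : Fin 4 ⊕ Fin 4 → F, y ≠ 0 → Submodule.span F {y} ≠ ⊥ := by
    intro y hy h
    rw [Submodule.span_singleton_eq_bot] at h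
    exact hy h
  have hl0 : ∀ y : Fin 4 ⊕ Fin 4 → F, y ≠ 0 → leftSp y ≠ ⊥ := by
    intro y hy h
    have := self_mem_leftSp y
    rw [h, Submodule.mem_bot] at this
    exact hy this
  have hr0 : ∀ y : Fin 4 ⊕ Fin 4 → F, y ≠ 0 → rightSp y ≠ ⊥ := by
    intro y hy h
    have := self_mem_rightSp y
    rw [h, Submodule.mem_bot] at this
    exact hy this
  obtain ⟨Γ, hΓ, hind⟩ := index_three IsPt IsL IsR
    (by
      rintro α _ ⟨x, hx, hx0, rfl⟩
      rcases hdich α x hx hx0 with ⟨y, hy, hy0, h⟩ | ⟨W, hW, hW4, h⟩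
      · exact Or.inl ⟨y, hy, hy0, h⟩
      · obtain ⟨z, hz, hz0, rfl | rfl⟩ := isOct_of_singular hW hW4
        · exact Or.inr (Or.inl ⟨z, hz, hz0, h⟩)
        · exact Or.inr (Or.inr ⟨z, hz, hz0, h⟩))
    (by
      rintro _ _ ⟨x, hx, hx0, rfl⟩ ⟨y, hy, hy0, rfl⟩
      obtain ⟨g, hg, hgx⟩ := hG.trans_sing hx hy hx0 hy0
      refine ⟨((⟨g, hg⟩ : ↥(E (plusForm 4 F))) : P (plusForm 4 F)), ?_⟩
      rw [map_conj_stab, pact_mk, mapHom_span]
      show stab hG (Submodule.span F {g x}) = _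
      rw [hgx])
    (by
      rintro _ p ⟨x, hx, hx0, rfl⟩
      obtain ⟨g, rfl⟩ := QuotientGroup.mk_surjective p
      refine ⟨(g : (Fin 4 ⊕ Fin 4 → F) ≃ₗ[F] (Fin 4 ⊕ Fin 4 → F)) x, ?_, ?_, ?_⟩
      · rw [mem_O.1 (E_le_O g.2)]; exact hx
      · exact fun h => hx0 ((LinearEquiv.map_eq_zero_iff _).1 h)
      · rw [map_conj_stab, pact_mk, mapHom_span])
    (by
      rintro _ p ⟨x, hx, hx0, rfl⟩
      obtain ⟨g, rfl⟩ := QuotientGroup.mk_surjective p
      obtain ⟨y, hy, hy0, h⟩ := IsLeft.map_E g.2 ⟨x, hx, hx0, rfl⟩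
      refine ⟨y, hy, hy0, ?_⟩
      rw [map_conj_stab, pact_mk, mapHom_apply, h])
    (by
      obtain ⟨x, hx0, hx⟩ := hG.sing
      exact ⟨_, x, hx, hx0, rfl⟩)
    (by
      obtain ⟨x, hx0, hx⟩ := hG.sing
      exact ⟨_, x, hx, hx0, rfl⟩)
    τ τ'
    (by
      rintro _ ⟨x, hx, hx0, rfl⟩
      exact hτ x hx hx0)
    (by
      rintro _ ⟨x, hx, hx0, rfl⟩
      exact hτ' x hx hx0)
    (by
      rintro _ ⟨x, hx, hx0, rfl⟩ ⟨y, hy, hy0, h⟩
      have h1 := stab_injective hG (hspanTS x hx) (leftSp_sing hy) (hspan0 x hx0) (hl0 y hy0) h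
      have h2 := finrank_leftSp hy hy0
      rw [← h1, finrank_span_singleton hx0] at h2
      omega)
    (by
      rintro _ ⟨x, hx, hx0, rfl⟩ ⟨y, hy, hy0, h⟩
      have h1 := stab_injective hG (hspanTS x hx) (rightSp_sing hy) (hspan0 x hx0) (hr0 y hy0) h
      have h2 := finrank_rightSp hy hy0
      rw [← h1, finrank_span_singleton hx0] at h2
      omega)
    (by
      rintro _ ⟨x, hx, hx0, rfl⟩ ⟨y, hy, hy0, h⟩
      exact leftSp_ne_rightSp hx hx0 hy hy0
        (stab_injective hG (leftSp_sing hx) (rightSp_sing hy) (hl0 x hx0) (hr0 y hy0) h))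
  refine ⟨Γ, fun α => ?_, hind⟩
  rw [hΓ]
  constructor
  · intro h x hx hx0
    exact h _ ⟨x, hx, hx0, rfl⟩
  · rintro h _ ⟨x, hx, hx0, rfl⟩
    exact h x hx hx0

end families

end Cfsg.Agent.ClassicalGeometry.TrialityIndex
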