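import Mathlib
import Cfsg.Agent.ClassicalGeometry.Triality
import Cfsg.Agent.ClassicalGeometry.TrialityIndex

/-!
# Triality: the index of the group of automorphisms of `PΩ₈⁺` permuting the point stabilisers
-/

set_option autoImplicit false

namespace Cfsg.Agent.ClassicalGeometry.TrialityFinal

open QuadraticMap Cfsg.Agent.LieClassical.OrthCore Cfsg.Agent.LieClassical.OrthTrans
  Cfsg.Agent.LieClassical.OrthSimple Cfsg.Agent.ClassicalGeometry.OrthAut1
  Cfsg.Agent.LieClassical.QuadForms Cfsg.Agent.ClassicalGeometry.TrialityOct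

variable {F : Type*} [Field F]

theorem xO_eq_leftSp (x : Fin 4 ⊕ Fin 4 → F) : Triality.xO x = TrialitySpaces.leftSp x := rfl

theorem Ox_eq_rightSp (x : Fin 4 ⊕ Fin 4 → F) : Triality.Ox x = TrialitySpaces.rightSp x := rfl

/-- The subgroup of the automorphisms of `PΩ₈⁺(F)` which permute the stabilisers of singular points
has index three, as soon as every automorphism maps such a stabiliser to a stabiliser of a singular
point or of a totally singular 4-space. -/
theorem exists_index_three (hG : Good (plusForm 4 F))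
    (hdich : ∀ (α : MulAut (P (plusForm 4 F))) (x : Fin 4 ⊕ Fin 4 → F), plusForm 4 F x = 0 →
      x ≠ 0 →
      (∃ y, plusForm 4 F y = 0 ∧ y ≠ 0 ∧
        (stab hG (Submodule.span F {x})).map α.toMonoidHom = stab hG (Submodule.span F {y})) ∨
      (∃ W, TS (plusForm 4 F) W ∧ Module.finrank F W = 4 ∧
        (stab hG (Submodule.span F {x})).map α.toMonoidHom = stab hG W)) :
    ∃ Γ : Subgroup (MulAut (P (plusForm 4 F))),
      (∀ α, α ∈ Γ ↔ ∀ x, plusForm 4 F x = 0 → x ≠ 0 → ∃ y, plusForm 4 F y = 0 ∧ y ≠ 0 ∧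
        (stab hG (Submodule.span F {x})).map α.toMonoidHom = stab hG (Submodule.span F {y})) ∧
      Γ.index = 3 := by
  obtain ⟨τ, hτ⟩ := Triality.exists_tau_xO hG
  obtain ⟨τ', hτ'⟩ := Triality.exists_tau_Ox hG
  exact TrialityIndex.triality_index hG hdich τ τ' (fun x hx hx0 => ⟨x, hx, hx0, hτ x hx hx0⟩)
    (fun x hx hx0 => ⟨x, hx, hx0, hτ' x hx hx0⟩)

end Cfsg.Agent.ClassicalGeometry.TrialityFinal
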