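import Mathlib
import Cfsg.Agent.ClassicalGeometry.SympBasic
import Cfsg.Agent.LieClassical.SympSimple

/-!
Semisimilitudes of the symplectic space and the automorphisms of `Sp` and `PSp` they induce.
-/

set_option autoImplicit false
open Cfsg
open scoped Matrix

namespace Cfsg.Agent.ClassicalGeometry.SympAutSemi

open Cfsg.Agent.ClassicalGeometry.SympBasic

section General

theorem perm_apply_inv_self {X : Type*} (e : Equiv.Perm X) (x : X) : e (e⁻¹ x) = x :=
  e.apply_symm_apply x

theorem perm_inv_apply_self {X : Type*} (e : Equiv.Perm X) (x : X) : e⁻¹ (e x) = x :=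
  e.symm_apply_apply x

variable {G : Type*} [Group G]

/-- An automorphism of `G` induces one of `G ⧸ Z(G)`. -/
def quotAut : MulAut G →* MulAut (G ⧸ Subgroup.center G) where
  toFun α := QuotientGroup.congr _ _ α (by
    ext x
    rw [Subgroup.mem_map]
    constructor
    · rintro ⟨y, hy, rfl⟩
      rw [Subgroup.mem_center_iff] at hy ⊢
      intro g
      have := congrArg α (hy (α.symm g))
      simpa using this
    · intro hx
      refine ⟨α.symm x, ?_, by simp⟩
      rw [Subgroup.mem_center_iff] at hx ⊢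
      intro g
      have := congrArg α.symm (hx (α g))
      simpa using this)
  map_one' := by
    ext x
    induction x using QuotientGroup.induction_on
    rfl
  map_mul' α β := by
    ext x
    induction x using QuotientGroup.induction_on
    rfl

theorem quotAut_mk (α : MulAut G) (x : G) :
    quotAut α (QuotientGroup.mk x) = QuotientGroup.mk (α x) := rfl

end General

variable {F : Type*} [Field F] {m : ℕ}

/-- The natural action of `Sp` on column vectors. -/
def rho (m : ℕ) (F : Type*) [Field F] :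
    Matrix.symplecticGroup (Fin m) F →* Equiv.Perm (Fin m ⊕ Fin m → F) where
  toFun A :=
    { toFun := fun v => (A : Matrix (Fin m ⊕ Fin m) (Fin m ⊕ Fin m) F) *ᵥ v
      invFun := fun v => ((A⁻¹ : Matrix.symplecticGroup (Fin m) F) :
        Matrix (Fin m ⊕ Fin m) (Fin m ⊕ Fin m) F) *ᵥ v
      left_inv := fun v => by
        dsimp only
        rw [← coe_mul_mulVec, inv_mul_cancel, Submonoid.coe_one, Matrix.one_mulVec]
      right_inv := fun v => by
        dsimp only
        rw [← coe_mul_mulVec, mul_inv_cancel, Submonoid.coe_one, Matrix.one_mulVec] }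
  map_one' := by
    ext1 v
    change ((1 : Matrix.symplecticGroup (Fin m) F) :
        Matrix (Fin m ⊕ Fin m) (Fin m ⊕ Fin m) F) *ᵥ v = v
    rw [Submonoid.coe_one, Matrix.one_mulVec]
  map_mul' A B := by
    ext1 v
    exact coe_mul_mulVec A B v

theorem rho_apply (A : Matrix.symplecticGroup (Fin m) F) (v : Fin m ⊕ Fin m → F) :
    rho m F A v = (A : Matrix (Fin m ⊕ Fin m) (Fin m ⊕ Fin m) F) *ᵥ v := rfl

theorem rho_injective : Function.Injective (rho m F) := by
  intro A B h
  apply Subtype.ext
  rw [← Matrix.mulVec_injective.eq_iff]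
  funext v
  exact DFunLike.congr_fun h v

theorem rho_transv (v x : Fin m ⊕ Fin m → F) (c : F) :
    rho m F (transv v c) x = x + (c * sympForm m F x v) • v :=
  sympTransvection_mulVec v x c

theorem sympForm_rho (A : Matrix.symplecticGroup (Fin m) F) (u v : Fin m ⊕ Fin m → F) :
    sympForm m F (rho m F A u) (rho m F A v) = sympForm m F u v :=
  sympForm_mulVec A.2 u v

/-- A linear bijection preserving the form comes from `Sp`. -/
theorem exists_rho_eq (h : Equiv.Perm (Fin m ⊕ Fin m → F))
    (ha : ∀ u v, h (u + v) = h u + h v) (hl : ∀ (a : F) v, h (a • v) = a • h v)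
    (hf : ∀ u v, sympForm m F (h u) (h v) = sympForm m F u v) :
    ∃ A : Matrix.symplecticGroup (Fin m) F, rho m F A = h := by
  let L : (Fin m ⊕ Fin m → F) →ₗ[F] (Fin m ⊕ Fin m → F) :=
    { toFun := h
      map_add' := ha
      map_smul' := hl }
  have hL : ∀ v, LinearMap.toMatrix' L *ᵥ v = h v := fun v => by
    rw [LinearMap.toMatrix'_mulVec]
    rfl
  refine ⟨⟨LinearMap.toMatrix' L, ?_⟩, ?_⟩
  · rw [mem_symplecticGroup_iff]
    intro u v
    rw [hL, hL, hf]
  · ext1 v
    exact hL v

/-- `g` is semilinear with respect to `φ` and multiplies the form by `l` (up to `φ`). -/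
def IsSemi (g : Equiv.Perm (Fin m ⊕ Fin m → F)) (φ : F ≃+* F) (l : F) : Prop :=
  (∀ u v, g (u + v) = g u + g v) ∧ (∀ (a : F) v, g (a • v) = φ a • g v) ∧
    ∀ u v, sympForm m F (g u) (g v) = l * φ (sympForm m F u v)

theorem IsSemi.mul {g h : Equiv.Perm (Fin m ⊕ Fin m → F)} {φ ψ : F ≃+* F} {l k : F}
    (hg : IsSemi g φ l) (hh : IsSemi h ψ k) : IsSemi (g * h) (ψ.trans φ) (l * φ k) := by
  refine ⟨?_, ?_, ?_⟩
  · intro u v
    rw [Equiv.Perm.mul_apply, Equiv.Perm.mul_apply, Equiv.Perm.mul_apply, hh.1, hg.1]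
  · intro a v
    rw [Equiv.Perm.mul_apply, Equiv.Perm.mul_apply, hh.2.1, hg.2.1]
    rfl
  · intro u v
    rw [Equiv.Perm.mul_apply, Equiv.Perm.mul_apply, hg.2.2, hh.2.2, map_mul, mul_assoc]
    rfl

theorem IsSemi.inv {g : Equiv.Perm (Fin m ⊕ Fin m → F)} {φ : F ≃+* F} {l : F} (hl : l ≠ 0)
    (hg : IsSemi g φ l) : IsSemi g⁻¹ φ.symm (φ.symm l⁻¹) := by
  refine ⟨?_, ?_, ?_⟩
  · intro u v
    apply g.injective
    rw [hg.1, perm_apply_inv_self, perm_apply_inv_self, perm_apply_inv_self]
  · intro a v
    apply g.injective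
    rw [hg.2.1, perm_apply_inv_self, perm_apply_inv_self, RingEquiv.apply_symm_apply]
  · intro u v
    have := hg.2.2 (g⁻¹ u) (g⁻¹ v)
    rw [perm_apply_inv_self, perm_apply_inv_self] at this
    rw [this, map_mul, ← mul_assoc, ← map_mul, inv_mul_cancel₀ hl, map_one, one_mul,
      RingEquiv.symm_apply_apply]

theorem isSemi_rho (A : Matrix.symplecticGroup (Fin m) F) :
    IsSemi (rho m F A) (RingEquiv.refl F) 1 :=
  ⟨fun u v => by rw [rho_apply, rho_apply, rho_apply, Matrix.mulVec_add],
    fun a v => by rw [rho_apply, rho_apply, Matrix.mulVec_smul]; rfl, fun u v => by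
    rw [sympForm_rho, one_mul]; rfl⟩

/-- The group of semisimilitudes. -/
def semiSim (m : ℕ) (F : Type*) [Field F] : Subgroup (Equiv.Perm (Fin m ⊕ Fin m → F)) where
  carrier := {g | ∃ (φ : F ≃+* F) (l : F), l ≠ 0 ∧ IsSemi g φ l}
  mul_mem' := by
    rintro g h ⟨φ, l, hl, hg⟩ ⟨ψ, k, hk, hh⟩
    refine ⟨_, _, ?_, hg.mul hh⟩
    exact mul_ne_zero hl (by simpa using hk)
  one_mem' := ⟨RingEquiv.refl F, 1, one_ne_zero, fun _ _ => rfl, fun _ _ => rfl, fun _ _ => by
    rw [one_mul]; rfl⟩
  inv_mem' := by
    rintro g ⟨φ, l, hl, hg⟩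
    refine ⟨_, _, ?_, hg.inv hl⟩
    simpa using hl

theorem exists_conj (g : semiSim m F) (A : Matrix.symplecticGroup (Fin m) F) :
    ∃ B : Matrix.symplecticGroup (Fin m) F, rho m F B = g.1 * rho m F A * g.1⁻¹ := by
  obtain ⟨g, φ, l, hl, hg⟩ := g
  have h := (hg.mul (isSemi_rho A)).mul (hg.inv hl)
  apply exists_rho_eq
  · exact h.1
  · intro a v
    rw [h.2.1]
    congr 1
    change φ (φ.symm a) = a
    exact φ.apply_symm_apply a
  · intro u v
    rw [h.2.2]
    have e1 : (((RingEquiv.refl F).trans φ) (φ.symm l⁻¹)) = l⁻¹ := φ.apply_symm_apply _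
    have e2 : (φ.symm.trans ((RingEquiv.refl F).trans φ)) (sympForm m F u v) =
      sympForm m F u v := φ.apply_symm_apply _
    rw [e1, e2, map_one, mul_one, mul_inv_cancel₀ hl, one_mul]

/-- Conjugation of a symplectic matrix by a semisimilitude. -/
noncomputable def conjFun (g : semiSim m F) (A : Matrix.symplecticGroup (Fin m) F) :
    Matrix.symplecticGroup (Fin m) F :=
  Classical.choose (exists_conj g A)

theorem rho_conjFun (g : semiSim m F) (A : Matrix.symplecticGroup (Fin m) F) :
    rho m F (conjFun g A) = g.1 * rho m F A * g.1⁻¹ :=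
  Classical.choose_spec (exists_conj g A)

/-- Semisimilitudes act on `Sp` by automorphisms. -/
noncomputable def conjHom (m : ℕ) (F : Type*) [Field F] :
    semiSim m F →* MulAut (Matrix.symplecticGroup (Fin m) F) where
  toFun g :=
    { toFun := conjFun g
      invFun := conjFun g⁻¹
      left_inv := fun A => by
        apply rho_injective
        rw [rho_conjFun, rho_conjFun]
        simp [mul_assoc]
      right_inv := fun A => by
        apply rho_injective
        rw [rho_conjFun, rho_conjFun]
        simp [mul_assoc]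
      map_mul' := fun A B => by
        apply rho_injective
        rw [rho_conjFun, map_mul, map_mul, rho_conjFun, rho_conjFun]
        simp [mul_assoc] }
  map_one' := by
    ext1 A
    apply rho_injective
    change rho m F (conjFun 1 A) = _
    rw [rho_conjFun]
    simp
  map_mul' g h := by
    ext1 A
    apply rho_injective
    change rho m F (conjFun (g * h) A) = rho m F (conjFun g (conjFun h A))
    rw [rho_conjFun, rho_conjFun, rho_conjFun]
    simp [mul_assoc]

theorem rho_conjHom (g : semiSim m F) (A : Matrix.symplecticGroup (Fin m) F) :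
    rho m F (conjHom m F g A) = g.1 * rho m F A * g.1⁻¹ := rho_conjFun g A

/-- Action of semisimilitudes on transvections. -/
theorem conjHom_transv (g : semiSim m F) {φ : F ≃+* F} {l : F} (hl : l ≠ 0)
    (hg : IsSemi g.1 φ l) (v : Fin m ⊕ Fin m → F) (c : F) :
    conjHom m F g (transv v c) = transv (g.1 v) (φ c * l⁻¹) := by
  apply rho_injective
  ext1 x
  rw [rho_conjHom, Equiv.Perm.mul_apply, Equiv.Perm.mul_apply, rho_transv, rho_transv, hg.1,
    perm_apply_inv_self, hg.2.1]
  congr 2
  have h := hg.2.2 (g.1⁻¹ x) v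
  rw [perm_apply_inv_self] at h
  rw [map_mul, h]
  field_simp

/-- The automorphism of `PSp` induced by a semisimilitude. -/
noncomputable def Psi (m : ℕ) (F : Type*) [Field F] : semiSim m F →* MulAut (PSp m F) :=
  quotAut.comp (conjHom m F)

theorem Psi_mk (g : semiSim m F) (A : Matrix.symplecticGroup (Fin m) F) :
    Psi m F g (QuotientGroup.mk A) = QuotientGroup.mk (conjHom m F g A) := rfl

end Cfsg.Agent.ClassicalGeometry.SympAutSemi
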