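import Mathlib

/-!
Non-degenerate symmetric bilinear forms over a finite field of odd characteristic:
two-dimensional diagonal forms are universal, and the normal form `⟨1, ..., 1, 1 or α⟩`.
-/

set_option autoImplicit false

namespace Cfsg.Agent.ClassicalGeometry.SymmNormalForm

/-- Over a finite field of characteristic not two, `a x² + b y²` represents every element. -/
theorem exists_diag_two_eq {F : Type*} [Field F] [Finite F] (h2 : (2 : F) ≠ 0) {a b : F}
    (ha : a ≠ 0) (hb : b ≠ 0) (c : F) : ∃ x y : F, a * x ^ 2 + b * y ^ 2 = c := by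
  classical
  obtain ⟨_⟩ := nonempty_fintype F
  have hodd : Fintype.card F % 2 = 1 := by
    apply FiniteField.odd_card_of_char_ne_two
    intro h
    apply h2
    have : CharP F 2 := by
      rw [← h]; exact ringChar.charP F
    exact CharTwo.two_eq_zero
  have hf : (Polynomial.C a * Polynomial.X ^ 2 : Polynomial F).degree = 2 := by
    rw [Polynomial.degree_C_mul_X_pow 2 ha]; rfl
  have hg : (Polynomial.C b * Polynomial.X ^ 2 - Polynomial.C c : Polynomial F).degree = 2 := by
    have h1 : (Polynomial.C b * Polynomial.X ^ 2 : Polynomial F).degree = 2 := by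
      rw [Polynomial.degree_C_mul_X_pow 2 hb]; rfl
    rw [Polynomial.degree_sub_eq_left_of_degree_lt, h1]
    rw [h1]
    exact lt_of_le_of_lt Polynomial.degree_C_le (by decide)
  obtain ⟨x, y, hxy⟩ := FiniteField.exists_root_sum_quadratic hf hg hodd
  refine ⟨x, y, ?_⟩
  simp only [Polynomial.eval_mul, Polynomial.eval_C, Polynomial.eval_pow, Polynomial.eval_X,
    Polynomial.eval_sub] at hxy
  linear_combination hxy

/-- In a finite field, the ratio of two nonsquares is a square. -/
theorem isSquare_div_of_not {F : Type*} [Field F] [Finite F] {a b : F}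
    (ha : ¬ IsSquare a) (hb : ¬ IsSquare b) : IsSquare (a * b) := by
  classical
  obtain ⟨_⟩ := nonempty_fintype F
  by_cases hF : ringChar F = 2
  · exact absurd (FiniteField.isSquare_of_char_two hF a) ha
  have ha0 : a ≠ 0 := by rintro rfl; exact ha ⟨0, by simp⟩
  have hb0 : b ≠ 0 := by rintro rfl; exact hb ⟨0, by simp⟩
  rw [← quadraticChar_one_iff_isSquare (mul_ne_zero ha0 hb0), map_mul,
    (quadraticChar_neg_one_iff_not_isSquare).2 ha, (quadraticChar_neg_one_iff_not_isSquare).2 hb]
  norm_num

/-- A non-degenerate symmetric form in dimension at least two over a finite field of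
characteristic not two represents every element. -/
theorem exists_self_eq {F V : Type*} [Field F] [Finite F] [AddCommGroup V] [Module F V]
    [FiniteDimensional F V] (h2 : (2 : F) ≠ 0) (B : LinearMap.BilinForm F V) (hS : B.IsSymm)
    (hB : B.Nondegenerate) (hn : 2 ≤ Module.finrank F V) (c : F) : ∃ v : V, B v v = c := by
  have : Invertible (2 : F) := invertibleOfNonzero h2
  obtain ⟨e, he⟩ := LinearMap.BilinForm.exists_orthogonal_basis
    (LinearMap.BilinForm.isSymm_iff.1 hS)
  have hne := fun i => LinearMap.BilinForm.iIsOrtho.not_isOrtho_basis_self_of_nondegenerate he hB i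
  obtain ⟨x, y, hxy⟩ := exists_diag_two_eq h2 (hne ⟨0, by omega⟩) (hne ⟨1, by omega⟩) c
  refine ⟨x • e ⟨0, by omega⟩ + y • e ⟨1, by omega⟩, ?_⟩
  have h01 : B (e ⟨0, by omega⟩) (e ⟨1, by omega⟩) = 0 := he (by simp)
  have h10 : B (e ⟨1, by omega⟩) (e ⟨0, by omega⟩) = 0 := he (by simp)
  simp only [map_add, map_smul, LinearMap.add_apply, LinearMap.smul_apply, smul_eq_mul, h01, h10]
  linear_combination hxy

/-- Family version of the normal form. -/
theorem exists_family {F : Type*} [Field F] [Finite F] (h2 : (2 : F) ≠ 0) (α : F)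
    (hα : ¬ IsSquare α) (n : ℕ) : ∀ {V : Type*} [AddCommGroup V] [Module F V]
    [FiniteDimensional F V] (B : LinearMap.BilinForm F V), B.IsSymm → B.Nondegenerate →
    Module.finrank F V = n + 1 → ∃ b : Fin (n + 1) → V, (∀ i j, i ≠ j → B (b i) (b j) = 0) ∧
      (∀ i, i ≠ Fin.last n → B (b i) (b i) = 1) ∧
      (B (b (Fin.last n)) (b (Fin.last n)) = 1 ∨ B (b (Fin.last n)) (b (Fin.last n)) = α) := by
  induction n with
  | zero =>
    intro V _ _ _ B hS hB hn
    have : Invertible (2 : F) := invertibleOfNonzero h2
    have hsub : ∀ i j : Fin (0 + 1), i = j := fun i j => Fin.ext (by omega)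
    have hB0 : B ≠ 0 := by
      rintro rfl
      obtain ⟨v, hv⟩ : ∃ v : V, v ≠ 0 := by
        have : Nontrivial V := Module.nontrivial_of_finrank_pos (R := F) (by omega)
        exact exists_ne 0
      exact hv (hB.1 v (by simp))
    obtain ⟨v, hv⟩ := LinearMap.BilinForm.exists_bilinForm_self_ne_zero hB0
      (LinearMap.BilinForm.isSymm_iff.1 hS)
    by_cases hsq : IsSquare (B v v)
    · obtain ⟨d, hd⟩ := hsq
      have hd0 : d ≠ 0 := by rintro rfl; exact hv (by simpa using hd)
      refine ⟨fun _ => d⁻¹ • v, ?_, ?_, Or.inl ?_⟩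
      · intro i j hij; exact absurd (hsub i j) hij
      · intro i hi; exact absurd (hsub i _) hi
      · simp only [map_smul, LinearMap.smul_apply, smul_eq_mul, hd]
        field_simp
    · obtain ⟨d, hd⟩ := isSquare_div_of_not hα hsq
      refine ⟨fun _ => (d / B v v) • v, ?_, ?_, Or.inr ?_⟩
      · intro i j hij; exact absurd (hsub i j) hij
      · intro i hi; exact absurd (hsub i _) hi
      · simp only [map_smul, LinearMap.smul_apply, smul_eq_mul]
        field_simp
        linear_combination -hd
  | succ n ih =>
    intro V _ _ _ B hS hB hn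
    obtain ⟨v, hv⟩ := exists_self_eq h2 B hS hB (by omega) 1
    have hv0 : B v v ≠ 0 := by rw [hv]; exact one_ne_zero
    have hW := LinearMap.BilinForm.restrict_nondegenerate_orthogonal_spanSingleton B hB
      hS.isRefl hv0
    have hfin : Module.finrank F (B.orthogonal (F ∙ v)) = n + 1 := by
      rw [LinearMap.BilinForm.finrank_orthogonal hB, finrank_span_singleton, hn]
      · rfl
      · rintro rfl; exact hv0 (by simp)
    obtain ⟨b, hb1, hb2, hb3⟩ := ih (B.restrict (B.orthogonal (F ∙ v)))
      (hS.restrict _) hW hfin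
    have hvb : ∀ i, B v (b i) = 0 := fun i =>
      (b i).2 v (Submodule.mem_span_singleton_self v)
    have hbv : ∀ i, B (b i) v = 0 := fun i => by rw [← hS.eq]; exact hvb i
    refine ⟨Fin.cons v (fun i => (b i : V)), ?_, ?_, ?_⟩
    · intro i j
      refine Fin.cases ?_ (fun i => ?_) i <;> refine Fin.cases ?_ (fun j => ?_) j
      · intro h; exact absurd rfl h
      · intro _; simpa using hvb j
      · intro _; simpa using hbv i
      · intro h
        simpa using hb1 i j (fun h' => h (by rw [h']))
    · intro i
      refine Fin.cases ?_ (fun i => ?_) i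
      · intro _; simpa using hv
      · intro h
        simpa using hb2 i (fun h' => h (by rw [h']; rfl))
    · have : Fin.last (n + 1) = Fin.succ (Fin.last n) := rfl
      rw [this]
      simpa using hb3

/-- **Normal form.** Over a finite field of odd characteristic, a non-degenerate symmetric bilinear
form has an orthogonal basis whose vectors all have norm `1`, except possibly the last one, whose
norm is `1` or a prescribed non-square `α`. -/
theorem exists_basis_one_or_nonsquare {F V : Type*} [Field F] [Finite F] [AddCommGroup V]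
    [Module F V] [FiniteDimensional F V] (h2 : (2 : F) ≠ 0) (B : LinearMap.BilinForm F V)
    (hS : B.IsSymm) (hB : B.Nondegenerate) {n : ℕ} (hn : Module.finrank F V = n + 1) (α : F)
    (hα : ¬ IsSquare α) : ∃ b : Module.Basis (Fin (n + 1)) F V,
      (∀ i j, i ≠ j → B (b i) (b j) = 0) ∧ (∀ i, i ≠ Fin.last n → B (b i) (b i) = 1) ∧
      (B (b (Fin.last n)) (b (Fin.last n)) = 1 ∨ B (b (Fin.last n)) (b (Fin.last n)) = α) := by
  obtain ⟨b, hb1, hb2, hb3⟩ := exists_family h2 α hα n B hS hB hn
  have hα0 : α ≠ 0 := by rintro rfl; exact hα ⟨0, by simp⟩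
  have hne : ∀ i, B (b i) (b i) ≠ 0 := by
    intro i
    by_cases hi : i = Fin.last n
    · subst hi
      rcases hb3 with h | h <;> rw [h]
      · exact one_ne_zero
      · exact hα0
    · rw [hb2 i hi]; exact one_ne_zero
  have hli : LinearIndependent F b :=
    LinearMap.BilinForm.linearIndependent_of_iIsOrtho (B := B) (fun i j hij => hb1 i j hij) hne
  refine ⟨basisOfLinearIndependentOfCardEqFinrank hli (by simp [hn]), ?_⟩
  simpa using ⟨hb1, hb2, hb3⟩

end Cfsg.Agent.ClassicalGeometry.SymmNormalForm
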