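import Mathlib
import Cfsg.Prelude.Def_ClassicalGeometry
import Cfsg.Agent.ClassicalGeometry.Reflection

set_option autoImplicit false

namespace Cfsg.Agent.ClassicalGeometry.Universal

open QuadraticMap Matrix Cfsg.Agent.ClassicalGeometry.Reflection

variable {ι : Type} [Fintype ι] [DecidableEq ι] {F : Type*} [Field F]

theorem ringChar_ne_two (h2 : (2 : F) ≠ 0) : ringChar F ≠ 2 := by
  intro h
  apply h2
  have := CharP.cast_eq_zero F (ringChar F)
  rw [h] at this
  exact_mod_cast this

/-- Product of two non-squares in a finite field is a square. -/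
theorem isSquare_mul_of_not [Finite F] (h2 : (2 : F) ≠ 0) {a b : F} (ha : ¬ IsSquare a)
    (hb : ¬ IsSquare b) : IsSquare (a * b) := by
  classical
  let _ := Fintype.ofFinite F
  have hF := ringChar_ne_two h2
  have ha0 : a ≠ 0 := by rintro rfl; exact ha IsSquare.zero
  have hb0 : b ≠ 0 := by rintro rfl; exact hb IsSquare.zero
  have h1 := (quadraticChar_neg_one_iff_not_isSquare (F := F)).2 ha
  have h3 := (quadraticChar_neg_one_iff_not_isSquare (F := F)).2 hb
  rw [← quadraticChar_one_iff_isSquare (mul_ne_zero ha0 hb0), map_mul, h1, h3]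
  norm_num

theorem isSquare_mul_iff [Finite F] (h2 : (2 : F) ≠ 0) {a b : F} (ha : a ≠ 0) (hb : b ≠ 0) :
    IsSquare (a * b) ↔ (IsSquare a ↔ IsSquare b) := by
  have key : ∀ {x y : F}, x ≠ 0 → IsSquare x → IsSquare (x * y) → IsSquare y := by
    rintro x y hx ⟨s, hs⟩ ⟨t, ht⟩
    refine ⟨t / s, ?_⟩
    have hs0 : s ≠ 0 := by rintro rfl; exact hx (by rw [hs, mul_zero])
    field_simp
    rw [pow_two, pow_two, ← hs, ← ht]; ring
  constructor
  · intro h
    exact ⟨fun h1 => key ha h1 h, fun h1 => key hb h1 (by rwa [mul_comm] at h)⟩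
  · intro h
    by_cases h1 : IsSquare a
    · exact h1.mul (h.1 h1)
    · exact isSquare_mul_of_not h2 h1 (fun h3 => h1 (h.2 h3))

/-- A form with non-degenerate polar form on a non-zero space is not identically zero
(any field). -/
theorem exists_map_ne_zero (Q : QuadraticForm F (ι → F))
    (hQ : (QuadraticMap.polarBilin Q).Nondegenerate) [Nonempty ι] : ∃ v, Q v ≠ 0 := by
  by_contra h
  push Not at h
  obtain ⟨i⟩ := ‹Nonempty ι›
  have h1 : (Pi.single i 1 : ι → F) = 0 := by
    apply hQ.1
    intro y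
    rw [polarBilin_apply_apply, polar, h, h, h]
    simp
  have h3 := congrFun h1 i
  simp at h3

/-- If `Q v ≠ 0`, characteristic not two, dimension at least two, there is a vector orthogonal to
`v` with `Q ≠ 0`. -/
theorem exists_orthogonal_map_ne_zero (h2 : (2 : F) ≠ 0) (Q : QuadraticForm F (ι → F))
    (hQ : (QuadraticMap.polarBilin Q).Nondegenerate) (hn : 2 ≤ Fintype.card ι) (v : ι → F)
    (hv : Q v ≠ 0) : ∃ w, polar (⇑Q) v w = 0 ∧ Q w ≠ 0 := by
  by_contra h
  push Not at h
  -- the projection to the orthogonal complement of `v`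
  have hproj : ∀ x : ι → F, polar (⇑Q) v (x - (polar (⇑Q) v x / (2 * Q v)) • v) = 0 := by
    intro x
    rw [QuadraticMap.polar_sub_right, QuadraticMap.polar_smul_right, polar_self', smul_eq_mul,
      div_mul_cancel₀ _ (mul_ne_zero h2 hv), sub_self]
  have h0 : ∀ x, polar (⇑Q) v x = 0 → x = 0 := by
    intro x hx
    apply hQ.1
    intro y
    rw [polarBilin_apply_apply]
    set y' := y - (polar (⇑Q) v y / (2 * Q v)) • v with hy'
    have hy : y = y' + (polar (⇑Q) v y / (2 * Q v)) • v := by rw [hy']; abel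
    have h1 := hproj y
    rw [← hy'] at h1
    rw [hy, QuadraticMap.polar_add_right, QuadraticMap.polar_smul_right, polar_comm (⇑Q) x v, hx,
      smul_zero, add_zero, polar, h x hx, h y' h1, h (x + y') (by
        rw [QuadraticMap.polar_add_right, hx, h1, add_zero])]
    simp
  have h3 : Module.finrank F (ι → F) ≤ 1 := by
    apply finrank_le_one v
    intro w
    exact ⟨_, (sub_eq_zero.1 (h0 _ (hproj w))).symm⟩
  rw [Module.finrank_fintype_fun_eq_card] at h3
  omega

/-- Over a finite field of odd order `a x² + b y² = c` is solvable. -/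
theorem exists_sq_add_sq [Finite F] (h2 : (2 : F) ≠ 0) {a b : F} (ha : a ≠ 0) (hb : b ≠ 0) (c : F) :
    ∃ x y : F, a * x ^ 2 + b * y ^ 2 = c := by
  classical
  let _ := Fintype.ofFinite F
  open Polynomial in
  obtain ⟨x, y, h⟩ := FiniteField.exists_root_sum_quadratic
    (f := (C a * X ^ 2 : F[X])) (g := (C b * X ^ 2 - C c : F[X]))
    (by rw [degree_C_mul_X_pow 2 ha]; rfl)
    (by
      rw [degree_sub_C]
      · rw [degree_C_mul_X_pow 2 hb]; rfl
      · rw [degree_C_mul_X_pow 2 hb]; exact (by norm_num : (0 : WithBot ℕ) < ((2 : ℕ) : WithBot ℕ)))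
    (FiniteField.odd_card_of_char_ne_two (ringChar_ne_two h2))
  refine ⟨x, y, ?_⟩
  simp only [Polynomial.eval_mul, Polynomial.eval_C, Polynomial.eval_pow, Polynomial.eval_X,
    Polynomial.eval_sub] at h
  linear_combination h

/-- A form with non-degenerate polar form of dimension at least two over a finite field of odd
order represents every value at a vector (non-zero when the value is). -/
theorem exists_map_eq_of_two_le [Finite F] (h2 : (2 : F) ≠ 0) (Q : QuadraticForm F (ι → F))
    (hQ : (QuadraticMap.polarBilin Q).Nondegenerate) (hn : 2 ≤ Fintype.card ι) (c : F) :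
    ∃ v, Q v = c := by
  have : Nonempty ι := Fintype.card_pos_iff.1 (by omega)
  obtain ⟨v, hv⟩ := exists_map_ne_zero Q hQ
  obtain ⟨w, hvw, hw⟩ := exists_orthogonal_map_ne_zero h2 Q hQ hn v hv
  obtain ⟨x, y, h⟩ := exists_sq_add_sq h2 hv hw c
  refine ⟨x • v + y • w, ?_⟩
  rw [map_add', QuadraticMap.map_smul, QuadraticMap.map_smul, QuadraticMap.polar_smul_left,
    QuadraticMap.polar_smul_right, hvw, smul_zero, smul_zero, add_zero, ← h]
  simp only [smul_eq_mul]
  ring

/-- There are vectors with `Q v` a non-zero square and with `Q v` a non-square. -/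
theorem exists_isSquare_and_not [Finite F] (h2 : (2 : F) ≠ 0) (Q : QuadraticForm F (ι → F))
    (hQ : (QuadraticMap.polarBilin Q).Nondegenerate) (hn : 2 ≤ Fintype.card ι) :
    (∃ v, Q v = 1) ∧ ∃ w, Q w ≠ 0 ∧ ¬ IsSquare (Q w) := by
  refine ⟨exists_map_eq_of_two_le h2 Q hQ hn 1, ?_⟩
  obtain ⟨a, ha⟩ := FiniteField.exists_nonsquare (ringChar_ne_two h2)
  obtain ⟨w, hw⟩ := exists_map_eq_of_two_le h2 Q hQ hn a
  refine ⟨w, ?_, by rwa [hw]⟩
  rw [hw]
  rintro rfl
  exact ha IsSquare.zero

end Cfsg.Agent.ClassicalGeometry.Universal
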