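import Mathlib
import Cfsg.Prelude.Def_ClassicalGeometry
import Cfsg.Agent.ClassicalGeometry.Reflection

set_option autoImplicit false
set_option linter.unusedSectionVars false

namespace Cfsg.Agent.ClassicalGeometry.CartanDieudonne

open QuadraticMap Matrix Module
open Cfsg.Agent.ClassicalGeometry.Reflection

variable {ι : Type} [Fintype ι] [DecidableEq ι] {F : Type*} [Field F]

theorem polarBilin_isSymm (Q : QuadraticForm F (ι → F)) :
    LinearMap.IsSymm (polarBilin Q) :=
  ⟨fun x y => by
    simp only [polarBilin_apply_apply, RingHom.id_apply]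
    exact polar_comm (⇑Q) x y⟩

/-- In characteristic not two a non-degenerate quadratic form has an orthogonal basis consisting of
anisotropic vectors. -/
theorem exists_orthogonal_basis (h2 : (2 : F) ≠ 0) (Q : QuadraticForm F (ι → F))
    (hQ : (polarBilin Q).Nondegenerate) :
    ∃ b : Basis (Fin (finrank F (ι → F))) F (ι → F),
      (∀ i, Q (b i) ≠ 0) ∧ ∀ i j, i ≠ j → polar (⇑Q) (b i) (b j) = 0 := by
  haveI : Invertible (2 : F) := invertibleOfNonzero h2
  obtain ⟨b, hb⟩ := LinearMap.BilinForm.exists_orthogonal_basis (polarBilin_isSymm Q)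
  refine ⟨b, fun i hi => ?_, fun i j hij => ?_⟩
  · apply hb.not_isOrtho_basis_self_of_separatingLeft hQ.1 i
    rw [polarBilin_apply_apply, polar_self', hi, mul_zero]
  · have := hb hij
    simpa [Function.onFun] using this

/-- In characteristic not two, for `u, v` with `Q u = Q v ≠ 0` and a set of vectors orthogonal to
both, there is a product of at most two reflections, fixing the set pointwise, mapping `u` to `v`. -/
theorem exists_refl_mul_map (h2 : (2 : F) ≠ 0) (Q : QuadraticForm F (ι → F)) (u v : ι → F)
    (huv : Q u = Q v) (hv : Q v ≠ 0) :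
    (∃ h : Q (u - v) ≠ 0,
      ((reflIso Q (u - v) h : Matrix.GeneralLinearGroup ι F) : Matrix ι ι F) *ᵥ u = v) ∨
    (∃ h : Q (u + v) ≠ 0,
      (((reflIso Q v hv * reflIso Q (u + v) h : Cfsg.isometryGroup F (⇑Q)) :
        Matrix.GeneralLinearGroup ι F) : Matrix ι ι F) *ᵥ u = v) := by
  by_cases h : Q (u - v) = 0
  · right
    have h1 : Q (u + v) ≠ 0 := by
      intro h0
      have h3 : Q (u + v) + Q (u - v) = 2 * (Q u + Q v) := by
        rw [sub_eq_add_neg, map_add', map_add', QuadraticMap.map_neg,
          QuadraticMap.polar_neg_right]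
        ring
      rw [h0, h, huv] at h3
      have h4 : (2 : F) * 2 * Q v = 0 := by linear_combination -h3
      exact (mul_ne_zero (mul_ne_zero h2 h2) hv) h4
    refine ⟨h1, ?_⟩
    rw [coe_mul_mulVec, coe_reflIso, coe_reflIso]
    have h5 : Cfsg.reflectionMatrix (⇑Q) (u + v) *ᵥ u = -v := by
      have := reflectionMatrix_sub_mulVec Q u (-v) (by rw [QuadraticMap.map_neg, huv])
        (by rwa [sub_neg_eq_add])
      rwa [sub_neg_eq_add] at this
    rw [h5, Matrix.mulVec_neg, reflectionMatrix_mulVec_self Q v hv, neg_neg]
  · left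
    exact ⟨h, by rw [coe_reflIso]; exact reflectionMatrix_sub_mulVec Q u v huv h⟩

/-- Induction principle (weak Cartan-Dieudonné theorem): in characteristic not two, a property of
isometries of a non-degenerate quadratic form that holds for `1` and is stable under left
multiplication by reflections holds for all isometries. -/
theorem isometry_induction (h2 : (2 : F) ≠ 0) (Q : QuadraticForm F (ι → F))
    (hQ : (polarBilin Q).Nondegenerate) (p : Cfsg.isometryGroup F (⇑Q) → Prop) (h1 : p 1)
    (hmul : ∀ (v : ι → F) (hv : Q v ≠ 0) (g : Cfsg.isometryGroup F (⇑Q)),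
      p g → p (reflIso Q v hv * g)) (g : Cfsg.isometryGroup F (⇑Q)) : p g := by
  obtain ⟨b, hb1, hb2⟩ := exists_orthogonal_basis h2 Q hQ
  suffices H : ∀ k : ℕ, ∀ g : Cfsg.isometryGroup F (⇑Q),
      (∀ i : Fin (finrank F (ι → F)), k ≤ (i : ℕ) →
        ((g : Matrix.GeneralLinearGroup ι F) : Matrix ι ι F) *ᵥ b i = b i) → p g by
    refine H (finrank F (ι → F)) g fun i hi => ?_
    exact absurd i.2 (not_lt.2 hi)
  intro k
  induction k with
  | zero =>
    intro g hg
    have : g = 1 := by
      apply isometryGroup_ext
      intro x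
      have h3 : Matrix.mulVecLin ((g : Matrix.GeneralLinearGroup ι F) : Matrix ι ι F)
          = LinearMap.id := by
        apply b.ext
        intro i
        simpa using hg i (Nat.zero_le _)
      have h4 := congrArg (fun f => f x) h3
      simpa using h4
    rw [this]
    exact h1
  | succ k ih =>
    intro g hg
    by_cases hk : k < finrank F (ι → F)
    · set i0 : Fin (finrank F (ι → F)) := ⟨k, hk⟩ with hi0
      have hgQ := (mem_isometryGroup_iff _ _).1 g.2
      set u : ι → F := ((g : Matrix.GeneralLinearGroup ι F) : Matrix ι ι F) *ᵥ b i0 with hu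
      have huv : Q u = Q (b i0) := hgQ _
      -- orthogonality of `u` and `b i0` to later basis vectors
      have hortho : ∀ i : Fin (finrank F (ι → F)), k + 1 ≤ (i : ℕ) →
          polar (⇑Q) u (b i) = 0 ∧ polar (⇑Q) (b i0) (b i) = 0 := by
        intro i hi
        have hne : i0 ≠ i := by
          intro h
          rw [← h, hi0] at hi
          simp at hi
        refine ⟨?_, hb2 _ _ hne⟩
        rw [← hg i hi, hu, polar_mulVec_of_isometry Q _ hgQ]
        exact hb2 _ _ hne
      rcases exists_refl_mul_map h2 Q u (b i0) huv (hb1 i0) with ⟨h, hh⟩ | ⟨h, hh⟩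
      · have key : p (reflIso Q (u - b i0) h * g) := by
          apply ih
          intro i hi
          rw [coe_mul_mulVec]
          rcases Nat.eq_or_lt_of_le hi with hi | hi
          · have : i = i0 := Fin.ext hi.symm
            rw [this]
            exact hh
          · rw [hg i hi, coe_reflIso]
            apply reflectionMatrix_mulVec_of_polar_eq_zero
            rw [QuadraticMap.polar_sub_left, (hortho i hi).1, (hortho i hi).2, sub_zero]
        have := hmul _ h _ key
        rwa [← mul_assoc, reflIso_mul_self, one_mul] at this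
      · have key : p (reflIso Q (b i0) (hb1 i0) * (reflIso Q (u + b i0) h * g)) := by
          rw [← mul_assoc]
          apply ih
          intro i hi
          rw [coe_mul_mulVec]
          rcases Nat.eq_or_lt_of_le hi with hi | hi
          · have : i = i0 := Fin.ext hi.symm
            rw [this]
            exact hh
          · rw [hg i hi, coe_mul_mulVec, coe_reflIso, coe_reflIso,
              reflectionMatrix_mulVec_of_polar_eq_zero Q (u + b i0) (b i),
              reflectionMatrix_mulVec_of_polar_eq_zero Q (b i0) (b i)]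
            · exact (hortho i hi).2
            · rw [QuadraticMap.polar_add_left, (hortho i hi).1, (hortho i hi).2, add_zero]
        have h5 := hmul _ (hb1 i0) _ key
        rw [← mul_assoc (reflIso Q (b i0) (hb1 i0)) (reflIso Q (b i0) (hb1 i0)), reflIso_mul_self,
          one_mul] at h5
        have h6 := hmul _ h _ h5
        rwa [← mul_assoc, reflIso_mul_self, one_mul] at h6
    · apply ih
      intro i hi
      exact absurd (lt_of_le_of_lt hi i.2) hk

/-- Weak Cartan-Dieudonné: in characteristic not two the isometry group of a non-degenerate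
quadratic form is generated by the reflections. -/
theorem closure_reflections_eq_top (h2 : (2 : F) ≠ 0) (Q : QuadraticForm F (ι → F))
    (hQ : (polarBilin Q).Nondegenerate) :
    Subgroup.closure {g : Cfsg.isometryGroup F (⇑Q) | ∃ v : ι → F, Q v ≠ 0 ∧
      ((g : Matrix.GeneralLinearGroup ι F) : Matrix ι ι F) = Cfsg.reflectionMatrix (⇑Q) v} = ⊤ := by
  rw [eq_top_iff]
  rintro g -
  refine isometry_induction h2 Q hQ (fun g => g ∈ Subgroup.closure _) (Subgroup.one_mem _) ?_ g
  intro v hv g hg
  exact Subgroup.mul_mem _ (Subgroup.subset_closure ⟨v, hv, rfl⟩) hg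

/-- An element of the isometry group whose matrix is a reflection matrix is `reflIso`. -/
theorem eq_reflIso (Q : QuadraticForm F (ι → F)) (g : Cfsg.isometryGroup F (⇑Q)) (v : ι → F)
    (hv : Q v ≠ 0)
    (h : ((g : Matrix.GeneralLinearGroup ι F) : Matrix ι ι F) = Cfsg.reflectionMatrix (⇑Q) v) :
    g = reflIso Q v hv := by
  apply Subtype.ext
  apply Units.ext
  exact h

/-- Membership in `specialIsometryGroup`. -/
theorem mem_specialIsometryGroup_iff (Q : (ι → F) → F) (g : Cfsg.isometryGroup F Q) :
    g ∈ Cfsg.specialIsometryGroup F Q ↔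
      ((g : Matrix.GeneralLinearGroup ι F) : Matrix ι ι F).det = 1 := by
  constructor
  · intro h
    have h1 : Matrix.GeneralLinearGroup.det (g : Matrix.GeneralLinearGroup ι F) = 1 := h
    have h2 := congrArg (Units.val) h1
    simpa using h2
  · intro h
    change Matrix.GeneralLinearGroup.det (g : Matrix.GeneralLinearGroup ι F) = 1
    apply Units.ext
    simpa using h

/-- In characteristic not two the special orthogonal group is generated by the products of two
reflections. -/
theorem specialIsometryGroup_eq_closure (h2 : (2 : F) ≠ 0) (Q : QuadraticForm F (ι → F))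
    (hQ : (polarBilin Q).Nondegenerate) :
    Cfsg.specialIsometryGroup F (⇑Q) = Subgroup.closure {g : Cfsg.isometryGroup F (⇑Q) |
      ∃ u v : ι → F, Q u ≠ 0 ∧ Q v ≠ 0 ∧
      ((g : Matrix.GeneralLinearGroup ι F) : Matrix ι ι F)
        = Cfsg.reflectionMatrix (⇑Q) u * Cfsg.reflectionMatrix (⇑Q) v} := by
  have hneg : (-1 : F) ≠ 1 := by
    intro h
    apply h2
    linear_combination -h
  apply le_antisymm
  · set P := Subgroup.closure {g : Cfsg.isometryGroup F (⇑Q) |
      ∃ u v : ι → F, Q u ≠ 0 ∧ Q v ≠ 0 ∧
      ((g : Matrix.GeneralLinearGroup ι F) : Matrix ι ι F)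
        = Cfsg.reflectionMatrix (⇑Q) u * Cfsg.reflectionMatrix (⇑Q) v} with hP
    have key : ∀ g : Cfsg.isometryGroup F (⇑Q),
        (((g : Matrix.GeneralLinearGroup ι F) : Matrix ι ι F).det = 1 ∧ g ∈ P) ∨
        (((g : Matrix.GeneralLinearGroup ι F) : Matrix ι ι F).det = -1 ∧
          ∃ (v : ι → F) (hv : Q v ≠ 0), reflIso Q v hv * g ∈ P) := by
      apply isometry_induction h2 Q hQ
      · left
        exact ⟨by simp, Subgroup.one_mem _⟩
      · intro v hv g hg
        have hdet : (((reflIso Q v hv * g : Cfsg.isometryGroup F (⇑Q)) :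
            Matrix.GeneralLinearGroup ι F) : Matrix ι ι F).det
            = -((g : Matrix.GeneralLinearGroup ι F) : Matrix ι ι F).det := by
          rw [Subgroup.coe_mul, Units.val_mul, Matrix.det_mul, det_reflIso, neg_one_mul]
        rcases hg with ⟨hd, hg⟩ | ⟨hd, w, hw, hg⟩
        · right
          refine ⟨by rw [hdet, hd], v, hv, ?_⟩
          rwa [← mul_assoc, reflIso_mul_self, one_mul]
        · left
          refine ⟨by rw [hdet, hd, neg_neg], ?_⟩
          have h3 : reflIso Q v hv * g = (reflIso Q v hv * reflIso Q w hw) * (reflIso Q w hw * g) := by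
            rw [mul_assoc, ← mul_assoc (reflIso Q w hw) (reflIso Q w hw), reflIso_mul_self, one_mul]
          rw [h3]
          exact Subgroup.mul_mem _ (Subgroup.subset_closure ⟨v, w, hv, hw, rfl⟩) hg
    intro g hg
    rw [mem_specialIsometryGroup_iff] at hg
    rcases key g with ⟨_, h⟩ | ⟨h, _⟩
    · exact h
    · exact absurd (h.symm.trans hg) hneg
  · rw [Subgroup.closure_le]
    rintro g ⟨u, v, hu, hv, hg⟩
    rw [SetLike.mem_coe, mem_specialIsometryGroup_iff, hg, Matrix.det_mul,
      det_reflectionMatrix Q u hu, det_reflectionMatrix Q v hv]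
    ring

end Cfsg.Agent.ClassicalGeometry.CartanDieudonne
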