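import Mathlib
import Cfsg.Prelude.Def_ClassicalGeometry
import Cfsg.Agent.ClassicalGeometry.Reflection
import Cfsg.Agent.ClassicalGeometry.SpinorSign
import Cfsg.Agent.ClassicalGeometry.Universal
import Cfsg.Agent.ClassicalGeometry.CartanDieudonne

set_option autoImplicit false

namespace Cfsg.Agent.ClassicalGeometry.OmegaIndex

open QuadraticMap Matrix Cfsg.Agent.ClassicalGeometry.Reflection
open Cfsg.Agent.ClassicalGeometry.SpinorSign Cfsg.Agent.ClassicalGeometry.Universal
open Cfsg.Agent.ClassicalGeometry.CartanDieudonne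

variable {ι : Type} [Fintype ι] [DecidableEq ι] {F : Type*} [Field F]

/-- Determinant and spinor sign together. -/
noncomputable def detSpinor [Finite F] (Q : (ι → F) → F) (c : F) :
    Cfsg.isometryGroup F Q →* Fˣ × ℤˣ :=
  (Matrix.GeneralLinearGroup.det.comp (Cfsg.isometryGroup F Q).subtype).prod (spinorSign Q c)

theorem detSpinor_eq_one_iff [Finite F] (Q : (ι → F) → F) (c : F) (g : Cfsg.isometryGroup F Q) :
    detSpinor Q c g = 1 ↔
      ((g : Matrix.GeneralLinearGroup ι F) : Matrix ι ι F).det = 1 ∧ spinorSign Q c g = 1 := by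
  rw [← mem_specialIsometryGroup_iff]
  constructor
  · intro h
    exact ⟨congrArg Prod.fst h, congrArg Prod.snd h⟩
  · intro h
    exact Prod.ext h.1 h.2

theorem detSpinor_reflIso [Finite F] (h2 : (2 : F) ≠ 0) (Q : QuadraticForm F (ι → F)) {c : F}
    (hc : c ≠ 0) (v : ι → F) (hv : Q v ≠ 0) [Decidable (IsSquare (c * Q v))] :
    detSpinor (⇑Q) c (reflIso Q v hv) = (-1, if IsSquare (c * Q v) then -1 else 1) := by
  apply Prod.ext
  · apply Units.ext
    exact det_reflIso Q v hv
  · exact spinorSign_reflIso h2 Q hc v hv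

/-- The classes of reflections in the abelianization depend only on the square class. -/
theorem abelianization_of_reflIso_eq (h2 : (2 : F) ≠ 0) (Q : QuadraticForm F (ι → F)) {v w : ι → F}
    (hv : Q v ≠ 0) (hw : Q w ≠ 0) (h : IsSquare (Q v * Q w)) :
    Abelianization.of (reflIso Q v hv) = Abelianization.of (reflIso Q w hw) := by
  obtain ⟨u, hu, h3⟩ := exists_conj_reflIso_of_isSquare h2 Q hv hw h
  rw [h3, map_mul, map_mul, mul_comm, ← mul_assoc, ← map_mul, reflIso_mul_self, map_one, one_mul]

theorem neg_one_ne_one_units (h2 : (2 : F) ≠ 0) : (-1 : Fˣ) ≠ 1 := by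
  intro h
  apply h2
  have := congrArg Units.val h
  simp only [Units.val_neg, Units.val_one] at this
  linear_combination -this

section Main

variable [Finite F]

/-- Every element of the abelianization is a product of the classes of two fixed reflections. -/
theorem abelianization_cases (h2 : (2 : F) ≠ 0) (Q : QuadraticForm F (ι → F))
    (hQ : (QuadraticMap.polarBilin Q).Nondegenerate) {c : F} (hc : c ≠ 0) (v w : ι → F)
    (hv : Q v ≠ 0) (hw : Q w ≠ 0) (h1 : IsSquare (c * Q v)) (h3 : ¬ IsSquare (c * Q w))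
    (x : Abelianization (Cfsg.isometryGroup F (⇑Q))) :
    x = 1 ∨ x = Abelianization.of (reflIso Q v hv) ∨ x = Abelianization.of (reflIso Q w hw) ∨
      x = Abelianization.of (reflIso Q v hv) * Abelianization.of (reflIso Q w hw) := by
  induction x using QuotientGroup.induction_on with
  | H g =>
  change (Abelianization.of g = 1 ∨ Abelianization.of g = _ ∨ Abelianization.of g = _ ∨
    Abelianization.of g = _)
  set α := Abelianization.of (reflIso Q v hv) with hα
  set β := Abelianization.of (reflIso Q w hw) with hβ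
  have hα2 : α * α = 1 := by rw [hα, ← map_mul, reflIso_mul_self, map_one]
  have hβ2 : β * β = 1 := by rw [hβ, ← map_mul, reflIso_mul_self, map_one]
  have hαβ : β * α = α * β := mul_comm _ _
  have hr : ∀ (u : ι → F) (hu : Q u ≠ 0), Abelianization.of (reflIso Q u hu) = α ∨
      Abelianization.of (reflIso Q u hu) = β := by
    intro u hu
    by_cases h : IsSquare (c * Q u)
    · left
      apply abelianization_of_reflIso_eq h2
      rw [isSquare_mul_iff h2 hu hv]
      rw [isSquare_mul_iff h2 hc hu] at h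
      rw [isSquare_mul_iff h2 hc hv] at h1
      tauto
    · right
      apply abelianization_of_reflIso_eq h2
      rw [isSquare_mul_iff h2 hu hw]
      rw [isSquare_mul_iff h2 hc hu] at h
      rw [isSquare_mul_iff h2 hc hw] at h3
      tauto
  refine isometry_induction h2 Q hQ (fun g => Abelianization.of g = 1 ∨ Abelianization.of g = α ∨
    Abelianization.of g = β ∨ Abelianization.of g = α * β) (Or.inl (map_one _)) ?_ g
  intro u hu g hg
  simp only [map_mul]
  rcases hr u hu with h | h <;> rcases hg with hg | hg | hg | hg <;> rw [h, hg]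
  · exact Or.inr (Or.inl (mul_one _))
  · exact Or.inl hα2
  · exact Or.inr (Or.inr (Or.inr rfl))
  · exact Or.inr (Or.inr (Or.inl (by rw [← mul_assoc, hα2, one_mul])))
  · exact Or.inr (Or.inr (Or.inl (mul_one _)))
  · exact Or.inr (Or.inr (Or.inr hαβ))
  · exact Or.inl hβ2
  · exact Or.inr (Or.inl (by rw [mul_left_comm, hβ2, mul_one]))

/-- `Ω` is the joint kernel of the determinant and the spinor sign. -/
theorem mem_Omega_iff (h2 : (2 : F) ≠ 0) (Q : QuadraticForm F (ι → F))
    (hQ : (QuadraticMap.polarBilin Q).Nondegenerate) (hn : 2 ≤ Fintype.card ι) {c : F}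
    (hc : c ≠ 0) (g : Cfsg.isometryGroup F (⇑Q)) :
    g ∈ Cfsg.Omega F (⇑Q) ↔
      ((g : Matrix.GeneralLinearGroup ι F) : Matrix ι ι F).det = 1 ∧ spinorSign (⇑Q) c g = 1 := by
  classical
  rw [← detSpinor_eq_one_iff]
  constructor
  · intro h
    exact Abelianization.commutator_subset_ker (detSpinor (⇑Q) c) h
  · intro h
    obtain ⟨v, hv⟩ := exists_map_eq_of_two_le h2 Q hQ hn c
    obtain ⟨a, ha⟩ := FiniteField.exists_nonsquare (ringChar_ne_two h2)
    have ha0 : a ≠ 0 := by rintro rfl; exact ha IsSquare.zero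
    obtain ⟨w, hw⟩ := exists_map_eq_of_two_le h2 Q hQ hn (c * a)
    have hv0 : Q v ≠ 0 := by rw [hv]; exact hc
    have hw0 : Q w ≠ 0 := by rw [hw]; exact mul_ne_zero hc ha0
    have hv1 : IsSquare (c * Q v) := ⟨c, by rw [hv]⟩
    have hw1 : ¬ IsSquare (c * Q w) := by
      rw [hw, ← mul_assoc, isSquare_mul_iff h2 (mul_ne_zero hc hc) ha0]
      intro h4
      exact ha (h4.1 ⟨c, rfl⟩)
    have hlift : Abelianization.lift (detSpinor (⇑Q) c) (Abelianization.of g) = 1 := by
      rw [Abelianization.lift_apply_of, h]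
    have h1 := abelianization_cases h2 Q hQ hc v w hv0 hw0 hv1 hw1 (Abelianization.of g)
    have h3 : Abelianization.of g = 1 := by
      rcases h1 with h1 | h1 | h1 | h1
      · exact h1
      · exfalso
        rw [h1, Abelianization.lift_apply_of, detSpinor_reflIso h2 Q hc v hv0, if_pos hv1] at hlift
        exact neg_one_ne_one_units h2 (congrArg Prod.fst hlift)
      · exfalso
        rw [h1, Abelianization.lift_apply_of, detSpinor_reflIso h2 Q hc w hw0, if_neg hw1] at hlift
        exact neg_one_ne_one_units h2 (congrArg Prod.fst hlift)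
      · exfalso
        rw [h1, map_mul, Abelianization.lift_apply_of, Abelianization.lift_apply_of,
          detSpinor_reflIso h2 Q hc v hv0, detSpinor_reflIso h2 Q hc w hw0, if_pos hv1,
          if_neg hw1] at hlift
        have := congrArg Prod.snd hlift
        simp at this
    exact (QuotientGroup.eq_one_iff g).1 h3

/-- For `|F|` odd and dimension at least two, `Ω` has index 4 in the isometry group. -/
theorem index_Omega (h2 : (2 : F) ≠ 0) (hn : 2 ≤ Fintype.card ι) (Q : QuadraticForm F (ι → F))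
    (hQ : (QuadraticMap.polarBilin Q).Nondegenerate) : (Cfsg.Omega F (⇑Q)).index = 4 := by
  classical
  have hker : Cfsg.Omega F (⇑Q) = (detSpinor (⇑Q) (1 : F)).ker := by
    ext g
    rw [mem_Omega_iff h2 Q hQ hn one_ne_zero, MonoidHom.mem_ker, detSpinor_eq_one_iff]
  obtain ⟨⟨v, hv⟩, w, hw0, hw⟩ := exists_isSquare_and_not h2 Q hQ hn
  have hv0 : Q v ≠ 0 := by rw [hv]; exact one_ne_zero
  have hv1 : IsSquare ((1 : F) * Q v) := by rw [hv]; exact ⟨1, rfl⟩
  have hw1 : ¬ IsSquare ((1 : F) * Q w) := by rwa [one_mul]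
  have hdv := detSpinor_reflIso h2 Q (one_ne_zero (α := F)) v hv0
  rw [if_pos hv1] at hdv
  have hdw := detSpinor_reflIso h2 Q (one_ne_zero (α := F)) w hw0
  rw [if_neg hw1] at hdw
  have hrange : (((detSpinor (⇑Q) (1 : F)).range : Subgroup (Fˣ × ℤˣ)) : Set (Fˣ × ℤˣ))
      = {(1, 1), (-1, -1), (-1, 1), (1, -1)} := by
    ext x
    simp only [SetLike.mem_coe, MonoidHom.mem_range, Set.mem_insert_iff, Set.mem_singleton_iff]
    constructor
    · rintro ⟨g, rfl⟩
      have h1 := abelianization_cases h2 Q hQ (one_ne_zero (α := F)) v w hv0 hw0 hv1 hw1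
        (Abelianization.of g)
      rw [← Abelianization.lift_apply_of (detSpinor (⇑Q) (1 : F)) g]
      rcases h1 with h1 | h1 | h1 | h1
      · left; rw [h1, map_one]; rfl
      · right; left; rw [h1, Abelianization.lift_apply_of, hdv]
      · right; right; left; rw [h1, Abelianization.lift_apply_of, hdw]
      · right; right; right
        rw [h1, map_mul, Abelianization.lift_apply_of, Abelianization.lift_apply_of, hdv, hdw]
        simp
    · rintro (rfl | rfl | rfl | rfl)
      · exact ⟨1, map_one _⟩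
      · exact ⟨_, hdv⟩
      · exact ⟨_, hdw⟩
      · refine ⟨reflIso Q v hv0 * reflIso Q w hw0, ?_⟩
        rw [map_mul, hdv, hdw]
        simp
  have hne := neg_one_ne_one_units h2
  have hne' : (1 : Fˣ) ≠ -1 := hne.symm
  have hz : (1 : ℤˣ) ≠ -1 := by decide
  have hz' : (-1 : ℤˣ) ≠ 1 := by decide
  rw [hker, Subgroup.index_ker]
  change Nat.card ↥(((detSpinor (⇑Q) (1 : F)).range : Subgroup (Fˣ × ℤˣ)) : Set (Fˣ × ℤˣ)) = 4
  rw [Nat.card_coe_set_eq, hrange, Set.ncard_insert_of_notMem, Set.ncard_insert_of_notMem, Set.ncard_pair]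
  · intro h; exact hne (congrArg Prod.fst h)
  · simp only [Set.mem_insert_iff, Set.mem_singleton_iff, Prod.mk.injEq, not_or, not_and]
    exact ⟨fun _ => hz', fun h => absurd h hne⟩
  · simp only [Set.mem_insert_iff, Set.mem_singleton_iff, Prod.mk.injEq, not_or, not_and]
    exact ⟨fun h => absurd h hne', fun h => absurd h hne', fun _ => hz⟩

/-- For `|F|` odd and dimension at least two, the group of isometries of determinant one has exactly
one subgroup of index two. -/
theorem existsUnique_index_two (h2 : (2 : F) ≠ 0) (hn : 2 ≤ Fintype.card ι)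
    (Q : QuadraticForm F (ι → F)) (hQ : (QuadraticMap.polarBilin Q).Nondegenerate) :
    ∃! H : Subgroup (Cfsg.specialIsometryGroup F (⇑Q)), H.index = 2 := by
  classical
  obtain ⟨⟨v, hv⟩, w, hw0, hw⟩ := exists_isSquare_and_not h2 Q hQ hn
  have hv0 : Q v ≠ 0 := by rw [hv]; exact one_ne_zero
  have hv1 : IsSquare ((1 : F) * Q v) := by rw [hv]; exact ⟨1, rfl⟩
  have hw1 : ¬ IsSquare ((1 : F) * Q w) := by rwa [one_mul]
  have hprod : ∀ (x y : ι → F) (hx : Q x ≠ 0) (hy : Q y ≠ 0),
      reflIso Q x hx * reflIso Q y hy ∈ Cfsg.specialIsometryGroup F (⇑Q) := by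
    intro x y hx hy
    rw [mem_specialIsometryGroup_iff, Subgroup.coe_mul, Units.val_mul, Matrix.det_mul,
      det_reflIso, det_reflIso]
    ring
  set θ : Cfsg.specialIsometryGroup F (⇑Q) →* ℤˣ :=
    (spinorSign (⇑Q) (1 : F)).comp (Cfsg.specialIsometryGroup F (⇑Q)).subtype with hθ
  have hθp : ∀ (x y : ι → F) (hx : Q x ≠ 0) (hy : Q y ≠ 0)
      (s : Cfsg.specialIsometryGroup F (⇑Q)),
      (s : Cfsg.isometryGroup F (⇑Q)) = reflIso Q x hx * reflIso Q y hy →
      (θ s = 1 ↔ IsSquare (Q x * Q y)) := by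
    intro x y hx hy s hs
    have : θ s = spinorSign (⇑Q) (1 : F) (s : Cfsg.isometryGroup F (⇑Q)) := rfl
    rw [this, hs, map_mul, spinorSign_reflIso h2 Q one_ne_zero, spinorSign_reflIso h2 Q one_ne_zero,
      one_mul, one_mul, isSquare_mul_iff h2 hx hy]
    by_cases h3 : IsSquare (Q x) <;> by_cases h4 : IsSquare (Q y) <;> simp [h3, h4]
  have hθsurj : Function.Surjective θ := by
    intro u
    rcases Int.units_eq_one_or u with rfl | rfl
    · exact ⟨1, map_one _⟩
    · refine ⟨⟨reflIso Q v hv0 * reflIso Q w hw0, hprod _ _ _ _⟩, ?_⟩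
      rcases Int.units_eq_one_or (θ ⟨reflIso Q v hv0 * reflIso Q w hw0, hprod _ _ _ _⟩) with h | h
      · rw [hθp v w hv0 hw0 _ rfl, hv, one_mul] at h
        exact absurd h hw
      · exact h
  have hind : θ.ker.index = 2 := by
    rw [Subgroup.index_ker, MonoidHom.range_eq_top.2 hθsurj]
    simp
  refine ⟨θ.ker, hind, ?_⟩
  intro H hH
  change H.index = 2 at hH
  -- membership of same-class products
  have hsame : ∀ (x y : ι → F) (hx : Q x ≠ 0) (hy : Q y ≠ 0)
      (s : Cfsg.specialIsometryGroup F (⇑Q)),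
      (s : Cfsg.isometryGroup F (⇑Q)) = reflIso Q x hx * reflIso Q y hy →
      IsSquare (Q x * Q y) → s ∈ H := by
    intro x y hx hy s hs hsq
    obtain ⟨u, hu, h3⟩ := exists_reflIso_mul_reflIso_eq_sq h2 Q hx hy hsq
    have h4 : s = (⟨reflIso Q x hx * reflIso Q u hu, hprod _ _ _ _⟩ :
        Cfsg.specialIsometryGroup F (⇑Q)) ^ 2 := by
      apply Subtype.ext
      rw [hs, h3]
      rfl
    rw [h4]
    exact Subgroup.sq_mem_of_index_two hH _
  -- induction over the generators
  have hind2 : ∀ (P : Cfsg.specialIsometryGroup F (⇑Q) → Prop),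
      P 1 → (∀ s t, P s → P t → P (s * t)) → (∀ s, P s → P s⁻¹) →
      (∀ (x y : ι → F) (hx : Q x ≠ 0) (hy : Q y ≠ 0) (s : Cfsg.specialIsometryGroup F (⇑Q)),
      (s : Cfsg.isometryGroup F (⇑Q)) = reflIso Q x hx * reflIso Q y hy → P s) → ∀ s, P s := by
    intro P h1 hmul hinv hgen s
    have hs := s.2
    have key : ∀ g, g ∈ Cfsg.specialIsometryGroup F (⇑Q) → ∀ (hg : g ∈ Cfsg.specialIsometryGroup F (⇑Q)),
        P ⟨g, hg⟩ := by
      intro g hg
      rw [specialIsometryGroup_eq_closure h2 Q hQ] at hg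
      induction hg using Subgroup.closure_induction with
      | mem g hg =>
        intro hg'
        obtain ⟨x, y, hx, hy, h⟩ := hg
        refine hgen x y hx hy _ ?_
        apply Subtype.ext
        apply Units.ext
        exact h
      | one => intro _; exact h1
      | mul a b ha hb iha ihb =>
        intro _
        rw [← specialIsometryGroup_eq_closure h2 Q hQ] at ha hb
        exact hmul ⟨a, ha⟩ ⟨b, hb⟩ (iha ha) (ihb hb)
      | inv a ha iha =>
        intro _
        rw [← specialIsometryGroup_eq_closure h2 Q hQ] at ha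
        exact hinv ⟨a, ha⟩ (iha ha)
    exact key s hs hs
  -- `r_v r_w` is not in `H`
  have hvw : (⟨reflIso Q v hv0 * reflIso Q w hw0, hprod _ _ _ _⟩ :
      Cfsg.specialIsometryGroup F (⇑Q)) ∉ H := by
    intro hmem
    have htop : H = ⊤ := by
      rw [eq_top_iff]
      rintro s -
      refine hind2 (fun s => s ∈ H) H.one_mem (fun s t => H.mul_mem) (fun s => H.inv_mem) ?_ s
      intro x y hx hy s hs
      by_cases hsq : IsSquare (Q x * Q y)
      · exact hsame x y hx hy s hs hsq
      · by_cases hx1 : IsSquare (Q x)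
        · have hy1 : ¬ IsSquare (Q y) := fun h => hsq (hx1.mul h)
          have e : s = ⟨reflIso Q x hx * reflIso Q v hv0, hprod _ _ _ _⟩ *
              ⟨reflIso Q v hv0 * reflIso Q w hw0, hprod _ _ _ _⟩ *
              ⟨reflIso Q w hw0 * reflIso Q y hy, hprod _ _ _ _⟩ := by
            apply Subtype.ext
            rw [hs]
            change _ = reflIso Q x hx * reflIso Q v hv0 * (reflIso Q v hv0 * reflIso Q w hw0)
              * (reflIso Q w hw0 * reflIso Q y hy)
            rw [mul_assoc (reflIso Q x hx), ← mul_assoc (reflIso Q v hv0) (reflIso Q v hv0),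
              reflIso_mul_self, one_mul, mul_assoc, ← mul_assoc (reflIso Q w hw0) (reflIso Q w hw0),
              reflIso_mul_self, one_mul]
          rw [e]
          refine H.mul_mem (H.mul_mem ?_ hmem) ?_
          · exact hsame x v hx hv0 _ rfl (by rw [hv, mul_one]; exact hx1)
          · exact hsame w y hw0 hy _ rfl (isSquare_mul_of_not h2 hw hy1)
        · have hy1 : IsSquare (Q y) := by
            by_contra h
            exact hsq (isSquare_mul_of_not h2 hx1 h)
          have e : s = ⟨reflIso Q x hx * reflIso Q w hw0, hprod _ _ _ _⟩ *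
              (⟨reflIso Q v hv0 * reflIso Q w hw0, hprod _ _ _ _⟩)⁻¹ *
              ⟨reflIso Q v hv0 * reflIso Q y hy, hprod _ _ _ _⟩ := by
            apply Subtype.ext
            rw [hs]
            change _ = reflIso Q x hx * reflIso Q w hw0 * (reflIso Q v hv0 * reflIso Q w hw0)⁻¹
              * (reflIso Q v hv0 * reflIso Q y hy)
            group
          rw [e]
          refine H.mul_mem (H.mul_mem ?_ (H.inv_mem hmem)) ?_
          · exact hsame x w hx hw0 _ rfl (isSquare_mul_of_not h2 hx1 hw)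
          · exact hsame v y hv0 hy _ rfl (by rw [hv, one_mul]; exact hy1)
    rw [htop, Subgroup.index_top] at hH
    omega
  ext s
  rw [MonoidHom.mem_ker]
  refine hind2 (fun s => s ∈ H ↔ θ s = 1) (by simp [H.one_mem]) ?_ ?_ ?_ s
  · intro s t hs ht
    rw [Subgroup.mul_mem_iff_of_index_two hH, hs, ht, map_mul]
    rcases Int.units_eq_one_or (θ s) with h3 | h3 <;>
      rcases Int.units_eq_one_or (θ t) with h4 | h4 <;> rw [h3, h4] <;> decide
  · intro s hs
    rw [Subgroup.inv_mem_iff, hs, map_inv, inv_eq_one]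
  · intro x y hx hy s hs
    rw [hθp x y hx hy s hs]
    refine ⟨fun hsH => ?_, hsame x y hx hy s hs⟩
    by_contra hsq
    apply hvw
    by_cases hx1 : IsSquare (Q x)
    · have hy1 : ¬ IsSquare (Q y) := fun h => hsq (hx1.mul h)
      have e : (⟨reflIso Q v hv0 * reflIso Q w hw0, hprod _ _ _ _⟩ :
          Cfsg.specialIsometryGroup F (⇑Q)) = ⟨reflIso Q v hv0 * reflIso Q x hx, hprod _ _ _ _⟩ *
          s * ⟨reflIso Q y hy * reflIso Q w hw0, hprod _ _ _ _⟩ := by
        apply Subtype.ext
        change _ = reflIso Q v hv0 * reflIso Q x hx * (s : Cfsg.isometryGroup F (⇑Q))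
          * (reflIso Q y hy * reflIso Q w hw0)
        rw [hs, mul_assoc (reflIso Q v hv0), ← mul_assoc (reflIso Q x hx) (reflIso Q x hx),
          reflIso_mul_self, one_mul, mul_assoc, ← mul_assoc (reflIso Q y hy) (reflIso Q y hy),
          reflIso_mul_self, one_mul]
      rw [e]
      refine H.mul_mem (H.mul_mem ?_ hsH) ?_
      · exact hsame v x hv0 hx _ rfl (by rw [hv, one_mul]; exact hx1)
      · exact hsame y w hy hw0 _ rfl (isSquare_mul_of_not h2 hy1 hw)
    · have hy1 : IsSquare (Q y) := by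
        by_contra h
        exact hsq (isSquare_mul_of_not h2 hx1 h)
      have e : (⟨reflIso Q v hv0 * reflIso Q w hw0, hprod _ _ _ _⟩ :
          Cfsg.specialIsometryGroup F (⇑Q)) = ⟨reflIso Q v hv0 * reflIso Q y hy, hprod _ _ _ _⟩ *
          s⁻¹ * ⟨reflIso Q x hx * reflIso Q w hw0, hprod _ _ _ _⟩ := by
        apply Subtype.ext
        change _ = reflIso Q v hv0 * reflIso Q y hy * (s : Cfsg.isometryGroup F (⇑Q))⁻¹
          * (reflIso Q x hx * reflIso Q w hw0)
        rw [hs]
        group
      rw [e]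
      refine H.mul_mem (H.mul_mem ?_ (H.inv_mem hsH)) ?_
      · exact hsame v y hv0 hy _ rfl (by rw [hv, one_mul]; exact hy1)
      · exact hsame x w hx hw0 _ rfl (isSquare_mul_of_not h2 hx1 hw)

end Main

end Cfsg.Agent.ClassicalGeometry.OmegaIndex
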