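import Mathlib
import Cfsg.Prelude.Def_ClassicalGeometry
import Cfsg.Agent.ClassicalGeometry.Reflection

/-!
Isometry group of a quadratic form with non-degenerate polar form, over any field:
* generated by reflections and Siegel transformations;
* generated by reflections unless `|F| = 2` and `n = 4`;
* the Dickson invariant: parity of the dimension of the fixed space;
* in characteristic two, over a finite field: all reflections are congruent modulo the commutator
  subgroup (unless `|F| = 2`, `n = 4`), so the commutator subgroup has index `2`.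
-/

set_option autoImplicit false
set_option linter.unusedSectionVars false

namespace Cfsg.Agent.ClassicalGeometry.OrthCharTwo

open QuadraticMap Matrix Module
open Cfsg.Agent.ClassicalGeometry.Reflection

variable {ι : Type} [Fintype ι] [DecidableEq ι] {F : Type*} [Field F]

/-! ### The action of an isometry on vectors -/

/-- the action of an isometry on a vector -/
def act {Q : (ι → F) → F} (g : Cfsg.isometryGroup F Q) (x : ι → F) : ι → F :=
  ((g : Matrix.GeneralLinearGroup ι F) : Matrix ι ι F) *ᵥ x

theorem act_def {Q : (ι → F) → F} (g : Cfsg.isometryGroup F Q) (x : ι → F) :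
    act g x = ((g : Matrix.GeneralLinearGroup ι F) : Matrix ι ι F) *ᵥ x := rfl

section action

variable {Q : (ι → F) → F}

theorem act_add (g : Cfsg.isometryGroup F Q) (x y : ι → F) :
    act g (x + y) = act g x + act g y := Matrix.mulVec_add _ _ _

theorem act_sub (g : Cfsg.isometryGroup F Q) (x y : ι → F) :
    act g (x - y) = act g x - act g y := Matrix.mulVec_sub _ _ _

theorem act_smul (g : Cfsg.isometryGroup F Q) (c : F) (x : ι → F) :
    act g (c • x) = c • act g x := Matrix.mulVec_smul _ _ _

theorem act_zero (g : Cfsg.isometryGroup F Q) : act g 0 = 0 := Matrix.mulVec_zero _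

theorem act_mul (g h : Cfsg.isometryGroup F Q) (x : ι → F) : act (g * h) x = act g (act h x) :=
  coe_mul_mulVec Q g h x

theorem act_one (x : ι → F) : act (1 : Cfsg.isometryGroup F Q) x = x := by
  rw [act_def]; simp

theorem act_inv_act (g : Cfsg.isometryGroup F Q) (x : ι → F) : act g⁻¹ (act g x) = x := by
  rw [← act_mul, inv_mul_cancel, act_one]

theorem act_act_inv (g : Cfsg.isometryGroup F Q) (x : ι → F) : act g (act g⁻¹ x) = x := by
  rw [← act_mul, mul_inv_cancel, act_one]

theorem act_ext {g h : Cfsg.isometryGroup F Q} (H : ∀ x, act g x = act h x) : g = h :=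
  isometryGroup_ext Q g h H

theorem Q_act (g : Cfsg.isometryGroup F Q) (x : ι → F) : Q (act g x) = Q x :=
  (mem_isometryGroup_iff _ _).1 g.2 x

theorem polar_act (g : Cfsg.isometryGroup F Q) (x y : ι → F) :
    polar Q (act g x) (act g y) = polar Q x y := by
  simp only [polar, ← act_add, Q_act]

/-- fixed space -/
def fixSp (g : Cfsg.isometryGroup F Q) : Submodule F (ι → F) where
  carrier := {x | act g x = x}
  add_mem' {x y} hx hy := by
    simp only [Set.mem_ofPred_eq] at hx hy ⊢
    rw [act_add, hx, hy]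
  zero_mem' := act_zero g
  smul_mem' c x hx := by
    simp only [Set.mem_ofPred_eq] at hx ⊢
    rw [act_smul, hx]

theorem mem_fixSp {g : Cfsg.isometryGroup F Q} {x : ι → F} : x ∈ fixSp g ↔ act g x = x := Iff.rfl

/-- residual space `(g - 1) V` -/
def resSp (g : Cfsg.isometryGroup F Q) : Submodule F (ι → F) where
  carrier := {x | ∃ y, act g y - y = x}
  add_mem' {x y} hx hy := by
    obtain ⟨a, rfl⟩ := hx
    obtain ⟨b, rfl⟩ := hy
    exact ⟨a + b, by rw [act_add]; abel⟩
  zero_mem' := ⟨0, by rw [act_zero, sub_zero]⟩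
  smul_mem' c x hx := by
    obtain ⟨a, rfl⟩ := hx
    exact ⟨c • a, by rw [act_smul, smul_sub]⟩

theorem mem_resSp {g : Cfsg.isometryGroup F Q} {x : ι → F} :
    x ∈ resSp g ↔ ∃ y, act g y - y = x := Iff.rfl

theorem fixSp_eq_top_iff {g : Cfsg.isometryGroup F Q} : fixSp g = ⊤ ↔ g = 1 := by
  constructor
  · intro h
    apply act_ext
    intro x
    have hx : x ∈ fixSp g := by rw [h]; exact Submodule.mem_top
    rw [act_one]
    exact mem_fixSp.1 hx
  · rintro rfl
    rw [eq_top_iff]
    intro x _
    exact mem_fixSp.2 (act_one x)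

end action

section form

variable (Q : QuadraticForm F (ι → F))

/-- orthogonality of residual space and fixed space -/
theorem polar_res_fix {g : Cfsg.isometryGroup F (⇑Q)} {x y : ι → F} (hx : x ∈ resSp g)
    (hy : y ∈ fixSp g) : polar Q x y = 0 := by
  obtain ⟨a, rfl⟩ := hx
  rw [polar_sub_left]
  nth_rewrite 1 [← mem_fixSp.1 hy]
  rw [polar_act, sub_self]

theorem polarBilin_isRefl : (polarBilin Q).IsRefl := by
  intro x y h
  rw [polarBilin_apply_apply] at h ⊢
  rw [polar_comm]
  exact h

theorem nondeg_left (hQ : (polarBilin Q).Nondegenerate) (x : ι → F)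
    (h : ∀ y, polar Q x y = 0) : x = 0 := hQ.1 x h

theorem eq_of_polar (hQ : (polarBilin Q).Nondegenerate) (x y : ι → F)
    (h : ∀ z, polar Q x z = polar Q y z) : x = y := by
  rw [← sub_eq_zero]
  apply nondeg_left Q hQ
  intro z
  rw [polar_sub_left, h, sub_self]

theorem exists_polar_ne_zero (hQ : (polarBilin Q).Nondegenerate) {x : ι → F} (hx : x ≠ 0) :
    ∃ y, polar Q x y ≠ 0 := by
  by_contra hcon
  push Not at hcon
  exact hx (nondeg_left Q hQ x hcon)

theorem orthogonal_resSp (hQ : (polarBilin Q).Nondegenerate) (g : Cfsg.isometryGroup F (⇑Q)) :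
    LinearMap.BilinForm.orthogonal (polarBilin Q) (resSp g) = fixSp g := by
  ext y
  rw [LinearMap.BilinForm.mem_orthogonal_iff]
  constructor
  · intro h
    rw [mem_fixSp]
    apply eq_of_polar Q hQ
    intro z
    obtain ⟨x, rfl⟩ : ∃ x, act g x = z := ⟨act g⁻¹ z, act_act_inv g z⟩
    rw [polar_act]
    have h1 : polar Q (act g x - x) y = 0 := h _ ⟨x, rfl⟩
    rw [polar_sub_left, sub_eq_zero] at h1
    rw [polar_comm, ← h1, polar_comm]
  · intro h x hx
    exact polar_res_fix Q hx h

theorem orthogonal_fixSp (hQ : (polarBilin Q).Nondegenerate) (g : Cfsg.isometryGroup F (⇑Q)) :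
    LinearMap.BilinForm.orthogonal (polarBilin Q) (fixSp g) = resSp g := by
  rw [← orthogonal_resSp Q hQ g]
  exact LinearMap.BilinForm.orthogonal_orthogonal hQ (polarBilin_isRefl Q) _

theorem mem_resSp_iff_forall (hQ : (polarBilin Q).Nondegenerate) (g : Cfsg.isometryGroup F (⇑Q))
    (v : ι → F) : v ∈ resSp g ↔ ∀ x ∈ fixSp g, polar Q v x = 0 := by
  rw [← orthogonal_fixSp Q hQ g, LinearMap.BilinForm.mem_orthogonal_iff]
  constructor
  · intro h x hx
    have := h x hx
    rw [polar_comm]
    exact this
  · intro h x hx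
    have := h x hx
    rw [polar_comm] at this
    exact this

/-! ### Reflections -/

theorem act_refl (v : ι → F) (hv : Q v ≠ 0) (x : ι → F) :
    act (reflIso Q v hv) x = x - ((Q v)⁻¹ * polar Q v x) • v := by
  rw [act_def, coe_reflIso, reflectionMatrix_mulVec]

theorem refl_smul (v : ι → F) (hv : Q v ≠ 0) (c : F) (hc : c ≠ 0) (hcv : Q (c • v) ≠ 0) :
    reflIso Q (c • v) hcv = reflIso Q v hv := by
  apply act_ext
  intro x
  rw [act_refl, act_refl, QuadraticMap.map_smul, polar_smul_left, smul_smul]
  congr 2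
  simp only [smul_eq_mul]
  field_simp

theorem act_refl_of_polar (v : ι → F) (hv : Q v ≠ 0) (x : ι → F) (h : polar Q v x = 0) :
    act (reflIso Q v hv) x = x := by
  rw [act_refl, h, mul_zero, zero_smul, sub_zero]

/-- If the residual space of `g` contains the non-singular vector `v = g x - x`, then
`r_v g x = x`. -/
theorem refl_act_of_res (g : Cfsg.isometryGroup F (⇑Q)) (x v : ι → F) (hx : act g x - x = v)
    (hv : Q v ≠ 0) : act (reflIso Q v hv * g) x = x ∧ polar Q v x = - Q v := by
  have h1 : act g x = x + v := by rw [← hx]; abel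
  have h2 : polar Q v x = - Q v := by
    have h3 := Q_act g x
    rw [h1, map_add', polar_comm] at h3
    linear_combination h3
  refine ⟨?_, h2⟩
  rw [act_mul, h1, act_refl, polar_add_right, h2, polar_self]
  have h4 : (Q v)⁻¹ * (- Q v + 2 • Q v) = 1 := by
    rw [two_smul]
    field_simp
    ring
  rw [h4, one_smul, add_sub_cancel_right]

theorem fixSp_lt_of_res (g : Cfsg.isometryGroup F (⇑Q)) (v : ι → F)
    (hvg : v ∈ resSp g) (hv : Q v ≠ 0) : fixSp g < fixSp (reflIso Q v hv * g) := by
  obtain ⟨x, hx⟩ := hvg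
  obtain ⟨h1, h2⟩ := refl_act_of_res Q g x v hx hv
  refine lt_of_le_of_ne ?_ ?_
  · intro y hy
    rw [mem_fixSp, act_mul, mem_fixSp.1 hy]
    exact act_refl_of_polar Q v hv y (polar_res_fix Q ⟨x, hx⟩ hy)
  · intro heq
    have h3 : x ∈ fixSp g := by rw [heq]; exact h1
    rw [mem_fixSp.1 h3, sub_self] at hx
    apply hv
    rw [← hx]
    exact QuadraticMap.map_zero Q

/-! ### Siegel transformations -/

theorem siegelMatrix_isometry (a b : ι → F) (c : F) (ha : Q a = 0) (hb : Q b = 0)
    (hab : polar Q a b = 0) (x : ι → F) : Q (Cfsg.siegelMatrix (⇑Q) a b c *ᵥ x) = Q x := by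
  rw [siegelMatrix_mulVec, map_add', QuadraticMap.map_smul, sub_eq_add_neg,
    ← neg_smul, map_add', QuadraticMap.map_smul, QuadraticMap.map_smul, ha, hb,
    polar_smul_right, polar_smul_left, polar_comm (⇑Q) b a, hab, polar_smul_right,
    polar_add_right, polar_smul_right, polar_smul_right, polar_comm (⇑Q) x a,
    polar_comm (⇑Q) x b]
  simp only [smul_eq_mul]
  ring

theorem siegelMatrix_mul_neg (a b : ι → F) (c : F) (ha : Q a = 0) (hb : Q b = 0)
    (hab : polar Q a b = 0) :
    Cfsg.siegelMatrix (⇑Q) a b c * Cfsg.siegelMatrix (⇑Q) a b (-c) = 1 := by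
  apply Matrix.mulVec_injective
  funext x
  have haa : polar Q a a = 0 := by rw [polar_self, ha, smul_zero]
  have hbb : polar Q b b = 0 := by rw [polar_self, hb, smul_zero]
  have hba : polar Q b a = 0 := by rw [polar_comm, hab]
  rw [← Matrix.mulVec_mulVec, Matrix.one_mulVec, siegelMatrix_mulVec, siegelMatrix_mulVec]
  simp only [polar_add_right, polar_smul_right, polar_sub_right, haa, hbb, hab, hba, smul_zero,
    sub_zero, add_zero]
  rw [neg_smul, neg_add_cancel_right]

/-- Siegel transformation as an element of the isometry group -/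
def siegelIso (a b : ι → F) (c : F) (ha : Q a = 0) (hb : Q b = 0) (hab : polar Q a b = 0) :
    Cfsg.isometryGroup F (⇑Q) :=
  ⟨⟨Cfsg.siegelMatrix (⇑Q) a b c, Cfsg.siegelMatrix (⇑Q) a b (-c),
    siegelMatrix_mul_neg Q a b c ha hb hab, by
      have := siegelMatrix_mul_neg Q a b (-c) ha hb hab
      rwa [neg_neg] at this⟩,
    (mem_isometryGroup_iff _ _).2 fun x => siegelMatrix_isometry Q a b c ha hb hab x⟩

theorem coe_siegelIso (a b : ι → F) (c : F) (ha : Q a = 0) (hb : Q b = 0)
    (hab : polar Q a b = 0) :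
    ((siegelIso Q a b c ha hb hab : Matrix.GeneralLinearGroup ι F) : Matrix ι ι F)
      = Cfsg.siegelMatrix (⇑Q) a b c := rfl

theorem act_siegel (a b : ι → F) (c : F) (ha : Q a = 0) (hb : Q b = 0)
    (hab : polar Q a b = 0) (x : ι → F) :
    act (siegelIso Q a b c ha hb hab) x = x + c • (polar Q a x • b - polar Q b x • a) := by
  rw [act_def, coe_siegelIso, siegelMatrix_mulVec]

/-- If the residual space of `g ≠ 1` is totally singular, some Siegel transformation with vectors
in the residual space enlarges the fixed space. -/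
theorem exists_siegel_of_res (hQ : (polarBilin Q).Nondegenerate) (g : Cfsg.isometryGroup F (⇑Q))
    (hg : g ≠ 1) (hres : ∀ v ∈ resSp g, Q v = 0) :
    ∃ (a b : ι → F) (c : F) (ha : Q a = 0) (hb : Q b = 0) (hab : polar Q a b = 0),
      fixSp g < fixSp ((siegelIso Q a b c ha hb hab)⁻¹ * g) := by
  have hpol : ∀ v ∈ resSp g, ∀ w ∈ resSp g, polar Q v w = 0 := by
    intro v hv w hw
    rw [polar, hres _ (Submodule.add_mem _ hv hw), hres v hv, hres w hw]
    ring
  -- `g y ≠ y` for some `y`
  obtain ⟨y, hy⟩ : ∃ y, act g y ≠ y := by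
    by_contra hcon
    push Not at hcon
    exact hg (act_ext fun x => by rw [hcon, act_one])
  set b : ι → F := act g y - y with hbdef
  have hb0 : b ≠ 0 := sub_ne_zero.2 hy
  obtain ⟨x, hx⟩ := exists_polar_ne_zero Q hQ hb0
  set a : ι → F := act g x - x with hadef
  have hamem : a ∈ resSp g := ⟨x, rfl⟩
  have hbmem : b ∈ resSp g := ⟨y, rfl⟩
  have hB : ∀ z, polar Q (act g z - z) z = 0 := by
    intro z
    have h1 : act g z = z + (act g z - z) := by abel
    have h2 := Q_act g z
    rw [h1, map_add', hres _ ⟨z, rfl⟩, polar_comm] at h2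
    linear_combination h2
  have hax : polar Q a x = 0 := hB x
  have hby : polar Q b y = 0 := hB y
  have hbx : polar Q b x = - polar Q a y := by
    have h1 := hB (x + y)
    have h2 : act g (x + y) - (x + y) = a + b := by rw [act_add, hadef, hbdef]; abel
    rw [h2, polar_add_left, polar_add_right, polar_add_right, hax, hby] at h1
    linear_combination h1
  have hay : polar Q a y ≠ 0 := by
    intro h0
    rw [h0, neg_zero] at hbx
    exact hx hbx
  have ha0 : a ≠ 0 := by
    intro h0
    rw [h0, polar_zero_left] at hay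
    exact hay rfl
  refine ⟨a, b, (polar Q a y)⁻¹, hres a hamem, hres b hbmem, hpol a hamem b hbmem, ?_⟩
  set T := siegelIso Q a b (polar Q a y)⁻¹ (hres a hamem) (hres b hbmem) (hpol a hamem b hbmem)
    with hT
  have hTx : act T x = act g x := by
    rw [hT, act_siegel, hax, hbx, zero_smul, zero_sub, neg_smul, neg_neg, smul_smul,
      inv_mul_cancel₀ hay, one_smul, hadef]
    abel
  refine lt_of_le_of_ne ?_ ?_
  · intro z hz
    rw [mem_fixSp, act_mul, mem_fixSp.1 hz]
    have h1 : act T z = z := by
      rw [hT, act_siegel, polar_res_fix Q hamem hz, polar_res_fix Q hbmem hz]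
      simp
    nth_rewrite 1 [← h1]
    exact act_inv_act T z
  · intro heq
    have h3 : x ∈ fixSp g := by
      rw [heq, mem_fixSp, act_mul, ← hTx, act_inv_act]
    exact ha0 (by rw [hadef, mem_fixSp.1 h3, sub_self])

/-- Induction principle over any field: isometries are generated by reflections and Siegel
transformations. -/
theorem isometry_induction_siegel (hQ : (polarBilin Q).Nondegenerate)
    (p : Cfsg.isometryGroup F (⇑Q) → Prop) (h1 : p 1)
    (hmul : ∀ (v : ι → F) (hv : Q v ≠ 0) (g : Cfsg.isometryGroup F (⇑Q)),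
      p g → p (reflIso Q v hv * g))
    (hmul' : ∀ (a b : ι → F) (c : F) (ha : Q a = 0) (hb : Q b = 0) (hab : polar Q a b = 0)
      (g : Cfsg.isometryGroup F (⇑Q)), p g → p (siegelIso Q a b c ha hb hab * g))
    (g : Cfsg.isometryGroup F (⇑Q)) : p g := by
  suffices H : ∀ W : Submodule F (ι → F), ∀ g : Cfsg.isometryGroup F (⇑Q), fixSp g = W → p g from
    H _ g rfl
  intro W
  induction W using WellFoundedGT.induction with
  | ind W ih =>
    rintro g rfl
    by_cases hg : g = 1
    · rw [hg]; exact h1
    by_cases hres : ∀ v ∈ resSp g, Q v = 0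
    · obtain ⟨a, b, c, ha, hb, hab, hlt⟩ := exists_siegel_of_res Q hQ g hg hres
      have h2 := hmul' a b c ha hb hab _ (ih _ hlt _ rfl)
      rwa [mul_inv_cancel_left] at h2
    · push Not at hres
      obtain ⟨v, hvg, hv⟩ := hres
      have h2 := hmul v hv _ (ih _ (fixSp_lt_of_res Q g v hvg hv) _ rfl)
      rwa [← mul_assoc, reflIso_mul_self, one_mul] at h2

/-! ### Dual pairs -/

theorem exists_dual_pair (hQ : (polarBilin Q).Nondegenerate) {a b : ι → F}
    (hab : ∀ s t : F, s • a + t • b = 0 → s = 0 ∧ t = 0) :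
    ∃ w, polar Q a w = 0 ∧ polar Q b w = 1 := by
  have ha : a ≠ 0 := by
    intro h
    have := (hab 1 0 (by rw [h]; simp)).1
    exact one_ne_zero this
  obtain ⟨w1, hw1⟩ := exists_polar_ne_zero Q hQ ha
  set b' := b - (polar Q b w1 * (polar Q a w1)⁻¹) • a with hb'
  have hb'0 : b' ≠ 0 := by
    intro h
    have := (hab (-(polar Q b w1 * (polar Q a w1)⁻¹)) 1 (by
      rw [neg_smul, one_smul, neg_add_eq_sub]; exact h)).2
    exact one_ne_zero this
  obtain ⟨w2, hw2⟩ := exists_polar_ne_zero Q hQ hb'0
  set w3 := w2 - (polar Q a w2 * (polar Q a w1)⁻¹) • w1 with hw3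
  have h1 : polar Q a w3 = 0 := by
    rw [hw3, polar_sub_right, polar_smul_right, smul_eq_mul]
    field_simp
    ring
  have h2 : polar Q b w3 = polar Q b' w2 := by
    rw [hw3, hb', polar_sub_right, polar_smul_right, polar_sub_left, polar_smul_left, smul_eq_mul,
      smul_eq_mul]
    ring
  refine ⟨(polar Q b' w2)⁻¹ • w3, ?_, ?_⟩
  · rw [polar_smul_right, h1, smul_zero]
  · rw [polar_smul_right, h2, smul_eq_mul, inv_mul_cancel₀ hw2]

/-- If `a, b` are linearly independent, totally isotropic for the polar form, and the polar form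
vanishes on the orthogonal space of `a, b`, then the dimension is four. -/
theorem card_eq_four (hQ : (polarBilin Q).Nondegenerate) {a b : ι → F}
    (hab : ∀ s t : F, s • a + t • b = 0 → s = 0 ∧ t = 0)
    (haa : polar Q a a = 0) (hbb : polar Q b b = 0) (hab' : polar Q a b = 0)
    (hW : ∀ x y, polar Q a x = 0 → polar Q b x = 0 → polar Q a y = 0 → polar Q b y = 0 →
      polar Q x y = 0) : Fintype.card ι = 4 := by
  set P : Submodule F (ι → F) := Submodule.span F {a, b} with hP
  have hPmem : ∀ x, (polar Q a x = 0 ∧ polar Q b x = 0) ↔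
      x ∈ LinearMap.BilinForm.orthogonal (polarBilin Q) P := by
    intro x
    rw [LinearMap.BilinForm.mem_orthogonal_iff]
    constructor
    · rintro ⟨h1, h2⟩ y hy
      rw [hP, Submodule.mem_span_pair] at hy
      obtain ⟨s, t, rfl⟩ := hy
      change polar Q (s • a + t • b) x = 0
      rw [polar_add_left, polar_smul_left, polar_smul_left, h1, h2, smul_zero, smul_zero, add_zero]
    · intro h
      exact ⟨h a (Submodule.subset_span (by simp)), h b (Submodule.subset_span (by simp))⟩
  have hli : LinearIndependent F ![a, b] := by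
    rw [LinearIndependent.pair_iff]
    exact hab
  have hfin : finrank F P = 2 := by
    have h1 := finrank_span_eq_card hli
    rw [Matrix.range_cons, Matrix.range_cons, Matrix.range_empty, Set.union_empty,
      Set.singleton_union] at h1
    simpa using h1
  have hPP : LinearMap.BilinForm.orthogonal (polarBilin Q) P = P := by
    have hle : P ≤ LinearMap.BilinForm.orthogonal (polarBilin Q) P := by
      rw [hP, Submodule.span_le]
      rintro x (rfl | rfl)
      · exact (hPmem _).1 ⟨haa, by rw [polar_comm]; exact hab'⟩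
      · exact (hPmem _).1 ⟨hab', hbb⟩
    apply le_antisymm _ hle
    conv_rhs => rw [← LinearMap.BilinForm.orthogonal_orthogonal hQ (polarBilin_isRefl Q) P]
    intro x hx
    rw [LinearMap.BilinForm.mem_orthogonal_iff]
    intro y hy
    have hx' := (hPmem x).2 hx
    have hy' := (hPmem y).2 hy
    exact hW y x hy'.1 hy'.2 hx'.1 hx'.2
  have h3 := LinearMap.BilinForm.finrank_orthogonal hQ P
  rw [hPP, hfin, finrank_fintype_fun_eq_card] at h3
  omega

/-! ### Siegel transformations are products of reflections -/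

/-- the product of the reflections in `y` and `y + Q y • a` (`a` singular, `y ⊥ a`). -/
theorem act_refl_refl (a y : ι → F) (ha : Q a = 0) (hay : polar Q a y = 0) (hy : Q y ≠ 0)
    (hy' : Q (y + Q y • a) ≠ 0) (z : ι → F) :
    act (reflIso Q y hy * reflIso Q (y + Q y • a) hy') z
      = z + polar Q a z • y - polar Q y z • a - (Q y * polar Q a z) • a := by
  have hw : Q (y + Q y • a) = Q y := by
    rw [map_add', QuadraticMap.map_smul, ha, polar_smul_right, polar_comm (⇑Q) y a, hay]
    simp
  have hyw : polar Q y (y + Q y • a) = 2 * Q y := by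
    rw [polar_add_right, polar_smul_right, polar_comm (⇑Q) y a, hay, polar_self]
    simp
  rw [act_mul, act_refl, act_refl, hw, polar_sub_right, polar_smul_right, hyw, polar_add_left,
    polar_smul_left]
  simp only [smul_eq_mul]
  have h1 : ∀ (r s t : F), z - r • (y + Q y • a) - s • y = z - (r + s) • y - (r * Q y) • a := by
    intro r s t
    rw [smul_add, smul_smul, add_smul]
    abel
  rw [h1 _ _ 0]
  have h2 : (Q y)⁻¹ * (polar (⇑Q) y z + Q y * polar (⇑Q) a z) +
      (Q y)⁻¹ * (polar (⇑Q) y z - (Q y)⁻¹ * (polar (⇑Q) y z + Q y * polar (⇑Q) a z) * (2 * Q y))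
      = - polar Q a z := by
    field_simp
    ring
  have h3 : (Q y)⁻¹ * (polar (⇑Q) y z + Q y * polar (⇑Q) a z) * Q y
      = polar Q y z + Q y * polar Q a z := by
    field_simp
  rw [h2, h3, add_smul, neg_smul, sub_neg_eq_add]
  abel

/-- A Siegel transformation with suitable auxiliary vector `c` is a product of four reflections. -/
theorem siegel_eq_refl (a y : ι → F) (ha : Q a = 0) (hy : Q y = 0) (hay : polar Q a y = 0)
    (t : F) (c : ι → F) (hac : polar Q a c = 0) (hyc : Q (t • y + c) ≠ 0)
    (h1 : Q (t • y + c + Q (t • y + c) • a) ≠ 0) (hc' : Q (-c) ≠ 0)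
    (h2 : Q (-c + Q (-c) • a) ≠ 0) :
    siegelIso Q a y t ha hy hay
      = (reflIso Q (t • y + c) hyc * reflIso Q (t • y + c + Q (t • y + c) • a) h1) *
        (reflIso Q (-c) hc' * reflIso Q (-c + Q (-c) • a) h2) := by
  apply act_ext
  intro z
  have haa : polar Q a a = 0 := by rw [polar_self, ha, smul_zero]
  rw [act_mul, act_refl_refl Q a (t • y + c) ha (by
      rw [polar_add_right, polar_smul_right, hay, hac, smul_zero, add_zero]) hyc h1,
    act_refl_refl Q a (-c) ha (by rw [polar_neg_right, hac, neg_zero]) hc' h2, act_siegel]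
  have hyc2 : Q (t • y + c) = Q c + t * polar Q y c := by
    rw [map_add', QuadraticMap.map_smul, hy, polar_smul_left]
    simp
  have hcc : polar Q c c = 2 * Q c := by rw [polar_self]; simp
  have hya : polar Q y a = 0 := by rw [polar_comm, hay]
  have hca : polar Q c a = 0 := by rw [polar_comm, hac]
  simp only [hyc2, QuadraticMap.map_neg, polar_add_right, polar_sub_right, polar_add_left,
    polar_smul_left, polar_smul_right, polar_neg_left, polar_neg_right, haa, hac, hya, hca,
    hcc, smul_eq_mul, mul_zero, neg_zero, sub_zero, add_zero]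
  module

/-- existence of the auxiliary vector -/
theorem exists_aux (hQ : (polarBilin Q).Nondegenerate)
    (h : (∃ θ : F, θ ≠ 0 ∧ θ ≠ 1) ∨ Fintype.card ι ≠ 4)
    (a y : ι → F) (hay' : ∀ s t : F, s • a + t • y = 0 → s = 0 ∧ t = 0)
    (ha : Q a = 0) (hy : Q y = 0) (hay : polar Q a y = 0) :
    ∃ c, polar Q a c = 0 ∧ Q c ≠ 0 ∧ Q (y + c) ≠ 0 := by
  have haa : polar Q a a = 0 := by rw [polar_self, ha, smul_zero]
  have hyy : polar Q y y = 0 := by rw [polar_self, hy, smul_zero]
  rcases h with ⟨θ, hθ0, hθ1⟩ | h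
  · obtain ⟨w, hw1, hw2⟩ := exists_dual_pair Q hQ hay'
    refine ⟨w + (-Q w - θ) • y, ?_, ?_, ?_⟩
    · rw [polar_add_right, hw1, polar_smul_right, hay, smul_zero, add_zero]
    · rw [map_add', QuadraticMap.map_smul, hy, polar_smul_right,
        polar_comm (⇑Q) w y, hw2]
      have : Q w + ((-Q w - θ) * (-Q w - θ)) • 0 + (-Q w - θ) • 1 = -θ := by
        simp only [smul_eq_mul, mul_zero, mul_one]
        ring
      rw [this]
      exact neg_ne_zero.2 hθ0
    · rw [map_add', map_add' Q w, QuadraticMap.map_smul, hy,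
        polar_add_right, polar_smul_right, polar_smul_right, hyy, polar_comm (⇑Q) w y, hw2]
      have : (0 : F) + (Q w + ((-Q w - θ) * (-Q w - θ)) • 0 + (-Q w - θ) • 1) +
          (1 + (-Q w - θ) • 0) = 1 - θ := by
        simp only [smul_eq_mul, mul_zero, mul_one]
        ring
      rw [this]
      exact sub_ne_zero.2 (Ne.symm hθ1)
  · by_contra hcon
    push Not at hcon
    apply h
    have hzero : ∀ x, polar Q a x = 0 → polar Q y x = 0 → Q x = 0 := by
      intro x hx1 hx2
      by_contra hne
      have h1 := hcon x hx1 hne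
      rw [map_add', hy, hx2, zero_add, add_zero] at h1
      exact hne h1
    apply card_eq_four Q hQ hay' haa hyy hay
    intro u v hu1 hu2 hv1 hv2
    have huv := hzero (u + v) (by rw [polar_add_right, hu1, hv1, add_zero])
      (by rw [polar_add_right, hu2, hv2, add_zero])
    rw [polar, huv, hzero u hu1 hu2, hzero v hv1 hv2]
    ring

/-- Induction principle: unless `|F| = 2` and `n = 4`, isometries are generated by
reflections. -/
theorem isometry_induction (hQ : (polarBilin Q).Nondegenerate)
    (h : (∃ θ : F, θ ≠ 0 ∧ θ ≠ 1) ∨ Fintype.card ι ≠ 4)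
    (p : Cfsg.isometryGroup F (⇑Q) → Prop) (h1 : p 1)
    (hmul : ∀ (v : ι → F) (hv : Q v ≠ 0) (g : Cfsg.isometryGroup F (⇑Q)),
      p g → p (reflIso Q v hv * g))
    (g : Cfsg.isometryGroup F (⇑Q)) : p g := by
  refine isometry_induction_siegel Q hQ p h1 hmul ?_ g
  intro a b c ha hb hab g hg
  by_cases hli : ∀ s t : F, s • a + t • (c • b) = 0 → s = 0 ∧ t = 0
  · have hcb : Q (c • b) = 0 := by rw [QuadraticMap.map_smul, hb, smul_zero]
    have hacb : polar Q a (c • b) = 0 := by rw [polar_smul_right, hab, smul_zero]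
    obtain ⟨d, hd1, hd2, hd3⟩ := exists_aux Q hQ h a (c • b) hli ha hcb hacb
    have hgen : ∀ y, polar Q a y = 0 → Q (y + Q y • a) = Q y := by
      intro y hy
      rw [map_add', QuadraticMap.map_smul, ha, polar_smul_right, polar_comm (⇑Q) y a,
        hy]
      simp
    have hd2' : Q (-d) ≠ 0 := by rwa [QuadraticMap.map_neg]
    rw [siegel_eq_refl Q a b ha hb hab c d hd1 hd3
      (by rw [hgen _ (by rw [polar_add_right, hacb, hd1, add_zero])]; exact hd3) hd2'
      (by rw [hgen _ (by rw [polar_neg_right, hd1, neg_zero])]; exact hd2')]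
    rw [mul_assoc, mul_assoc, mul_assoc]
    exact hmul _ _ _ (hmul _ _ _ (hmul _ _ _ (hmul _ _ _ hg)))
  · have hone : siegelIso Q a b c ha hb hab = 1 := by
      push Not at hli
      obtain ⟨s, t, hst, hne⟩ := hli
      apply act_ext
      intro z
      rw [act_siegel, act_one]
      by_cases ht : t = 0
      · have hs : s ≠ 0 := fun hs => hne hs ht
        rw [ht, zero_smul, add_zero] at hst
        have ha0 : a = 0 := by
          rcases smul_eq_zero.1 hst with h0 | h0
          · exact absurd h0 hs
          · exact h0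
        rw [ha0]
        simp
      · have hb' : c • b = (-(t⁻¹ * s)) • a := by
          have h3 : t • (c • b) = - (s • a) := by
            rw [eq_neg_iff_add_eq_zero, add_comm]; exact hst
          rw [← one_smul F (c • b), ← inv_mul_cancel₀ ht, mul_smul, h3, neg_smul, smul_neg,
            smul_smul]
        have h4 : c • (polar (⇑Q) a z • b - polar (⇑Q) b z • a)
            = polar Q a z • (c • b) - polar Q (c • b) z • a := by
          rw [polar_smul_left, smul_sub, smul_smul, smul_smul, smul_smul, smul_eq_mul,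
            mul_comm c (polar Q a z)]
        rw [h4, hb', polar_smul_left, smul_smul, smul_eq_mul, mul_comm, sub_self, add_zero]
    rw [hone, one_mul]
    exact hg

/-- Generation by reflections (any characteristic). -/
theorem closure_reflections_eq_top (hQ : (polarBilin Q).Nondegenerate)
    (h : (∃ θ : F, θ ≠ 0 ∧ θ ≠ 1) ∨ Fintype.card ι ≠ 4) :
    Subgroup.closure {g : Cfsg.isometryGroup F (⇑Q) | ∃ v : ι → F, Q v ≠ 0 ∧
      ((g : Matrix.GeneralLinearGroup ι F) : Matrix ι ι F) = Cfsg.reflectionMatrix (⇑Q) v} = ⊤ := by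
  rw [eq_top_iff]
  rintro g -
  refine isometry_induction Q hQ h (fun g => g ∈ Subgroup.closure _) (Subgroup.one_mem _) ?_ g
  intro v hv g hg
  exact Subgroup.mul_mem _ (Subgroup.subset_closure ⟨v, hv, rfl⟩) hg

end form

end Cfsg.Agent.ClassicalGeometry.OrthCharTwo
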