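import Mathlib
import Cfsg.Prelude.Def_Classical

/-!
Tests for `-1 ∈ Ω(Q)`:
* `exists_of_anticomm`: two anticommuting isometries give `-1 ∈ Ω`;
* `four_dvd_card_of_mem_Omega`: `-1 ∈ Ω` forces `4 ∣ |{v | Q v = c}|` for `c ≠ Q 0`
  (`Ω` acts by even permutations);
* `card_hyperbolic`: counting `{(x, y, s) | ∑ xᵢ yᵢ + f s = c}`.
-/

set_option autoImplicit false

namespace Cfsg.Agent.ClassicalGeometry.NegOneOmega

open Cfsg
open scoped Matrix commutatorElement

section Anticomm

variable {ι : Type} [Fintype ι] [DecidableEq ι] {F : Type*} [Field F]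

/-- Two anticommuting isometries `L`, `M` with `L² = -1`, `M² = 1` show that `-1 ∈ Ω(Q)`. -/
theorem exists_of_anticomm (Q : (ι → F) → F) (L M : (ι → F) →ₗ[F] (ι → F))
    (hL : ∀ v, L (L v) = -v) (hM : ∀ v, M (M v) = v) (hLM : ∀ v, L (M v) = -M (L v))
    (hQL : ∀ v, Q (L v) = Q v) (hQM : ∀ v, Q (M v) = Q v) :
    ∃ g : isometryGroup F Q, g ∈ Omega F Q ∧
      ((g : Matrix.GeneralLinearGroup ι F) : Matrix ι ι F) = -1 := by
  have hLm : LinearMap.toMatrix' L * LinearMap.toMatrix' L = -1 := by
    rw [← LinearMap.toMatrix'_comp, show L ∘ₗ L = -LinearMap.id from LinearMap.ext hL, map_neg,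
      LinearMap.toMatrix'_id]
  have hMm : LinearMap.toMatrix' M * LinearMap.toMatrix' M = 1 := by
    rw [← LinearMap.toMatrix'_comp, show M ∘ₗ M = LinearMap.id from LinearMap.ext hM,
      LinearMap.toMatrix'_id]
  have hLMm : LinearMap.toMatrix' L * LinearMap.toMatrix' M =
      -(LinearMap.toMatrix' M * LinearMap.toMatrix' L) := by
    rw [← LinearMap.toMatrix'_comp, ← LinearMap.toMatrix'_comp, ← map_neg]
    congr 1
    exact LinearMap.ext hLM
  let A : Matrix.GeneralLinearGroup ι F :=
    ⟨LinearMap.toMatrix' L, -LinearMap.toMatrix' L, by rw [mul_neg, hLm, neg_neg],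
      by rw [neg_mul, hLm, neg_neg]⟩
  let B : Matrix.GeneralLinearGroup ι F :=
    ⟨LinearMap.toMatrix' M, LinearMap.toMatrix' M, hMm, hMm⟩
  let a : isometryGroup F Q := ⟨A, fun u _ => by
    change Q (LinearMap.toMatrix' L *ᵥ u) = Q u
    rw [LinearMap.toMatrix'_mulVec, hQL]⟩
  let b : isometryGroup F Q := ⟨B, fun u _ => by
    change Q (LinearMap.toMatrix' M *ᵥ u) = Q u
    rw [LinearMap.toMatrix'_mulVec, hQM]⟩
  refine ⟨⁅a, b⁆, Subgroup.commutator_mem_commutator (Subgroup.mem_top a) (Subgroup.mem_top b), ?_⟩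
  change LinearMap.toMatrix' L * LinearMap.toMatrix' M * (-LinearMap.toMatrix' L) *
    LinearMap.toMatrix' M = -1
  rw [hLMm]
  simp only [mul_neg, neg_mul, neg_neg]
  rw [mul_assoc (LinearMap.toMatrix' M), hLm]
  simp only [mul_neg, mul_one, neg_mul]
  rw [hMm]

end Anticomm

section SignInv

/-- On `Fin k` with `k` even there is an involution `σ` and a sign function `ε` with
`ε (σ i) = -ε i`. -/
theorem exists_sign_involution (F : Type*) [Field F] {k : ℕ} (hk : Even k) :
    ∃ (σ : Equiv.Perm (Fin k)) (ε : Fin k → F), (∀ i, σ (σ i) = i) ∧ (∀ i, ε i * ε i = 1) ∧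
      (∀ i, ε (σ i) = -ε i) := by
  obtain ⟨n, rfl⟩ := hk
  let e : Fin (n + n) ≃ Fin n × Bool := Fintype.equivOfCardEq (by simp; omega)
  let τ : Equiv.Perm (Fin n × Bool) :=
    { toFun := fun p => (p.1, !p.2)
      invFun := fun p => (p.1, !p.2)
      left_inv := fun p => by simp
      right_inv := fun p => by simp }
  refine ⟨(e.trans τ).trans e.symm, fun i => if (e i).2 then 1 else -1, fun i => ?_, fun i => ?_,
    fun i => ?_⟩
  · simp [τ]
  · by_cases h : (e i).2 <;> simp [h]
  · by_cases h : (e i).2 <;> simp [h, τ]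

end SignInv

section Sign

variable {ι : Type} [Fintype ι] [DecidableEq ι] {F : Type*} [Field F]

/-- The action of the isometry group on the vectors of a given norm. -/
noncomputable def levelPerm (Q : (ι → F) → F) (c : F) :
    isometryGroup F Q →* Equiv.Perm {v : ι → F // Q v = c} where
  toFun g :=
    { toFun := fun v => ⟨((g : Matrix.GeneralLinearGroup ι F) : Matrix ι ι F) *ᵥ v.1, by
        have := g.2 v.1 v.1
        change Q (((g : Matrix.GeneralLinearGroup ι F) : Matrix ι ι F) *ᵥ v.1) = Q v.1 at this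
        rw [this, v.2]⟩
      invFun := fun v =>
        ⟨((g⁻¹ : isometryGroup F Q) : Matrix.GeneralLinearGroup ι F).1 *ᵥ v.1, by
        have := (g⁻¹).2 v.1 v.1
        change Q (((g⁻¹ : isometryGroup F Q) : Matrix.GeneralLinearGroup ι F).1 *ᵥ v.1) =
          Q v.1 at this
        rw [this, v.2]⟩
      left_inv := fun v => Subtype.ext (by
        change ((g⁻¹ : isometryGroup F Q) : Matrix.GeneralLinearGroup ι F).1 *ᵥ
          ((g : Matrix.GeneralLinearGroup ι F).1 *ᵥ v.1) = v.1
        rw [Matrix.mulVec_mulVec, ← Units.val_mul, ← Subgroup.coe_mul, inv_mul_cancel,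
          Subgroup.coe_one, Units.val_one, Matrix.one_mulVec])
      right_inv := fun v => Subtype.ext (by
        change (g : Matrix.GeneralLinearGroup ι F).1 *ᵥ
          (((g⁻¹ : isometryGroup F Q) : Matrix.GeneralLinearGroup ι F).1 *ᵥ v.1) = v.1
        rw [Matrix.mulVec_mulVec, ← Units.val_mul, ← Subgroup.coe_mul, mul_inv_cancel,
          Subgroup.coe_one, Units.val_one, Matrix.one_mulVec]) }
  map_one' := Equiv.ext fun v => Subtype.ext (Matrix.one_mulVec _)
  map_mul' g h := Equiv.ext fun v => Subtype.ext (Matrix.mulVec_mulVec _ _ _).symm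

theorem levelPerm_apply (Q : (ι → F) → F) (c : F) (g : isometryGroup F Q)
    (v : {v : ι → F // Q v = c}) :
    (levelPerm Q c g v : ι → F) = (g : Matrix.GeneralLinearGroup ι F).1 *ᵥ v.1 := rfl

/-- A fixed-point-free involution that is an even permutation lives on a set whose size is divisible
by four. -/
theorem four_dvd_card_of_sign_eq_one {α : Type*} [Fintype α] [DecidableEq α] (σ : Equiv.Perm α)
    (h2 : ∀ x, σ (σ x) = x) (hfix : ∀ x, σ x ≠ x) (hs : Equiv.Perm.sign σ = 1) :
    4 ∣ Fintype.card α := by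
  have hsupp : σ.support = Finset.univ := by
    ext x
    simp [hfix x]
  have hall : ∀ n ∈ σ.cycleType, n = 2 := by
    intro n hn
    have h1 : 2 ≤ n := Equiv.Perm.two_le_of_mem_cycleType hn
    have h3 : n ∣ orderOf σ := Equiv.Perm.dvd_of_mem_cycleType hn
    have h4 : orderOf σ ∣ 2 := orderOf_dvd_of_pow_eq_one (by
      ext x
      rw [pow_two, Equiv.Perm.mul_apply, h2]; rfl)
    exact le_antisymm (Nat.le_of_dvd (by norm_num) (h3.trans h4)) h1
  have hrep : σ.cycleType = Multiset.replicate (Multiset.card σ.cycleType) 2 :=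
    Multiset.eq_replicate.mpr ⟨rfl, hall⟩
  have hsum : σ.cycleType.sum = Fintype.card α := by
    rw [Equiv.Perm.sum_cycleType, hsupp, Finset.card_univ]
  have hsum2 : σ.cycleType.sum = Multiset.card σ.cycleType * 2 := by
    conv_lhs => rw [hrep]
    rw [Multiset.sum_replicate, smul_eq_mul]
  rw [Equiv.Perm.sign_of_cycleType] at hs
  have heven : Even (σ.cycleType.sum + Multiset.card σ.cycleType) := by
    by_contra hodd
    rw [Nat.not_even_iff_odd] at hodd
    rw [hodd.neg_one_pow] at hs
    exact absurd hs (by decide)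
  rw [hsum2] at heven
  have : Even (Multiset.card σ.cycleType) := by
    rw [Nat.even_iff] at heven ⊢
    omega
  rw [← hsum, hsum2]
  obtain ⟨k, hk⟩ := this
  exact ⟨k, by omega⟩

/-- If `-1 ∈ Ω(Q)` then the number of vectors of any given norm `c ≠ Q 0` is divisible by four. -/
theorem four_dvd_card_of_mem_Omega [Fintype F] [DecidableEq F] (h2 : (2 : F) ≠ 0)
    (Q : (ι → F) → F) (c : F) (hc : Q 0 ≠ c)
    (h : ∃ g : isometryGroup F Q, g ∈ Omega F Q ∧
      ((g : Matrix.GeneralLinearGroup ι F) : Matrix ι ι F) = -1) :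
    4 ∣ Fintype.card {v : ι → F // Q v = c} := by
  obtain ⟨g, hg, hg1⟩ := h
  have hker := Abelianization.commutator_subset_ker
    ((Equiv.Perm.sign : Equiv.Perm {v : ι → F // Q v = c} →* ℤˣ).comp (levelPerm Q c)) hg
  rw [MonoidHom.mem_ker, MonoidHom.comp_apply] at hker
  refine four_dvd_card_of_sign_eq_one (levelPerm Q c g) (fun v => ?_) (fun v hv => ?_) hker
  · apply Subtype.ext
    rw [levelPerm_apply, levelPerm_apply, hg1]
    simp [Matrix.neg_mulVec]
  · have h1 := congrArg Subtype.val hv
    rw [levelPerm_apply, hg1] at h1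
    rw [Matrix.neg_mulVec, Matrix.one_mulVec] at h1
    have h0 : v.1 = 0 := by
      funext i
      have := congrFun h1 i
      simp only [Pi.neg_apply] at this
      have h3 : (2 : F) * v.1 i = 0 := by linear_combination -this
      exact (mul_eq_zero.mp h3).resolve_left h2
    exact hc (by rw [← h0]; exact v.2)

end Sign

section Count

variable {F : Type*} [Field F] [Fintype F] [DecidableEq F]

/-- For `x ≠ 0` every fibre of `y ↦ ∑ xᵢ yᵢ` has `q^(k-1)` elements. -/
theorem card_fiber_dot {k : ℕ} (x : Fin k → F) (hx : x ≠ 0) (c : F) :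
    Fintype.card F * Fintype.card {y : Fin k → F // ∑ i, x i * y i = c} =
      Fintype.card F ^ k := by
  obtain ⟨i, hi⟩ : ∃ i, x i ≠ 0 := by
    by_contra hcon
    exact hx (funext fun i => by_contra fun hi => hcon ⟨i, hi⟩)
  let φ : (Fin k → F) →+ F :=
    { toFun := fun y => ∑ i, x i * y i
      map_zero' := by simp
      map_add' := fun y z => by simp [mul_add, Finset.sum_add_distrib] }
  have hsurj : ∀ c : F, c ∈ Set.range φ := by
    intro c
    refine ⟨Pi.single i (c / x i), ?_⟩
    change ∑ j, x j * (Pi.single i (c / x i) : Fin k → F) j = c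
    rw [Finset.sum_eq_single i]
    · rw [Pi.single_eq_same]; field_simp
    · intro j _ hj
      rw [Pi.single_eq_of_ne hj, mul_zero]
    · intro h; exact absurd (Finset.mem_univ i) h
  have hfib : ∀ d : F, Fintype.card {y : Fin k → F // ∑ i, x i * y i = d} =
      Fintype.card {y : Fin k → F // ∑ i, x i * y i = c} := by
    intro d
    have := AddMonoidHom.card_fiber_eq_of_mem_range φ (hsurj d) (hsurj c)
    rw [Fintype.card_subtype, Fintype.card_subtype]
    exact this
  have htot : Fintype.card (Fin k → F) =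
      ∑ d : F, Fintype.card {y : Fin k → F // ∑ i, x i * y i = d} := by
    rw [← Fintype.card_sigma]
    exact Fintype.card_congr (Equiv.sigmaFiberEquiv (fun y : Fin k → F => ∑ i, x i * y i)).symm
  rw [Finset.sum_congr rfl (fun d _ => hfib d), Finset.sum_const, Finset.card_univ, smul_eq_mul,
    Fintype.card_fun, Fintype.card_fin] at htot
  exact htot.symm

/-- Counting the solutions of `∑ xᵢ yᵢ + f s = c`. -/
theorem card_hyperbolic {S : Type*} [Fintype S] (f : S → F) (k : ℕ) (c : F) :
    Fintype.card F *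
        Fintype.card {p : (Fin k → F) × ((Fin k → F) × S) //
          ∑ i, p.1 i * p.2.1 i + f p.2.2 = c} +
        Fintype.card F ^ k * Fintype.card S =
      Fintype.card F ^ (2 * k) * Fintype.card S +
        Fintype.card F ^ (k + 1) * Fintype.card {s : S // f s = c} := by
  have h1 : Fintype.card {p : (Fin k → F) × ((Fin k → F) × S) //
        ∑ i, p.1 i * p.2.1 i + f p.2.2 = c} =
      ∑ x : Fin k → F, Fintype.card {p : (Fin k → F) × S // ∑ i, x i * p.1 i + f p.2 = c} := by
    rw [← Fintype.card_sigma]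
    refine Fintype.card_congr ⟨fun p => ⟨p.1.1, ⟨p.1.2, p.2⟩⟩, fun p => ⟨(p.1, p.2.1), p.2.2⟩,
      fun p => rfl, fun p => rfl⟩
  have h2 : ∀ x : Fin k → F,
      Fintype.card {p : (Fin k → F) × S // ∑ i, x i * p.1 i + f p.2 = c} =
        ∑ s : S, Fintype.card {y : Fin k → F // ∑ i, x i * y i = c - f s} := by
    intro x
    rw [← Fintype.card_sigma]
    refine Fintype.card_congr ⟨fun p => ⟨p.1.2, ⟨p.1.1, eq_sub_of_add_eq p.2⟩⟩,
      fun p => ⟨(p.2.1, p.1), eq_sub_iff_add_eq.mp p.2.2⟩,
      fun p => rfl, fun p => rfl⟩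
  have h3 : ∀ x : Fin k → F, x ≠ 0 → Fintype.card F *
      Fintype.card {p : (Fin k → F) × S // ∑ i, x i * p.1 i + f p.2 = c} =
        Fintype.card F ^ k * Fintype.card S := by
    intro x hx
    rw [h2, Finset.mul_sum, Finset.sum_congr rfl (fun s _ => card_fiber_dot x hx (c - f s)),
      Finset.sum_const, Finset.card_univ, smul_eq_mul, mul_comm]
  have h4 : Fintype.card {p : (Fin k → F) × S // ∑ i, (0 : Fin k → F) i * p.1 i + f p.2 = c} =
        Fintype.card F ^ k * Fintype.card {s : S // f s = c} := by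
    have : Fintype.card F ^ k = Fintype.card (Fin k → F) := by simp
    rw [this, ← Fintype.card_prod]
    refine Fintype.card_congr ⟨fun p => (p.1.1, ⟨p.1.2, ?_⟩), fun p => ⟨(p.1, p.2.1), ?_⟩,
      fun p => rfl, fun p => rfl⟩
    · have := p.2; simpa using this
    · have := p.2.2; simpa using this
  have hq : 0 < Fintype.card F ^ k := pow_pos Fintype.card_pos k
  rw [h1, ← Finset.add_sum_erase _ _ (Finset.mem_univ (0 : Fin k → F)), mul_add, Finset.mul_sum,
    Finset.sum_congr rfl (fun x hx => h3 x (Finset.ne_of_mem_erase hx)), Finset.sum_const,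
    Finset.card_erase_of_mem (Finset.mem_univ _), Finset.card_univ, smul_eq_mul, h4]
  have hc : Fintype.card (Fin k → F) = Fintype.card F ^ k := by simp
  rw [hc, add_assoc]
  have h5 : (Fintype.card F ^ k - 1) * (Fintype.card F ^ k * Fintype.card S) +
      Fintype.card F ^ k * Fintype.card S = Fintype.card F ^ (2 * k) * Fintype.card S := by
    obtain ⟨t, ht⟩ : ∃ t, Fintype.card F ^ k = t + 1 := ⟨Fintype.card F ^ k - 1, by omega⟩
    rw [two_mul, pow_add, ht]
    simp only [Nat.add_sub_cancel]
    ring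
  rw [h5]
  ring

end Count

section Binary

variable {F : Type*} [Field F] [Fintype F] [DecidableEq F]

/-- An anisotropic binary form `z₁² + a z₁ z₂ + b z₂²` over a field with `q` (odd) elements takes the
value `1` exactly `q + 1` times. -/
theorem card_binary (h2 : (2 : F) ≠ 0) (a b : F)
    (hab : ∀ z₁ z₂ : F, z₁ ^ 2 + a * z₁ * z₂ + b * z₂ ^ 2 = 0 → z₁ = 0 ∧ z₂ = 0) :
    Fintype.card {z : Fin 2 → F // z 0 ^ 2 + a * z 0 * z 1 + b * z 1 ^ 2 = 1} =
      Fintype.card F + 1 := by
  set d : F := a ^ 2 - 4 * b with hd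
  have hd1 : ∀ t : F, 1 - d * t ^ 2 ≠ 0 := by
    intro t ht
    have h := hab (1 - a * t) (2 * t) (by rw [hd] at ht; linear_combination ht)
    have ht0 : t = 0 := (mul_eq_zero.mp h.2).resolve_left h2
    rw [ht0] at ht
    simp at ht
  have hx : ∀ z : Fin 2 → F, z 0 ^ 2 + a * z 0 * z 1 + b * z 1 ^ 2 = 1 →
      2 * z 0 + a * z 1 + 2 = 0 → z 0 = -1 ∧ z 1 = 0 := by
    intro z hz h0
    have h3 : d * z 1 ^ 2 = 0 := by
      rw [hd]
      linear_combination (2 * z 0 + a * z 1 - 2) * h0 - 4 * hz
    have h4 : d ≠ 0 := by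
      intro h0'
      have := hab (-a) 2 (by rw [hd] at h0'; linear_combination (-1 : F) * h0')
      exact h2 this.2
    have h5 : z 1 = 0 := by
      have := (mul_eq_zero.mp h3).resolve_left h4
      exact pow_eq_zero_iff (two_ne_zero) |>.mp this
    refine ⟨?_, h5⟩
    rw [h5] at h0
    have : (2 : F) * (z 0 + 1) = 0 := by linear_combination h0
    have := (mul_eq_zero.mp this).resolve_left h2
    linear_combination this
  rw [← Fintype.card_option]
  refine Fintype.card_congr
    { toFun := fun z => if 2 * z.1 0 + a * z.1 1 + 2 = 0 then none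
        else some (z.1 1 / (2 * z.1 0 + a * z.1 1 + 2))
      invFun := fun t => Option.elim t ⟨![-1, 0], by simp⟩
        (fun t => ⟨![(1 + d * t ^ 2 - 2 * a * t) / (1 - d * t ^ 2), 4 * t / (1 - d * t ^ 2)], by
          have := hd1 t
          simp only [Matrix.cons_val_zero, Matrix.cons_val_one]
          field_simp
          rw [hd]
          ring⟩)
      left_inv := ?_
      right_inv := ?_ }
  · intro z
    by_cases h0 : 2 * z.1 0 + a * z.1 1 + 2 = 0
    · obtain ⟨h3, h4⟩ := hx z.1 z.2 h0
      simp only [h0, if_true, Option.elim]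
      apply Subtype.ext
      funext i
      fin_cases i
      · simp [h3]
      · simp [h4]
    · simp only [h0, if_false, Option.elim]
      apply Subtype.ext
      have hz := z.2
      have hk : (1 : F) - d * (z.1 1 / (2 * z.1 0 + a * z.1 1 + 2)) ^ 2 =
          4 / (2 * z.1 0 + a * z.1 1 + 2) := by
        rw [hd]
        field_simp
        linear_combination (4 : F) * hz
      have h4 : (4 : F) ≠ 0 := by
        have : (4 : F) = 2 * 2 := by norm_num
        rw [this]; exact mul_ne_zero h2 h2
      funext i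
      fin_cases i
      · change (1 + d * (z.1 1 / (2 * z.1 0 + a * z.1 1 + 2)) ^ 2 -
          2 * a * (z.1 1 / (2 * z.1 0 + a * z.1 1 + 2))) /
          (1 - d * (z.1 1 / (2 * z.1 0 + a * z.1 1 + 2)) ^ 2) = z.1 0
        rw [hk, div_div_eq_mul_div, div_eq_iff h4]
        have hk2 : d * (z.1 1 / (2 * z.1 0 + a * z.1 1 + 2)) ^ 2 =
          1 - 4 / (2 * z.1 0 + a * z.1 1 + 2) := by
          rw [← hk]; ring
        rw [hk2]
        field_simp
        ring
      · change (4 * (z.1 1 / (2 * z.1 0 + a * z.1 1 + 2))) /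
          (1 - d * (z.1 1 / (2 * z.1 0 + a * z.1 1 + 2)) ^ 2) = z.1 1
        rw [hk, div_div_eq_mul_div, div_eq_iff h4, mul_assoc, div_mul_cancel₀ _ h0, mul_comm]
  · intro t
    rcases t with _ | t
    · simp
    · have h1 := hd1 t
      simp only [Option.elim, Matrix.cons_val_zero, Matrix.cons_val_one]
      have h3 : 2 * ((1 + d * t ^ 2 - 2 * a * t) / (1 - d * t ^ 2)) + a * (4 * t / (1 - d * t ^ 2)) + 2
          = 4 / (1 - d * t ^ 2) := by
        field_simp
        ring
      have h4 : (4 : F) ≠ 0 := by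
        have : (4 : F) = 2 * 2 := by norm_num
        rw [this]; exact mul_ne_zero h2 h2
      have h5 : (4 : F) / (1 - d * t ^ 2) ≠ 0 := div_ne_zero h4 h1
      have h6 : (4 * t / (1 - d * t ^ 2)) / (4 / (1 - d * t ^ 2)) = t := by
        rw [div_div_div_cancel_right₀ h1, mul_div_cancel_left₀ _ h4]
      simp only [h3, h6, if_neg h5]

end Binary

end Cfsg.Agent.ClassicalGeometry.NegOneOmega
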