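import Mathlib
import Cfsg.Agent.ClassicalGeometry.OrthSemiCount
import Cfsg.Agent.ClassicalGeometry.SymmNormalForm
import Cfsg.Agent.ClassicalGeometry.Universal
import Cfsg.Agent.LieClassical.OrthForms
import Cfsg.Agent.LieClassical.OrthFinite
import Cfsg.Agent.LieClassical.PomegaCard
import Cfsg.Agent.Lib.FieldAutCard
import Cfsg.Agent.S0286
import Cfsg.Agent.S0287
import Cfsg.Agent.S0288
import Cfsg.Agent.S0292
import Cfsg.Agent.S0293
import Cfsg.Agent.S0294

/-!
# Semisimilitudes of the three standard quadratic forms over a finite field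

Which pairs (field automorphism, multiplier) occur, and the number of automorphisms of `POmega`
induced by semisimilitudes. If every automorphism is induced by a semisimilitude one obtains the order
of the automorphism group.
-/

set_option autoImplicit false

namespace Cfsg.Agent.ClassicalGeometry.OrthSemiForms

open QuadraticMap Cfsg.Agent.LieClassical.OrthCore Cfsg.Agent.LieClassical.OrthTrans
  Cfsg.Agent.LieClassical.OrthSimple Cfsg.Agent.ClassicalGeometry.OrthSemi
  Cfsg.Agent.ClassicalGeometry.OrthSemiCount Cfsg.Agent.LieClassical.OrthForms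
  Cfsg.Agent.LieClassical.OrthFinite

theorem exists_isSS {F V : Type*} [Field F] [AddCommGroup V] [Module F V] [Finite V]
    {Q : QuadraticForm F V} (hQ : Nondeg Q) {σ : F ≃+* F} {c : F} (hc : c ≠ 0) (f : V → V)
    (hadd : ∀ u v, f (u + v) = f u + f v) (hsmul : ∀ (a : F) v, f (a • v) = σ a • f v)
    (hform : ∀ v, Q (f v) = c * σ (Q v)) : ∃ M, IsSS Q σ c M := by
  have hpol : ∀ x y, polar Q (f x) (f y) = c * σ (polar Q x y) := by
    intro x y
    simp only [QuadraticMap.polar]
    rw [← hadd, hform, hform, hform, map_sub, map_sub]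
    ring
  have h0 : ∀ v, f v = 0 → v = 0 := by
    intro v hv
    apply hQ
    intro y
    have h1 := hpol v y
    rw [hv, polar_zero_left] at h1
    rcases mul_eq_zero.1 h1.symm with h2 | h2
    · exact absurd h2 hc
    · exact (map_eq_zero σ).1 h2
  have hinj : Function.Injective f := by
    intro u v h
    have h1 : f (u - v) + f v = f u := by rw [← hadd, sub_add_cancel]
    rw [h] at h1
    have h2 : f (u - v) = 0 := by
      have : f (u - v) + f v = 0 + f v := by rw [h1, zero_add]
      exact add_right_cancel this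
    exact sub_eq_zero.1 (h0 _ h2)
  exact ⟨Equiv.ofBijective f (Finite.injective_iff_bijective.1 hinj), hc, hadd, hsmul, hform⟩

variable {F : Type*} [Field F]

theorem plus_exists [Finite F] (m : ℕ) (σ : F ≃+* F) (c : F) (hc : c ≠ 0) :
    ∃ M, IsSS (plusForm m F) σ c M := by
  refine exists_isSS (nondeg_plusForm m F) hc
    (fun v => Sum.elim (fun i => c * σ (v (.inl i))) (fun i => σ (v (.inr i)))) ?_ ?_ ?_
  · intro u v
    funext i
    rcases i with i | i
    · show c * σ (u (.inl i) + v (.inl i)) = c * σ (u (.inl i)) + c * σ (v (.inl i))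
      rw [map_add, mul_add]
    · exact map_add σ _ _
  · intro a v
    funext i
    rcases i with i | i
    · show c * σ (a * v (.inl i)) = σ a * (c * σ (v (.inl i)))
      rw [map_mul]; ring
    · exact map_mul σ _ _
  · intro v
    rw [coe_plusForm, quadFormPlus_apply, quadFormPlus_apply, map_sum, Finset.mul_sum]
    refine Finset.sum_congr rfl fun i _ => ?_
    simp only [Sum.elim_inl, Sum.elim_inr, map_mul]
    ring

theorem odd_exists [Finite F] (h2 : (2 : F) ≠ 0) (m : ℕ) (σ : F ≃+* F) :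
    ∃ M, IsSS (oddForm m F) σ 1 M := by
  refine exists_isSS (nondeg_oddForm m F h2) one_ne_zero (fun v i => σ (v i)) ?_ ?_ ?_
  · intro u v
    funext i
    exact map_add σ _ _
  · intro a v
    funext i
    exact map_mul σ _ _
  · intro v
    rw [coe_oddForm, quadFormOdd_apply, quadFormOdd_apply, one_mul, map_add, map_sum, map_pow]
    simp only [map_mul]

/-! ### The anisotropic binary form -/

/-- In characteristic two the elements outside `{y^2 + y}` form one coset. -/
theorem exists_sq_add_self [Finite F] (h2 : (2 : F) = 0) {x y : F} (hx : ¬ ∃ t, t ^ 2 + t = x)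
    (hy : ¬ ∃ t, t ^ 2 + t = y) : ∃ t, t ^ 2 + t = x + y := by
  let f : F →+ F :=
    { toFun := fun t => t ^ 2 + t
      map_zero' := by ring
      map_add' := fun a b => by linear_combination a * b * h2 }
  have hf : ∀ t, f t = t ^ 2 + t := fun t => rfl
  have hker : Nat.card f.ker = 2 := by
    have h4 : (f.ker : Set F) = {0, 1} := by
      ext t
      rw [SetLike.mem_coe, AddMonoidHom.mem_ker, hf, Set.mem_insert_iff, Set.mem_singleton_iff]
      constructor
      · intro h
        have h5 : t * (t + 1) = 0 := by linear_combination h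
        rcases mul_eq_zero.1 h5 with h6 | h6
        · left; exact h6
        · right; linear_combination h6 - h2
      · rintro (rfl | rfl)
        · ring
        · linear_combination h2
    show Nat.card (f.ker : Set F) = 2
    rw [h4, Nat.card_coe_set_eq, Set.ncard_pair zero_ne_one]
  have hidx : f.range.index = 2 := by
    have h5 := AddSubgroup.card_mul_index f.range
    have h6 := AddSubgroup.card_mul_index f.ker
    rw [AddSubgroup.index_ker, hker] at h6
    have h7 : 0 < Nat.card f.range := Nat.card_pos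
    apply Nat.eq_of_mul_eq_mul_left h7
    rw [h5, ← h6, mul_comm]
  have h8 := (AddSubgroup.add_mem_iff_of_index_two hidx (a := x) (b := y)).2
    ⟨fun h => absurd h (by rintro ⟨t, ht⟩; exact hx ⟨t, ht⟩),
      fun h => absurd h (by rintro ⟨t, ht⟩; exact hy ⟨t, ht⟩)⟩
  obtain ⟨t, ht⟩ := h8
  exact ⟨t, ht⟩

/-- A field automorphism preserves the anisotropic binary form up to isometry. -/
theorem exists_twist [Finite F] (a b : F)
    (hab : ∀ z₁ z₂ : F, z₁ ^ 2 + a * z₁ * z₂ + b * z₂ ^ 2 = 0 → z₁ = 0 ∧ z₂ = 0) (σ : F ≃+* F) :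
    ∃ μ₁ μ₂ : F, 2 * μ₁ + a * μ₂ = σ a ∧ μ₁ ^ 2 + a * μ₁ * μ₂ + b * μ₂ ^ 2 = σ b := by
  by_cases h2 : (2 : F) = 0
  · have ha : a ≠ 0 := by
      rintro rfl
      have hb := binary_nondeg F 0 b hab (z := 0) (w := 1) (by ring) (by linear_combination b * h2)
      exact one_ne_zero hb.2
    have hσa : σ a ≠ 0 := by simpa using ha
    have h1 : ¬ ∃ t, t ^ 2 + t = b / a ^ 2 := by
      rintro ⟨t, ht⟩
      have h3 := hab (a * t) 1 (by
        have : b = a ^ 2 * (t ^ 2 + t) := by rw [ht]; field_simp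
        rw [this]
        linear_combination (a ^ 2 * t ^ 2 + a ^ 2 * t) * h2)
      exact one_ne_zero h3.2
    have h3 : ¬ ∃ t, t ^ 2 + t = σ (b / a ^ 2) := by
      rintro ⟨t, ht⟩
      apply h1
      refine ⟨σ.symm t, ?_⟩
      apply σ.injective
      rw [map_add, map_pow, RingEquiv.apply_symm_apply, ht]
    obtain ⟨t, ht⟩ := exists_sq_add_self h2 h1 h3
    rw [map_div₀, map_pow] at ht
    refine ⟨σ a * t, σ a / a, ?_, ?_⟩
    · rw [h2, zero_mul, zero_add]; field_simp
    · have h4 : (σ a * t) ^ 2 + a * (σ a * t) * (σ a / a) + b * (σ a / a) ^ 2 =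
          σ a ^ 2 * (t ^ 2 + t) + σ a ^ 2 * (b / a ^ 2) := by field_simp
      rw [h4, ht]
      have h5 : σ a ^ 2 * (b / a ^ 2 + σ b / σ a ^ 2) + σ a ^ 2 * (b / a ^ 2) =
          2 * (σ a ^ 2 * (b / a ^ 2)) + σ b := by field_simp; ring
      rw [h5, h2, zero_mul, zero_add]
  · have hd : ¬ IsSquare (a ^ 2 - 4 * b) := by
      rintro ⟨s, hs⟩
      have h3 := hab ((-a + s) / 2) 1 (by
        field_simp
        linear_combination -hs)
      exact one_ne_zero h3.2
    have hd' : ¬ IsSquare (σ (a ^ 2 - 4 * b)) := by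
      rintro ⟨s, hs⟩
      apply hd
      refine ⟨σ.symm s, ?_⟩
      apply σ.injective
      rw [map_mul, RingEquiv.apply_symm_apply, hs]
    obtain ⟨r0, hr0⟩ := Cfsg.Agent.ClassicalGeometry.SymmNormalForm.isSquare_div_of_not hd' hd
    have hd0 : a ^ 2 - 4 * b ≠ 0 := by
      intro h
      exact hd (by rw [h]; exact ⟨0, by ring⟩)
    obtain ⟨r, hr⟩ : ∃ r : F, r = r0 / (a ^ 2 - 4 * b) := ⟨_, rfl⟩
    have hr' : σ (a ^ 2 - 4 * b) = r * r * (a ^ 2 - 4 * b) := by
      have : r * r * (a ^ 2 - 4 * b) = (r0 * r0) / (a ^ 2 - 4 * b) := by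
        rw [hr]; field_simp
      rw [this, ← hr0, mul_div_assoc, div_self hd0, mul_one]
    have hσ4 : σ 4 = 4 := by
      have : (4 : F) = 1 + 1 + 1 + 1 := by norm_num
      rw [this]; simp only [map_add, map_one]
    rw [map_sub, map_pow, map_mul, hσ4] at hr'
    refine ⟨(σ a - a * r) / 2, r, by field_simp; ring, ?_⟩
    have h4 : (4 : F) ≠ 0 := by
      have : (4 : F) = 2 * 2 := by norm_num
      rw [this]; exact mul_ne_zero h2 h2
    field_simp
    linear_combination hr'

/-- The anisotropic binary form is universal. -/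
theorem exists_binary_eq [Finite F] (a b : F)
    (hab : ∀ z₁ z₂ : F, z₁ ^ 2 + a * z₁ * z₂ + b * z₂ ^ 2 = 0 → z₁ = 0 ∧ z₂ = 0) (c : F) :
    ∃ l₁ l₂ : F, l₁ ^ 2 + a * l₁ * l₂ + b * l₂ ^ 2 = c := by
  by_cases h2 : (2 : F) = 0
  · have hc2 : CharP F 2 := CharTwo.of_one_ne_zero_of_two_eq_zero one_ne_zero h2
    obtain ⟨s, hs⟩ := FiniteField.isSquare_of_char_two (ringChar.eq_iff.2 hc2) c
    exact ⟨s, 0, by rw [hs]; ring⟩
  · have hd0 : a ^ 2 - 4 * b ≠ 0 := by
      intro h
      have h3 := hab (-a / 2) 1 (by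
        field_simp
        linear_combination -h)
      exact one_ne_zero h3.2
    have hd1 : -(a ^ 2 - 4 * b) / 4 ≠ 0 := by
      have h4 : (4 : F) ≠ 0 := by
        have : (4 : F) = 2 * 2 := by norm_num
        rw [this]; exact mul_ne_zero h2 h2
      exact div_ne_zero (neg_ne_zero.2 hd0) h4
    obtain ⟨x, y, hxy⟩ := Cfsg.Agent.ClassicalGeometry.Universal.exists_sq_add_sq h2
      (one_ne_zero) hd1 c
    refine ⟨x - a / 2 * y, y, ?_⟩
    rw [← hxy]
    have h4 : (4 : F) ≠ 0 := by
      have : (4 : F) = 2 * 2 := by norm_num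
      rw [this]; exact mul_ne_zero h2 h2
    field_simp
    ring

theorem minus_exists [Finite F] (m : ℕ) (a b : F)
    (hab : ∀ z₁ z₂ : F, z₁ ^ 2 + a * z₁ * z₂ + b * z₂ ^ 2 = 0 → z₁ = 0 ∧ z₂ = 0)
    (σ : F ≃+* F) (c : F) (hc : c ≠ 0) : ∃ M, IsSS (minusForm m F a b) σ c M := by
  obtain ⟨μ₁, μ₂, hμ1, hμ2⟩ := exists_twist a b hab σ
  obtain ⟨l₁, l₂, hl⟩ := exists_binary_eq a b hab c
  -- `z ↦ l * (σ z₁ + σ z₂ μ)`, multiplication `(x, y) * (x', y') = (x x' - b y y', x y' + y x' + a y y')`
  refine exists_isSS (nondeg_minusForm m F a b hab) hc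
    (fun v => Sum.elim (Sum.elim (fun i => c * σ (v (.inl (.inl i)))) (fun i => σ (v (.inl (.inr i)))))
      ![l₁ * (σ (v (.inr 0)) + σ (v (.inr 1)) * μ₁) - b * l₂ * (σ (v (.inr 1)) * μ₂),
        l₁ * (σ (v (.inr 1)) * μ₂) + l₂ * (σ (v (.inr 0)) + σ (v (.inr 1)) * μ₁) +
          a * l₂ * (σ (v (.inr 1)) * μ₂)]) ?_ ?_ ?_
  · intro u v
    funext i
    rcases i with (i | i) | i
    · show c * σ (u (.inl (.inl i)) + v (.inl (.inl i))) = c * σ (u (.inl (.inl i))) +
        c * σ (v (.inl (.inl i)))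
      rw [map_add, mul_add]
    · exact map_add σ _ _
    · fin_cases i
      · simp only [Pi.add_apply, map_add, Sum.elim_inr, Fin.zero_eta, Matrix.cons_val_zero]
        ring
      · simp only [Pi.add_apply, map_add, Sum.elim_inr, Fin.mk_one, Matrix.cons_val_one,
          Matrix.cons_val_fin_one]
        ring
  · intro t v
    funext i
    rcases i with (i | i) | i
    · show c * σ (t * v (.inl (.inl i))) = σ t * (c * σ (v (.inl (.inl i))))
      rw [map_mul]; ring
    · exact map_mul σ _ _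
    · fin_cases i
      · simp only [Pi.smul_apply, smul_eq_mul, map_mul, Sum.elim_inr, Fin.zero_eta,
          Matrix.cons_val_zero]
        ring
      · simp only [Pi.smul_apply, smul_eq_mul, map_mul, Sum.elim_inr, Fin.mk_one,
          Matrix.cons_val_one, Matrix.cons_val_fin_one]
        ring
  · intro v
    have e1 : ∀ B : F, c * σ ((∑ i : Fin m, v (.inl (.inl i)) * v (.inl (.inr i))) + B) =
        (∑ i : Fin m, c * σ (v (.inl (.inl i)) * v (.inl (.inr i)))) + c * σ B := by
      intro B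
      rw [map_add, map_sum, mul_add, Finset.mul_sum]
    rw [coe_minusForm, quadFormMinus_apply, quadFormMinus_apply, e1]
    congr 1
    · refine Finset.sum_congr rfl fun i _ => ?_
      simp only [Sum.elim_inl, Sum.elim_inr, map_mul]
      ring
    · simp only [Sum.elim_inr, Matrix.cons_val_zero, Matrix.cons_val_one,
        Matrix.cons_val_fin_one, map_add, map_mul, map_pow]
      rw [← hl, ← hμ1, ← hμ2]
      ring

/-! ### Transfer to `POmega` -/

section Transfer

variable {ι : Type} [Fintype ι] [DecidableEq ι]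

/-- `POmega F Q` as `E Q / Z(E Q)`. -/
noncomputable def pomegaEquiv {Q : QuadraticForm F (ι → F)} (hG : Good Q) :
    Cfsg.POmega F ⇑Q ≃* ↥(E Q) ⧸ Subgroup.center ↥(E Q) :=
  quotientCenterCongr ((omegaEquiv Q).trans (MulEquiv.subgroupCongr hG.commutator_eq_E))

theorem card_mulAut {Q : QuadraticForm F (ι → F)} (hG : Good Q) :
    Nat.card (MulAut (Cfsg.POmega F ⇑Q)) = Nat.card (MulAut (↥(E Q) ⧸ Subgroup.center ↥(E Q))) :=
  Nat.card_congr (MulAut.congr (pomegaEquiv hG)).toEquiv

theorem card_O (Q : QuadraticForm F (ι → F)) :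
    Nat.card (O Q) = Nat.card (Cfsg.isometryGroup F ⇑Q) :=
  (Nat.card_congr (isometryEquiv Q).toEquiv).symm

end Transfer

/-! ### The numbers of induced automorphisms -/

section Card

variable [Fintype F]

theorem good_plus {m : ℕ} (hm : 3 ≤ m) : Good (plusForm m F) := by
  refine good_of_finite (nondeg_plusForm m F) ?_
  rw [Module.finrank_fintype_fun_eq_card, Fintype.card_sum, Fintype.card_fin]
  omega

theorem good_minus {m : ℕ} (hm : 2 ≤ m) (a b : F)
    (hab : ∀ z₁ z₂ : F, z₁ ^ 2 + a * z₁ * z₂ + b * z₂ ^ 2 = 0 → z₁ = 0 ∧ z₂ = 0) :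
    Good (minusForm m F a b) := by
  refine good_of_finite (nondeg_minusForm m F a b hab) ?_
  rw [Module.finrank_fintype_fun_eq_card, Fintype.card_sum, Fintype.card_sum, Fintype.card_fin,
    Fintype.card_fin]
  omega

theorem good_odd {m : ℕ} (hm : 2 ≤ m) (h2 : (2 : F) ≠ 0) : Good (oddForm m F) := by
  refine good_of_finite (nondeg_oddForm m F h2) ?_
  rw [Module.finrank_fintype_fun_eq_card, Fintype.card_sum, Fintype.card_sum, Fintype.card_fin,
    Fintype.card_unit]
  omega

variable {p f : ℕ} [Fact p.Prime]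

theorem card_range_odd (hf : 1 ≤ f) (hF : Fintype.card F = p ^ f) (hodd : Odd p) {m : ℕ}
    (hm : 3 ≤ m) :
    Nat.card (Psi (oddForm m F)).range =
      2 * f * Nat.card (Cfsg.POmega F (Cfsg.quadFormOdd m F)) := by
  have hq : Odd (p ^ f) := hodd.pow
  have h2 : (2 : F) ≠ 0 := Cfsg.Agent.LieClassical.PomegaCard.odd_card_iff.1 (by rw [hF]; exact hq)
  have hG := good_odd (F := F) (m := m) (by omega) h2
  have h1 := card_range_of_squares h2 hG (odd_exists h2 m) (fun c M h =>
    isSquare_of_odd h2 hG.nondeg (by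
      rw [Module.finrank_fintype_fun_eq_card, Fintype.card_sum, Fintype.card_sum, Fintype.card_fin,
        Fintype.card_unit]
      exact ⟨m, by ring⟩) h)
  rw [Cfsg.Agent.Lib.FieldAutCard.card_ringAut hf hF, card_O, coe_oddForm,
    Cfsg.Agent.S0286.result hF hq m] at h1
  have h3 := Cfsg.Agent.S0292.result hF hq m hm
  have h4 : 2 * Nat.card (Psi (oddForm m F)).range =
      2 * (2 * f * Nat.card (Cfsg.POmega F (Cfsg.quadFormOdd m F))) := by
    rw [h1, mul_assoc 2 ((p ^ f) ^ m ^ 2), ← h3]; ring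
  exact Nat.eq_of_mul_eq_mul_left (by norm_num) h4

theorem card_range_plus (hf : 1 ≤ f) (hF : Fintype.card F = p ^ f) {m : ℕ} (hm : 4 ≤ m) :
    Nat.card (Psi (plusForm m F)).range =
      2 * Nat.gcd 4 ((p ^ f) ^ m - 1) * f * Nat.card (Cfsg.POmega F (Cfsg.quadFormPlus m F)) := by
  have hG := good_plus (F := F) (m := m) (by omega)
  have h1 := card_range_of_all hG (plus_exists m)
  rw [Cfsg.Agent.Lib.FieldAutCard.card_ringAut hf hF, card_O, coe_plusForm,
    Cfsg.Agent.S0287.result hF m (by omega)] at h1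
  have h3 := Cfsg.Agent.S0293.result hF m hm
  have h4 : 2 * (p ^ f) ^ (m * (m - 1)) * ((p ^ f) ^ m - 1) *
      ∏ i ∈ Finset.range (m - 1), ((p ^ f) ^ (2 * (i + 1)) - 1) =
      2 * ((p ^ f) ^ (m * (m - 1)) * ((p ^ f) ^ m - 1) *
        ∏ i ∈ Finset.range (m - 1), ((p ^ f) ^ (2 * (i + 1)) - 1)) := by ring
  rw [h1, h4, ← h3]
  ring

theorem card_range_minus (hf : 1 ≤ f) (hF : Fintype.card F = p ^ f) {m : ℕ} (hm : 4 ≤ m) (a b : F)
    (hab : ∀ z₁ z₂ : F, z₁ ^ 2 + a * z₁ * z₂ + b * z₂ ^ 2 = 0 → z₁ = 0 ∧ z₂ = 0) :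
    Nat.card (Psi (minusForm (m - 1) F a b)).range =
      2 * Nat.gcd 4 ((p ^ f) ^ m + 1) * f *
        Nat.card (Cfsg.POmega F (Cfsg.quadFormMinus (m - 1) F a b)) := by
  have hG := good_minus (F := F) (m := m - 1) (by omega) a b hab
  have h1 := card_range_of_all hG (minus_exists (m - 1) a b hab)
  rw [Cfsg.Agent.Lib.FieldAutCard.card_ringAut hf hF, card_O, coe_minusForm,
    Cfsg.Agent.S0288.result hF m (by omega) a b hab] at h1
  have h3 := Cfsg.Agent.S0294.result hF m hm a b hab
  have h4 : 2 * (p ^ f) ^ (m * (m - 1)) * ((p ^ f) ^ m + 1) *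
      ∏ i ∈ Finset.range (m - 1), ((p ^ f) ^ (2 * (i + 1)) - 1) =
      2 * ((p ^ f) ^ (m * (m - 1)) * ((p ^ f) ^ m + 1) *
        ∏ i ∈ Finset.range (m - 1), ((p ^ f) ^ (2 * (i + 1)) - 1)) := by ring
  rw [h1, h4, ← h3]
  ring

end Card

/-! ### Arithmetic -/

section Arith

variable {p f : ℕ} [hp : Fact p.Prime]

theorem pow_mod_four (hf : 1 ≤ f) (hp2 : p ≠ 2) (m : ℕ) :
    if Even (m * (p ^ f - 1) / 2) then (p ^ f) ^ m % 4 = 1 else (p ^ f) ^ m % 4 = 3 := by
  have hodd : Odd (p ^ f) := (hp.out.odd_of_ne_two hp2).pow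
  obtain ⟨k, hk⟩ := hodd
  rw [hk]
  have e : m * (2 * k + 1 - 1) / 2 = m * k := by
    rw [Nat.add_sub_cancel, ← mul_assoc, mul_comm m 2, mul_assoc]
    exact Nat.mul_div_cancel_left _ (by norm_num)
  rw [e]
  rcases Nat.even_or_odd k with hk2 | hk2
  · rw [if_pos (hk2.mul_left m)]
    obtain ⟨j, hj⟩ := hk2
    have h1 : (2 * k + 1) % 4 = 1 := by omega
    rw [Nat.pow_mod, h1, one_pow, Nat.mod_eq_of_lt (by norm_num)]
  · have h1 : (2 * k + 1) % 4 = 3 := by
      obtain ⟨j, hj⟩ := hk2
      omega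
    rcases Nat.even_or_odd m with hm2 | hm2
    · rw [if_pos (hm2.mul_right k)]
      obtain ⟨j, hj⟩ := hm2
      rw [hj, ← two_mul, pow_mul, Nat.pow_mod, Nat.pow_mod (2 * k + 1) 2 4, h1]
      norm_num
    · rw [if_neg (by rw [Nat.not_even_iff_odd]; exact hm2.mul hk2)]
      obtain ⟨j, hj⟩ := hm2
      rw [hj, pow_succ, pow_mul, Nat.mul_mod, Nat.pow_mod ((2 * k + 1) ^ 2) j 4,
        Nat.pow_mod (2 * k + 1) 2 4, h1]
      norm_num

/-- The factor in the statement for the plus form. -/
theorem factor_plus (hf : 1 ≤ f) (m : ℕ) (hm : 1 ≤ m) :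
    2 * Nat.gcd 4 ((p ^ f) ^ m - 1) =
      if p = 2 then 2 else (if Even (m * (p ^ f - 1) / 2) then 8 else 4) := by
  have hpos : 0 < (p ^ f) ^ m := by
    have := hp.out.pos
    positivity
  by_cases hp2 : p = 2
  · rw [if_pos hp2]
    have h1 : (p ^ f) ^ m % 2 = 0 := by
      rw [hp2, ← pow_mul]
      have : 2 ∣ 2 ^ (f * m) := dvd_pow_self 2 (by positivity)
      omega
    rw [Cfsg.Agent.LieClassical.PomegaCard.gcd_four_of_odd (by omega)]
  · rw [if_neg hp2]
    have h := pow_mod_four (p := p) hf hp2 m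
    by_cases he : Even (m * (p ^ f - 1) / 2)
    · rw [if_pos he] at h ⊢
      rw [Cfsg.Agent.LieClassical.PomegaCard.gcd_four_of_dvd (by omega)]
    · rw [if_neg he] at h ⊢
      rw [Cfsg.Agent.LieClassical.PomegaCard.gcd_four_of_two (by omega)]

/-- The factor in the statement for the minus form. -/
theorem factor_minus (hf : 1 ≤ f) (m : ℕ) (hm : 1 ≤ m) :
    2 * Nat.gcd 4 ((p ^ f) ^ m + 1) =
      if p = 2 then 2 else (if Even (m * (p ^ f - 1) / 2) then 4 else 8) := by
  by_cases hp2 : p = 2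
  · rw [if_pos hp2]
    have h1 : (p ^ f) ^ m % 2 = 0 := by
      rw [hp2, ← pow_mul]
      have : 2 ∣ 2 ^ (f * m) := dvd_pow_self 2 (by positivity)
      omega
    rw [Cfsg.Agent.LieClassical.PomegaCard.gcd_four_of_odd (by omega)]
  · rw [if_neg hp2]
    have h := pow_mod_four (p := p) hf hp2 m
    by_cases he : Even (m * (p ^ f - 1) / 2)
    · rw [if_pos he] at h ⊢
      rw [Cfsg.Agent.LieClassical.PomegaCard.gcd_four_of_two (by omega)]
    · rw [if_neg he] at h ⊢
      rw [Cfsg.Agent.LieClassical.PomegaCard.gcd_four_of_dvd (by omega)]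

end Arith

/-! ### The orders of the automorphism groups, given surjectivity -/

section Final

variable [Fintype F] {p f : ℕ} [Fact p.Prime]

theorem card_range_of_surjective {G H : Type*} [Group G] [Group H] {φ : G →* H}
    (h : Function.Surjective φ) : Nat.card φ.range = Nat.card H := by
  rw [MonoidHom.range_eq_top.2 h]
  exact Nat.card_congr Subgroup.topEquiv.toEquiv

/-- S0816, given that every automorphism is induced by a semisimilitude. -/
theorem card_odd (hf : 1 ≤ f) (hF : Fintype.card F = p ^ f) (hodd : Odd p) {m : ℕ} (hm : 3 ≤ m)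
    (hsurj : Function.Surjective (Psi (oddForm m F))) :
    Nat.card (MulAut (Cfsg.POmega F (Cfsg.quadFormOdd m F))) =
      2 * f * Nat.card (Cfsg.POmega F (Cfsg.quadFormOdd m F)) := by
  have h2 : (2 : F) ≠ 0 := Cfsg.Agent.LieClassical.PomegaCard.odd_card_iff.1
    (by rw [hF]; exact hodd.pow)
  have hG := good_odd (F := F) (m := m) (by omega) h2
  rw [← card_range_odd hf hF hodd hm, card_range_of_surjective hsurj, ← coe_oddForm]
  exact card_mulAut hG

/-- S0817 for `m ≥ 5`, given that every automorphism is induced by a semisimilitude. -/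
theorem card_plus (hf : 1 ≤ f) (hF : Fintype.card F = p ^ f) {m : ℕ} (hm : 4 ≤ m)
    (hsurj : Function.Surjective (Psi (plusForm m F))) :
    Nat.card (MulAut (Cfsg.POmega F (Cfsg.quadFormPlus m F))) =
      (if p = 2 then 2 else (if Even (m * (p ^ f - 1) / 2) then 8 else 4)) * f *
        Nat.card (Cfsg.POmega F (Cfsg.quadFormPlus m F)) := by
  have hG := good_plus (F := F) (m := m) (by omega)
  rw [← factor_plus hf m (by omega), ← card_range_plus hf hF hm, card_range_of_surjective hsurj,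
    ← coe_plusForm]
  exact card_mulAut hG

/-- S0818, given that every automorphism is induced by a semisimilitude. -/
theorem card_minus (hf : 1 ≤ f) (hF : Fintype.card F = p ^ f) {m : ℕ} (hm : 4 ≤ m) (a b : F)
    (hab : ∀ z₁ z₂ : F, z₁ ^ 2 + a * z₁ * z₂ + b * z₂ ^ 2 = 0 → z₁ = 0 ∧ z₂ = 0)
    (hsurj : Function.Surjective (Psi (minusForm (m - 1) F a b))) :
    Nat.card (MulAut (Cfsg.POmega F (Cfsg.quadFormMinus (m - 1) F a b))) =
      (if p = 2 then 2 else (if Even (m * (p ^ f - 1) / 2) then 4 else 8)) * f *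
        Nat.card (Cfsg.POmega F (Cfsg.quadFormMinus (m - 1) F a b)) := by
  have hG := good_minus (F := F) (m := m - 1) (by omega) a b hab
  rw [← factor_minus hf m (by omega), ← card_range_minus hf hF hm a b hab,
    card_range_of_surjective hsurj, ← coe_minusForm]
  exact card_mulAut hG

/-- S0817 for `m = 4`, given the index of the group of automorphisms induced by semisimilitudes. -/
theorem card_plus_four (hf : 1 ≤ f) (hF : Fintype.card F = p ^ f)
    (hidx : (Psi (plusForm 4 F)).range.index = 3) :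
    Nat.card (MulAut (Cfsg.POmega F (Cfsg.quadFormPlus 4 F))) =
      3 * (if p = 2 then 2 else (if Even (4 * (p ^ f - 1) / 2) then 8 else 4)) * f *
        Nat.card (Cfsg.POmega F (Cfsg.quadFormPlus 4 F)) := by
  have hG := good_plus (F := F) (m := 4) (by omega)
  have h1 := Subgroup.card_mul_index (Psi (plusForm 4 F)).range
  rw [hidx, card_range_plus hf hF (le_refl 4), factor_plus hf 4 (by omega)] at h1
  have h2 := card_mulAut hG
  rw [coe_plusForm] at h2
  rw [h2, ← h1]
  ring

end Final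

/-! ### The form in which surjectivity will be proved -/

/-- An automorphism of `E Q / Z(E Q)` which is conjugation by a semisimilitude lies in the image of
`Psi`. -/
theorem mem_range_of_induces {V : Type*} [AddCommGroup V] [Module F V] {Q : QuadraticForm F V}
    (α : MulAut (↥(E Q) ⧸ Subgroup.center ↥(E Q))) {M : V ≃+ V} {σ : F ≃+* F} {c : F} (hc : c ≠ 0)
    (hsmul : ∀ (a : F) v, M (a • v) = σ a • M v) (hform : ∀ v, Q (M v) = c * σ (Q v))
    (h : ∀ g h : ↥(E Q), (∀ v, (h : V ≃ₗ[F] V) (M v) = M ((g : V ≃ₗ[F] V) v)) →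
      α (QuotientGroup.mk g) = QuotientGroup.mk h) : α ∈ (Psi Q).range := by
  have hM : IsSS Q σ c M.toEquiv := ⟨hc, fun u v => map_add M u v, hsmul, hform⟩
  refine ⟨⟨M.toEquiv, σ, c, hM⟩, ?_⟩
  ext x
  induction x using QuotientGroup.induction_on with
  | H g =>
    rw [Psi_mk]
    symm
    apply h
    intro v
    rw [coe_conjE]
    exact conjLin_apply' (Q := Q) ⟨M.toEquiv, σ, c, hM⟩ g.1 v

end Cfsg.Agent.ClassicalGeometry.OrthSemiForms
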