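import Mathlib

/-!
# Abstract pole counting in characteristic `p`

A finite group `G` acts on a set `Ω` such that

* an element `g ≠ 1` with `g ^ p = 1` fixes exactly one point,
* an element with `g ^ p ≠ 1` fixes exactly two points,
* for each point `x` there is a homomorphism from the stabiliser of `x` to the units of a field of
  characteristic `p` whose kernel consists of the elements with `g ^ p = 1`.

These are the properties of the finite subgroups of `PSL₂(K)`, `K` algebraically closed of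
characteristic `p`, acting on the projective line.
-/

set_option autoImplicit false

open MulAction Finset

namespace Cfsg.Agent.ClassicalGeometry.PoleCount

/-- The properties of the action of a finite subgroup of `PSL₂(K)` on the projective line. -/
structure Pole (p : ℕ) (K G Ω : Type*) [Group G] [MulAction G Ω] [Field K] : Prop where
  one : ∀ g : G, g ≠ 1 → g ^ p = 1 → ∃ a : Ω, ∀ x, g • x = x ↔ x = a
  two : ∀ g : G, g ^ p ≠ 1 → ∃ a b : Ω, a ≠ b ∧ ∀ x, g • x = x ↔ x = a ∨ x = b
  chi : ∀ x : Ω, ∃ χ : stabilizer G x →* Kˣ, ∀ g, χ g = 1 ↔ g ^ p = 1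

variable {p : ℕ} {K G Ω : Type*} [Group G] [MulAction G Ω] [Field K]

/-- No `p`-torsion in the units of a field of characteristic `p`. -/
theorem unit_eq_one [Fact p.Prime] [CharP K p] (u : Kˣ) (n : ℕ) (h : u ^ p ^ n = 1) : u = 1 := by
  apply Units.ext
  have h1 : (u : K) ^ p ^ n = 1 := by
    have := congrArg Units.val h
    simpa using this
  have h2 : ((u : K) - 1) ^ p ^ n = 0 := by
    rw [sub_pow_char_pow, h1, one_pow, sub_self]
  have h3 := pow_eq_zero_iff (pow_ne_zero n (Fact.out : p.Prime).ne_zero) |>.mp h2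
  rw [Units.val_one]
  exact sub_eq_zero.mp h3

namespace Pole

variable (h : Pole p K G Ω)

/-- The elements of the stabiliser of `x` with `g ^ p = 1`. -/
def E (x : Ω) : Subgroup G where
  carrier := {g | g • x = x ∧ g ^ p = 1}
  one_mem' := ⟨one_smul _ _, one_pow _⟩
  mul_mem' := by
    rintro a b ⟨ha, ha'⟩ ⟨hb, hb'⟩
    obtain ⟨χ, hχ⟩ := h.chi x
    have h1 : (a * b) • x = x := by rw [mul_smul, hb, ha]
    refine ⟨h1, ?_⟩
    have h2 : χ (⟨a, ha⟩ * ⟨b, hb⟩) = 1 := by
      rw [map_mul, (hχ ⟨a, ha⟩).mpr (Subtype.ext ha'), (hχ ⟨b, hb⟩).mpr (Subtype.ext hb'), one_mul]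
    exact congrArg Subtype.val ((hχ _).mp h2)
  inv_mem' := by
    rintro a ⟨ha, ha'⟩
    refine ⟨?_, by rw [inv_pow, ha', inv_one]⟩
    rw [inv_smul_eq_iff, ha]

theorem mem_E {x : Ω} {g : G} : g ∈ h.E x ↔ g • x = x ∧ g ^ p = 1 := Iff.rfl

theorem E_le_stabilizer (x : Ω) : h.E x ≤ stabilizer G x := fun _ hg => hg.1

/-- Any element of `p`-power order in the stabiliser of `x` lies in `E x`. -/
theorem mem_E_of_pow [Fact p.Prime] [CharP K p] {x : Ω} {g : G} (hg : g • x = x) {n : ℕ}
    (hn : g ^ p ^ n = 1) : g ∈ h.E x := by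
  obtain ⟨χ, hχ⟩ := h.chi x
  refine ⟨hg, ?_⟩
  have h1 : (χ ⟨g, hg⟩) ^ p ^ n = 1 := by
    rw [← map_pow]
    have : (⟨g, hg⟩ : stabilizer G x) ^ p ^ n = 1 := Subtype.ext hn
    rw [this, map_one]
  exact congrArg Subtype.val ((hχ _).mp (unit_eq_one _ n h1))

include h in
/-- A nontrivial element of `E x` fixes only `x`. -/
theorem eq_of_fix {x y : Ω} {g : G} (hg : g ∈ h.E x) (hg1 : g ≠ 1) (hy : g • y = y) : y = x := by
  obtain ⟨a, ha⟩ := h.one g hg1 hg.2
  rw [(ha y).mp hy, (ha x).mp hg.1]

include h in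
/-- The set of fixed points of `g` is contained in two points. -/
theorem fix_subset (g : G) (hg : g ≠ 1) : ∃ a b : Ω, ∀ x, g • x = x → x = a ∨ x = b := by
  by_cases hp : g ^ p = 1
  · obtain ⟨a, ha⟩ := h.one g hg hp
    exact ⟨a, a, fun x hx => Or.inl ((ha x).mp hx)⟩
  · obtain ⟨a, b, -, hab⟩ := h.two g hp
    exact ⟨a, b, fun x hx => (hab x).mp hx⟩

include h in
/-- An element fixing three distinct points is trivial. -/
theorem eq_one_of_three {g : G} {a b c : Ω} (hab : a ≠ b) (hac : a ≠ c) (hbc : b ≠ c)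
    (ha : g • a = a) (hb : g • b = b) (hc : g • c = c) : g = 1 := by
  by_contra hg
  obtain ⟨x, y, hxy⟩ := h.fix_subset g hg
  rcases hxy a ha with rfl | rfl <;> rcases hxy b hb with rfl | rfl <;>
    rcases hxy c hc with rfl | rfl <;> simp_all

/-- The centraliser of a nontrivial element of `E x` in the stabiliser of `x` is in `E x`. -/
theorem mem_E_of_commute {x : Ω} {u c : G} (hu : u ∈ h.E x) (hu1 : u ≠ 1) (hc : c • x = x)
    (hcu : c * u = u * c) : c ∈ h.E x := by
  refine ⟨hc, ?_⟩
  by_contra hcp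
  obtain ⟨a, b, hab, hfix⟩ := h.two c hcp
  -- pick the second fixed point
  have key : ∀ y, y ≠ x → c • y = y → False := by
    intro y hyx hy
    have h1 : c • (u • y) = u • y := by
      rw [← mul_smul, hcu, mul_smul, hy]
    have h2 : u • y ≠ x := by
      intro h3
      apply hyx
      have h4 : u • y = u • x := by rw [h3, hu.1]
      exact smul_left_cancel u h4
    have h3 : u • y ≠ y := fun h4 => hyx (h.eq_of_fix hu hu1 h4)
    have h5 : c = 1 := h.eq_one_of_three (Ne.symm hyx) (Ne.symm h2) (Ne.symm h3) hc hy h1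
    rw [h5, one_pow] at hcp
    exact hcp rfl
  rcases (hfix x).mp hc with rfl | rfl
  · exact key b hab.symm ((hfix b).mpr (Or.inr rfl))
  · exact key a hab ((hfix a).mpr (Or.inl rfl))

/-- If `c` commutes with a nontrivial element of `E x` then `c` fixes `x`. -/
theorem fix_of_commute {x : Ω} {u c : G} (hu : u ∈ h.E x) (hu1 : u ≠ 1)
    (hcu : c * u = u * c) : c • x = x := by
  apply h.eq_of_fix hu hu1
  rw [← mul_smul, ← hcu, mul_smul, hu.1]

theorem isPGroup_E [Fact p.Prime] (x : Ω) : IsPGroup p (h.E x) := by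
  intro g
  refine ⟨1, ?_⟩
  rw [pow_one]
  exact Subtype.ext g.2.2

/-- A `p`-subgroup containing `E x ≠ 1` is equal to `E x`. -/
theorem le_E_of_isPGroup [Finite G] [Fact p.Prime] [CharP K p] {x : Ω} {u : G} (hu : u ∈ h.E x)
    (hu1 : u ≠ 1) (Q : Subgroup G) (hQ : IsPGroup p Q) (huQ : u ∈ Q) : Q ≤ h.E x := by
  -- a nontrivial central element of `Q`
  have hne : Nontrivial Q := ⟨⟨⟨u, huQ⟩, 1, fun h1 => hu1 (congrArg Subtype.val h1)⟩⟩
  have hcen := hQ.center_nontrivial
  obtain ⟨⟨z, hz⟩, hz1⟩ := exists_ne (1 : Subgroup.center Q)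
  have hz1' : (z : G) ≠ 1 := by
    intro h1
    apply hz1
    apply Subtype.ext
    apply Subtype.ext
    exact h1
  have hzc : ∀ w : G, w ∈ Q → w * (z : G) = z * w := by
    intro w hw
    have := Subgroup.mem_center_iff.mp hz ⟨w, hw⟩
    exact congrArg Subtype.val this
  have hzx : (z : G) • x = x := h.fix_of_commute hu hu1 (hzc u huQ).symm
  obtain ⟨n, hn⟩ := hQ z
  have hzE : (z : G) ∈ h.E x := h.mem_E_of_pow hzx (n := n) (congrArg Subtype.val hn)
  intro w hw
  have hwx : w • x = x := h.fix_of_commute hzE hz1' (hzc w hw)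
  obtain ⟨m, hm⟩ := hQ ⟨w, hw⟩
  exact h.mem_E_of_pow hwx (n := m) (congrArg Subtype.val hm)

/-- The points with `E x ≠ 1`. -/
def Op (p : ℕ) (G Ω : Type*) [Group G] [MulAction G Ω] : Set Ω :=
  {x | ∃ g : G, g ≠ 1 ∧ g ^ p = 1 ∧ g • x = x}

/-- The points with nontrivial stabiliser and `E x = 1`. -/
def Oq (p : ℕ) (G Ω : Type*) [Group G] [MulAction G Ω] : Set Ω :=
  {x | (∃ g : G, g ≠ 1 ∧ g • x = x) ∧ x ∉ Op p G Ω}

theorem smul_mem_Op (g : G) {x : Ω} (hx : x ∈ Op p G Ω) : g • x ∈ Op p G Ω := by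
  obtain ⟨u, hu1, hup, hux⟩ := hx
  refine ⟨g * u * g⁻¹, ?_, ?_, ?_⟩
  · intro h1
    apply hu1
    exact conj_eq_one_iff.mp h1
  · rw [conj_pow, hup, mul_one, mul_inv_cancel]
  · rw [mul_smul, inv_smul_smul, mul_smul, hux]

theorem smul_mem_Op_iff (g : G) {x : Ω} : g • x ∈ Op p G Ω ↔ x ∈ Op p G Ω := by
  constructor
  · intro hx
    have := smul_mem_Op g⁻¹ hx
    rwa [inv_smul_smul] at this
  · exact smul_mem_Op g

theorem smul_mem_Oq (g : G) {x : Ω} (hx : x ∈ Oq p G Ω) : g • x ∈ Oq p G Ω := by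
  obtain ⟨⟨u, hu1, hux⟩, hx'⟩ := hx
  refine ⟨⟨g * u * g⁻¹, ?_, ?_⟩, ?_⟩
  · intro h1
    apply hu1
    exact conj_eq_one_iff.mp h1
  · rw [mul_smul, inv_smul_smul, mul_smul, hux]
  · rwa [smul_mem_Op_iff]

/-- `E x` is a Sylow subgroup for `x ∈ Op`. -/
theorem exists_sylow [Finite G] [Fact p.Prime] [CharP K p] {x : Ω} (hx : x ∈ Op p G Ω) :
    ∃ P : Sylow p G, (P : Subgroup G) = h.E x := by
  obtain ⟨u, hu1, hup, hux⟩ := hx
  have huE : u ∈ h.E x := ⟨hux, hup⟩
  obtain ⟨P, hP⟩ := (h.isPGroup_E x).exists_le_sylow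
  exact ⟨P, le_antisymm (h.le_E_of_isPGroup huE hu1 P P.isPGroup' (hP huE)) hP⟩

include h in
/-- `G` is transitive on `Op`. -/
theorem exists_smul_eq [Finite G] [Fact p.Prime] [CharP K p] {x y : Ω} (hx : x ∈ Op p G Ω)
    (hy : y ∈ Op p G Ω) : ∃ g : G, g • x = y := by
  obtain ⟨P, hP⟩ := h.exists_sylow hx
  obtain ⟨Q, hQ⟩ := h.exists_sylow hy
  obtain ⟨g, hg⟩ := MulAction.exists_smul_eq G P Q
  obtain ⟨u, hu1, hup, hux⟩ := hx
  have huP : u ∈ (P : Subgroup G) := by rw [hP]; exact ⟨hux, hup⟩
  have h1 : g * u * g⁻¹ ∈ h.E y := by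
    rw [← hQ, ← hg, Sylow.coe_subgroup_smul]
    exact Subgroup.smul_mem_pointwise_smul u (MulAut.conj g) _ huP
  refine ⟨g, ?_⟩
  apply h.eq_of_fix h1
  · intro h2
    exact hu1 (conj_eq_one_iff.mp h2)
  · rw [mul_smul, inv_smul_smul, mul_smul, hux]

include h in
theorem Op_eq_orbit [Finite G] [Fact p.Prime] [CharP K p] {x : Ω} (hx : x ∈ Op p G Ω) :
    Op p G Ω = orbit G x := by
  ext y
  constructor
  · intro hy
    exact h.exists_smul_eq hx hy
  · rintro ⟨g, rfl⟩
    exact smul_mem_Op g hx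

theorem card_E_eq [Finite G] [Fact p.Prime] [CharP K p] {x y : Ω} (hx : x ∈ Op p G Ω)
    (hy : y ∈ Op p G Ω) : Nat.card (h.E x) = Nat.card (h.E y) := by
  obtain ⟨P, hP⟩ := h.exists_sylow hx
  obtain ⟨Q, hQ⟩ := h.exists_sylow hy
  rw [← hP, ← hQ]
  exact Nat.card_congr (Sylow.equiv P Q).toEquiv

end Pole

/-! ### Counting -/

section count

variable (p : ℕ) {G Ω : Type*} [Group G] [Finite G] [MulAction G Ω]

open Classical in
/-- The number of nontrivial elements fixing `x`. -/
noncomputable def cnt (G : Type*) {Ω : Type*} [Group G] [Finite G] [MulAction G Ω] (x : Ω) : ℕ :=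
  letI := Fintype.ofFinite G
  (univ.filter (fun g : G => g ≠ 1 ∧ g • x = x)).card

theorem cnt_add_one (x : Ω) : cnt G x + 1 = Nat.card (stabilizer G x) := by
  classical
  letI := Fintype.ofFinite G
  unfold cnt
  have h1 : Nat.card (stabilizer G x) = (univ.filter (fun g : G => g • x = x)).card := by
    rw [Nat.card_eq_fintype_card]
    exact Fintype.card_of_subtype _ (fun g => by simp)
  have h2 : univ.filter (fun g : G => g • x = x) =
      insert 1 (univ.filter (fun g : G => g ≠ 1 ∧ g • x = x)) := by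
    ext g
    simp only [mem_filter, mem_univ, true_and, mem_insert]
    by_cases hg : g = 1
    · simp [hg]
    · simp [hg]
  rw [h1, h2, card_insert_of_notMem (by simp)]

theorem cnt_smul (g : G) (x : Ω) : cnt G (g • x) = cnt G x := by
  have h1 := cnt_add_one (G := G) x
  have h2 := cnt_add_one (G := G) (g • x)
  have h3 : Nat.card (stabilizer G (g • x)) = Nat.card (stabilizer G x) := by
    rw [MulAction.stabilizer_smul_eq_stabilizer_map_conj]
    exact Nat.card_congr (Subgroup.equivMapOfInjective _ _ (MulAut.conj g).injective).toEquiv.symm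
  omega

theorem sum_orbit (y : Ω) (O : Finset Ω) (hO : (O : Set Ω) = orbit G y) :
    ∑ x ∈ O, cnt G x + O.card = Nat.card G := by
  have h1 : ∀ x ∈ O, cnt G x = cnt G y := by
    intro x hx
    have hx' : x ∈ orbit G y := by rw [← hO]; exact hx
    obtain ⟨g, rfl⟩ := hx'
    exact cnt_smul g y
  rw [sum_congr rfl h1, sum_const, smul_eq_mul]
  have h2 : O.card = (stabilizer G y).index := by
    rw [MulAction.index_stabilizer, ← hO, Set.ncard_coe_finset]
  have h3 := (stabilizer G y).card_mul_index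
  have h4 := cnt_add_one (G := G) y
  rw [← h3, ← h4, h2]
  ring

theorem card_orbit_mul (y : Ω) (O : Finset Ω) (hO : (O : Set Ω) = orbit G y) :
    O.card * (cnt G y + 1) = Nat.card G := by
  have h2 : O.card = (stabilizer G y).index := by
    rw [MulAction.index_stabilizer, ← hO, Set.ncard_coe_finset]
  have h3 := (stabilizer G y).card_mul_index
  rw [h2, cnt_add_one, mul_comm]
  exact h3

/-- Double counting. -/
theorem sum_comm_count (S : Finset Ω) (P : G → Prop) [DecidablePred P] [Fintype G]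
    [∀ g : G, ∀ x : Ω, Decidable (g • x = x)] :
    ∑ x ∈ S, (univ.filter (fun g : G => P g ∧ g • x = x)).card =
      ∑ g ∈ univ.filter P, (S.filter (fun x => g • x = x)).card := by
  simp only [card_filter, sum_filter]
  rw [sum_comm]
  apply sum_congr rfl
  intro g _
  by_cases hP : P g
  · simp [hP]
  · simp [hP]

end count

namespace Pole

variable (h : Pole p K G Ω)

include h in
theorem finite_fix [Finite G] : {x : Ω | ∃ g : G, g ≠ 1 ∧ g • x = x}.Finite := by
  have h1 : {x : Ω | ∃ g : G, g ≠ 1 ∧ g • x = x} ⊆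
      ⋃ g : {g : G // g ≠ 1}, {x : Ω | (g : G) • x = x} := by
    rintro x ⟨g, hg, hx⟩
    exact Set.mem_iUnion.mpr ⟨⟨g, hg⟩, hx⟩
  refine Set.Finite.subset (Set.finite_iUnion ?_) h1
  rintro ⟨g, hg⟩
  obtain ⟨a, b, hab⟩ := h.fix_subset g hg
  refine Set.Finite.subset (Set.toFinite {a, b}) ?_
  intro x hx
  exact hab x hx

include h in
theorem finite_Op [Finite G] : (Op p G Ω).Finite :=
  h.finite_fix.subset (fun _ ⟨g, h1, _, h3⟩ => ⟨g, h1, h3⟩)

include h in
theorem finite_Oq [Finite G] : (Oq p G Ω).Finite :=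
  h.finite_fix.subset (fun _ hx => hx.1)

include h in
/-- The main count. `r` is the number of points in `Op`, `q₁` the order of a Sylow `p`-subgroup. -/
theorem count [Finite G] [Fact p.Prime] [CharP K p] {x₀ : Ω} (hx₀ : x₀ ∈ Op p G Ω) :
    ∑ x ∈ h.finite_Oq.toFinset, cnt G x + 2 + (Op p G Ω).ncard * Nat.card (h.E x₀) =
      Nat.card G + 2 * (Op p G Ω).ncard := by
  classical
  letI := Fintype.ofFinite G
  set Sp := h.finite_Op.toFinset with hSp
  set Sq := h.finite_Oq.toFinset with hSq
  have hr : (Op p G Ω).ncard = Sp.card := by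
    rw [Set.ncard_eq_toFinset_card _ h.finite_Op]
  have hdisj : Disjoint Sp Sq := by
    rw [Finset.disjoint_left]
    intro x hx hx'
    rw [hSp, Set.Finite.mem_toFinset] at hx
    rw [hSq, Set.Finite.mem_toFinset] at hx'
    exact hx'.2 hx
  have hmem : ∀ x, x ∈ Sp ∪ Sq ↔ ∃ g : G, g ≠ 1 ∧ g • x = x := by
    intro x
    rw [mem_union, hSp, hSq, Set.Finite.mem_toFinset, Set.Finite.mem_toFinset]
    constructor
    · rintro (⟨g, h1, -, h3⟩ | hx)
      · exact ⟨g, h1, h3⟩
      · exact hx.1
    · intro hx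
      by_cases hx' : x ∈ Op p G Ω
      · exact Or.inl hx'
      · exact Or.inr ⟨hx, hx'⟩
  set a := (univ.filter (fun g : G => g ≠ 1 ∧ g ^ p = 1)).card with ha
  set b := (univ.filter (fun g : G => g ^ p ≠ 1)).card with hb
  -- total number of elements
  have E3 : 1 + a + b = Nat.card G := by
    have h1 : (univ : Finset G) = insert 1 ((univ.filter (fun g : G => g ≠ 1 ∧ g ^ p = 1)) ∪
        (univ.filter (fun g : G => g ^ p ≠ 1))) := by
      ext g
      simp only [mem_univ, mem_insert, mem_union, mem_filter, true_and, true_iff]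
      by_cases h1 : g = 1
      · exact Or.inl h1
      · by_cases h2 : g ^ p = 1
        · exact Or.inr (Or.inl ⟨h1, h2⟩)
        · exact Or.inr (Or.inr h2)
    rw [Nat.card_eq_fintype_card, ← card_univ, h1, card_insert_of_notMem (by simp),
      card_union_of_disjoint]
    · omega
    · rw [Finset.disjoint_left]
      intro g hg hg'
      simp only [mem_filter, mem_univ, true_and] at hg hg'
      exact hg' hg.2
  -- the double count over all points
  have E1 : ∑ x ∈ Sp ∪ Sq, cnt G x = a + 2 * b := by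
    have h1 : ∑ x ∈ Sp ∪ Sq, cnt G x =
        ∑ g ∈ univ.filter (fun g : G => g ≠ 1), ((Sp ∪ Sq).filter (fun x => g • x = x)).card := by
      rw [← sum_comm_count (Sp ∪ Sq) (fun g : G => g ≠ 1)]
      apply sum_congr rfl
      intro x _
      unfold cnt
      congr!
    have h2 : univ.filter (fun g : G => g ≠ 1) = (univ.filter (fun g : G => g ≠ 1 ∧ g ^ p = 1)) ∪
        (univ.filter (fun g : G => g ^ p ≠ 1)) := by
      ext g
      simp only [mem_union, mem_filter, mem_univ, true_and]
      constructor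
      · intro h1
        by_cases h2 : g ^ p = 1
        · exact Or.inl ⟨h1, h2⟩
        · exact Or.inr h2
      · rintro (⟨h1, -⟩ | h2)
        · exact h1
        · rintro rfl
          exact h2 (one_pow p)
    rw [h1, h2, sum_union]
    · have h3 : ∑ g ∈ univ.filter (fun g : G => g ≠ 1 ∧ g ^ p = 1),
          ((Sp ∪ Sq).filter (fun x => g • x = x)).card = a := by
        rw [ha, card_eq_sum_ones]
        apply sum_congr rfl
        intro g hg
        simp only [mem_filter, mem_univ, true_and] at hg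
        obtain ⟨y, hy⟩ := h.one g hg.1 hg.2
        have h4 : (Sp ∪ Sq).filter (fun x => g • x = x) = {y} := by
          ext x
          rw [mem_filter, mem_singleton, ← hy x, and_iff_right_iff_imp, hmem]
          intro hx
          exact ⟨g, hg.1, hx⟩
        rw [h4, card_singleton]
      have h4 : ∑ g ∈ univ.filter (fun g : G => g ^ p ≠ 1),
          ((Sp ∪ Sq).filter (fun x => g • x = x)).card = 2 * b := by
        rw [hb, mul_comm, ← smul_eq_mul, ← sum_const]
        apply sum_congr rfl
        intro g hg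
        simp only [mem_filter, mem_univ, true_and] at hg
        obtain ⟨y, z, hyz, hy⟩ := h.two g hg
        have hg1 : g ≠ 1 := by
          rintro rfl
          exact hg (one_pow p)
        have h4 : (Sp ∪ Sq).filter (fun x => g • x = x) = {y, z} := by
          ext x
          rw [mem_filter, mem_insert, mem_singleton, ← hy x, and_iff_right_iff_imp, hmem]
          intro hx
          exact ⟨g, hg1, hx⟩
        rw [h4, card_pair hyz]
      rw [h3, h4]
    · rw [Finset.disjoint_left]
      intro g hg hg'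
      simp only [mem_filter, mem_univ, true_and] at hg hg'
      exact hg' hg.2
  -- the number of elements of order `p`
  have E2 : a + Sp.card = Sp.card * Nat.card (h.E x₀) := by
    have h1 : ∑ x ∈ Sp, (univ.filter (fun g : G => (g ≠ 1 ∧ g ^ p = 1) ∧ g • x = x)).card = a := by
      rw [sum_comm_count Sp (fun g : G => g ≠ 1 ∧ g ^ p = 1), ha, card_eq_sum_ones]
      apply sum_congr rfl
      intro g hg
      simp only [mem_filter, mem_univ, true_and] at hg
      obtain ⟨y, hy⟩ := h.one g hg.1 hg.2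
      have h4 : Sp.filter (fun x => g • x = x) = {y} := by
        ext x
        rw [mem_filter, mem_singleton, ← hy x, and_iff_right_iff_imp, hSp,
          Set.Finite.mem_toFinset]
        intro hx
        exact ⟨g, hg.1, hg.2, hx⟩
      rw [h4, card_singleton]
    have h2 : ∀ x ∈ Sp, (univ.filter (fun g : G => (g ≠ 1 ∧ g ^ p = 1) ∧ g • x = x)).card + 1 =
        Nat.card (h.E x₀) := by
      intro x hx
      rw [hSp, Set.Finite.mem_toFinset] at hx
      rw [h.card_E_eq hx₀ hx]
      have h3 : Nat.card (h.E x) = (univ.filter (fun g : G => g ∈ h.E x)).card := by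
        rw [Nat.card_eq_fintype_card]
        exact Fintype.card_of_subtype _ (fun g => by simp)
      have h4 : univ.filter (fun g : G => g ∈ h.E x) =
          insert 1 (univ.filter (fun g : G => (g ≠ 1 ∧ g ^ p = 1) ∧ g • x = x)) := by
        ext g
        simp only [mem_filter, mem_univ, true_and, mem_insert]
        by_cases hg : g = 1
        · simp [hg, (h.E x).one_mem]
        · simp only [hg, ne_eq, not_false_eq_true, true_and, false_or]
          rw [mem_E, and_comm]
      rw [h3, h4, card_insert_of_notMem (by simp)]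
    have h5 : ∑ x ∈ Sp, ((univ.filter (fun g : G => (g ≠ 1 ∧ g ^ p = 1) ∧ g • x = x)).card + 1) =
        Sp.card * Nat.card (h.E x₀) := by
      rw [sum_congr rfl h2, sum_const, smul_eq_mul]
    rw [sum_add_distrib, h1, sum_const, smul_eq_mul, mul_one] at h5
    exact h5
  have E5 : ∑ x ∈ Sp, cnt G x + Sp.card = Nat.card G := by
    apply sum_orbit x₀
    rw [hSp, Set.Finite.coe_toFinset]
    exact h.Op_eq_orbit hx₀
  rw [sum_union hdisj] at E1
  rw [hr]
  omega

end Pole

end Cfsg.Agent.ClassicalGeometry.PoleCount
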