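import Mathlib
import Cfsg.Agent.Lib.Mobius
import Cfsg.Agent.ClassicalGeometry.PoleCount
import Cfsg.Agent.ClassicalGeometry.SplitTorus
import Cfsg.Agent.ClassicalGeometry.PSL2Basic

/-!
# `PSL₂(K)` acting on the projective line over an algebraically closed field of characteristic `p`

* `pslPerm K : PSL₂(K) →* Perm (OnePoint K)`, injective.
* `pole`: the action satisfies the axioms `Pole p K`.
* `pole_of_injective`: so does the action of any group embedded in `PSL₂(K)`.
-/

set_option autoImplicit false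

open MulAction Matrix OnePoint

namespace Cfsg.Agent.ClassicalGeometry.PoleBridge

open Cfsg.Agent.ClassicalGeometry.PoleCount Cfsg.Agent.Lib.Mobius
open Cfsg.Agent.ClassicalGeometry.SplitTorus (mul00 mul01 mul10 mul11 inv00 inv01 inv10 inv11 ext2
  det_eq)

theorem papply_inv {α : Type*} (e : Equiv.Perm α) (x : α) : e (e⁻¹ x) = x :=
  e.apply_symm_apply x

theorem pinv_apply {α : Type*} (e : Equiv.Perm α) (x : α) : e⁻¹ (e x) = x :=
  e.symm_apply_apply x

section perm

variable (K : Type*) [Field K] [DecidableEq K]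

/-- `PSL₂(K)` as permutations of the projective line. -/
noncomputable def pslPerm : ProjectiveSpecialLinearGroup (Fin 2) K →* Equiv.Perm (OnePoint K) :=
  QuotientGroup.lift _ (slHom K) (by rw [slHom_ker])

theorem pslPerm_mk (A : SpecialLinearGroup (Fin 2) K) :
    pslPerm K (QuotientGroup.mk A) = slHom K A := rfl

theorem pslPerm_injective : Function.Injective (pslPerm K) := by
  rw [injective_iff_map_eq_one]
  intro x
  induction x using QuotientGroup.induction_on with
  | H A =>
    intro h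
    rw [pslPerm_mk, ← MonoidHom.mem_ker, slHom_ker] at h
    exact (QuotientGroup.eq_one_iff A).2 h

/-- The action of a group mapping to `PSL₂(K)` on the projective line. -/
@[reducible] noncomputable def act {K : Type*} [Field K] [DecidableEq K] {G : Type*} [Group G]
    (φ : G →* ProjectiveSpecialLinearGroup (Fin 2) K) : MulAction G (OnePoint K) :=
  MulAction.compHom (OnePoint K) ((pslPerm K).comp φ)

end perm

section fix

variable {K : Type*} [Field K] [DecidableEq K]

theorem slHom_infty_iff (A : SpecialLinearGroup (Fin 2) K) :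
    slHom K A ∞ = ∞ ↔ A 1 0 = 0 := by
  rw [slHom_apply]
  exact smul_infty_eq_self_iff

theorem slHom_coe (A : SpecialLinearGroup (Fin 2) K) (x : K) :
    slHom K A (x : OnePoint K) = if A 1 0 * x + A 1 1 = 0 then ∞ else
      (((A 0 0 * x + A 0 1) / (A 1 0 * x + A 1 1) : K) : OnePoint K) := by
  rw [slHom_apply, smul_some_eq_ite]
  rfl

theorem slHom_infty (A : SpecialLinearGroup (Fin 2) K) :
    slHom K A ∞ = if A 1 0 = 0 then ∞ else ((A 0 0 / A 1 0 : K) : OnePoint K) := by
  rw [slHom_apply, smul_infty_eq_ite]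
  rfl

/-- For an upper triangular matrix, the fixed points different from `∞`. -/
theorem slHom_coe_fix_iff (A : SpecialLinearGroup (Fin 2) K) (h10 : A 1 0 = 0) (x : K) :
    slHom K A (x : OnePoint K) = x ↔ ((A 0 0) ^ 2 - 1) * x = - (A 0 0 * A 0 1) := by
  have hdet := det_eq A
  rw [h10, mul_zero, sub_zero] at hdet
  have h11 : A 1 1 ≠ 0 := by
    intro h
    rw [h, mul_zero] at hdet
    exact zero_ne_one hdet
  have h00 : A 0 0 ≠ 0 := by
    intro h
    rw [h, zero_mul] at hdet
    exact zero_ne_one hdet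
  rw [slHom_coe, h10, zero_mul, zero_add, if_neg h11, coe_eq_coe, div_eq_iff h11]
  constructor
  · intro h
    have h2 : A 0 0 * (A 0 0 * x + A 0 1) = x := by
      rw [h]
      calc A 0 0 * (x * A 1 1) = x * (A 0 0 * A 1 1) := by ring
        _ = x := by rw [hdet, mul_one]
    linear_combination h2
  · intro h
    apply mul_left_cancel₀ h00
    calc A 0 0 * (A 0 0 * x + A 0 1) = x := by linear_combination h
      _ = x * (A 0 0 * A 1 1) := by rw [hdet, mul_one]
      _ = A 0 0 * (x * A 1 1) := by ring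

/-- `SL₂(K)` is transitive on the projective line. -/
theorem exists_slHom_infty (x : OnePoint K) : ∃ B : SpecialLinearGroup (Fin 2) K,
    slHom K B ∞ = x := by
  cases x with
  | infty => exact ⟨1, by rw [map_one]; rfl⟩
  | coe x =>
    let B : SpecialLinearGroup (Fin 2) K := ⟨!![x, -1; 1, 0], by rw [det_fin_two_of]; ring⟩
    have h00 : B 0 0 = x := rfl
    have h10 : B 1 0 = 1 := rfl
    refine ⟨B, ?_⟩
    rw [slHom_infty, h10, h00, if_neg one_ne_zero, div_one]

/-- Over an algebraically closed field every element has a fixed point. -/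
theorem exists_fix [IsAlgClosed K] (A : SpecialLinearGroup (Fin 2) K) :
    ∃ x : OnePoint K, slHom K A x = x := by
  by_cases h10 : A 1 0 = 0
  · exact ⟨∞, (slHom_infty_iff A).mpr h10⟩
  · have hdeg : (Polynomial.C (A 1 0) * Polynomial.X ^ 2 + Polynomial.C (A 1 1 - A 0 0) *
        Polynomial.X + Polynomial.C (- A 0 1) : Polynomial K).degree ≠ 0 := by
      rw [Polynomial.degree_quadratic h10]
      decide
    obtain ⟨x, hx⟩ := IsAlgClosed.exists_root _ hdeg
    rw [Polynomial.IsRoot.def] at hx
    simp only [Polynomial.eval_add, Polynomial.eval_mul, Polynomial.eval_C, Polynomial.eval_pow,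
      Polynomial.eval_X] at hx
    refine ⟨x, ?_⟩
    have hdet := det_eq A
    have hne : A 1 0 * x + A 1 1 ≠ 0 := by
      intro h0
      have h1 : A 0 0 * x + A 0 1 = 0 := by linear_combination x * h0 - hx
      have h2 : (1 : K) = 0 := by
        linear_combination (-1 : K) * hdet + (A 0 0) * h0 - (A 1 0) * h1
      exact one_ne_zero h2
    rw [slHom_coe, if_neg hne, coe_eq_coe, div_eq_iff hne]
    linear_combination (-1 : K) * hx

/-! ### Powers of triangular matrices -/

theorem pow_entries (A : SpecialLinearGroup (Fin 2) K) (h10 : A 1 0 = 0) (n : ℕ) :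
    (A ^ n) 1 0 = 0 ∧ (A ^ n) 0 0 = (A 0 0) ^ n ∧ (A ^ n) 1 1 = (A 1 1) ^ n := by
  induction n with
  | zero => simp
  | succ n ih =>
    obtain ⟨h1, h2, h3⟩ := ih
    rw [pow_succ, mul10, mul00, mul11, h1, h2, h3, h10]
    refine ⟨by ring, by ring, by ring⟩

theorem pow_entry01 (A : SpecialLinearGroup (Fin 2) K) (h10 : A 1 0 = 0) (h : A 1 1 = A 0 0)
    (n : ℕ) : (A ^ n) 0 1 = n * (A 0 0) ^ (n - 1) * A 0 1 := by
  induction n with
  | zero => simp
  | succ n ih =>
    obtain ⟨h1, h2, h3⟩ := pow_entries A h10 n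
    rw [pow_succ, mul01, h2, ih, h]
    rcases n with _ | n
    · simp
    · simp only [Nat.add_sub_cancel]
      push_cast
      ring

theorem mem_center_of_entries {A : SpecialLinearGroup (Fin 2) K} (h01 : A 0 1 = 0)
    (h10 : A 1 0 = 0) (h : A 0 0 = A 1 1) : A ∈ Subgroup.center (SpecialLinearGroup (Fin 2) K) := by
  rw [Matrix.SpecialLinearGroup.mem_center_iff]
  have hdet := det_eq A
  refine ⟨A 0 0, ?_, ?_⟩
  · rw [Fintype.card_fin, sq]
    nth_rewrite 2 [h]
    rw [h01, zero_mul, sub_zero] at hdet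
    exact hdet
  · ext i j
    fin_cases i <;> fin_cases j
    · simp
    · simp [h01]
    · simp [h10]
    · simp [h]

theorem entries_of_mem_center {A : SpecialLinearGroup (Fin 2) K}
    (hA : A ∈ Subgroup.center (SpecialLinearGroup (Fin 2) K)) :
    A 0 1 = 0 ∧ A 1 0 = 0 ∧ A 0 0 = A 1 1 ∧ (A 0 0) ^ 2 = 1 := by
  rw [Matrix.SpecialLinearGroup.mem_center_iff] at hA
  obtain ⟨r, hr1, hr⟩ := hA
  rw [← hr]
  refine ⟨by simp, by simp, by simp, ?_⟩
  simpa using hr1

section charp

variable (p : ℕ) [Fact p.Prime] [CharP K p]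

/-- An upper triangular matrix has `p`-th power in the centre iff the diagonal entries are `±1`. -/
theorem pow_mem_center_iff (A : SpecialLinearGroup (Fin 2) K) (h10 : A 1 0 = 0) :
    A ^ p ∈ Subgroup.center (SpecialLinearGroup (Fin 2) K) ↔ (A 0 0) ^ 2 = 1 := by
  have hdet := det_eq A
  rw [h10, mul_zero, sub_zero] at hdet
  obtain ⟨h1, h2, h3⟩ := pow_entries A h10 p
  constructor
  · intro h
    obtain ⟨-, -, -, h4⟩ := entries_of_mem_center h
    rw [h2, ← pow_mul, mul_comm, pow_mul] at h4
    have h5 : ((A 0 0) ^ 2 - 1) ^ p = 0 := by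
      rw [sub_pow_char, h4, one_pow, sub_self]
    have h6 := pow_eq_zero_iff (Fact.out : p.Prime).ne_zero |>.mp h5
    exact sub_eq_zero.mp h6
  · intro h
    have h4 : A 1 1 = A 0 0 := by
      have h00 : A 0 0 ≠ 0 := by
        intro h0
        rw [h0, zero_mul] at hdet
        exact zero_ne_one hdet
      apply mul_left_cancel₀ h00
      rw [hdet, ← sq, h]
    apply mem_center_of_entries
    · rw [pow_entry01 A h10 h4, CharP.cast_eq_zero, zero_mul, zero_mul]
    · exact h1
    · rw [h2, h3, h4]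

end charp

end fix

section main

variable {K : Type*} [Field K] [DecidableEq K]

/-- The square of the upper left entry, as a function on `PSL₂(K)`. -/
noncomputable def sq00 : ProjectiveSpecialLinearGroup (Fin 2) K → K :=
  Quotient.lift (fun A : SpecialLinearGroup (Fin 2) K => (A 0 0) ^ 2) (by
    intro A B hAB
    have h1 : A⁻¹ * B ∈ Subgroup.center (SpecialLinearGroup (Fin 2) K) :=
      QuotientGroup.leftRel_apply.mp hAB
    obtain ⟨h2, h3, h4, h5⟩ := entries_of_mem_center h1
    have h6 : B = A * (A⁻¹ * B) := by rw [mul_inv_cancel_left]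
    show (A 0 0) ^ 2 = (B 0 0) ^ 2
    rw [h6, mul00, h3, mul_zero, add_zero, mul_pow, h5, mul_one])

theorem sq00_mk (A : SpecialLinearGroup (Fin 2) K) :
    sq00 (QuotientGroup.mk A : ProjectiveSpecialLinearGroup (Fin 2) K) = (A 0 0) ^ 2 := rfl

theorem exists_rep (g : ProjectiveSpecialLinearGroup (Fin 2) K) :
    ∃ A : SpecialLinearGroup (Fin 2) K, (QuotientGroup.mk A : ProjectiveSpecialLinearGroup (Fin 2) K)
      = g := QuotientGroup.mk_surjective g

theorem sq00_mul {g h : ProjectiveSpecialLinearGroup (Fin 2) K} (hh : pslPerm K h ∞ = ∞) :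
    sq00 (g * h) = sq00 g * sq00 h := by
  obtain ⟨A, rfl⟩ := exists_rep g
  obtain ⟨B, rfl⟩ := exists_rep h
  rw [pslPerm_mk, slHom_infty_iff] at hh
  rw [← QuotientGroup.mk_mul, sq00_mk, sq00_mk, sq00_mk, mul00, hh, mul_zero, add_zero, mul_pow]

theorem sq00_one : sq00 (1 : ProjectiveSpecialLinearGroup (Fin 2) K) = 1 := by
  rw [← QuotientGroup.mk_one, sq00_mk]
  simp

/-- Fixed points of an element fixing `∞`. -/
theorem fix_infty_cases (p : ℕ) [Fact p.Prime] [CharP K p]
    (g : ProjectiveSpecialLinearGroup (Fin 2) K) (hg : pslPerm K g ∞ = ∞) :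
    (sq00 g = 1 ↔ g ^ p = 1) ∧
    (g ^ p = 1 → g ≠ 1 → ∀ x, pslPerm K g x = x → x = ∞) ∧
    (g ^ p ≠ 1 → ∃ b : OnePoint K, b ≠ ∞ ∧ ∀ x, pslPerm K g x = x ↔ x = ∞ ∨ x = b) := by
  obtain ⟨A, rfl⟩ := exists_rep g
  rw [pslPerm_mk, slHom_infty_iff] at hg
  have hpow : (QuotientGroup.mk A : ProjectiveSpecialLinearGroup (Fin 2) K) ^ p = 1 ↔
      (A 0 0) ^ 2 = 1 := by
    rw [← QuotientGroup.mk_pow, QuotientGroup.eq_one_iff]
    exact pow_mem_center_iff p A hg
  have hdet := det_eq A
  rw [hg, mul_zero, sub_zero] at hdet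
  refine ⟨?_, ?_, ?_⟩
  · rw [sq00_mk, hpow]
  · intro h1 h2 x hx
    rw [hpow] at h1
    rw [pslPerm_mk] at hx
    cases x with
    | infty => rfl
    | coe x =>
      exfalso
      rw [slHom_coe_fix_iff A hg, h1, sub_self, zero_mul, eq_comm, neg_eq_zero] at hx
      apply h2
      rw [QuotientGroup.eq_one_iff]
      have h00 : A 0 0 ≠ 0 := by
        intro h0
        rw [h0, zero_mul] at hdet
        exact zero_ne_one hdet
      apply mem_center_of_entries
      · exact (mul_eq_zero.mp hx).resolve_left h00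
      · exact hg
      · apply mul_left_cancel₀ h00
        rw [hdet, ← sq, h1]
  · intro h1
    rw [Ne, hpow] at h1
    have h2 : (A 0 0) ^ 2 - 1 ≠ 0 := sub_ne_zero.mpr h1
    refine ⟨((- (A 0 0 * A 0 1) / ((A 0 0) ^ 2 - 1) : K) : OnePoint K), coe_ne_infty _, ?_⟩
    intro x
    rw [pslPerm_mk]
    cases x with
    | infty =>
      rw [slHom_infty_iff]
      simp [hg]
    | coe x =>
      rw [slHom_coe_fix_iff A hg]
      simp only [coe_ne_infty, false_or, coe_eq_coe]
      rw [eq_div_iff h2, mul_comm]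

variable [IsAlgClosed K]

theorem exists_fix_psl (g : ProjectiveSpecialLinearGroup (Fin 2) K) :
    ∃ x : OnePoint K, pslPerm K g x = x := by
  obtain ⟨A, rfl⟩ := exists_rep g
  exact exists_fix A

omit [IsAlgClosed K] in
theorem exists_pslPerm_infty (x : OnePoint K) :
    ∃ b : ProjectiveSpecialLinearGroup (Fin 2) K, pslPerm K b ∞ = x := by
  obtain ⟨B, hB⟩ := exists_slHom_infty x
  exact ⟨QuotientGroup.mk B, hB⟩

/-- The action of a group embedded in `PSL₂(K)` on the projective line satisfies the axioms of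
pole counting. -/
theorem pole_of_injective (p : ℕ) [Fact p.Prime] [CharP K p] {G : Type*} [Group G]
    (φ : G →* ProjectiveSpecialLinearGroup (Fin 2) K) (hφ : Function.Injective φ) :
    @Pole p K G (OnePoint K) _ (act φ) _ := by
  letI := act φ
  have hact : ∀ (g : G) (x : OnePoint K), g • x = pslPerm K (φ g) x := fun _ _ => rfl
  have hpow : ∀ g : G, g ^ p = 1 ↔ (φ g) ^ p = 1 := by
    intro g
    rw [← map_pow, ← map_one φ, hφ.eq_iff]
  have hone : ∀ g : G, g = 1 ↔ φ g = 1 := by
    intro g
    rw [← map_one φ, hφ.eq_iff]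
  -- reduction to `∞`
  have hconj : ∀ (b k : ProjectiveSpecialLinearGroup (Fin 2) K) (x : OnePoint K),
      pslPerm K k x = x ↔ pslPerm K (b⁻¹ * k * b) ((pslPerm K b)⁻¹ x) = (pslPerm K b)⁻¹ x := by
    intro b k x
    rw [map_mul, map_mul, map_inv, Equiv.Perm.mul_apply, Equiv.Perm.mul_apply,
      papply_inv]
    exact ⟨fun h => by rw [h], fun h => (pslPerm K b)⁻¹.injective h⟩
  have hcp : ∀ (b k : ProjectiveSpecialLinearGroup (Fin 2) K), (b⁻¹ * k * b) ^ p = 1 ↔
      k ^ p = 1 := by
    intro b k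
    have h1 : (b⁻¹ * k * b) ^ p = b⁻¹ * k ^ p * b := by
      have := conj_pow (a := b⁻¹) (b := k) (i := p)
      rwa [inv_inv] at this
    rw [h1]
    constructor
    · intro h
      have h2 : k ^ p = b * (b⁻¹ * k ^ p * b) * b⁻¹ := by group
      rw [h2, h, mul_one, mul_inv_cancel]
    · intro h
      rw [h, mul_one, inv_mul_cancel]
  have hc1 : ∀ (b k : ProjectiveSpecialLinearGroup (Fin 2) K), b⁻¹ * k * b = 1 ↔ k = 1 := by
    intro b k
    constructor
    · intro h
      have h2 : k = b * (b⁻¹ * k * b) * b⁻¹ := by group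
      rw [h2, h, mul_one, mul_inv_cancel]
    · intro h
      rw [h, mul_one, inv_mul_cancel]
  constructor
  · intro g hg hgp
    rw [Ne, hone] at hg
    rw [hpow] at hgp
    obtain ⟨a, ha⟩ := exists_fix_psl (φ g)
    obtain ⟨b, hb⟩ := exists_pslPerm_infty a
    have hba : (pslPerm K b)⁻¹ a = ∞ := by rw [← hb, pinv_apply]
    have h1 := (hconj b (φ g) a).mp ha
    rw [hba] at h1
    obtain ⟨-, h2, -⟩ := fix_infty_cases p _ h1
    have h3 := h2 ((hcp b _).mpr hgp) (fun h => hg ((hc1 b _).mp h))
    refine ⟨a, fun x => ?_⟩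
    rw [hact]
    constructor
    · intro hx
      have h4 := h3 _ ((hconj b (φ g) x).mp hx)
      rw [← hb, ← h4, papply_inv]
    · rintro rfl
      exact ha
  · intro g hgp
    rw [Ne, hpow] at hgp
    obtain ⟨a, ha⟩ := exists_fix_psl (φ g)
    obtain ⟨b, hb⟩ := exists_pslPerm_infty a
    have hba : (pslPerm K b)⁻¹ a = ∞ := by rw [← hb, pinv_apply]
    have h1 := (hconj b (φ g) a).mp ha
    rw [hba] at h1
    obtain ⟨-, -, h2⟩ := fix_infty_cases p _ h1
    obtain ⟨c, hc, hc'⟩ := h2 (fun h => hgp ((hcp b _).mp h))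
    refine ⟨a, pslPerm K b c, ?_, fun x => ?_⟩
    · intro h
      apply hc
      rw [h, pinv_apply] at hba
      exact hba
    · rw [hact, hconj b (φ g) x, hc' _]
      constructor
      · rintro (h | h)
        · left
          rw [← hb, ← h, papply_inv]
        · right
          rw [← h, papply_inv]
      · rintro (rfl | rfl)
        · left
          exact hba
        · right
          rw [pinv_apply]
  · intro x
    obtain ⟨b, hb⟩ := exists_pslPerm_infty x
    have hbx : (pslPerm K b)⁻¹ x = ∞ := by rw [← hb, pinv_apply]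
    have hfix : ∀ g : stabilizer G x, pslPerm K (b⁻¹ * φ (g : G) * b) ∞ = ∞ := by
      intro g
      have h1 := (hconj b (φ (g : G)) x).mp g.2
      rwa [hbx] at h1
    let χ₀ : stabilizer G x →* K :=
      { toFun := fun g => sq00 (b⁻¹ * φ (g : G) * b)
        map_one' := by
          rw [Subgroup.coe_one, map_one, mul_one, inv_mul_cancel, sq00_one]
        map_mul' := fun g k => by
          rw [Subgroup.coe_mul, map_mul, ← sq00_mul (hfix k)]
          congr 1
          group }
    refine ⟨χ₀.toHomUnits, fun g => ?_⟩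
    obtain ⟨h1, -, -⟩ := fix_infty_cases p _ (hfix g)
    rw [Units.ext_iff, MonoidHom.coe_toHomUnits, Units.val_one]
    change sq00 (b⁻¹ * φ (g : G) * b) = 1 ↔ _
    rw [h1, hcp, ← hpow]
    rw [← Subgroup.coe_pow, ← Subgroup.coe_one, Subtype.ext_iff]

end main

end Cfsg.Agent.ClassicalGeometry.PoleBridge
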