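import Mathlib
import Cfsg.Agent.ClassicalGeometry.PoleCount
import Cfsg.Agent.Lib.Dihedral
import Cfsg.Agent.S0494

/-!
# Pole counting in the wild case

Continuation of `PoleCount`: numerical conclusions when there are at least two Sylow `p`-subgroups.
-/

set_option autoImplicit false

open MulAction Finset

namespace Cfsg.Agent.ClassicalGeometry.PoleWild

open Cfsg.Agent.ClassicalGeometry.PoleCount Cfsg.Agent.ClassicalGeometry.PoleCount.Pole

/-- A group acting freely: its order divides the number of points. -/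
theorem card_dvd_of_free {P T : Type*} [Group P] [Finite P] [MulAction P T] [Finite T]
    (hfree : ∀ (g : P) (x : T), g • x = x → g = 1) : Nat.card P ∣ Nat.card T := by
  classical
  letI := Fintype.ofFinite P
  letI := Fintype.ofFinite T
  letI : Fintype (Quotient (orbitRel P T)) := Fintype.ofFinite _
  rw [Nat.card_eq_fintype_card, Nat.card_eq_fintype_card,
    MulAction.card_eq_sum_card_group_div_card_stabilizer P T]
  apply Finset.dvd_sum
  intro ω _
  have h1 : Fintype.card (stabilizer P ω.out) = 1 := by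
    rw [Fintype.card_eq_one_iff]
    exact ⟨1, fun g => Subtype.ext (hfree g.1 _ g.2)⟩
  rw [h1, Nat.div_one]

/-- The arithmetic of the wild case. -/
theorem arith {q e r e1 m : ℕ} (hq : 2 ≤ q) (he : 1 ≤ e) (heq : e < q) (hm : 1 ≤ m)
    (hr : r = 1 + m * q) (h1 : (2 + r * (q - 2)) * e1 = r * q * e) :
    r = q + 1 ∨ (q = 2 ∧ e = 1 ∧ e1 = r) ∨ (q = 3 ∧ e = 2 ∧ r = 10 ∧ e1 = 5) := by
  obtain ⟨t, rfl⟩ : ∃ t, q = t + 2 := ⟨q - 2, by omega⟩
  rw [Nat.add_sub_cancel] at h1
  have h2 : (1 + m * t) * e1 = (1 + m * (t + 2)) * e := by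
    have h3 : (t + 2) * ((1 + m * t) * e1) = (t + 2) * ((1 + m * (t + 2)) * e) := by
      calc (t + 2) * ((1 + m * t) * e1) = (2 + r * t) * e1 := by rw [hr]; ring
        _ = r * (t + 2) * e := h1
        _ = (t + 2) * ((1 + m * (t + 2)) * e) := by rw [hr]; ring
    exact Nat.eq_of_mul_eq_mul_left (by omega) h3
  have hdvd : (1 + m * t) ∣ 2 * e := by
    have h3 : (1 + m * t) ∣ m * (2 * e) := by
      have h4 : (1 + m * t) ∣ (1 + m * t) * e + m * (2 * e) := by
        have : (1 + m * t) * e + m * (2 * e) = (1 + m * (t + 2)) * e := by ring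
        rw [this, ← h2]
        exact dvd_mul_right _ _
      exact (Nat.dvd_add_right (dvd_mul_right _ _)).mp h4
    have hcop : Nat.Coprime (1 + m * t) m := by
      rw [Nat.coprime_add_mul_left_left]
      exact Nat.coprime_one_left m
    exact hcop.dvd_of_dvd_mul_left h3
  by_cases ht : t = 0
  · subst ht
    right; left
    refine ⟨rfl, by omega, ?_⟩
    have he1 : e = 1 := by omega
    rw [he1] at h2
    rw [hr]
    linarith
  · obtain ⟨k, hk⟩ := hdvd
    have hk0 : k ≠ 0 := by
      rintro rfl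
      omega
    have hkt : 1 + m * t ≤ 2 * t + 2 := by
      calc 1 + m * t ≤ (1 + m * t) * k := Nat.le_mul_of_pos_right _ (Nat.pos_of_ne_zero hk0)
        _ = 2 * e := hk.symm
        _ ≤ 2 * t + 2 := by omega
    rcases Nat.lt_or_ge m 3 with hm3 | hm3
    · interval_cases m
      · left
        rw [hr]
        omega
      · exfalso
        rcases Nat.lt_or_ge k 2 with hk2 | hk2
        · have : k = 1 := by omega
          subst this
          omega
        · have : (1 + 2 * t) * 2 ≤ (1 + 2 * t) * k := Nat.mul_le_mul_left _ hk2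
          omega
    · have h3t : 3 * t ≤ m * t := Nat.mul_le_mul_right _ hm3
      have ht1 : t = 1 := by omega
      subst ht1
      right; right
      have hm4 : m = 3 := by omega
      subst hm4
      have he2 : e = 2 := by omega
      subst he2
      refine ⟨rfl, rfl, by omega, by omega⟩

section wild

variable {p : ℕ} {K G Ω : Type*} [Group G] [MulAction G Ω] [Field K] (h : Pole p K G Ω)

/-- The order of the Sylow `p`-subgroup is at least two. -/
theorem two_le_card_E [Finite G] {x₀ : Ω} (hx₀ : x₀ ∈ Op p G Ω) : 2 ≤ Nat.card (h.E x₀) := by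
  obtain ⟨u, hu1, hup, hux⟩ := hx₀
  have : Nontrivial (h.E x₀) := ⟨⟨⟨u, hux, hup⟩, 1, fun h1 => hu1 (congrArg Subtype.val h1)⟩⟩
  exact Finite.one_lt_card

/-- `E x₀` acts freely on the other points of `Op`. -/
theorem exists_m [Finite G] {x₀ : Ω} (hx₀ : x₀ ∈ Op p G Ω) :
    ∃ m, (Op p G Ω).ncard = 1 + m * Nat.card (h.E x₀) := by
  classical
  let T : Type _ := {x : Ω // x ∈ Op p G Ω ∧ x ≠ x₀}
  have hfin : ({x : Ω | x ∈ Op p G Ω ∧ x ≠ x₀} : Set Ω).Finite :=
    h.finite_Op.subset (fun x hx => hx.1)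
  haveI : Finite T := hfin
  letI : MulAction (h.E x₀) T :=
    { smul := fun g x => ⟨(g : G) • x.1, smul_mem_Op (g : G) x.2.1, fun h1 => x.2.2 (by
        have h2 : (g : G) • x.1 = (g : G) • x₀ := by rw [h1, g.2.1]
        exact smul_left_cancel _ h2)⟩
      one_smul := fun x => Subtype.ext (one_smul G x.1)
      mul_smul := fun a b x => Subtype.ext (mul_smul (a : G) (b : G) x.1) }
  have h1 : Nat.card (h.E x₀) ∣ Nat.card T := by
    apply card_dvd_of_free
    intro g x hgx
    by_contra hg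
    have h2 : (g : G) • x.1 = x.1 := congrArg Subtype.val hgx
    exact x.2.2 (h.eq_of_fix g.2 (fun h3 => hg (Subtype.ext h3)) h2)
  obtain ⟨m, hm⟩ := h1
  refine ⟨m, ?_⟩
  have h3 : Nat.card T = ({x : Ω | x ∈ Op p G Ω ∧ x ≠ x₀} : Set Ω).ncard := rfl
  have h4 : ({x : Ω | x ∈ Op p G Ω ∧ x ≠ x₀} : Set Ω) = Op p G Ω \ {x₀} := by
    ext x
    simp
  rw [h3, h4] at hm
  have h5 := Set.ncard_sdiff_singleton_add_one hx₀ h.finite_Op
  rw [mul_comm] at hm
  omega

/-- The bound on the order of the stabiliser. -/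
theorem card_stabilizer_le [Finite G] {x₀ : Ω} (hx₀ : x₀ ∈ Op p G Ω) :
    Nat.card (stabilizer G x₀) ≤ Nat.card (h.E x₀) * (Nat.card (h.E x₀) - 1) := by
  classical
  letI := Fintype.ofFinite G
  obtain ⟨u, hu1, hup, hux⟩ := hx₀
  have huE : u ∈ h.E x₀ := ⟨hux, hup⟩
  set S := univ.filter (fun g : G => g • x₀ = x₀) with hS
  have hScard : Nat.card (stabilizer G x₀) = S.card := by
    rw [Nat.card_eq_fintype_card]
    exact Fintype.card_of_subtype _ (fun g => by simp [hS])
  set EF := univ.filter (fun g : G => g ∈ h.E x₀) with hEF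
  have hEcard : Nat.card (h.E x₀) = EF.card := by
    rw [Nat.card_eq_fintype_card]
    exact Fintype.card_of_subtype _ (fun g => by simp [hEF])
  have h1 : S.card ≤ EF.card * (S.image (fun g => g * u * g⁻¹)).card := by
    apply Finset.card_le_mul_card_image
    intro v hv
    obtain ⟨g₀, hg₀, hg₀v⟩ := Finset.mem_image.mp hv
    apply Finset.card_le_card_of_injOn (fun g => g₀⁻¹ * g)
    · intro g hg
      simp only [coe_filter, Set.mem_setOf_eq] at hg
      simp only [hS, mem_filter, mem_univ, true_and] at hg hg₀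
      simp only [hEF, coe_filter, mem_univ, true_and, Set.mem_setOf_eq]
      have h2 : (g₀⁻¹ * g) • x₀ = x₀ := by
        rw [mul_smul, hg.1, inv_smul_eq_iff, hg₀]
      apply h.mem_E_of_commute huE hu1 h2
      have h3 : g * u * g⁻¹ = g₀ * u * g₀⁻¹ := hg.2.trans hg₀v.symm
      have h4 : g * u = g₀ * u * g₀⁻¹ * g := by
        rw [← h3]; group
      calc g₀⁻¹ * g * u = g₀⁻¹ * (g * u) := by group
        _ = g₀⁻¹ * (g₀ * u * g₀⁻¹ * g) := by rw [h4]
        _ = u * (g₀⁻¹ * g) := by group
    · intro a _ b _ hab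
      exact mul_left_cancel hab
  have h2 : (S.image (fun g => g * u * g⁻¹)).card ≤ EF.card - 1 := by
    have h3 : S.image (fun g => g * u * g⁻¹) ⊆ EF.erase 1 := by
      intro v hv
      obtain ⟨g, hg, rfl⟩ := Finset.mem_image.mp hv
      rw [Finset.mem_erase]
      simp only [hS, mem_filter, mem_univ, true_and] at hg
      refine ⟨fun h4 => hu1 (conj_eq_one_iff.mp h4), ?_⟩
      simp only [hEF, mem_filter, mem_univ, true_and]
      refine ⟨?_, ?_⟩
      · rw [mul_smul, mul_smul, inv_smul_eq_iff.mpr hg.symm, hux, hg]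
      · rw [conj_pow, hup, mul_one, mul_inv_cancel]
    have h4 := Finset.card_le_card h3
    rwa [Finset.card_erase_of_mem (by simp [hEF, (h.E x₀).one_mem])] at h4
  rw [hScard, hEcard]
  exact h1.trans (Nat.mul_le_mul_left _ h2)

include h in
/-- In the wild case with at least two points in `Op`, `Oq` is a single orbit and the number of its
points is `2 + r (q₁ - 2)`. -/
theorem exists_Oq [Finite G] [Fact p.Prime] [CharP K p] {x₀ : Ω} (hx₀ : x₀ ∈ Op p G Ω)
    (hr : 2 ≤ (Op p G Ω).ncard) :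
    ∃ y, y ∈ Oq p G Ω ∧ Oq p G Ω = orbit G y ∧
      (Oq p G Ω).ncard * Nat.card (stabilizer G y) = Nat.card G ∧
      (Oq p G Ω).ncard = 2 + (Op p G Ω).ncard * (Nat.card (h.E x₀) - 2) := by
  classical
  have hcount := h.count hx₀
  have hq := two_le_card_E h hx₀
  set q := Nat.card (h.E x₀) with hqdef
  set r := (Op p G Ω).ncard with hrdef
  set T := ∑ x ∈ h.finite_Oq.toFinset, cnt G x with hT
  -- the order of `G`
  have hG : r * Nat.card (stabilizer G x₀) = Nat.card G := by
    have h1 := (stabilizer G x₀).card_mul_index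
    rw [MulAction.index_stabilizer, ← h.Op_eq_orbit hx₀] at h1
    rw [mul_comm]
    exact h1
  obtain ⟨e, he⟩ : q ∣ Nat.card (stabilizer G x₀) :=
    Subgroup.card_dvd_of_le (h.E_le_stabilizer x₀)
  have he1 : 1 ≤ e := by
    rcases Nat.eq_zero_or_pos e with h0 | h0
    · rw [h0, mul_zero] at he
      have : 0 < Nat.card (stabilizer G x₀) := Nat.card_pos
      omega
    · exact h0
  have hrq : r * q ≤ Nat.card G := by
    rw [← hG, he]
    exact Nat.mul_le_mul_left _ (Nat.le_mul_of_pos_right _ he1)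
  have hTlt : T + 2 ≤ Nat.card G := by
    have h1 : 2 * r ≤ r * q := by
      rw [mul_comm 2 r]
      exact Nat.mul_le_mul_left _ hq
    omega
  -- `Oq` is nonempty
  have hne : (h.finite_Oq.toFinset : Finset Ω).Nonempty := by
    rw [Finset.nonempty_iff_ne_empty]
    intro h0
    rw [hT, h0, Finset.sum_empty] at hcount
    omega
  obtain ⟨y, hy⟩ := hne
  rw [Set.Finite.mem_toFinset] at hy
  have horb : ∀ z ∈ Oq p G Ω, orbit G z ⊆ Oq p G Ω := by
    rintro z hz _ ⟨g, rfl⟩
    exact smul_mem_Oq g hz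
  have hcnt : ∀ z ∈ Oq p G Ω, 1 ≤ cnt G z := by
    intro z hz
    obtain ⟨⟨g, hg1, hgz⟩, -⟩ := hz
    have h1 : Nontrivial (stabilizer G z) :=
      ⟨⟨⟨g, hgz⟩, 1, fun h2 => hg1 (congrArg Subtype.val h2)⟩⟩
    have h2 : 1 < Nat.card (stabilizer G z) := Finite.one_lt_card
    rw [← cnt_add_one] at h2
    omega
  have hfin : ∀ z ∈ Oq p G Ω, (orbit G z).Finite := fun z hz => h.finite_Oq.subset (horb z hz)
  have heq : Oq p G Ω = orbit G y := by
    refine Set.Subset.antisymm ?_ (horb y hy)
    intro z hz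
    by_contra hzy
    set Oy := (hfin y hy).toFinset with hOy
    set Oz := (hfin z hz).toFinset with hOz
    have h1 := sum_orbit (G := G) y Oy (by rw [hOy, Set.Finite.coe_toFinset])
    have h2 := sum_orbit (G := G) z Oz (by rw [hOz, Set.Finite.coe_toFinset])
    have h3 := card_orbit_mul (G := G) y Oy (by rw [hOy, Set.Finite.coe_toFinset])
    have h4 := card_orbit_mul (G := G) z Oz (by rw [hOz, Set.Finite.coe_toFinset])
    have h5 : 2 * Oy.card ≤ Nat.card G := by
      rw [← h3, mul_comm]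
      exact Nat.mul_le_mul_left _ (by have := hcnt y hy; omega)
    have h6 : 2 * Oz.card ≤ Nat.card G := by
      rw [← h4, mul_comm]
      exact Nat.mul_le_mul_left _ (by have := hcnt z hz; omega)
    have hdisj : Disjoint Oy Oz := by
      rw [Finset.disjoint_left]
      intro w hw hw'
      rw [hOy, Set.Finite.mem_toFinset] at hw
      rw [hOz, Set.Finite.mem_toFinset] at hw'
      apply hzy
      have h7 : orbit G w = orbit G y := MulAction.orbit_eq_iff.mpr hw
      have h8 : orbit G w = orbit G z := MulAction.orbit_eq_iff.mpr hw'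
      rw [← h7, h8]
      exact mem_orbit_self z
    have h7 : ∑ x ∈ Oy ∪ Oz, cnt G x ≤ T := by
      apply Finset.sum_le_sum_of_subset
      intro w hw
      rw [Finset.mem_union, hOy, hOz, Set.Finite.mem_toFinset, Set.Finite.mem_toFinset] at hw
      rw [Set.Finite.mem_toFinset]
      rcases hw with hw | hw
      · exact horb y hy hw
      · exact horb z hz hw
    rw [Finset.sum_union hdisj] at h7
    omega
  refine ⟨y, hy, heq, ?_, ?_⟩
  · have h1 := (stabilizer G y).card_mul_index
    rw [MulAction.index_stabilizer, ← heq] at h1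
    rw [mul_comm]
    exact h1
  · have h1 := sum_orbit (G := G) y h.finite_Oq.toFinset
      (by rw [Set.Finite.coe_toFinset]; exact heq)
    have h2 : (Oq p G Ω).ncard = (h.finite_Oq.toFinset).card :=
      Set.ncard_eq_toFinset_card _ h.finite_Oq
    rw [h2]
    rw [← hT] at h1
    have h3 : r * (q - 2) + 2 * r = r * q := by
      rw [mul_comm 2 r, ← mul_add]
      congr 1
      omega
    omega

/-- The numerical conclusion. -/
theorem numbers [Finite G] [Fact p.Prime] [CharP K p] {x₀ : Ω} (hx₀ : x₀ ∈ Op p G Ω)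
    (hr : 2 ≤ (Op p G Ω).ncard) :
    ∃ y, y ∈ Oq p G Ω ∧ Oq p G Ω = orbit G y ∧
      ((Op p G Ω).ncard = Nat.card (h.E x₀) + 1 ∨
      (Nat.card (h.E x₀) = 2 ∧ Nat.card G = 2 * (Op p G Ω).ncard ∧
        Nat.card (stabilizer G y) = (Op p G Ω).ncard) ∨
      (Nat.card (h.E x₀) = 3 ∧ Nat.card G = 60 ∧ (Op p G Ω).ncard = 10 ∧
        Nat.card (stabilizer G x₀) = 6 ∧ Nat.card (stabilizer G y) = 5 ∧
        (Oq p G Ω).ncard = 12)) := by
  obtain ⟨y, hy, heq, hcard, hn⟩ := exists_Oq h hx₀ hr
  refine ⟨y, hy, heq, ?_⟩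
  have hq := two_le_card_E h hx₀
  have hle := card_stabilizer_le h hx₀
  obtain ⟨m, hm⟩ := exists_m h hx₀
  have hG : (Op p G Ω).ncard * Nat.card (stabilizer G x₀) = Nat.card G := by
    have h1 := (stabilizer G x₀).card_mul_index
    rw [MulAction.index_stabilizer, ← h.Op_eq_orbit hx₀] at h1
    rw [mul_comm]
    exact h1
  obtain ⟨e, he⟩ : Nat.card (h.E x₀) ∣ Nat.card (stabilizer G x₀) :=
    Subgroup.card_dvd_of_le (h.E_le_stabilizer x₀)
  have hpos : 0 < Nat.card (stabilizer G x₀) := Nat.card_pos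
  generalize hqdef : Nat.card (h.E x₀) = q at *
  generalize hrdef : (Op p G Ω).ncard = r at *
  have he1 : 1 ≤ e := by
    rcases Nat.eq_zero_or_pos e with h0 | h0
    · rw [h0, mul_zero] at he
      omega
    · exact h0
  have heq' : e < q := by
    rw [he] at hle
    have := Nat.le_of_mul_le_mul_left hle (by omega)
    omega
  have hm1 : 1 ≤ m := by
    rcases Nat.eq_zero_or_pos m with h0 | h0
    · rw [h0] at hm
      omega
    · exact h0
  have h1 : (2 + r * (q - 2)) * Nat.card (stabilizer G y) = r * q * e := by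
    rw [← hn, hcard, ← hG, he, mul_assoc]
  rcases arith hq he1 heq' hm1 hm h1 with h2 | ⟨h2, h3, h4⟩ | ⟨h2, h3, h4, h5⟩
  · left
    exact h2
  · right; left
    refine ⟨h2, ?_, h4⟩
    rw [← hG, he, h2, h3]
    ring
  · right; right
    refine ⟨h2, ?_, h4, ?_, h5, ?_⟩
    · rw [← hG, he, h2, h3, h4]
    · rw [he, h2, h3]
    · rw [hn, h2, h4]

end wild

end Cfsg.Agent.ClassicalGeometry.PoleWild
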