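import Mathlib
import Cfsg.Agent.ClassicalGeometry.PoleWild

/-!
# The cases of the wild pole counting

`wild_cases`: if there are at least two points in `Op` then either `E x` is transitive on the other
points of `Op`, or the group is dihedral of order `2k` with `p ∤ k` (`p = 2`), or it is `A₅`
(`p = 3`).
-/

set_option autoImplicit false

open MulAction Finset

namespace Cfsg.Agent.ClassicalGeometry.PoleCases

open Cfsg.Agent.ClassicalGeometry.PoleCount Cfsg.Agent.ClassicalGeometry.PoleCount.Pole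
open Cfsg.Agent.ClassicalGeometry.PoleWild

section

variable {p : ℕ} {K G Ω : Type*} [Group G] [MulAction G Ω] [Field K] (h : Pole p K G Ω)

/-- If `r = q₁ + 1` then `E x` is transitive on `Op \ {x}`. -/
theorem transitive_of_ncard [Finite G] [Fact p.Prime] [CharP K p] {x₀ : Ω}
    (hx₀ : x₀ ∈ Op p G Ω) (hr : (Op p G Ω).ncard = Nat.card (h.E x₀) + 1) {x y z : Ω}
    (hx : x ∈ Op p G Ω) (hy : y ∈ Op p G Ω) (hz : z ∈ Op p G Ω) (hyx : y ≠ x) (hzx : z ≠ x) :
    ∃ g ∈ h.E x, g • y = z := by
  rw [h.card_E_eq hx₀ hx] at hr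
  have hfin : ((Op p G Ω \ {x} : Set Ω)).Finite := h.finite_Op.subset Set.sdiff_subset
  haveI : Finite ↥(Op p G Ω \ {x} : Set Ω) := hfin
  let f : h.E x → (Op p G Ω \ {x} : Set Ω) := fun g => ⟨(g : G) • y, smul_mem_Op (g : G) hy, by
    intro h1
    apply hyx
    have h2 : (g : G) • y = (g : G) • x := by
      rw [g.2.1]
      exact h1
    exact smul_left_cancel _ h2⟩
  have hinj : Function.Injective f := by
    intro a b hab
    have h1 : (a : G) • y = (b : G) • y := congrArg Subtype.val hab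
    by_contra hne
    have h2 : ((b : G)⁻¹ * (a : G)) • y = y := by
      rw [mul_smul, h1, inv_smul_smul]
    have h3 : (b : G)⁻¹ * (a : G) ∈ h.E x := mul_mem (inv_mem b.2) a.2
    have h4 : (b : G)⁻¹ * (a : G) ≠ 1 := by
      intro h5
      apply hne
      apply Subtype.ext
      exact (inv_mul_eq_one.mp h5).symm
    exact hyx (h.eq_of_fix h3 h4 h2)
  have hcard : Nat.card ↥(Op p G Ω \ {x} : Set Ω) ≤ Nat.card (h.E x) := by
    have h1 := Set.ncard_sdiff_singleton_add_one hx h.finite_Op
    have h2 : Nat.card ↥(Op p G Ω \ {x} : Set Ω) = (Op p G Ω \ {x} : Set Ω).ncard := rfl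
    omega
  have hbij := hinj.bijective_of_nat_card_le hcard
  obtain ⟨g, hg⟩ := hbij.2 ⟨z, hz, hzx⟩
  exact ⟨g, g.2, congrArg Subtype.val hg⟩

include h in
/-- Elements of the stabiliser of a point of `Oq` commute. -/
theorem stabilizer_comm {y : Ω} (hy : y ∈ Oq p G Ω) {a b : G} (ha : a • y = y) (hb : b • y = y) :
    a * b = b * a := by
  obtain ⟨χ, hχ⟩ := h.chi y
  have hinj : ∀ g : stabilizer G y, χ g = 1 → g = 1 := by
    intro g hg
    by_contra hne
    apply hy.2
    refine ⟨g, fun h1 => hne (Subtype.ext h1), ?_, g.2⟩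
    exact congrArg Subtype.val ((hχ g).mp hg)
  have h1 : χ (⟨a, ha⟩ * ⟨b, hb⟩ * (⟨b, hb⟩ * ⟨a, ha⟩)⁻¹) = 1 := by
    rw [map_mul, map_inv, map_mul, map_mul, mul_comm (χ ⟨b, hb⟩), mul_inv_cancel]
  have h2 := hinj _ h1
  have h3 := mul_inv_eq_one.mp h2
  exact congrArg Subtype.val h3

include h in
/-- The stabiliser of a point of `Oq` is cyclic. -/
theorem stabilizer_cyclic [Finite G] {y : Ω} (hy : y ∈ Oq p G Ω) :
    IsCyclic (stabilizer G y) := by
  obtain ⟨χ, hχ⟩ := h.chi y
  have hinj : Function.Injective χ := by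
    rw [injective_iff_map_eq_one]
    intro g hg
    by_contra hne
    apply hy.2
    refine ⟨g, fun h1 => hne (Subtype.ext h1), ?_, g.2⟩
    exact congrArg Subtype.val ((hχ g).mp hg)
  have hcoe : Function.Injective (Units.coeHom K) := Units.val_injective
  exact isCyclic_of_injective_ringHom ((Units.coeHom K).comp χ) (hcoe.comp hinj)

include h in
/-- A point of `Oq` has a partner with the same stabiliser. -/
theorem exists_partner {y : Ω} (hy : y ∈ Oq p G Ω) : ∃ y', y' ≠ y ∧
    (∀ g : G, g • y = y → g • y' = y') ∧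
    (∀ g : G, g ≠ 1 → g • y = y → ∀ x, g • x = x → x = y ∨ x = y') := by
  obtain ⟨⟨u, hu1, huy⟩, hy'⟩ := hy
  have hup : u ^ p ≠ 1 := fun h1 => hy' ⟨u, hu1, h1, huy⟩
  obtain ⟨a, b, hab, hfix⟩ := h.two u hup
  obtain ⟨y', hyy', hfix'⟩ : ∃ y', y' ≠ y ∧ ∀ x, u • x = x ↔ x = y ∨ x = y' := by
    rcases (hfix y).mp huy with rfl | rfl
    · exact ⟨b, hab.symm, hfix⟩
    · exact ⟨a, hab, fun x => by rw [hfix x, or_comm]⟩
  have hall : ∀ g : G, g • y = y → g • y' = y' := by
    intro g hg
    have hcomm := stabilizer_comm h ⟨⟨u, hu1, huy⟩, hy'⟩ hg huy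
    have h1 : u • (g • y') = g • y' := by
      rw [← mul_smul, ← hcomm, mul_smul, (hfix' y').mpr (Or.inr rfl)]
    rcases (hfix' _).mp h1 with h2 | h2
    · exfalso
      apply hyy'
      apply smul_left_cancel g
      rw [h2, hg]
    · exact h2
  refine ⟨y', hyy', hall, ?_⟩
  intro g hg1 hgy x hx
  by_contra hne
  push Not at hne
  exact hg1 (h.eq_one_of_three hyy'.symm (Ne.symm hne.1) (Ne.symm hne.2) hgy (hall g hgy) hx)

include h in
/-- In the dihedral case: a stabiliser of index two is inverted by all elements outside. -/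
theorem dihedral_of_index_two [Finite G] {y : Ω} (hy : y ∈ Oq p G Ω)
    (hp2 : ∀ t : G, t ^ 2 ≠ 1 → t ^ p ≠ 1)
    (hidx : Nat.card G = 2 * Nat.card (stabilizer G y)) :
    Nonempty (G ≃* DihedralGroup (Nat.card (stabilizer G y))) := by
  have hindex : (stabilizer G y).index = 2 := by
    have h1 := (stabilizer G y).card_mul_index
    rw [hidx, mul_comm] at h1
    exact Nat.eq_of_mul_eq_mul_right Nat.card_pos h1
  have hnorm : (stabilizer G y).Normal := Subgroup.normal_of_index_eq_two hindex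
  obtain ⟨y', hyy', hall, huniq⟩ := exists_partner h hy
  -- all elements outside have square one
  have hsq : ∀ t : G, t ∉ stabilizer G y → t * t = 1 := by
    intro t ht
    obtain ⟨⟨u, hu1, huy⟩, -⟩ := hy
    have hconj : t * u * t⁻¹ ∈ stabilizer G y := hnorm.conj_mem u huy t
    have hconj1 : t * u * t⁻¹ ≠ 1 := fun h1 => hu1 (conj_eq_one_iff.mp h1)
    have hty : t • y = y' := by
      have h1 : (t * u * t⁻¹) • (t • y) = t • y := by
        rw [mul_smul, inv_smul_smul, mul_smul, huy]
      rcases huniq _ hconj1 hconj _ h1 with h2 | h2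
      · exact absurd h2 ht
      · exact h2
    have hty' : t • y' = y := by
      have h1 : (t * u * t⁻¹) • (t • y') = t • y' := by
        rw [mul_smul, inv_smul_smul, mul_smul, hall u huy]
      rcases huniq _ hconj1 hconj _ h1 with h2 | h2
      · exact h2
      · exfalso
        apply hyy'
        apply smul_left_cancel t
        rw [h2, hty]
    by_contra htt
    have ht2 : t ^ 2 ≠ 1 := by rw [sq]; exact htt
    obtain ⟨a, b, hab, hfix⟩ := h.two t (hp2 t ht2)
    have ha : t • a = a := (hfix a).mpr (Or.inl rfl)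
    have hay : a ≠ y := by
      rintro rfl
      exact hyy' (hty.symm.trans ha)
    have hay' : a ≠ y' := by
      rintro rfl
      exact hyy' (ha.symm.trans hty')
    apply htt
    apply h.eq_one_of_three hyy'.symm (Ne.symm hay) (Ne.symm hay')
    · rw [mul_smul, hty, hty']
    · rw [mul_smul, hty', hty]
    · rw [mul_smul, ha, ha]
  have hcyc := stabilizer_cyclic h hy
  obtain ⟨⟨ρ, hρ⟩, hgen⟩ := IsCyclic.exists_generator (α := stabilizer G y)
  obtain ⟨t, ht⟩ : ∃ t : G, t ∉ stabilizer G y := by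
    by_contra hcon
    push Not at hcon
    have h1 : stabilizer G y = ⊤ := by
      rw [eq_top_iff]
      intro g _
      exact hcon g
    rw [h1, Subgroup.index_top] at hindex
    omega
  have hord : orderOf ρ = Nat.card (stabilizer G y) := by
    rw [← orderOf_eq_card_of_forall_mem_zpowers hgen]
    exact (Subgroup.orderOf_mk ρ hρ).symm
  refine Cfsg.Agent.Lib.Dihedral.nonempty_mulEquiv Nat.card_pos.ne' ρ t hord (hsq t ht) ?_ ?_ hidx
  · have h1 : t * ρ ∉ stabilizer G y := by
      intro h2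
      apply ht
      have h3 := mul_mem h2 (inv_mem hρ)
      rwa [mul_inv_cancel_right] at h3
    have h2 := hsq _ h1
    apply eq_inv_of_mul_eq_one_left
    rw [mul_assoc]
    exact h2
  · intro h1
    exact ht ((Subgroup.zpowers_le.mpr hρ) h1)

/-- The restriction of a pole action to a subgroup. -/
theorem restrict (h : Pole p K G Ω) (N : Subgroup G) : Pole p K N Ω := by
  refine ⟨?_, ?_, ?_⟩
  · intro g hg hgp
    exact h.one g (fun h1 => hg (Subtype.ext h1)) (congrArg Subtype.val hgp)
  · intro g hgp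
    exact h.two g (fun h1 => hgp (Subtype.ext h1))
  · intro x
    obtain ⟨χ, hχ⟩ := h.chi x
    let f : stabilizer N x →* stabilizer G x :=
      { toFun := fun g => ⟨((g : N) : G), g.2⟩
        map_one' := rfl
        map_mul' := fun _ _ => rfl }
    refine ⟨χ.comp f, fun g => ?_⟩
    rw [MonoidHom.comp_apply, hχ]
    constructor
    · intro h1
      apply Subtype.ext
      apply Subtype.ext
      have h2 : ((f g ^ p : stabilizer G x) : G) = 1 := by rw [h1]; rfl
      exact h2
    · intro h1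
      apply Subtype.ext
      have h2 := congrArg (fun z : stabilizer N x => ((z : N) : G)) h1
      exact h2

include h in
/-- The case `q₁ = 3`, `r = 10`, `|G| = 60`: the group is simple. -/
theorem isSimple_of_sixty [Finite G] [Fact p.Prime] [CharP K p] {x₀ y₀ : Ω}
    (hx₀ : x₀ ∈ Op p G Ω) (hy₀ : y₀ ∈ Oq p G Ω) (hOq : Oq p G Ω = orbit G y₀)
    (hE : Nat.card (h.E x₀) = 3) (hG : Nat.card G = 60) (hr : (Op p G Ω).ncard = 10)
    (hs : Nat.card (stabilizer G x₀) = 6) (hs' : Nat.card (stabilizer G y₀) = 5)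
    (hn : (Oq p G Ω).ncard = 12) : IsSimpleGroup G := by
  classical
  haveI : Nontrivial G := by
    rw [← Finite.one_lt_card_iff_nontrivial, hG]
    norm_num
  have hp3 : p = 3 := by
    obtain ⟨P, hP⟩ := h.exists_sylow hx₀
    have h1 : IsPGroup p (h.E x₀) := h.isPGroup_E x₀
    obtain ⟨n, hn⟩ := IsPGroup.iff_card.mp h1
    rw [hE] at hn
    have h2 : p ∣ 3 := by
      rw [hn]
      apply dvd_pow_self
      rintro rfl
      simp at hn
    exact (Nat.prime_dvd_prime_iff_eq Fact.out Nat.prime_three).mp h2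
  subst hp3
  -- stabilisers of points of `Oq` have order five
  have hcardq : ∀ z ∈ Oq 3 G Ω, Nat.card (stabilizer G z) = 5 := by
    intro z hz
    rw [hOq] at hz
    obtain ⟨g, rfl⟩ := hz
    have h1 := cnt_add_one (G := G) (g • y₀)
    have h2 := cnt_add_one (G := G) y₀
    have h3 := cnt_smul g y₀
    simp only at *
    omega
  have hcardp : ∀ z ∈ Op 3 G Ω, Nat.card (stabilizer G z) = 6 := by
    intro z hz
    rw [h.Op_eq_orbit hx₀] at hz
    obtain ⟨g, rfl⟩ := hz
    have h1 := cnt_add_one (G := G) (g • x₀)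
    have h2 := cnt_add_one (G := G) x₀
    have h3 := cnt_smul g x₀
    simp only at *
    omega
  refine ⟨fun N hN => ?_⟩
  by_contra hcon
  push Not at hcon
  obtain ⟨hN1, hN2⟩ := hcon
  -- if `N` meets the stabiliser of a point of `Oq`, it contains all of them
  have hq5 : ∀ y ∈ Oq 3 G Ω, ∀ n ∈ N, n ≠ 1 → n • y = y → ∀ z ∈ Oq 3 G Ω, stabilizer G z ≤ N := by
    intro y hy n hn hn1 hny z hz
    have hprime : (Nat.card (stabilizer G y)).Prime := by rw [hcardq y hy]; norm_num
    have h1 : stabilizer G y ≤ N := by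
      haveI : Fact (Nat.card (stabilizer G y)).Prime := ⟨hprime⟩
      rcases (N.subgroupOf (stabilizer G y)).eq_bot_or_eq_top_of_prime_card with h2 | h2
      · exfalso
        have h3 : (⟨n, hny⟩ : stabilizer G y) ∈ N.subgroupOf (stabilizer G y) :=
          Subgroup.mem_subgroupOf.mpr hn
        rw [h2, Subgroup.mem_bot] at h3
        exact hn1 (congrArg Subtype.val h3)
      · exact Subgroup.subgroupOf_eq_top.mp h2
    rw [hOq] at hy hz
    obtain ⟨a, rfl⟩ := hy
    obtain ⟨b, rfl⟩ := hz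
    intro g hg
    have h2 : (a * b⁻¹) * g * (a * b⁻¹)⁻¹ ∈ stabilizer G ((fun m : G => m • y₀) a) := by
      rw [MulAction.mem_stabilizer_iff] at hg ⊢
      simp only at hg ⊢
      have h3 : ((a * b⁻¹) * g * (a * b⁻¹)⁻¹) • (a • y₀) = (a * b⁻¹) • (g • (b • y₀)) := by
        simp only [mul_smul, mul_inv_rev, inv_inv, inv_smul_smul]
      rw [h3, hg, mul_smul, inv_smul_smul]
    have h4 := h1 h2
    have h5 := hN.conj_mem _ h4 (a * b⁻¹)⁻¹
    have h6 : (a * b⁻¹)⁻¹ * ((a * b⁻¹) * g * (a * b⁻¹)⁻¹) * (a * b⁻¹)⁻¹⁻¹ = g := by group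
    rwa [h6] at h5
  have hdvd : Nat.card N ∣ 60 := hG ▸ Subgroup.card_subgroup_dvd_card N
  by_cases h3N : 3 ∣ Nat.card N
  · -- `N` contains all the `E x`
    obtain ⟨n, hn3⟩ := exists_prime_orderOf_dvd_card' 3 h3N
    have hnp : (n : G) ^ 3 = 1 := by
      have := pow_orderOf_eq_one n
      rw [hn3] at this
      exact congrArg Subtype.val this
    have hn1 : (n : G) ≠ 1 := by
      intro h1
      have h2 : n = 1 := Subtype.ext h1
      rw [h2, orderOf_one] at hn3
      norm_num at hn3
    obtain ⟨x, hx⟩ := h.one (n : G) hn1 hnp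
    have hxO : x ∈ Op 3 G Ω := ⟨n, hn1, hnp, (hx x).mpr rfl⟩
    have hEx : h.E x ≤ N := by
      have hprime : (Nat.card (h.E x)).Prime := by
        rw [h.card_E_eq hxO hx₀, hE]; norm_num
      haveI : Fact (Nat.card (h.E x)).Prime := ⟨hprime⟩
      rcases (N.subgroupOf (h.E x)).eq_bot_or_eq_top_of_prime_card with h2 | h2
      · exfalso
        have h3 : (⟨n, (hx x).mpr rfl, hnp⟩ : h.E x) ∈ N.subgroupOf (h.E x) :=
          Subgroup.mem_subgroupOf.mpr n.2
        rw [h2, Subgroup.mem_bot] at h3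
        exact hn1 (congrArg Subtype.val h3)
      · exact Subgroup.subgroupOf_eq_top.mp h2
    have hNpole := restrict h N
    have hOpN : Op 3 N Ω = Op 3 G Ω := by
      ext z
      constructor
      · rintro ⟨g, hg1, hgp, hgz⟩
        exact ⟨g, fun h1 => hg1 (Subtype.ext h1), congrArg Subtype.val hgp, hgz⟩
      · intro hz
        obtain ⟨g, rfl⟩ := h.exists_smul_eq hxO hz
        refine ⟨⟨g * (n : G) * g⁻¹, hN.conj_mem _ n.2 g⟩, ?_, ?_, ?_⟩
        · intro h1
          exact hn1 (conj_eq_one_iff.mp (congrArg Subtype.val h1))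
        · apply Subtype.ext
          show (g * (n : G) * g⁻¹) ^ 3 = 1
          rw [conj_pow, hnp, mul_one, mul_inv_cancel]
        · show (g * (n : G) * g⁻¹) • (g • x) = g • x
          rw [mul_smul, inv_smul_smul, mul_smul, (hx x).mpr rfl]
    have hxN : x ∈ Op 3 N Ω := by rw [hOpN]; exact hxO
    have hcount := hNpole.count hxN
    have hEN : Nat.card (hNpole.E x) = 3 := by
      have hEx3 : Nat.card (h.E x) = 3 := by rw [h.card_E_eq hxO hx₀, hE]
      refine Eq.trans ?_ hEx3
      apply Nat.card_congr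
      exact
        { toFun := fun g => ⟨((g : N) : G), g.2.1, congrArg Subtype.val g.2.2⟩
          invFun := fun g => ⟨⟨(g : G), hEx g.2⟩, g.2.1, Subtype.ext g.2.2⟩
          left_inv := fun g => rfl
          right_inv := fun g => rfl }
    rw [hOpN, hr, hEN] at hcount
    -- `10 ∣ |N|`
    have h10 : 10 ∣ Nat.card N := by
      have h1 := (stabilizer N x).card_mul_index
      rw [MulAction.index_stabilizer, ← hNpole.Op_eq_orbit hxN, hOpN, hr] at h1
      rw [← h1]
      exact dvd_mul_left _ _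
    obtain ⟨m, hm5⟩ := exists_prime_orderOf_dvd_card' (p := 5) (hp := ⟨by norm_num⟩) (dvd_trans (by norm_num) h10)
    have hm1 : (m : G) ≠ 1 := by
      intro h1
      have h2 : m = 1 := Subtype.ext h1
      rw [h2, orderOf_one] at hm5
      norm_num at hm5
    have hmo : orderOf (m : G) = 5 := by rw [Subgroup.orderOf_coe, hm5]
    have hmp : (m : G) ^ 3 ≠ 1 := by
      intro h1
      have h2 := orderOf_dvd_of_pow_eq_one h1
      rw [hmo] at h2
      norm_num at h2
    obtain ⟨y, z, hyz, hfix⟩ := h.two (m : G) hmp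
    have hmy : (m : G) • y = y := (hfix y).mpr (Or.inl rfl)
    have hyOq : y ∈ Oq 3 G Ω := by
      refine ⟨⟨m, hm1, hmy⟩, fun hyO => ?_⟩
      have h1 : orderOf (m : G) ∣ Nat.card (stabilizer G y) := by
        have h2 : orderOf (⟨m, hmy⟩ : stabilizer G y) = orderOf (m : G) := Subgroup.orderOf_mk _ _
        rw [← h2]
        exact orderOf_dvd_natCard _
      rw [hmo, hcardp y hyO] at h1
      norm_num at h1
    have hle := hq5 y hyOq m m.2 hm1 hmy
    have hsum : 48 ≤ ∑ z ∈ hNpole.finite_Oq.toFinset, cnt N z := by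
      have h1 : h.finite_Oq.toFinset ⊆ hNpole.finite_Oq.toFinset := by
        intro z hz
        rw [Set.Finite.mem_toFinset] at hz ⊢
        obtain ⟨⟨g, hg1, hgz⟩, hz'⟩ := hz
        refine ⟨⟨⟨g, hle z ⟨⟨g, hg1, hgz⟩, hz'⟩ hgz⟩, fun h2 => hg1 (congrArg Subtype.val h2), hgz⟩, ?_⟩
        rw [hOpN]
        exact hz'
      have h2 : ∀ z ∈ h.finite_Oq.toFinset, cnt N z = 4 := by
        intro z hz
        rw [Set.Finite.mem_toFinset] at hz
        have h3 := cnt_add_one (G := N) z
        have h4 : Nat.card (stabilizer N z) = 5 := by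
          rw [← hcardq z hz]
          apply Nat.card_congr
          exact
            { toFun := fun g => ⟨((g : N) : G), g.2⟩
              invFun := fun g => ⟨⟨(g : G), hle z hz g.2⟩, g.2⟩
              left_inv := fun g => rfl
              right_inv := fun g => rfl }
        omega
      have h3 : (h.finite_Oq.toFinset).card = 12 := by
        rw [← hn, Set.ncard_eq_toFinset_card _ h.finite_Oq]
      calc 48 = ∑ z ∈ h.finite_Oq.toFinset, cnt N z := by
            rw [Finset.sum_congr rfl h2, Finset.sum_const, h3]; norm_num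
        _ ≤ _ := Finset.sum_le_sum_of_subset h1
    have h60 : Nat.card N = 60 := by
      have := Nat.le_of_dvd (by norm_num) hdvd
      omega
    apply hN2
    apply Subgroup.eq_top_of_card_eq
    rw [h60, hG]
  · -- `3 ∤ |N|`, so `|N| ≤ 20`
    have h20 : Nat.card N ∣ 20 := by
      have h1 : Nat.Coprime (Nat.card N) 3 := by
        rw [Nat.coprime_comm]
        exact (Nat.Prime.coprime_iff_not_dvd Nat.prime_three).mpr h3N
      have h2 : Nat.card N ∣ 3 * 20 := hdvd
      exact h1.dvd_of_dvd_mul_left h2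
    have hle20 := Nat.le_of_dvd (by norm_num) h20
    -- a nontrivial element
    obtain ⟨n, hnN, hn1⟩ : ∃ n ∈ N, n ≠ 1 := by
      by_contra hcon
      push Not at hcon
      apply hN1
      rw [Subgroup.eq_bot_iff_forall]
      exact hcon
    have hn3 : n ^ 3 ≠ 1 := by
      intro h1
      apply h3N
      have h2 : orderOf (⟨n, hnN⟩ : N) = 3 := by
        apply orderOf_eq_prime
        · exact Subtype.ext h1
        · intro h3
          exact hn1 (congrArg Subtype.val h3)
      rw [← h2]
      exact orderOf_dvd_natCard _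
    obtain ⟨y, z, hyz, hfix⟩ := h.two n hn3
    have hny : n • y = y := (hfix y).mpr (Or.inl rfl)
    -- no point of `Op` is fixed by `n`
    have hyOq : y ∈ Oq 3 G Ω := by
      refine ⟨⟨n, hn1, hny⟩, fun hyO => ?_⟩
      obtain ⟨u, hu1, hup, huy⟩ := hyO
      have huE : u ∈ h.E y := ⟨huy, hup⟩
      have hc1 : n * u * n⁻¹ ∈ h.E y := by
        refine ⟨?_, ?_⟩
        · rw [mul_smul, mul_smul, inv_smul_eq_iff.mpr hny.symm, huy, hny]
        · rw [conj_pow, hup, mul_one, mul_inv_cancel]
      have hc2 : n * u * n⁻¹ * u⁻¹ ∈ h.E y := mul_mem hc1 (inv_mem huE)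
      have hc3 : n * u * n⁻¹ * u⁻¹ ∈ N := by
        have h1 : n * u * n⁻¹ * u⁻¹ = n * (u * n⁻¹ * u⁻¹) := by group
        rw [h1]
        exact mul_mem hnN (hN.conj_mem _ (inv_mem hnN) u)
      have hc4 : n * u * n⁻¹ * u⁻¹ = 1 := by
        by_contra hne
        apply h3N
        have h2 : orderOf (⟨_, hc3⟩ : N) = 3 := by
          apply orderOf_eq_prime
          · exact Subtype.ext hc2.2
          · intro h3
            exact hne (congrArg Subtype.val h3)
        rw [← h2]
        exact orderOf_dvd_natCard _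
      have hc5 : n * u = u * n := by
        have h1 := mul_inv_eq_one.mp hc4
        exact mul_inv_eq_iff_eq_mul.mp h1
      exact hn3 (h.mem_E_of_commute huE hu1 hny hc5).2
    have hle := hq5 y hyOq n hnN hn1 hny
    obtain ⟨y', hyy', hall, huniq⟩ := exists_partner h hyOq
    obtain ⟨w, hw, hw'⟩ : ∃ w ∈ Oq 3 G Ω, w ∉ ({y, y'} : Set Ω) := by
      have h1 : ({y, y'} : Set Ω).ncard < (Oq 3 G Ω).ncard := by
        rw [hn, Set.ncard_pair hyy'.symm]
        norm_num
      exact Set.exists_mem_notMem_of_ncard_lt_ncard h1 (Set.toFinite _)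
    have htriv : ∀ g : G, g • y = y → g • w = w → g = 1 := by
      intro g hgy hgw
      by_contra hg1
      rcases huniq g hg1 hgy w hgw with h1 | h1
      · exact hw' (by rw [h1]; simp)
      · exact hw' (by rw [h1]; simp)
    let f : stabilizer G y × stabilizer G w → N := fun ab =>
      ⟨(ab.1 : G) * (ab.2 : G), mul_mem (hle y hyOq ab.1.2) (hle w hw ab.2.2)⟩
    have hinj : Function.Injective f := by
      rintro ⟨a, b⟩ ⟨c, d⟩ hab
      have h1 : (a : G) * (b : G) = (c : G) * (d : G) := congrArg Subtype.val hab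
      have h2 : (c : G)⁻¹ * (a : G) = (d : G) * (b : G)⁻¹ := by
        rw [inv_mul_eq_iff_eq_mul, ← mul_assoc, ← h1, mul_inv_cancel_right]
      have h3 : (c : G)⁻¹ * (a : G) = 1 := by
        apply htriv
        · exact mul_mem (inv_mem c.2) a.2
        · rw [h2]
          exact mul_mem d.2 (inv_mem b.2)
      have h4 : (c : G) = a := inv_mul_eq_one.mp h3
      rw [h3, eq_comm, mul_inv_eq_one] at h2
      exact Prod.ext (Subtype.ext h4.symm) (Subtype.ext h2.symm)
    have hcard := Nat.card_le_card_of_injective f hinj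
    rw [Nat.card_prod, hcardq y hyOq, hcardq w hw] at hcard
    omega

/-- A power of a prime equal to `2` or `3`. -/
theorem eq_of_card_E [Finite G] [Fact p.Prime] {x : Ω} {ℓ : ℕ} (hℓ : ℓ.Prime)
    (hE : Nat.card (h.E x) = ℓ) : p = ℓ := by
  obtain ⟨n, hn⟩ := IsPGroup.iff_card.mp (h.isPGroup_E x)
  rw [hE] at hn
  have h2 : p ∣ ℓ := by
    rw [hn]
    apply dvd_pow_self
    rintro rfl
    rw [pow_zero] at hn
    exact hℓ.one_lt.ne' hn
  exact (Nat.prime_dvd_prime_iff_eq Fact.out hℓ).mp h2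

include h in
/-- The cases of the wild pole counting. -/
theorem wild_cases [Finite G] [Fact p.Prime] [CharP K p] {x₀ x₁ : Ω} (hx₀ : x₀ ∈ Op p G Ω)
    (hx₁ : x₁ ∈ Op p G Ω) (hne : x₀ ≠ x₁) :
    (∀ x ∈ Op p G Ω, ∀ y ∈ Op p G Ω, ∀ z ∈ Op p G Ω, y ≠ x → z ≠ x →
      ∃ g : G, g ^ p = 1 ∧ g • x = x ∧ g • y = z) ∨
    (∃ k, k ≠ 0 ∧ ¬ p ∣ k ∧ Nonempty (G ≃* DihedralGroup k)) ∨
    Nonempty (G ≃* alternatingGroup (Fin 5)) := by
  have hr : 2 ≤ (Op p G Ω).ncard := by
    rw [← Set.ncard_pair hne]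
    exact Set.ncard_le_ncard (by
      rintro x (rfl | rfl)
      · exact hx₀
      · exact hx₁) h.finite_Op
  obtain ⟨y, hy, heq, h1 | ⟨h1, h2, h3⟩ | ⟨h1, h2, h3, h4, h5, h6⟩⟩ := numbers h hx₀ hr
  · left
    intro x hx a ha b hb hax hbx
    obtain ⟨g, hg, hg'⟩ := transitive_of_ncard h hx₀ h1 hx ha hb hax hbx
    exact ⟨g, hg.2, hg.1, hg'⟩
  · right; left
    have hp2 : p = 2 := eq_of_card_E h Nat.prime_two h1
    obtain ⟨m, hm⟩ := exists_m h hx₀
    refine ⟨Nat.card (stabilizer G y), Nat.card_pos.ne', ?_, ?_⟩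
    · rw [h3, hm, h1, hp2]
      omega
    · apply dihedral_of_index_two h hy
      · intro t ht
        rwa [hp2]
      · rw [h3, h2]
  · right; right
    have h7 := isSimple_of_sixty h hx₀ hy heq h1 h2 h3 h4 h5 h6
    exact Cfsg.Agent.S0494.result h2

end

end Cfsg.Agent.ClassicalGeometry.PoleCases
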