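import Mathlib
import Cfsg.Agent.S0494
import Cfsg.Agent.Lib.DihedralRecog
import Cfsg.Agent.LieClassical.PSLTwoAlt

/-!
Pole counting: a finite group acting so that every non-identity element fixes exactly two points,
with cyclic point stabilisers, is cyclic, dihedral, `A_4`, `S_4` or `A_5`.
-/

set_option autoImplicit false

namespace Cfsg.Agent.ClassicalGeometry.PolePrime

open MulAction

section Numeric

/-- The numerical part: three orbits of sizes `n i` with stabiliser orders `e i`. -/
theorem numeric {g e0 e1 e2 n0 n1 n2 : ℕ} (h0 : n0 * e0 = g) (h1 : n1 * e1 = g)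
    (h2 : n2 * e2 = g) (he : 2 ≤ e0) (h01 : e0 ≤ e1) (h12 : e1 ≤ e2)
    (hsum : n0 + n1 + n2 = g + 2) :
    n2 = 2 ∨ (g = 12 ∧ n1 = 4) ∨ (g = 24 ∧ e0 = 2 ∧ e1 = 3 ∧ e2 = 4) ∨
      (g = 60 ∧ e0 = 2 ∧ e1 = 3 ∧ e2 = 5) := by
  have key : ∀ n e k : ℕ, n * e = g → k ≤ e → k * n ≤ g := by
    intro n e k h hk
    rw [← h, mul_comm k n]
    exact Nat.mul_le_mul_left n hk
  have he0 : e0 = 2 := by
    by_contra hne
    have h3 : 3 ≤ e0 := by omega
    have a0 := key n0 e0 3 h0 h3
    have a1 := key n1 e1 3 h1 (by omega)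
    have a2 := key n2 e2 3 h2 (by omega)
    omega
  subst he0
  have he1 : e1 = 2 ∨ e1 = 3 := by
    by_contra hne
    have h4 : 4 ≤ e1 := by omega
    have a1 := key n1 e1 4 h1 h4
    have a2 := key n2 e2 4 h2 (by omega)
    omega
  rcases he1 with rfl | rfl
  · left
    omega
  · have he2 : e2 < 6 := by
      by_contra hne
      have a2 := key n2 e2 6 h2 (by omega)
      omega
    right
    interval_cases e2
    · left
      omega
    · right; left
      omega
    · right; right
      omega

theorem numeric60 {k : ℕ} {a b c : ℕ} (hk : k ∣ 60) (ha : a = 1 ∨ a = 2) (hb : b = 1 ∨ b = 3)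
    (hc : c = 1 ∨ c = 5) (h : 30 * a + 20 * b + 12 * c = 62 + 2 * (k - 1)) : k = 1 ∨ k = 60 := by
  have hk' : k ≤ 60 := Nat.le_of_dvd (by norm_num) hk
  rcases ha with rfl | rfl <;> rcases hb with rfl | rfl <;> rcases hc with rfl | rfl <;>
    interval_cases k <;> omega

end Numeric

section Local

variable {G X : Type*} [Group G] [MulAction G X]
  (h2 : ∀ g : G, g ≠ 1 → ∃ a b : X, a ≠ b ∧ ∀ x, g • x = x ↔ x = a ∨ x = b)

include h2

/-- Three different fixed points are impossible. -/
theorem three_fixed {g : G} (hg : g ≠ 1) {x y z : X} (hx : g • x = x) (hy : g • y = y)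
    (hz : g • z = z) (hxy : x ≠ y) (hxz : x ≠ z) (hyz : y ≠ z) : False := by
  obtain ⟨a, b, -, H⟩ := h2 g hg
  rcases (H x).1 hx with rfl | rfl <;> rcases (H y).1 hy with rfl | rfl <;>
    rcases (H z).1 hz with rfl | rfl <;> first | exact hxy rfl | exact hxz rfl | exact hyz rfl

/-- An element swapping two points is an involution. -/
theorem sq_eq_one_of_swap {g : G} {x y : X} (hxy : x ≠ y) (hgx : g • x = y) (hgy : g • y = x) :
    g * g = 1 := by
  by_contra hne
  have hg : g ≠ 1 := by
    rintro rfl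
    exact hne (one_mul 1)
  obtain ⟨a, b, -, H⟩ := h2 g hg
  have ha : g • a = a := (H a).2 (Or.inl rfl)
  have hax : a ≠ x := by
    rintro rfl
    exact hxy (ha.symm.trans hgx)
  have hay : a ≠ y := by
    rintro rfl
    exact hxy (hgy.symm.trans ha)
  exact three_fixed h2 hne (x := x) (y := y) (z := a) (by rw [mul_smul, hgx, hgy])
    (by rw [mul_smul, hgy, hgx]) (by rw [mul_smul, ha, ha]) hxy hax.symm hay.symm

/-- The other fixed point. -/
theorem exists_other {g : G} (hg : g ≠ 1) {x : X} (hx : g • x = x) :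
    ∃ y, y ≠ x ∧ g • y = y ∧ ∀ z, g • z = z → z = x ∨ z = y := by
  obtain ⟨a, b, hab, H⟩ := h2 g hg
  rcases (H x).1 hx with rfl | rfl
  · exact ⟨b, hab.symm, (H b).2 (Or.inr rfl), fun z hz => (H z).1 hz⟩
  · exact ⟨a, hab, (H a).2 (Or.inl rfl), fun z hz => ((H z).1 hz).symm⟩

/-- If `g` commutes with an element `p ≠ 1` of odd order fixing `y`, then `g` fixes `y`. -/
theorem fix_of_commute {g p : G} (hgp : g * p = p * g) (hp : p ≠ 1) {n : ℕ}
    (hodd : p ^ (2 * n + 1) = 1) {y : X} (hy : p • y = y) : g • y = y := by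
  obtain ⟨y', hne, hy', H⟩ := exists_other h2 hp hy
  have h1 : p • (g • y) = g • y := by rw [← mul_smul, ← hgp, mul_smul, hy]
  rcases H _ h1 with h | h
  · exact h
  exfalso
  have h3 : p • (g • y') = g • y' := by rw [← mul_smul, ← hgp, mul_smul, hy']
  have hgy' : g • y' = y := by
    rcases H _ h3 with h' | h'
    · exact h'
    · exfalso
      exact hne (MulAction.injective g (h'.trans h.symm))
  have hg : g ≠ 1 := by
    rintro rfl
    rw [one_smul] at h
    exact hne h.symm
  obtain ⟨c, d, hcd, Hc⟩ := h2 g hg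
  have hc : g • c = c := (Hc c).2 (Or.inl rfl)
  have hpc : g • (p • c) = p • c := by rw [← mul_smul, hgp, mul_smul, hc]
  have hd : g • d = d := (Hc d).2 (Or.inr rfl)
  have hpd : g • (p • d) = p • d := by rw [← mul_smul, hgp, mul_smul, hd]
  have hppc : p • p • c = c := by
    rcases (Hc _).1 hpc with h' | h'
    · rw [h', h']
    · rcases (Hc _).1 hpd with h'' | h''
      · rw [h', h'']
      · exfalso
        exact hcd (MulAction.injective p (h'.trans h''.symm))
  have hpow : ∀ k : ℕ, p ^ (2 * k) • c = c := by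
    intro k
    induction k with
    | zero => simp
    | succ k ih =>
      rw [Nat.mul_succ, pow_add, mul_smul, pow_two, mul_smul, hppc, ih]
  have hpcc : p • c = c := by
    have : p ^ (2 * n + 1) • c = c := by rw [hodd, one_smul]
    rw [pow_succ', mul_smul, hpow] at this
    exact this
  rcases H _ hpcc with rfl | rfl
  · exact hne (h.symm.trans hc)
  · exact hne (hc.symm.trans hgy')

end Local

section Global

variable {G X : Type*} [Group G] [Finite G] [MulAction G X] [Finite X]

/-- Double counting of fixed points. -/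
theorem double_count [Fintype X]
    (h2 : ∀ g : G, g ≠ 1 → ∃ a b : X, a ≠ b ∧ ∀ x, g • x = x ↔ x = a ∨ x = b)
    (K : Subgroup G) :
    ∑ x : X, Nat.card (K ⊓ stabilizer G x : Subgroup G) = Nat.card X + 2 * (Nat.card K - 1) := by
  classical
  have := Fintype.ofFinite G
  have h1 : ∀ x : X, Nat.card (K ⊓ stabilizer G x : Subgroup G) =
      ∑ g : K, if (g : G) • x = x then 1 else 0 := by
    intro x
    rw [← Finset.card_filter, Nat.card_eq_fintype_card, ← Fintype.card_subtype]
    exact Fintype.card_congr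
      ⟨fun g => ⟨⟨g.1, g.2.1⟩, g.2.2⟩, fun g => ⟨g.1.1, g.1.2, g.2⟩, fun _ => rfl, fun _ => rfl⟩
  have h3 : ∀ g : K, g ≠ 1 → (∑ x : X, if (g : G) • x = x then 1 else 0) = 2 := by
    intro g hg
    obtain ⟨a, b, hab, H⟩ := h2 (g : G) (fun h => hg (Subtype.ext h))
    rw [← Finset.card_filter]
    have : (Finset.univ.filter fun x : X => (g : G) • x = x) = {a, b} := by
      ext x
      simp [H]
    rw [this, Finset.card_pair hab]
  simp_rw [h1]
  rw [Finset.sum_comm, ← Finset.add_sum_erase _ _ (Finset.mem_univ (1 : K)),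
    Finset.sum_congr rfl (fun g hg => h3 g (Finset.ne_of_mem_erase hg))]
  simp only [OneMemClass.coe_one, one_smul, if_true, Finset.sum_const, Finset.card_univ,
    smul_eq_mul, mul_one, Finset.card_erase_of_mem (Finset.mem_univ _)]
  rw [Nat.card_eq_fintype_card, Nat.card_eq_fintype_card, mul_comm]

theorem card_orbit_mul (x : X) :
    Nat.card (orbit G x) * Nat.card (stabilizer G x) = Nat.card G := by
  classical
  have := Fintype.ofFinite G
  have := Fintype.ofFinite X
  rw [Nat.card_eq_fintype_card, Nat.card_eq_fintype_card, Nat.card_eq_fintype_card]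
  exact MulAction.card_orbit_mul_card_stabilizer_eq_card_group G x

/-- The number of orbits times the group order. -/
theorem burnside
    (h2 : ∀ g : G, g ≠ 1 → ∃ a b : X, a ≠ b ∧ ∀ x, g • x = x ↔ x = a ∨ x = b) :
    Nat.card (Quotient (orbitRel G X)) * Nat.card G = Nat.card X + 2 * (Nat.card G - 1) := by
  classical
  have := Fintype.ofFinite G
  have := Fintype.ofFinite X
  have := Fintype.ofFinite (Quotient (orbitRel G X))
  have h := MulAction.sum_card_fixedBy_eq_card_orbits_mul_card_group G X
  rw [Nat.card_eq_fintype_card, Nat.card_eq_fintype_card, ← h]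
  rw [← Finset.add_sum_erase _ _ (Finset.mem_univ (1 : G))]
  have h3 : ∀ g : G, g ≠ 1 → Fintype.card (fixedBy X g) = 2 := by
    intro g hg
    obtain ⟨a, b, hab, H⟩ := h2 g hg
    rw [← Set.toFinset_card]
    have : (fixedBy X g).toFinset = {a, b} := by
      ext x
      simp [H]
    rw [this, Finset.card_pair hab]
  rw [Finset.sum_congr rfl (fun g hg => h3 g (Finset.ne_of_mem_erase hg))]
  have h4 : Fintype.card (fixedBy X (1 : G)) = Nat.card X := by
    rw [Nat.card_eq_fintype_card]
    refine Fintype.card_congr ((Equiv.subtypeUnivEquiv ?_))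
    intro x
    exact one_smul G x
  rw [h4]
  simp only [Finset.sum_const, smul_eq_mul, Finset.card_erase_of_mem (Finset.mem_univ _),
    Finset.card_univ]
  rw [mul_comm]

/-- Sum of an invariant function over `X`, by orbits. -/
theorem sum_invariant [Fintype X] {ι : Type*} [Fintype ι]
    (φ : ι ≃ Quotient (orbitRel G X)) (F : X → ℕ) (hF : ∀ (g : G) x, F (g • x) = F x) :
    ∑ x, F x = ∑ i, Nat.card (orbit G ((φ i).out)) * F ((φ i).out) := by
  classical
  have := Fintype.ofFinite (Quotient (orbitRel G X))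
  rw [← Finset.sum_fiberwise (s := Finset.univ) (g := fun x => φ.symm (Quotient.mk _ x)) (f := F)]
  refine Finset.sum_congr rfl fun i _ => ?_
  have h1 : ∀ x : X, φ.symm (Quotient.mk _ x) = i ↔ x ∈ orbit G (φ i).out := by
    intro x
    rw [Equiv.symm_apply_eq, ← MulAction.orbitRel_apply, ← Quotient.eq (r := orbitRel G X),
      Quotient.out_eq]
  have h2 : ∀ x ∈ Finset.univ.filter (fun x => φ.symm (Quotient.mk (orbitRel G X) x) = i),
      F x = F (φ i).out := by
    intro x hx
    rw [Finset.mem_filter] at hx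
    obtain ⟨g, hg⟩ := (h1 x).1 hx.2
    rw [← hg]
    exact hF g _
  rw [Finset.sum_congr rfl h2, Finset.sum_const, smul_eq_mul]
  congr 1
  rw [Nat.card_eq_fintype_card, ← Set.toFinset_card]
  congr 1
  ext x
  simp only [Finset.mem_filter, Finset.mem_univ, true_and, Set.mem_toFinset]
  exact h1 x

/-- The dihedral case. -/
theorem dihedral_case
    (h2 : ∀ g : G, g ≠ 1 → ∃ a b : X, a ≠ b ∧ ∀ x, g • x = x ↔ x = a ∨ x = b)
    (hc : ∀ x : X, IsCyclic (stabilizer G x)) (hs : ∀ x : X, 2 ≤ Nat.card (stabilizer G x))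
    (x : X) (hx : Nat.card (orbit G x) = 2) :
    ∃ k : ℕ, 2 ≤ k ∧ Nonempty (G ≃* DihedralGroup k) := by
  classical
  refine ⟨Nat.card (stabilizer G x), hs x, ?_⟩
  obtain ⟨⟨r, hr⟩, hr'⟩ := (hc x).exists_generator
  have hcard := card_orbit_mul (G := G) x
  rw [hx] at hcard
  have hor' : Nat.card (orbit G x) = 2 := hx
  -- an element outside the stabiliser
  have hfin : (orbit G x).ncard = 2 := hx
  obtain ⟨a, b, hab, hor⟩ := Set.ncard_eq_two.1 hfin
  obtain ⟨y, hy, hxy⟩ : ∃ y ∈ orbit G x, y ≠ x := by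
    by_cases hax : a = x
    · exact ⟨b, by rw [hor]; simp, fun h => hab (hax.trans h.symm)⟩
    · exact ⟨a, by rw [hor]; simp, hax⟩
  have hall : ∀ z ∈ orbit G x, z = x ∨ z = y := by
    intro z hz
    have hx' : x ∈ orbit G x := mem_orbit_self _
    rw [hor] at hz hx' hy
    simp only [Set.mem_insert_iff, Set.mem_singleton_iff] at hz hx' hy
    rcases hx' with h1 | h1 <;> rcases hy with h3 | h3 <;> rcases hz with h4 | h4 <;>
      simp_all
  obtain ⟨s, hs1⟩ := hy
  have hsx : s • x = y := hs1
  have swap : ∀ g : G, g • x ≠ x → g * g = 1 := by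
    intro g hg
    have h1 : g • x = y := (hall _ (mem_orbit _ _)).resolve_left hg
    have h3 : g • y = x := by
      rcases hall (g • y) (by rw [← hsx]; exact ⟨g * s, mul_smul _ _ _⟩) with h | h
      · exact h
      · exfalso
        exact hxy (MulAction.injective g (h.trans h1.symm))
    exact sq_eq_one_of_swap h2 hxy.symm h1 h3
  have hss : s * s = 1 := swap s (by rw [hsx]; exact hxy)
  have hrx : r • x = x := hr
  have hsr : (s * r) * (s * r) = 1 := swap (s * r) (by rw [mul_smul, hrx, hsx]; exact hxy)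
  have hord : orderOf r = Nat.card (stabilizer G x) := by
    rw [← Subgroup.orderOf_mk r hr]
    exact orderOf_eq_card_of_forall_mem_zpowers hr'
  refine Cfsg.Agent.Lib.DihedralRecog.dihedral_of_generators ?_ r s hord hss ?_ ?_ hcard.symm
  · have := hs x
    omega
  · have hsi : s⁻¹ = s := inv_eq_of_mul_eq_one_left hss
    rw [hsi, ← mul_eq_one_iff_eq_inv, ← hsr]
    group
  · intro hmem
    obtain ⟨k, hk⟩ := hmem
    have : s ∈ stabilizer G x := by
      rw [← hk]
      exact Subgroup.zpow_mem _ hr k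
    exact hxy (hsx.symm.trans this)

/-- The tetrahedral case. -/
theorem tetrahedral_case
    (h2 : ∀ g : G, g ≠ 1 → ∃ a b : X, a ≠ b ∧ ∀ x, g • x = x ↔ x = a ∨ x = b)
    (hG : Nat.card G = 12) (x : X) (hx : Nat.card (orbit G x) = 4) :
    Nonempty (G ≃* alternatingGroup (Fin 4)) := by
  classical
  refine Cfsg.Agent.LieClassical.PSLTwoAlt.equiv_alternating_of_injective hx
    (MulAction.toPermHom G (orbit G x)) ?_ (by rw [hG]; rfl)
  rw [injective_iff_map_eq_one]
  intro g hg
  by_contra hne
  obtain ⟨a, b, hab, H⟩ := h2 g hne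
  have hfix : ∀ z ∈ orbit G x, g • z = z := by
    intro z hz
    have := congrArg (fun f => ((f ⟨z, hz⟩ : orbit G x) : X)) hg
    exact this
  have hsub : (orbit G x) ⊆ {a, b} := by
    intro z hz
    exact (H z).1 (hfix z hz)
  have h3 := Set.ncard_le_ncard hsub (Set.toFinite _)
  have h4 : (orbit G x).ncard = 4 := hx
  rw [h4, Set.ncard_pair hab] at h3
  omega

/-- The octahedral case. -/
theorem octahedral_case
    (h2 : ∀ g : G, g ≠ 1 → ∃ a b : X, a ≠ b ∧ ∀ x, g • x = x ↔ x = a ∨ x = b)
    (hG : Nat.card G = 24) (x : X) (hx : Nat.card (stabilizer G x) = 3) :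
    Nonempty (G ≃* Equiv.Perm (Fin 4)) := by
  classical
  have : Fact (Nat.Prime 3) := ⟨Nat.prime_three⟩
  have horb : Nat.card (orbit G x) = 8 := by
    have := card_orbit_mul (G := G) x
    rw [hx, hG] at this
    omega
  -- the stabiliser is a Sylow 3-subgroup
  have hfac : (Nat.card G).factorization 3 = 1 := by
    rw [hG]
    decide +kernel
  have hcardP : ∀ P : Sylow 3 G, Nat.card P = 3 := by
    intro P
    rw [P.card_eq_multiplicity, hfac, pow_one]
  let P₀ : Sylow 3 G := Sylow.ofCard (stabilizer G x) (by rw [hx, hfac, pow_one])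
  have hP₀ : (P₀ : Subgroup G) = stabilizer G x := rfl
  -- more than one Sylow 3-subgroup
  have hne1 : Nat.card (Sylow 3 G) ≠ 1 := by
    intro h1
    have hsub : Subsingleton (Sylow 3 G) := (Nat.card_eq_one_iff_unique.1 h1).1
    have hnorm : (stabilizer G x).Normal := by
      rw [← hP₀]
      exact Sylow.normal_of_subsingleton P₀
    obtain ⟨p, hp⟩ : ∃ p : stabilizer G x, p ≠ 1 := by
      have : Nontrivial (stabilizer G x) := by
        rw [← Finite.one_lt_card_iff_nontrivial, hx]
        norm_num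
      exact exists_ne 1
    have hp1 : (p : G) ≠ 1 := fun h => hp (Subtype.ext h)
    obtain ⟨a, b, hab, H⟩ := h2 (p : G) hp1
    have hsub : (orbit G x) ⊆ {a, b} := by
      rintro _ ⟨g, rfl⟩
      apply (H _).1
      have h3 := hnorm.conj_mem (p : G) p.2 g⁻¹
      rw [inv_inv] at h3
      have h4 : (g⁻¹ * (p : G) * g) • x = x := h3
      rw [mul_smul, mul_smul, inv_smul_eq_iff] at h4
      exact h4
    have h3 := Set.ncard_le_ncard hsub (Set.toFinite _)
    have h4 : (orbit G x).ncard = 8 := horb
    rw [h4, Set.ncard_pair hab] at h3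
    omega
  have hn3 : Nat.card (Sylow 3 G) = 4 := by
    have h1 : Nat.card (Sylow 3 G) ∣ 8 := by
      have h := P₀.card_dvd_index
      have h' : (P₀ : Subgroup G).index = 8 := by
        have h3 := (P₀ : Subgroup G).card_mul_index
        rw [hcardP P₀, hG] at h3
        omega
      rwa [h'] at h
    have h3 : Nat.card (Sylow 3 G) ≡ 1 [MOD 3] := card_sylow_modEq_one 3 G
    have h4 : Nat.card (Sylow 3 G) ≤ 8 := Nat.le_of_dvd (by norm_num) h1
    generalize Nat.card (Sylow 3 G) = n at *
    interval_cases n <;> first | omega | (revert h3; decide) | (revert h1; decide)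
  -- the action on the Sylow 3-subgroups is faithful
  have hinj : Function.Injective (MulAction.toPermHom G (Sylow 3 G)) := by
    rw [injective_iff_map_eq_one]
    intro k hk
    set K : Subgroup G := (MulAction.toPermHom G (Sylow 3 G)).ker with hK
    have hkK : k ∈ K := MonoidHom.mem_ker.2 hk
    have hKn : ∀ P : Sylow 3 G, K ≤ Subgroup.normalizer (P : Set G) := by
      intro P g hg
      have h1 : g • P = P := by
        have := congrArg (fun f => f P) (MonoidHom.mem_ker.1 hg)
        exact this
      exact Sylow.smul_eq_iff_mem_normalizer.1 h1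
    -- K meets every Sylow 3-subgroup trivially
    have hKP : ∀ P : Sylow 3 G, K ⊓ (P : Subgroup G) = ⊥ := by
      intro P
      by_contra hne
      have h3 : Nat.card (K ⊓ (P : Subgroup G) : Subgroup G) ∣ 3 := by
        have := Subgroup.card_dvd_of_le (inf_le_right : K ⊓ (P : Subgroup G) ≤ (P : Subgroup G))
        rwa [hcardP P] at this
      rcases (Nat.dvd_prime Nat.prime_three).1 h3 with h4 | h4
      · exact hne (Subgroup.card_eq_one.1 h4)
      have h5 : K ⊓ (P : Subgroup G) = P :=
        Subgroup.eq_of_le_of_card_ge inf_le_right (by rw [h4]; exact (hcardP P).le)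
      have h6 : (P : Subgroup G) ≤ K := by rw [← h5]; exact inf_le_left
      -- all Sylow 3-subgroups coincide with P
      have h7 : Subsingleton (Sylow 3 G) := by
        constructor
        intro Q R
        have hle : ∀ Q : Sylow 3 G, Q = P := by
          intro Q
          have h8 : (P : Subgroup G) ≤ Subgroup.normalizer (Q : Set G) := h6.trans (hKn Q)
          have h9 : IsPGroup 3 ((P : Subgroup G) ⊔ (Q : Subgroup G) : Subgroup G) :=
            P.isPGroup'.to_sup_of_normal_right' Q.isPGroup' h8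
          have h10 := Q.is_maximal' h9 le_sup_right
          have h11 := P.is_maximal' h9 le_sup_left
          exact Sylow.ext (h10.symm.trans h11)
        rw [hle Q, hle R]
      exact hne1 (Nat.card_eq_one_iff_unique.2 ⟨h7, inferInstance⟩)
    -- hence k centralises every Sylow 3-subgroup
    have hcomm : ∀ (P : Sylow 3 G) (p : G), p ∈ (P : Subgroup G) → k * p = p * k := by
      intro P p hp
      have h1 : k * p * k⁻¹ * p⁻¹ ∈ K ⊓ (P : Subgroup G) := by
        refine Subgroup.mem_inf.2 ⟨?_, ?_⟩
        · have h3 : p * k⁻¹ * p⁻¹ ∈ K :=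
            (inferInstance : K.Normal).conj_mem _ (inv_mem hkK) p
          have h4 := mul_mem hkK h3
          convert h4 using 1
          group
        · have h3 : k * p * k⁻¹ ∈ (P : Subgroup G) :=
            (Subgroup.mem_normalizer_iff.1 (hKn P hkK) p).1 hp
          exact mul_mem h3 (inv_mem hp)
      rw [hKP P, Subgroup.mem_bot] at h1
      have h3 : k * p * k⁻¹ = p := by rwa [mul_inv_eq_one] at h1
      exact (mul_inv_eq_iff_eq_mul.1 h3)
    obtain ⟨p, hp⟩ : ∃ p : stabilizer G x, p ≠ 1 := by
      have : Nontrivial (stabilizer G x) := by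
        rw [← Finite.one_lt_card_iff_nontrivial, hx]
        norm_num
      exact exists_ne 1
    have hp1 : (p : G) ≠ 1 := fun h => hp (Subtype.ext h)
    have hp3 : (p : G) ^ (2 * 1 + 1) = 1 := by
      have h3 : p ^ 3 = 1 := by
        rw [← hx]
        exact pow_card_eq_one'
      exact congrArg Subtype.val h3
    have hkx : k • x = x := fix_of_commute h2 (hcomm P₀ p p.2) hp1 hp3 p.2
    have : k ∈ K ⊓ (P₀ : Subgroup G) := ⟨hkK, hkx⟩
    rw [hKP P₀, Subgroup.mem_bot] at this
    exact this
  -- conclude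
  have h3 : Nat.card (Equiv.Perm (Sylow 3 G)) = 24 := by
    rw [Nat.card_perm, hn3]
    rfl
  have hbij : Function.Bijective (MulAction.toPermHom G (Sylow 3 G)) := by
    rw [Nat.bijective_iff_injective_and_card]
    exact ⟨hinj, by rw [hG, h3]⟩
  have := Fintype.ofFinite (Sylow 3 G)
  have hc4 : Fintype.card (Sylow 3 G) = 4 := by rw [← Nat.card_eq_fintype_card, hn3]
  let e : Sylow 3 G ≃ Fin 4 := Fintype.equivFinOfCardEq hc4
  exact ⟨(MulEquiv.ofBijective _ hbij).trans e.permCongrHom⟩

/-- The icosahedral case. -/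
theorem icosahedral_case
    (h2 : ∀ g : G, g ≠ 1 → ∃ a b : X, a ≠ b ∧ ∀ x, g • x = x ↔ x = a ∨ x = b)
    (hG : Nat.card G = 60) (φ : Fin 3 ≃ Quotient (orbitRel G X))
    (h0 : Nat.card (stabilizer G (φ 0).out) = 2) (h1 : Nat.card (stabilizer G (φ 1).out) = 3)
    (h5 : Nat.card (stabilizer G (φ 2).out) = 5) :
    Nonempty (G ≃* alternatingGroup (Fin 5)) := by
  classical
  have := Fintype.ofFinite X
  have n0 := card_orbit_mul (G := G) (φ 0).out
  have n1 := card_orbit_mul (G := G) (φ 1).out
  have n2 := card_orbit_mul (G := G) (φ 2).out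
  rw [h0, hG] at n0
  rw [h1, hG] at n1
  rw [h5, hG] at n2
  have hX : Nat.card X = 62 := by
    have h := sum_invariant φ (fun _ => 1) (fun _ _ => rfl)
    rw [Fin.sum_univ_three] at h
    simp only [Finset.sum_const, Finset.card_univ, smul_eq_mul, mul_one] at h
    rw [Nat.card_eq_fintype_card, h]
    omega
  have hsimple : IsSimpleGroup G := by
    have hnt : Nontrivial G := by
      rw [← Finite.one_lt_card_iff_nontrivial, hG]
      norm_num
    refine { hnt with eq_bot_or_eq_top_of_normal := fun K hK => ?_ }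
    have hF : ∀ (g : G) (x : X), Nat.card (K ⊓ stabilizer G (g • x) : Subgroup G) =
        Nat.card (K ⊓ stabilizer G x : Subgroup G) := by
      intro g x
      refine Nat.card_congr ⟨fun k => ⟨g⁻¹ * k.1 * g, ?_⟩, fun k => ⟨g * k.1 * g⁻¹, ?_⟩, ?_, ?_⟩
      · refine Subgroup.mem_inf.2 ⟨?_, ?_⟩
        · have := hK.conj_mem _ (Subgroup.mem_inf.1 k.2).1 g⁻¹
          rwa [inv_inv] at this
        · have := (Subgroup.mem_inf.1 k.2).2
          rw [mem_stabilizer_iff] at this ⊢
          rw [mul_smul, mul_smul, this, inv_smul_smul]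
      · refine Subgroup.mem_inf.2 ⟨hK.conj_mem _ (Subgroup.mem_inf.1 k.2).1 g, ?_⟩
        have := (Subgroup.mem_inf.1 k.2).2
        rw [mem_stabilizer_iff] at this ⊢
        rw [mul_smul, mul_smul, inv_smul_smul, this]
      · intro k
        apply Subtype.ext
        show g * (g⁻¹ * k.1 * g) * g⁻¹ = k.1
        group
      · intro k
        apply Subtype.ext
        show g⁻¹ * (g * k.1 * g⁻¹) * g = k.1
        group
    have hsum := sum_invariant φ (fun x => Nat.card (K ⊓ stabilizer G x : Subgroup G)) hF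
    rw [double_count h2 K, Fin.sum_univ_three, hX] at hsum
    have hd : ∀ (q : ℕ), q.Prime → ∀ x : X, Nat.card (stabilizer G x) = q →
        Nat.card (K ⊓ stabilizer G x : Subgroup G) = 1 ∨
        Nat.card (K ⊓ stabilizer G x : Subgroup G) = q := by
      intro q hq x hx
      have := Subgroup.card_dvd_of_le (inf_le_right : K ⊓ stabilizer G x ≤ stabilizer G x)
      rw [hx] at this
      exact (Nat.dvd_prime hq).1 this
    have ha := hd 2 Nat.prime_two _ h0
    have hb := hd 3 Nat.prime_three _ h1
    have hc := hd 5 Nat.prime_five _ h5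
    have hk : Nat.card K ∣ 60 := by
      rw [← hG]
      exact Subgroup.card_subgroup_dvd_card K
    have e0 : Nat.card (orbit G (φ 0).out) = 30 := by omega
    have e1 : Nat.card (orbit G (φ 1).out) = 20 := by omega
    have e2 : Nat.card (orbit G (φ 2).out) = 12 := by omega
    rw [e0, e1, e2] at hsum
    rcases numeric60 hk ha hb hc hsum.symm with h | h
    · left
      exact Subgroup.card_eq_one.1 h
    · right
      exact Subgroup.eq_top_of_card_eq K (h.trans hG.symm)
  exact Cfsg.Agent.S0494.result hG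

/-- The theorem for a finite set all of whose points have non-trivial stabiliser. -/
theorem pole_finite
    (h2 : ∀ g : G, g ≠ 1 → ∃ a b : X, a ≠ b ∧ ∀ x, g • x = x ↔ x = a ∨ x = b)
    (hc : ∀ x : X, IsCyclic (stabilizer G x)) (hs : ∀ x : X, 2 ≤ Nat.card (stabilizer G x)) :
    IsCyclic G ∨ (∃ k : ℕ, 2 ≤ k ∧ Nonempty (G ≃* DihedralGroup k)) ∨
      Nonempty (G ≃* alternatingGroup (Fin 4)) ∨ Nonempty (G ≃* Equiv.Perm (Fin 4)) ∨
      Nonempty (G ≃* alternatingGroup (Fin 5)) := by
  classical
  have := Fintype.ofFinite X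
  rcases Nat.lt_or_ge 1 (Nat.card G) with hG | hG
  swap
  · left
    have : Subsingleton G := by
      rw [← Finite.card_le_one_iff_subsingleton]
      exact hG
    exact isCyclic_of_subsingleton
  have hb := burnside h2
  have hfin : Finite (Quotient (orbitRel G X)) := inferInstance
  have := Fintype.ofFinite (Quotient (orbitRel G X))
  have hnt : Nontrivial G := Finite.one_lt_card_iff_nontrivial.1 hG
  obtain ⟨g₀, hg₀⟩ := exists_ne (1 : G)
  obtain ⟨a, b, hab, hH⟩ := h2 g₀ hg₀
  have hX2 : 2 ≤ Nat.card X := by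
    have : Nontrivial X := ⟨a, b, hab⟩
    exact Finite.one_lt_card
  have hle : 2 * Nat.card X ≤ Nat.card (Quotient (orbitRel G X)) * Nat.card G := by
    have h := sum_invariant (Equiv.refl (Quotient (orbitRel G X))) (fun _ => 1) (fun _ _ => rfl)
    simp only [Finset.sum_const, Finset.card_univ, smul_eq_mul, mul_one, Equiv.refl_apply] at h
    rw [Nat.card_eq_fintype_card (α := X), h, Finset.mul_sum,
      Nat.card_eq_fintype_card (α := Quotient (orbitRel G X)), ← Finset.card_univ,
      ← smul_eq_mul (Finset.card _), ← Finset.sum_const]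
    refine Finset.sum_le_sum fun i _ => ?_
    rw [← card_orbit_mul (G := G) i.out, mul_comm 2]
    exact Nat.mul_le_mul_left _ (hs _)
  set r := Nat.card (Quotient (orbitRel G X)) with hr
  have hr4 : r < 4 := by
    by_contra hge
    push Not at hge
    have h1 : 2 * (r * Nat.card G) ≤ r * Nat.card G + 4 * (Nat.card G - 1) := by omega
    have h3 : 4 * Nat.card G ≤ r * Nat.card G := Nat.mul_le_mul_right _ hge
    omega
  have hr1 : 2 ≤ r := by
    by_contra hlt
    push Not at hlt
    have h3 : r * Nat.card G ≤ 1 * Nat.card G := Nat.mul_le_mul_right _ (by omega)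
    omega
  rcases (by omega : r = 2 ∨ r = 3) with h | h
  · -- two orbits: cyclic
    left
    rw [h] at hb
    have hX : Nat.card X = 2 := by omega
    have hfix : ∀ g : G, g • a = a := by
      intro g
      by_cases hg : g = 1
      · rw [hg, one_smul]
      obtain ⟨c, d, hcd, hH'⟩ := h2 g hg
      rw [Nat.card_eq_fintype_card] at hX
      by_contra hne
      have h1 : a ≠ c := fun h => hne ((hH' a).2 (Or.inl h))
      have h3 : a ≠ d := fun h => hne ((hH' a).2 (Or.inr h))
      have h4 : ({a, c, d} : Finset X).card ≤ Fintype.card X := Finset.card_le_univ _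
      rw [Finset.card_eq_three.2 ⟨a, c, d, h1, h3, hcd, rfl⟩] at h4
      omega
    have htop : stabilizer G a = ⊤ := by
      rw [eq_top_iff]
      intro g _
      exact hfix g
    have := hc a
    rw [htop] at this
    exact (Subgroup.topEquiv (G := G)).isCyclic.1 this
  · -- three orbits
    right
    have hφ : Fintype.card (Quotient (orbitRel G X)) = 3 := by
      rw [← Nat.card_eq_fintype_card, ← hr, h]
    let φ₀ : Fin 3 ≃ Quotient (orbitRel G X) := (Fintype.equivFinOfCardEq hφ).symm
    let σ : Equiv.Perm (Fin 3) := Tuple.sort (fun i => Nat.card (stabilizer G (φ₀ i).out))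
    have hmono : Monotone (fun i => Nat.card (stabilizer G (φ₀ (σ i)).out)) :=
      Tuple.monotone_sort (fun i => Nat.card (stabilizer G (φ₀ i).out))
    let φ : Fin 3 ≃ Quotient (orbitRel G X) := σ.trans φ₀
    have h01 : Nat.card (stabilizer G (φ 0).out) ≤ Nat.card (stabilizer G (φ 1).out) :=
      hmono (by decide : (0 : Fin 3) ≤ 1)
    have h12 : Nat.card (stabilizer G (φ 1).out) ≤ Nat.card (stabilizer G (φ 2).out) :=
      hmono (by decide : (1 : Fin 3) ≤ 2)
    have hsum : Nat.card (orbit G (φ 0).out) + Nat.card (orbit G (φ 1).out) +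
        Nat.card (orbit G (φ 2).out) = Nat.card G + 2 := by
      have h' := sum_invariant φ (fun _ => 1) (fun _ _ => rfl)
      rw [Fin.sum_univ_three] at h'
      simp only [Finset.sum_const, Finset.card_univ, smul_eq_mul, mul_one] at h'
      rw [← h', ← Nat.card_eq_fintype_card]
      rw [h] at hb
      omega
    rcases numeric (card_orbit_mul (G := G) (φ 0).out) (card_orbit_mul (G := G) (φ 1).out)
      (card_orbit_mul (G := G) (φ 2).out) (hs _) h01 h12 hsum with h' | h' | h' | h'
    · exact Or.inl (dihedral_case h2 hc hs _ h')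
    · exact Or.inr (Or.inl (tetrahedral_case h2 h'.1 _ h'.2))
    · exact Or.inr (Or.inr (Or.inl (octahedral_case h2 h'.1 _ h'.2.2.1)))
    · exact Or.inr (Or.inr (Or.inr (icosahedral_case h2 h'.1 φ h'.2.1 h'.2.2.1 h'.2.2.2)))

end Global

/-- The abstract pole counting theorem. -/
theorem pole_prime {G Ω : Type*} [Group G] [Finite G] [MulAction G Ω]
    (h2 : ∀ g : G, g ≠ 1 → ∃ a b : Ω, a ≠ b ∧ ∀ x, g • x = x ↔ x = a ∨ x = b)
    (hc : ∀ x : Ω, IsCyclic (MulAction.stabilizer G x)) :
    IsCyclic G ∨ (∃ k : ℕ, 2 ≤ k ∧ Nonempty (G ≃* DihedralGroup k)) ∨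
      Nonempty (G ≃* alternatingGroup (Fin 4)) ∨ Nonempty (G ≃* Equiv.Perm (Fin 4)) ∨
      Nonempty (G ≃* alternatingGroup (Fin 5)) := by
  classical
  -- the set of poles
  let P : SubMulAction G Ω :=
    { carrier := {x | ∃ g : G, g ≠ 1 ∧ g • x = x}
      smul_mem' := by
        rintro c x ⟨g, hg, hx⟩
        refine ⟨c * g * c⁻¹, fun h => hg ?_, ?_⟩
        · have : g = c⁻¹ * (c * g * c⁻¹) * c := by group
          rw [this, h]
          group
        · rw [mul_smul, mul_smul, inv_smul_smul, hx] }
  have hP : ∀ x : P, ∃ g : G, g ≠ 1 ∧ g • (x : Ω) = x := fun x => x.2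
  have hfin : Finite P := by
    have h : (P : Set Ω) ⊆ ⋃ g : {g : G // g ≠ 1}, {x | (g : G) • x = x} := by
      rintro x ⟨g, hg, hx⟩
      exact Set.mem_iUnion.2 ⟨⟨g, hg⟩, hx⟩
    refine Set.Finite.subset (Set.finite_iUnion fun g => ?_) h
    obtain ⟨a, b, -, H⟩ := h2 g.1 g.2
    have : {x : Ω | (g : G) • x = x} = {a, b} := by
      ext x
      simp [H]
    rw [this]
    exact Set.toFinite _
  have hstab : ∀ x : P, stabilizer G x = stabilizer G (x : Ω) := by
    intro x
    exact SubMulAction.stabilizer_of_subMul x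
  refine pole_finite (G := G) (X := P) ?_ ?_ ?_
  · intro g hg
    obtain ⟨a, b, hab, H⟩ := h2 g hg
    refine ⟨⟨a, g, hg, (H a).2 (Or.inl rfl)⟩, ⟨b, g, hg, (H b).2 (Or.inr rfl)⟩, ?_, ?_⟩
    · intro h
      exact hab (congrArg Subtype.val h)
    · intro x
      rw [Subtype.ext_iff, Subtype.ext_iff, Subtype.ext_iff]
      exact H x.1
  · intro x
    rw [hstab]
    exact hc x
  · intro x
    obtain ⟨g, hg, hx⟩ := hP x
    have : Nontrivial (stabilizer G x) := by
      rw [hstab]
      exact ⟨⟨⟨g, hx⟩, 1, fun h => hg (congrArg Subtype.val h)⟩⟩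
    exact Finite.one_lt_card

end Cfsg.Agent.ClassicalGeometry.PolePrime
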