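import Cfsg.Agent.ClassicalGeometry.MinIndexMain

/-!
# The minimal index of a proper subgroup of `SL₂(q)` containing `-1`: conclusion
-/

set_option autoImplicit false
set_option linter.unusedSectionVars false

namespace Cfsg.Agent.ClassicalGeometry.MinIndexFinal

open Matrix OnePoint
open Cfsg.Agent.ClassicalGeometry.SL2Line Cfsg.Agent.ClassicalGeometry.SL2Borel
open Cfsg.Agent.ClassicalGeometry.SL2Outer Cfsg.Agent.ClassicalGeometry.MinIndexPSL2
open Cfsg.Agent.ClassicalGeometry.MinIndexMain

variable {F : Type*} [Field F] [DecidableEq F] [Finite F]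
variable {E : Type*} [Field E] [Algebra F E] [Finite E]

attribute [local instance] slLineAction outerAction

/-- The sum of the orbit sizes. -/
theorem sum_orbits {G X : Type*} [Group G] [MulAction G X] [Finite X]
    [Fintype (MulAction.orbitRel.Quotient G X)] :
    ∑ o : MulAction.orbitRel.Quotient G X, (MulAction.orbit G (Quotient.out o)).ncard =
      Nat.card X := by
  rw [Nat.card_congr (MulAction.selfEquivSigmaOrbits G X), Nat.card_sigma]
  rfl

/-- The relation between the numbers of orbits. -/
theorem relation (hE : Nat.card E = Nat.card F ^ 2) (H : Subgroup (SpecialLinearGroup (Fin 2) F))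
    (htr : MulAction.IsPretransitive H (OnePoint F)) {j : ℕ}
    (hj : ∀ [Fintype (stabInf H)], ∑ k : stabInf H, fixP (k : SpecialLinearGroup (Fin 2) F) =
        j * Nat.card (stabInf H)) (hcard : Nat.card H = (Nat.card F + 1) * Nat.card (stabInf H)) :
    j = Nat.card (MulAction.orbitRel.Quotient H (Outer F E)) + 1 := by
  classical
  have hfin : Finite (OnePoint F) := finite_line
  have hfin' : Finite (Outer F E) := finite_outer
  have := Fintype.ofFinite H
  have := Fintype.ofFinite (stabInf H)
  have h1 := sum_sq H htr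
  rw [hj, mul_left_comm, ← hcard] at h1
  have h2 := burnside H (OnePoint F)
  have h3 : ∑ g : H, Nat.card (MulAction.fixedBy (OnePoint F) g) =
      ∑ h : H, fixP (h : SpecialLinearGroup (Fin 2) F) := rfl
  have h4 : Nat.card (MulAction.orbitRel.Quotient H (OnePoint F)) = 1 := by
    rw [Nat.card_eq_one_iff_unique]
    refine ⟨?_, ⟨Quotient.mk'' (∞ : OnePoint F)⟩⟩
    exact (MulAction.pretransitive_iff_subsingleton_quotient H (OnePoint F)).1 htr
  rw [h3, h4, one_mul] at h2
  have h5 := burnside H (Outer F E)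
  have h6 : ∑ g : H, Nat.card (MulAction.fixedBy (Outer F E) g) =
      ∑ h : H, fixX E (h : SpecialLinearGroup (Fin 2) F) := rfl
  rw [h6] at h5
  have h7 : ∑ h : H, (fixP (h : SpecialLinearGroup (Fin 2) F) ^ 2 + 2) =
      ∑ h : H, (3 * fixP (h : SpecialLinearGroup (Fin 2) F) + fixX E (h : SpecialLinearGroup (Fin 2) F)) :=
    Finset.sum_congr rfl (fun h _ => fixP_sq_add_two hE _)
  rw [Finset.sum_add_distrib, Finset.sum_add_distrib, ← Finset.mul_sum, h1, h2, h5,
    Finset.sum_const, smul_eq_mul, Finset.card_univ, ← Nat.card_eq_fintype_card] at h7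
  have h8 : 0 < Nat.card H := Nat.card_pos
  have h9 : Nat.card H * (j + 2) =
      Nat.card H * (3 + Nat.card (MulAction.orbitRel.Quotient H (Outer F E))) := by
    linarith
  have h10 := Nat.eq_of_mul_eq_mul_left h8 h9
  omega

/-- The orbits on `E ∖ F`. -/
theorem orbit_card (H : Subgroup (SpecialLinearGroup (Fin 2) F))
    (hneg : (-1 : SpecialLinearGroup (Fin 2) F) ∈ H) {κ : ℕ}
    (hcard : Nat.card H = (Nat.card F + 1) * κ) (z : Outer F E) :
    ∃ a s : ℕ, (MulAction.orbit H z).ncard = κ * a ∧ a * (dd F * s) = Nat.card F + 1 := by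
  have h1 := card_stab_mul (G := H) z
  set S : Subgroup (SpecialLinearGroup (Fin 2) F) := (MulAction.stabilizer H z).map H.subtype with hS
  have hScard : Nat.card S = Nat.card (MulAction.stabilizer H z) :=
    Subgroup.card_map_of_injective H.subtype_injective
  have h2 : Nat.card S ∣ Nat.card F + 1 := by
    apply card_dvd (z := z)
    rintro s hs
    obtain ⟨h, hh, rfl⟩ := Subgroup.mem_map.1 hs
    exact hh
  have h3 : dd F ∣ Nat.card S := by
    apply dd_dvd_card
    rw [hS, Subgroup.mem_map]
    refine ⟨⟨-1, hneg⟩, ?_, rfl⟩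
    exact neg_one_smul z
  obtain ⟨a, ha⟩ := h2
  obtain ⟨s, hs⟩ := h3
  refine ⟨a, s, ?_, ?_⟩
  · rw [← hScard, hcard, ha] at h1
    have h4 : 0 < Nat.card S := Nat.card_pos
    apply Nat.eq_of_mul_eq_mul_left h4
    rw [h1]
    ring
  · rw [← hs, ha, mul_comm]

/-- Main theorem for subgroups of `SL₂(q)` containing `-1`. -/
theorem main (H : Subgroup (SpecialLinearGroup (Fin 2) F))
    (hneg : (-1 : SpecialLinearGroup (Fin 2) F) ∈ H) (hH : H ≠ ⊤)
    (hidx : H.index ≤ Nat.card F) (hE : Nat.card E = Nat.card F ^ 2) :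
    Nat.card F = 2 ∨ Nat.card F = 9 ∨ (Odd (Nat.card F) ∧ Nat.card F ≤ 11) := by
  classical
  have hq : 1 < Nat.card F := Finite.one_lt_card
  have htr := isPretransitive H hneg hH hidx
  obtain ⟨u, j, hu, hu0, hu1, hu2, h1, h2⟩ :=
    stabInf_facts H hneg (exists_uni_not_mem H hH hidx)
  have hstab : Nat.card (MulAction.stabilizer H (∞ : OnePoint F)) = Nat.card (stabInf H) := by
    refine Nat.card_congr ⟨fun y => ⟨y.1.1, ?_⟩, fun z => ⟨⟨z.1, ?_⟩, ?_⟩, ?_, ?_⟩
    · rw [mem_stabInf, ← sl_smul_infty_eq_iff]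
      exact ⟨y.1.2, y.2⟩
    · exact (mem_stabInf.1 z.2).1
    · exact (sl_smul_infty_eq_iff z.1).2 (mem_stabInf.1 z.2).2
    · intro y
      rfl
    · intro z
      rfl
  have hcard : Nat.card H = (Nat.card F + 1) * Nat.card (stabInf H) := by
    have h3 := card_stab_mul (G := H) (∞ : OnePoint F)
    rw [MulAction.orbit_eq_univ, Set.ncard_univ, card_line, hstab] at h3
    rw [← h3, mul_comm]
  have hκ : Nat.card F - 1 ≤ Nat.card (stabInf H) := by
    have h3 := card_ge H hidx
    rw [hcard] at h3
    exact Nat.le_of_mul_le_mul_left h3 (by omega)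
  have hj := relation (E := E) hE H htr h2 hcard
  have hfin' : Finite (Outer F E) := finite_outer
  have hX := card_outer_add (F := F) (E := E)
  have hd : dd F = 1 ∨ dd F = 2 := by
    rcases dd_cases (F := F) with h | h
    · exact Or.inl h.1
    · exact Or.inr h.1
  have := Fintype.ofFinite (MulAction.orbitRel.Quotient H (Outer F E))
  have hsum := sum_orbits (G := H) (X := Outer F E)
  have horb : ∀ o : MulAction.orbitRel.Quotient H (Outer F E), ∃ a s : ℕ,
      (MulAction.orbit H (Quotient.out o)).ncard = Nat.card (stabInf H) * a ∧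
      a * (dd F * s) = Nat.card F + 1 := fun o => orbit_card H hneg hcard _
  choose a s ha hs using horb
  rw [Finset.sum_congr rfl (fun o _ => ha o), ← Finset.mul_sum] at hsum
  have h1' : Nat.card (stabInf H) *
      (Nat.card (MulAction.orbitRel.Quotient H (Outer F E)) + 1) + dd F * u =
      2 * Nat.card (stabInf H) + Nat.card F * dd F := by
    rw [← hj, mul_comm (Nat.card (stabInf H))]
    exact h1
  have hqX : Nat.card (Outer F E) = Nat.card F * (Nat.card F - 1) := by
    rw [hE] at hX
    have : Nat.card F ^ 2 = Nat.card F * (Nat.card F - 1) + Nat.card F := by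
      obtain ⟨n, hn⟩ : ∃ n, Nat.card F = n + 1 := ⟨Nat.card F - 1, by omega⟩
      rw [hn, Nat.add_sub_cancel]
      ring
    omega
  rw [hqX] at hsum
  rcases MinIndexArith.two_cases (by omega) hd h1' hu0 hu1 hu2 hκ with
    ⟨hu3, hκ2, hk⟩ | ⟨hd2, hk, hκ2, hu3⟩
  · -- `u = 1`
    rw [hκ2] at hsum
    have hsum' : ∑ o, a o = Nat.card F := by
      have h4 : (Nat.card F - 1) * ∑ o, a o = (Nat.card F - 1) * Nat.card F := by
        rw [hsum, mul_comm]
      exact Nat.eq_of_mul_eq_mul_left (by omega) h4
    rcases dd_cases (F := F) with ⟨hd1, heven⟩ | ⟨hd1, hodd⟩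
    · left
      rw [hd1] at hk
      let e := Finite.equivFinOfCardEq hk
      rw [← e.symm.sum_comp, Fin.sum_univ_two] at hsum'
      have h5 := hs (e.symm 0)
      have h6 := hs (e.symm 1)
      rw [hd1, one_mul] at h5 h6
      exact MinIndexArith.arith_one (by omega) heven hsum' h5 h6
    · right; right
      refine ⟨hodd, ?_⟩
      rw [hd1] at hk
      let e := Finite.equivFinOfCardEq hk
      rw [← e.symm.sum_comp, Fin.sum_univ_three] at hsum'
      obtain ⟨m, hm⟩ := hodd
      have h5 : ∀ o, a o * s o = m + 1 := by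
        intro o
        have := hs o
        rw [hd1, hm] at this
        have h6 : 2 * (a o * s o) = 2 * (m + 1) := by linarith
        exact Nat.eq_of_mul_eq_mul_left (by norm_num) h6
      have h7 := MinIndexArith.arith_two (m := m + 1) (by omega)
        (by omega : a (e.symm 0) + a (e.symm 1) + a (e.symm 2) = 2 * (m + 1) - 1)
        (h5 _) (h5 _) (h5 _)
      omega
  · right; left
    have hodd : Odd (Nat.card F) := by
      rcases dd_cases (F := F) with ⟨hd1, heven⟩ | ⟨hd1, hodd⟩
      · omega
      · exact hodd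
    let e := Finite.equivFinOfCardEq hk
    rw [← e.symm.sum_comp, Fin.sum_univ_two, hκ2] at hsum
    obtain ⟨m, hm⟩ := hodd
    have h5 : ∀ o, a o * s o = m + 1 := by
      intro o
      have := hs o
      rw [hd2, hm] at this
      have h6 : 2 * (a o * s o) = 2 * (m + 1) := by linarith
      exact Nat.eq_of_mul_eq_mul_left (by norm_num) h6
    have hm' : Nat.card F = 2 * (m + 1) - 1 := by omega
    have h6 : Nat.card F - 1 = 2 * (m + 1) - 2 := by omega
    rw [h6, hm'] at hsum
    rw [hm'] at hu hu1
    have h7 := MinIndexArith.arith_three (m := m + 1) (by omega) hu hu3 hu1 hsum (h5 _) (h5 _)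
    omega

end Cfsg.Agent.ClassicalGeometry.MinIndexFinal
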