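import Mathlib

/-!
# Hilbert 90 and surjectivity of the norm for a non-identity involutive endomorphism of a field

`σ : F →+* F`, `σ ≠ id`, `σ ∘ σ = id`.
* `exists_div_eq_of_mul_eq_one`: Hilbert 90 (any field).
* `exists_mul_sigma_eq`: for `F` finite, every `a` with `σ a = a` is `x * σ x` (norm surjective).
* `exists_add_sigma_ne_zero`, `exists_add_sigma_eq`: the trace is nonzero / surjective onto
  the fixed field (any field).
-/

set_option autoImplicit false

namespace Cfsg.Agent.ClassicalGeometry.InvolutiveNorm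

variable {F : Type*} [Field F]

/-- A non-identity involutive `σ` moves some element. -/
theorem exists_sigma_ne {σ : F →+* F} (hσ : σ ≠ RingHom.id F) : ∃ c : F, σ c ≠ c := by
  by_contra h
  push Not at h
  exact hσ (RingHom.ext h)

/-- Some element has nonzero trace `c + σ c`. -/
theorem exists_add_sigma_ne_zero {σ : F →+* F} (hσ : σ ≠ RingHom.id F) :
    ∃ c : F, c + σ c ≠ 0 := by
  by_contra h
  push Not at h
  obtain ⟨c, hc⟩ := exists_sigma_ne hσ
  apply hc
  have h1 : (1 : F) + 1 = 0 := by simpa using h 1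
  have h2 := h c
  have h3 : c + c = 0 := by
    calc c + c = (1 + 1) * c := by ring
      _ = 0 := by rw [h1, zero_mul]
  exact add_left_cancel (h2.trans h3.symm)

/-- The trace `c + σ c` is onto the fixed field. -/
theorem exists_add_sigma_eq {σ : F →+* F} (hσ : σ ≠ RingHom.id F) (hσ2 : ∀ a : F, σ (σ a) = a)
    {a : F} (ha : σ a = a) : ∃ c : F, c + σ c = a := by
  obtain ⟨c, hc⟩ := exists_add_sigma_ne_zero hσ
  have h1 : σ (c + σ c) = c + σ c := by rw [map_add, hσ2, add_comm]
  refine ⟨a / (c + σ c) * c, ?_⟩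
  rw [map_mul, map_div₀, ha, h1, ← mul_add, div_mul_cancel₀ _ hc]

/-- Some linear combination `c + x * σ c` is nonzero. -/
theorem exists_add_mul_sigma_ne_zero {σ : F →+* F} (hσ : σ ≠ RingHom.id F) (x : F) :
    ∃ c : F, c + x * σ c ≠ 0 := by
  by_contra h
  push Not at h
  obtain ⟨c, hc⟩ := exists_sigma_ne hσ
  apply hc
  have h1 : x = -1 := by
    have := h 1
    rw [map_one, mul_one, add_comm] at this
    exact eq_neg_of_add_eq_zero_left this
  have h2 := h c
  rw [h1, neg_one_mul, ← sub_eq_add_neg, sub_eq_zero] at h2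
  exact h2.symm

/-- Hilbert 90 for an involution: `x * σ x = 1` implies `x = y / σ y` with `y ≠ 0`. -/
theorem exists_div_eq_of_mul_eq_one {σ : F →+* F} (hσ : σ ≠ RingHom.id F)
    (hσ2 : ∀ a : F, σ (σ a) = a) {x : F} (hx : x * σ x = 1) :
    ∃ y : F, y ≠ 0 ∧ x = y / σ y := by
  obtain ⟨c, hc⟩ := exists_add_mul_sigma_ne_zero hσ x
  refine ⟨c + x * σ c, hc, ?_⟩
  have h0 : σ (c + x * σ c) ≠ 0 := fun h => hc ((map_eq_zero σ).mp h)
  rw [eq_div_iff h0, map_add, map_mul, hσ2, mul_add, ← mul_assoc, hx, one_mul, add_comm]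

/-- The norm of an involution of a finite field is onto the fixed field. -/
theorem exists_mul_sigma_eq [Finite F] {σ : F →+* F} (hσ : σ ≠ RingHom.id F)
    (hσ2 : ∀ a : F, σ (σ a) = a) {a : F} (ha : σ a = a) : ∃ x : F, x * σ x = a := by
  rcases eq_or_ne a 0 with rfl | ha0
  · exact ⟨0, by simp⟩
  let s : Fˣ →* Fˣ := Units.map (σ : F →* F)
  have hs : ∀ u : Fˣ, ((s u : Fˣ) : F) = σ u := fun u => rfl
  let N : Fˣ →* Fˣ := MonoidHom.id Fˣ * s
  let T : Fˣ →* Fˣ := MonoidHom.id Fˣ / s
  have hN : ∀ u : Fˣ, N u = u * s u := fun u => rfl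
  have hT : ∀ u : Fˣ, T u = u / s u := fun u => rfl
  have hss : ∀ u : Fˣ, s (s u) = u := fun u => Units.ext (by rw [hs, hs, hσ2])
  have h1 : T.range = N.ker := by
    apply le_antisymm
    · rintro _ ⟨u, rfl⟩
      rw [MonoidHom.mem_ker, hN, hT, map_div, hss]
      simp
    · intro u hu
      rw [MonoidHom.mem_ker, hN] at hu
      have hu' : (u : F) * σ u = 1 := by
        have := congrArg (fun v : Fˣ => (v : F)) hu
        simpa [hs] using this
      obtain ⟨y, hy0, hy⟩ := exists_div_eq_of_mul_eq_one hσ hσ2 hu'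
      refine ⟨Units.mk0 y hy0, ?_⟩
      rw [hT]
      apply Units.ext
      rw [Units.val_div_eq_div_val, hs, Units.val_mk0, hy]
  have h2 : N.range ≤ T.ker := by
    rintro _ ⟨u, rfl⟩
    rw [MonoidHom.mem_ker, hT, hN, map_mul, hss, mul_comm (s u) u, div_self']
  have h3 : Nat.card T.range * Nat.card T.ker = Nat.card Fˣ := by
    rw [mul_comm, ← Subgroup.index_ker, Subgroup.card_mul_index]
  have h4 : Nat.card N.range * Nat.card N.ker = Nat.card Fˣ := by
    rw [mul_comm, ← Subgroup.index_ker, Subgroup.card_mul_index]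
  have h5 : Nat.card N.range = Nat.card T.ker := by
    rw [h1, mul_comm] at h3
    exact Nat.eq_of_mul_eq_mul_right Nat.card_pos (h4.trans h3.symm)
  have h6 : N.range = T.ker := Subgroup.eq_of_le_of_card_ge h2 h5.ge
  have h7 : Units.mk0 a ha0 ∈ T.ker := by
    rw [MonoidHom.mem_ker, hT, div_eq_one]
    apply Units.ext
    rw [hs, Units.val_mk0, ha]
  rw [← h6] at h7
  obtain ⟨x, hx⟩ := h7
  refine ⟨x, ?_⟩
  have := congrArg (fun v : Fˣ => (v : F)) hx
  simpa [hN, hs] using this

end Cfsg.Agent.ClassicalGeometry.InvolutiveNorm
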