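import Mathlib
import Cfsg.Agent.ClassicalGeometry.SympBasic

/-!
Siegel transformations of the symplectic group: for `f(e,w) = 0`,
`v ↦ v + f(w,v) e + f(e,v) (w + c e)`. The group `Q e` they form (the unipotent radical of the
stabiliser of the point `⟨e⟩`).
-/

set_option autoImplicit false
open Cfsg
open scoped Matrix
open Cfsg.Agent.ClassicalGeometry.SympBasic

namespace Cfsg.Agent.ClassicalGeometry.SympSiegel

variable {F : Type*} [Field F] {m : ℕ}

local notation "V" => (Fin m ⊕ Fin m → F)
local notation "G" => Matrix.symplecticGroup (Fin m) F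
local notation "f" => sympForm m F

theorem smul_def (g : G) (v : V) :
    g • v = (g : Matrix (Fin m ⊕ Fin m) (Fin m ⊕ Fin m) F) *ᵥ v := rfl

theorem form_smul (g : G) (u v : V) : f (g • u) (g • v) = f u v :=
  sympForm_mulVec g.2 u v

theorem smul_add' (g : G) (u v : V) : g • (u + v) = g • u + g • v := by
  simp only [smul_def, Matrix.mulVec_add]

theorem smul_sub' (g : G) (u v : V) : g • (u - v) = g • u - g • v := by
  simp only [smul_def, Matrix.mulVec_sub]

theorem smul_neg' (g : G) (u : V) : g • (-u) = -(g • u) := by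
  simp only [smul_def, Matrix.mulVec_neg]

theorem smul_smul' (g : G) (a : F) (u : V) : g • (a • u) = a • (g • u) := by
  simp only [smul_def, Matrix.mulVec_smul]

theorem smul_zero' (g : G) : g • (0 : V) = 0 := by
  simp only [smul_def, Matrix.mulVec_zero]

theorem smul_eq_zero_iff' (g : G) (u : V) : g • u = 0 ↔ u = 0 := by
  constructor
  · intro h
    have := congrArg (fun x => g⁻¹ • x) h
    simpa only [inv_smul_smul, smul_zero'] using this
  · rintro rfl
    exact smul_zero' g

theorem smul_ne_zero' (g : G) {u : V} (h : u ≠ 0) : g • u ≠ 0 :=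
  fun h' => h ((smul_eq_zero_iff' g u).1 h')

/-- Extensionality through the action on vectors. -/
theorem ext_smul {g h : G} (H : ∀ v : V, g • v = h • v) : g = h := by
  apply Subtype.ext
  rw [← Matrix.mulVec_injective.eq_iff]
  funext v
  exact H v

theorem form_smul_left (g : G) (u v : V) : f (g • u) v = f u (g⁻¹ • v) := by
  rw [← form_smul g u, smul_inv_smul]

/-- The symplectic matrix of a linear isometry. -/
def ofIso (T : V →ₗ[F] V) (h : ∀ u v, f (T u) (T v) = f u v) : G :=
  ⟨LinearMap.toMatrix' T, mem_symplecticGroup_iff.2 (fun u v => by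
    rw [LinearMap.toMatrix'_mulVec, LinearMap.toMatrix'_mulVec, h])⟩

@[simp] theorem ofIso_smul (T : V →ₗ[F] V) (h : ∀ u v, f (T u) (T v) = f u v) (v : V) :
    ofIso T h • v = T v := by
  rw [smul_def]
  exact LinearMap.toMatrix'_mulVec T v

theorem transv_smul (v x : V) (c : F) : transv v c • x = x + (c * f x v) • v := by
  rw [smul_def, coe_transv, sympTransvection_mulVec]

theorem transv_mul (v : V) (c d : F) : transv v c * transv v d = transv v (c + d) :=
  Subtype.ext (sympTransvection_mul v c d)

theorem transv_zero (v : V) : transv v (0 : F) = 1 :=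
  Subtype.ext (sympTransvection_zero v)

theorem transv_inv (v : V) (c : F) : (transv v c)⁻¹ = transv v (-c) := by
  rw [inv_eq_iff_mul_eq_one, transv_mul, add_neg_cancel, transv_zero]

theorem transv_pow (v : V) (c : F) (n : ℕ) : (transv v c) ^ n = transv v (n * c) := by
  induction n with
  | zero => simp [transv_zero]
  | succ n ih =>
    rw [pow_succ, ih, transv_mul]
    congr 1
    push_cast
    ring

theorem transv_smul_vec (v : V) (a c : F) : transv (a • v) c = transv v (a ^ 2 * c) :=
  Subtype.ext (sympTransvection_smul v a c)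

theorem conj_transv (g : G) (v : V) (c : F) : g * transv v c * g⁻¹ = transv (g • v) c := by
  apply ext_smul
  intro x
  rw [mul_smul, mul_smul, transv_smul, transv_smul, smul_add', smul_inv_smul, smul_smul']
  congr 3
  rw [← form_smul g, smul_inv_smul]

theorem exists_form_eq_one {e : V} (he : e ≠ 0) : ∃ v, f e v = 1 := by
  obtain ⟨a, ha⟩ : ∃ a, f e a ≠ 0 := by
    by_contra h
    push Not at h
    exact he (eq_zero_of_forall_sympForm_right h)
  exact ⟨(f e a)⁻¹ • a, by rw [sympForm_smul_right, inv_mul_cancel₀ ha]⟩

/-- The Siegel map as a linear map. -/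
def siegelLin (e w : V) (c : F) : V →ₗ[F] V :=
  LinearMap.id + (sympBilin m F w).smulRight e + (sympBilin m F e).smulRight (w + c • e)

theorem siegelLin_apply (e w : V) (c : F) (v : V) :
    siegelLin e w c v = v + f w v • e + f e v • (w + c • e) := rfl

theorem form_siegelLin {e w : V} (h : f e w = 0) (c : F) (u v : V) :
    f (siegelLin e w c u) (siegelLin e w c v) = f u v := by
  have h' : f w e = 0 := by rw [sympForm_swap, h, neg_zero]
  simp only [siegelLin_apply, sympForm_add_left, sympForm_add_right, sympForm_smul_left,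
    sympForm_smul_right, sympForm_self, h, h']
  rw [sympForm_swap u e, sympForm_swap u w]
  ring

open Classical in
/-- The Siegel transformation, an element of the symplectic group (`1` if `f(e,w) ≠ 0`). -/
noncomputable def siegel (e w : V) (c : F) : G :=
  if h : f e w = 0 then ofIso (siegelLin e w c) (form_siegelLin h c) else 1

theorem siegel_smul {e w : V} (h : f e w = 0) (c : F) (v : V) :
    siegel e w c • v = v + f w v • e + f e v • (w + c • e) := by
  rw [siegel, dif_pos h, ofIso_smul, siegelLin_apply]

theorem siegel_mul {e w w' : V} (h : f e w = 0) (h' : f e w' = 0) (c c' : F) :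
    siegel e w c * siegel e w' c' = siegel e (w + w') (c + c' + f w w') := by
  apply ext_smul
  intro v
  have hw : f w e = 0 := by rw [sympForm_swap, h, neg_zero]
  have hs : f e (w + w') = 0 := by rw [sympForm_add_right, h, h', add_zero]
  rw [mul_smul, siegel_smul h', siegel_smul h, siegel_smul hs]
  simp only [sympForm_add_left, sympForm_add_right, sympForm_smul_right, sympForm_self, h, h', hw]
  module

theorem siegel_zero_zero (e : V) : siegel e (0 : V) (0 : F) = 1 := by
  apply ext_smul
  intro v
  rw [siegel_smul (sympForm_zero_right e), one_smul]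
  simp

theorem form_eq_zero_comm {u v : V} : f u v = 0 ↔ f v u = 0 := by
  rw [sympForm_swap, neg_eq_zero]

theorem form_neg_eq_zero {e w : V} (h : f e w = 0) : f e (-w) = 0 := by
  rw [sympForm_neg_right, h, neg_zero]

theorem siegel_inv {e w : V} (h : f e w = 0) (c : F) :
    (siegel e w c)⁻¹ = siegel e (-w) (-c) := by
  rw [inv_eq_iff_mul_eq_one, siegel_mul h (form_neg_eq_zero h), add_neg_cancel, add_neg_cancel,
    sympForm_neg_right, sympForm_self, neg_zero, add_zero, siegel_zero_zero]

theorem conj_siegel (g : G) {e w : V} (h : f e w = 0) (c : F) :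
    g * siegel e w c * g⁻¹ = siegel (g • e) (g • w) c := by
  have h' : f (g • e) (g • w) = 0 := by rw [form_smul, h]
  apply ext_smul
  intro x
  rw [mul_smul, mul_smul, siegel_smul h, siegel_smul h', form_smul_left, form_smul_left]
  simp only [smul_add', smul_smul', smul_inv_smul]

theorem siegel_add_smul {e w : V} (h : f e w = 0) (a c : F) :
    siegel e (w + a • e) c = siegel e w (c + 2 * a) := by
  have h' : f e (w + a • e) = 0 := by
    rw [sympForm_add_right, h, sympForm_smul_right, sympForm_self, mul_zero, add_zero]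
  apply ext_smul
  intro x
  rw [siegel_smul h, siegel_smul h']
  simp only [sympForm_add_left, sympForm_smul_left]
  module

theorem siegel_smul_vec {e w : V} (h : f e w = 0) (a c : F) :
    siegel (a • e) w c = siegel e (a • w) (a ^ 2 * c) := by
  have h1 : f (a • e) w = 0 := by rw [sympForm_smul_left, h, mul_zero]
  have h2 : f e (a • w) = 0 := by rw [sympForm_smul_right, h, mul_zero]
  apply ext_smul
  intro x
  rw [siegel_smul h1, siegel_smul h2]
  simp only [sympForm_smul_left]
  module

theorem siegel_zero_eq_transv (e : V) (c : F) : siegel e (0 : V) c = transv e (-c) := by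
  apply ext_smul
  intro x
  rw [siegel_smul (sympForm_zero_right e), transv_smul, sympForm_zero_left, sympForm_swap e x]
  module

theorem siegel_smul_self_eq {e : V} (a c : F) : siegel e (a • e) c = transv e (-(c + 2 * a)) := by
  have := siegel_add_smul (sympForm_zero_right e) a c
  rw [zero_add] at this
  rw [this, siegel_zero_eq_transv]

/-- When two Siegel elements with the same `e` coincide. -/
theorem siegel_eq_siegel {e w w' : V} (he : e ≠ 0) (h : f e w = 0) (h' : f e w' = 0) {c c' : F}
    (H : siegel e w c = siegel e w' c') : ∃ a : F, w = w' + a • e ∧ c + 2 * a = c' := by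
  obtain ⟨v, hv⟩ := exists_form_eq_one he
  have h1 := congrArg (fun g : G => g • v) H
  simp only [siegel_smul h, siegel_smul h', hv, one_smul] at h1
  have h2 : w - w' = (f w' v + c' - f w v - c) • e := by
    have : w - w' = (v + f w v • e + (w + c • e)) - (v + f w v • e + c • e + w') := by abel
    rw [this, h1]
    module
  have h3 : f w v - f w' v = f w' v + c' - f w v - c := by
    have := congrArg (fun x => f x v) h2
    simp only [sympForm_sub_left, sympForm_smul_left, hv, mul_one] at this
    exact this
  refine ⟨f w' v + c' - f w v - c, ?_, ?_⟩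
  · rw [← h2]; abel
  · linear_combination -h3

/-- Uniqueness of the parameters when `w` is orthogonal to a fixed `e'` with `f(e,e') = 1`. -/
theorem siegel_inj {e e' w w' : V} (hee : f e e' = 1) (h : f e w = 0) (h' : f e w' = 0)
    (hw : f w e' = 0) (hw' : f w' e' = 0) {c c' : F}
    (H : siegel e w c = siegel e w' c') : w = w' ∧ c = c' := by
  have he : e ≠ 0 := by
    rintro rfl
    rw [sympForm_zero_left] at hee
    exact zero_ne_one hee
  obtain ⟨a, ha, hc⟩ := siegel_eq_siegel he h h' H
  have : a = 0 := by
    have := congrArg (fun x => f x e') ha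
    simp only [sympForm_add_left, sympForm_smul_left, hee, hw, hw', mul_one, zero_add] at this
    exact this.symm
  subst this
  refine ⟨by simpa using ha, by simpa using hc⟩

/-- The unipotent radical of the stabiliser of the point `⟨e⟩`. -/
def Q (e : V) : Subgroup G where
  carrier := {g | ∃ (w : V) (c : F), f e w = 0 ∧ g = siegel e w c}
  mul_mem' := by
    rintro _ _ ⟨w, c, h, rfl⟩ ⟨w', c', h', rfl⟩
    exact ⟨_, _, by rw [sympForm_add_right, h, h', add_zero], siegel_mul h h' c c'⟩
  one_mem' := ⟨0, 0, sympForm_zero_right e, (siegel_zero_zero e).symm⟩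
  inv_mem' := by
    rintro _ ⟨w, c, h, rfl⟩
    exact ⟨_, _, form_neg_eq_zero h, siegel_inv h c⟩

theorem mem_Q {e : V} {g : G} : g ∈ Q e ↔ ∃ (w : V) (c : F), f e w = 0 ∧ g = siegel e w c :=
  Iff.rfl

theorem siegel_mem_Q {e w : V} (h : f e w = 0) (c : F) : siegel e w c ∈ Q e := ⟨w, c, h, rfl⟩

theorem transv_mem_Q (e : V) (c : F) : transv e c ∈ Q e :=
  ⟨0, -c, sympForm_zero_right e, by rw [siegel_zero_eq_transv, neg_neg]⟩

theorem siegel_pow {e w : V} (h : f e w = 0) (c : F) (n : ℕ) :
    siegel e w c ^ n = siegel e ((n : F) • w) ((n : F) * c) := by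
  induction n with
  | zero => simp [siegel_zero_zero]
  | succ n ih =>
    have h' : f e ((n : F) • w) = 0 := by rw [sympForm_smul_right, h, mul_zero]
    rw [pow_succ, ih, siegel_mul h' h, sympForm_smul_left, sympForm_self, mul_zero, add_zero]
    congr 1
    · push_cast; rw [add_smul, one_smul]
    · push_cast; ring

theorem pow_char_eq_one_of_mem_Q {p : ℕ} [CharP F p] {e : V} {g : G} (hg : g ∈ Q e) :
    g ^ p = 1 := by
  obtain ⟨w, c, h, rfl⟩ := hg
  rw [siegel_pow h, CharP.cast_eq_zero F p, zero_smul, zero_mul, siegel_zero_zero]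

theorem isPGroup_Q (p : ℕ) [Fact p.Prime] [CharP F p] (e : V) : IsPGroup p (Q e) := by
  intro g
  refine ⟨1, Subtype.ext ?_⟩
  rw [pow_one]
  exact pow_char_eq_one_of_mem_Q g.2

theorem smul_mem_Q_iff (g : G) (e : V) (x : G) : g * x * g⁻¹ ∈ Q (g • e) ↔ x ∈ Q e := by
  have key : ∀ (g : G) (e : V) (x : G), x ∈ Q e → g * x * g⁻¹ ∈ Q (g • e) := by
    rintro g e _ ⟨w, c, h, rfl⟩
    exact ⟨g • w, c, by rw [form_smul, h], conj_siegel g h c⟩
  refine ⟨fun h => ?_, key g e x⟩
  have := key g⁻¹ _ _ h
  rw [inv_smul_smul] at this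
  convert this using 1
  group

theorem smul_siegel_self {e w : V} (h : f e w = 0) (c : F) : siegel e w c • e = e := by
  rw [siegel_smul h, sympForm_self, zero_smul, add_zero, form_eq_zero_comm.1 h, zero_smul,
    add_zero]

theorem smul_eq_self_of_mem_Q {e : V} {g : G} (hg : g ∈ Q e) : g • e = e := by
  obtain ⟨w, c, h, rfl⟩ := hg
  exact smul_siegel_self h c

/-- Two elements of `G` agreeing on `e^⊥` and on one vector not in `e^⊥` coincide. -/
theorem ext_of_perp {e v₀ : V} (hv₀ : f e v₀ = 1) {g h : G}
    (H : ∀ v, f e v = 0 → g • v = h • v) (H₀ : g • v₀ = h • v₀) : g = h := by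
  apply ext_smul
  intro v
  have hv : f e (v - f e v • v₀) = 0 := by
    rw [sympForm_sub_right, sympForm_smul_right, hv₀, mul_one, sub_self]
  have h1 := H _ hv
  have : v = (v - f e v • v₀) + f e v • v₀ := by abel
  rw [this, smul_add', smul_add', h1, smul_smul', smul_smul', H₀]

/-- Characterisation of `Q e`: fix `e`, and act trivially on `e^⊥/⟨e⟩`. -/
theorem mem_Q_iff {e : V} (he : e ≠ 0) {g : G} :
    g ∈ Q e ↔ g • e = e ∧ ∀ v, f e v = 0 → ∃ a : F, g • v = v + a • e := by
  constructor
  · rintro ⟨w, c, h, rfl⟩
    refine ⟨smul_siegel_self h c, fun v hv => ⟨f w v, ?_⟩⟩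
    rw [siegel_smul h, hv, zero_smul, add_zero]
  · rintro ⟨h1, h2⟩
    obtain ⟨v₀, hv₀⟩ := exists_form_eq_one he
    obtain ⟨w, hgv⟩ : ∃ w : V, g • v₀ = v₀ + w := ⟨g • v₀ - v₀, by abel⟩
    have hew : f e w = 0 := by
      have := form_smul g e v₀
      rw [h1, hgv, sympForm_add_right, hv₀] at this
      linear_combination this
    refine ⟨w, - f w v₀, hew, ?_⟩
    apply ext_of_perp hv₀
    · intro v hv
      obtain ⟨a, ha⟩ := h2 v hv
      rw [siegel_smul hew, hv, zero_smul, add_zero, ha]
      congr 2
      have := form_smul g v v₀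
      rw [ha, hgv, sympForm_add_left, sympForm_add_right, sympForm_add_right, sympForm_smul_left,
        sympForm_smul_left, hv₀, hew, sympForm_swap v w] at this
      linear_combination this
    · rw [siegel_smul hew, hv₀, one_smul, hgv]
      module

end Cfsg.Agent.ClassicalGeometry.SympSiegel
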