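import Mathlib
import Cfsg.Agent.ClassicalGeometry.SympSiegel
import Cfsg.Agent.ClassicalGeometry.SympAutSemi
import Cfsg.Agent.LieClassical.SympCenter

/-!
An automorphism of `PSp_2m(q)`, `m ≥ 2`, which maps (images of) transvections to transvections is
induced by a semisimilitude.
-/

set_option autoImplicit false
open Cfsg
open scoped Matrix

namespace Cfsg.Agent.ClassicalGeometry.SympAutExists

open Cfsg.Agent.ClassicalGeometry.SympBasic
open Cfsg.Agent.ClassicalGeometry.SympSiegel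
open Cfsg.Agent.ClassicalGeometry.SympAutSemi

variable {F : Type*} [Field F] {m : ℕ}

local notation "V" => (Fin m ⊕ Fin m → F)
local notation "G" => Matrix.symplecticGroup (Fin m) F
local notation "f" => sympForm m F

/-- The projection to `PSp`. -/
def pr (g : G) : PSp m F := QuotientGroup.mk g

theorem pr_mul (g h : G) : pr (g * h) = pr g * pr h := rfl

theorem pr_inv (g : G) : pr (g⁻¹) = (pr g)⁻¹ := rfl

theorem pr_one : pr (1 : G) = 1 := rfl

theorem pr_pow (g : G) (n : ℕ) : pr (g ^ n) = (pr g) ^ n := rfl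

theorem pr_surj (x : PSp m F) : ∃ g : G, pr g = x := QuotientGroup.mk_surjective x

theorem pr_eq_iff {g h : G} : pr g = pr h ↔ g⁻¹ * h ∈ Subgroup.center G := QuotientGroup.eq

/-! ### The centre -/

theorem smul_of_mem_center {z : G} (hz : z ∈ Subgroup.center G) :
    ∃ a : F, ∀ v : V, z • v = a • v := by
  obtain ⟨a, ha⟩ := (Cfsg.Agent.LieClassical.SympCenter.mem_center_iff m z).1 hz
  refine ⟨a, fun v => ?_⟩
  rw [smul_def, ha, Matrix.smul_mulVec, Matrix.one_mulVec]

theorem mem_center_of_smul {z : G} (h : ∀ v : V, ∃ a : F, z • v = a • v) :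
    z ∈ Subgroup.center G :=
  Cfsg.Agent.LieClassical.SympSimple.mem_center_of_forall h

theorem exists_hyperbolic (hm : 1 ≤ m) : ∃ e e' : V, f e e' = 1 := by
  refine ⟨Pi.single (Sum.inr ⟨0, hm⟩) 1, Pi.single (Sum.inl ⟨0, hm⟩) 1, ?_⟩
  rw [sympForm_single_inr_left, Pi.single_eq_same]

theorem ne_zero_of_form_left {u v : V} (h : f u v ≠ 0) : u ≠ 0 := by
  rintro rfl
  exact h (sympForm_zero_left v)

theorem ne_zero_of_form_right {u v : V} (h : f u v ≠ 0) : v ≠ 0 := by
  rintro rfl
  exact h (sympForm_zero_right u)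

theorem smul_right_cancel_vec {v : V} (hv : v ≠ 0) {a b : F} (h : a • v = b • v) : a = b := by
  obtain ⟨w, hw⟩ := exists_form_eq_one hv
  have := congrArg (fun x => f x w) h
  simpa only [sympForm_smul_left, hw, mul_one] using this

theorem sq_eq_one_of_center (hm : 1 ≤ m) {z : G} {a : F} (h : ∀ v : V, z • v = a • v) :
    a * a = 1 := by
  obtain ⟨e, e', hee⟩ := exists_hyperbolic (F := F) hm
  have := form_smul z e e'
  rw [h, h, sympForm_smul_left, sympForm_smul_right, hee, mul_one] at this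
  exact this

theorem pow_smul_of_smul {z : G} {a : F} {v : V} (h : z • v = a • v) (n : ℕ) :
    z ^ n • v = a ^ n • v := by
  induction n with
  | zero => simp
  | succ n ih => rw [pow_succ', mul_smul, ih, smul_smul', h, smul_smul, pow_succ]

theorem eq_one_of_pow_char {p : ℕ} [Fact p.Prime] [CharP F p] {a : F} (h : a ^ p = 1) : a = 1 := by
  have h1 : (a - 1) ^ p = 0 := by rw [sub_pow_char, h, one_pow, sub_self]
  rw [← sub_eq_zero]
  exact pow_eq_zero_iff (Fact.out : p.Prime).ne_zero |>.1 h1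

section Lift

variable (p : ℕ) [Fact p.Prime] [CharP F p]

include p in
/-- Elements of order `p` are determined by their image in `PSp`. -/
theorem eq_of_pr_eq (hm : 1 ≤ m) {g h : G} (hg : g ^ p = 1) (hh : h ^ p = 1)
    (H : pr g = pr h) : g = h := by
  have hz := pr_eq_iff.1 H
  have hcomm : Commute g (g⁻¹ * h) := (Subgroup.mem_center_iff.1 hz g)
  have h1 : (g⁻¹ * h) ^ p = 1 := by
    have h2 : (g * (g⁻¹ * h)) ^ p = 1 := by rw [mul_inv_cancel_left, hh]
    rwa [hcomm.mul_pow, hg, one_mul] at h2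
  obtain ⟨a, ha⟩ := smul_of_mem_center hz
  obtain ⟨e, e', hee⟩ := exists_hyperbolic (F := F) hm
  have he : e ≠ 0 := ne_zero_of_form_left (by rw [hee]; exact one_ne_zero)
  have h3 := pow_smul_of_smul (ha e) p
  rw [h1, one_smul] at h3
  have h4 : a ^ p = 1 := smul_right_cancel_vec he (by rw [one_smul]; exact h3.symm)
  have h5 : a = 1 := eq_one_of_pow_char h4
  have h6 : g⁻¹ * h = 1 := by
    apply ext_smul
    intro v
    rw [ha, h5, one_smul, one_smul]
  exact (inv_mul_eq_one.1 h6)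

include p in
/-- Elements of order `p` of `PSp` lift to elements of order `p`. -/
theorem exists_lift (hm : 1 ≤ m) {x : PSp m F} (hx : x ^ p = 1) :
    ∃ h : G, pr h = x ∧ h ^ p = 1 := by
  obtain ⟨h₀, rfl⟩ := pr_surj x
  have hz : h₀ ^ p ∈ Subgroup.center G := by
    have : pr (1 : G) = pr (h₀ ^ p) := by rw [pr_pow, hx, pr_one]
    have := pr_eq_iff.1 this
    rwa [inv_one, one_mul] at this
  obtain ⟨a, ha⟩ := smul_of_mem_center hz
  have haa := sq_eq_one_of_center hm ha
  have hzz : h₀ ^ p * h₀ ^ p = 1 := by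
    apply ext_smul
    intro v
    rw [mul_smul, ha, ha, smul_smul, haa, one_smul, one_smul]
  refine ⟨h₀ * h₀ ^ p, ?_, ?_⟩
  · rw [pr_mul, pr_pow, hx, mul_one]
  · have h1 : (h₀ * h₀ ^ p) ^ p = h₀ ^ p * (h₀ ^ p) ^ p := (Commute.self_pow h₀ p).mul_pow p
    rw [h1, ← pow_succ']
    rcases (Fact.out : p.Prime).eq_two_or_odd' with h2 | h2
    · have hz1 : h₀ ^ p = 1 := by
        have ha1 : a = 1 := by
          apply eq_one_of_pow_char (p := p)
          rw [h2, pow_two]
          exact haa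
        apply ext_smul
        intro v
        rw [ha, ha1, one_smul, one_smul]
      rw [hz1, one_pow]
    · obtain ⟨k, hk⟩ := h2
      have : p + 1 = 2 * (k + 1) := by omega
      rw [this, pow_mul, pow_two, hzz, one_pow]

end Lift

/-! ### Transvections -/

theorem transv_ne_one {v : V} (hv : v ≠ 0) {c : F} (hc : c ≠ 0) : transv v c ≠ 1 := by
  intro h
  obtain ⟨w, hw⟩ := exists_form_eq_one hv
  have h1 := congrArg (fun g : G => g • w) h
  simp only [transv_smul, one_smul] at h1
  rw [sympForm_swap, hw] at h1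
  have h2 : (c * -1) • v = 0 := by
    have := sub_eq_zero.2 h1
    rwa [add_sub_cancel_left] at this
  rcases smul_eq_zero.1 h2 with h3 | h3
  · apply hc
    simpa using h3
  · exact hv h3

theorem transv_eq_transv {v w : V} (hv : v ≠ 0) {c d : F} (hc : c ≠ 0)
    (H : transv v c = transv w d) : ∃ a : F, w = a • v := by
  obtain ⟨x, hx⟩ := exists_form_eq_one hv
  have h1 := congrArg (fun g : G => g • x) H
  simp only [transv_smul, add_right_inj] at h1
  rw [sympForm_swap x v, hx, mul_neg, mul_one] at h1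
  by_cases h2 : d * f x w = 0
  · exfalso
    rw [h2, zero_smul] at h1
    rcases smul_eq_zero.1 h1 with h3 | h3
    · exact hc (neg_eq_zero.1 h3)
    · exact hv h3
  · refine ⟨(d * f x w)⁻¹ * (-c), ?_⟩
    rw [mul_smul, h1, smul_smul, inv_mul_cancel₀ h2, one_smul]

theorem transv_pow_char (p : ℕ) [CharP F p] (v : V) (c : F) : transv v c ^ p = 1 := by
  rw [transv_pow, CharP.cast_eq_zero, zero_mul, transv_zero]

theorem conj_transv_eq (g : G) (v : V) (c : F) :
    pr g * pr (transv v c) * (pr g)⁻¹ = pr (transv (g • v) c) := by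
  rw [← pr_inv, ← pr_mul, ← pr_mul, conj_transv]

theorem commute_iff (p : ℕ) [Fact p.Prime] [CharP F p] (hm : 1 ≤ m) {v w : V} {c d : F}
    (hc : c ≠ 0) (hd : d ≠ 0) :
    pr (transv v c) * pr (transv w d) = pr (transv w d) * pr (transv v c) ↔ f v w = 0 := by
  constructor
  · intro h
    by_contra hne
    have hw : w ≠ 0 := ne_zero_of_form_right hne
    have h1 : pr (transv (transv v c • w) d) = pr (transv w d) := by
      rw [← conj_transv_eq, h, mul_inv_cancel_right]
    have h2 := eq_of_pr_eq p hm (transv_pow_char p _ _) (transv_pow_char p _ _) h1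
    obtain ⟨a, ha⟩ := transv_eq_transv hw hd h2.symm
    have h3 := congrArg (fun x => f x w) ha
    simp only [transv_smul, sympForm_add_left, sympForm_smul_left, sympForm_self, mul_zero,
      zero_add] at h3
    have h4 : f w v ≠ 0 := by rw [sympForm_swap]; exact neg_ne_zero.2 hne
    exact (mul_ne_zero (mul_ne_zero hc h4) hne) h3
  · intro h
    have h1 : transv v c • w = w := by
      rw [transv_smul, form_eq_zero_comm.1 h, mul_zero, zero_smul, add_zero]
    have h2 := conj_transv_eq (transv v c) w d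
    rw [h1] at h2
    exact mul_inv_eq_iff_eq_mul.1 h2

/-! ### Perpendicularity -/

theorem smul_of_perp {v w : V} (hv : v ≠ 0) (h : ∀ x, f v x = 0 → f w x = 0) :
    ∃ a : F, w = a • v := by
  by_contra hcon
  push Not at hcon
  obtain ⟨x, h1, h2⟩ := Cfsg.Agent.LieClassical.SympSimple.exists_perp_of_not_smul hv hcon
  exact h2 (h x h1)

theorem span_of_perp {e v x : V} (he : e ≠ 0) (hv : ∀ a : F, v ≠ a • e)
    (h : ∀ w, f v w = 0 → f e w = 0 → f x w = 0) : ∃ a b : F, x = a • v + b • e := by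
  have hv0 : v ≠ 0 := by
    rintro rfl
    exact hv 0 (zero_smul _ _).symm
  have he' : ∀ a : F, e ≠ a • v := by
    intro a ha
    have ha0 : a ≠ 0 := by
      rintro rfl
      rw [zero_smul] at ha
      exact he ha
    apply hv a⁻¹
    rw [ha, smul_smul, inv_mul_cancel₀ ha0, one_smul]
  obtain ⟨y, hy1, hy2⟩ := Cfsg.Agent.LieClassical.SympSimple.exists_perp_of_not_smul he hv
  obtain ⟨z, hz1, hz2⟩ := Cfsg.Agent.LieClassical.SympSimple.exists_perp_of_not_smul hv0 he'
  refine ⟨f x y * (f v y)⁻¹, f x z * (f e z)⁻¹, ?_⟩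
  apply eq_of_forall_sympForm_right
  intro w
  have h1 := h (w - (f v w * (f v y)⁻¹) • y - (f e w * (f e z)⁻¹) • z) ?_ ?_
  · rw [sympForm_sub_right, sympForm_sub_right, sympForm_smul_right, sympForm_smul_right] at h1
    rw [sympForm_add_left, sympForm_smul_left, sympForm_smul_left]
    linear_combination h1
  · rw [sympForm_sub_right, sympForm_sub_right, sympForm_smul_right, sympForm_smul_right, hz1]
    field_simp
    ring
  · rw [sympForm_sub_right, sympForm_sub_right, sympForm_smul_right, sympForm_smul_right, hy1]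
    field_simp
    ring

/-! ### Automorphisms preserving transvections -/

/-- `α` maps images of transvections to images of transvections. -/
def Pres (α : MulAut (PSp m F)) : Prop :=
  ∀ v : V, v ≠ 0 → ∀ c : F, c ≠ 0 → ∃ v' : V, v' ≠ 0 ∧ ∃ c' : F, c' ≠ 0 ∧
    α (pr (transv v c)) = pr (transv v' c')

theorem Pres.inv [Finite F] {α : MulAut (PSp m F)} (h : Pres α) : Pres α⁻¹ := by
  set T : Set (PSp m F) := {x | ∃ v : V, v ≠ 0 ∧ ∃ c : F, c ≠ 0 ∧ x = pr (transv v c)} with hT
  have h1 : α '' T ⊆ T := by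
    rintro _ ⟨x, ⟨v, hv, c, hc, rfl⟩, rfl⟩
    obtain ⟨v', hv', c', hc', h2⟩ := h v hv c hc
    exact ⟨v', hv', c', hc', h2⟩
  have hfin : Finite (PSp m F) := by
    have : Finite G := Subtype.finite
    exact Quotient.finite _
  have h2 : α '' T = T :=
    Set.eq_of_subset_of_ncard_le h1 (Set.ncard_image_of_injective T α.injective).ge
      (Set.toFinite _)
  intro v hv c hc
  have h3 : pr (transv v c) ∈ α '' T := by
    rw [h2]
    exact ⟨v, hv, c, hc, rfl⟩
  obtain ⟨_, ⟨v', hv', c', hc', rfl⟩, h4⟩ := h3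
  refine ⟨v', hv', c', hc', ?_⟩
  rw [← h4]
  exact MulAut.inv_apply_self _ α _

theorem Pres.mul {α β : MulAut (PSp m F)} (hα : Pres α) (hβ : Pres β) : Pres (α * β) := by
  intro v hv c hc
  obtain ⟨v', hv', c', hc', h1⟩ := hβ v hv c hc
  obtain ⟨v'', hv'', c'', hc'', h2⟩ := hα v' hv' c' hc'
  exact ⟨v'', hv'', c'', hc'', by rw [MulAut.mul_apply, h1, h2]⟩

/-- `α` maps the transvection group with centre `v` into that with centre `v'`. -/
def Maps (α : MulAut (PSp m F)) (v v' : V) : Prop :=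
  v' ≠ 0 ∧ ∀ c : F, ∃ c' : F, α (pr (transv v c)) = pr (transv v' c')

theorem transv_smul_vec' (v : V) {a : F} (ha : a ≠ 0) (c : F) :
    transv v c = transv (a • v) ((a ^ 2)⁻¹ * c) := by
  rw [transv_smul_vec, ← mul_assoc, mul_inv_cancel₀ (pow_ne_zero 2 ha), one_mul]

theorem Maps.smul_right {α : MulAut (PSp m F)} {v v' : V} (h : Maps α v v') {a : F} (ha : a ≠ 0) :
    Maps α v (a • v') := by
  refine ⟨smul_ne_zero ha h.1, fun c => ?_⟩
  obtain ⟨c', hc'⟩ := h.2 c
  exact ⟨(a ^ 2)⁻¹ * c', by rw [hc', ← transv_smul_vec' v' ha]⟩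

theorem Maps.smul_left {α : MulAut (PSp m F)} {v v' : V} (h : Maps α v v') (a : F) :
    Maps α (a • v) v' := by
  refine ⟨h.1, fun c => ?_⟩
  obtain ⟨c', hc'⟩ := h.2 (a ^ 2 * c)
  exact ⟨c', by rw [transv_smul_vec, hc']⟩

theorem Maps.conj {α : MulAut (PSp m F)} {v v' : V} (h : Maps α v v') {g k : G}
    (hgk : α (pr g) = pr k) : Maps α (g • v) (k • v') := by
  refine ⟨smul_ne_zero' k h.1, fun c => ?_⟩
  obtain ⟨c', hc'⟩ := h.2 c
  refine ⟨c', ?_⟩
  rw [← conj_transv_eq, map_mul, map_mul, map_inv, hgk, hc', conj_transv_eq]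

theorem Maps.comp {α β : MulAut (PSp m F)} {u v w : V} (h1 : Maps β u v) (h2 : Maps α v w) :
    Maps (α * β) u w := by
  refine ⟨h2.1, fun c => ?_⟩
  obtain ⟨c', hc'⟩ := h1.2 c
  obtain ⟨c'', hc''⟩ := h2.2 c'
  exact ⟨c'', by rw [MulAut.mul_apply, hc', hc'']⟩

section Main

variable (p : ℕ) [Fact p.Prime] [CharP F p] (hm : 1 ≤ m)

include p hm in
theorem pr_transv_ne_one {v : V} (hv : v ≠ 0) {c : F} (hc : c ≠ 0) :
    pr (transv v c) ≠ 1 := by
  intro h
  have h1 := eq_of_pr_eq p hm (transv_pow_char p v c) (one_pow p) (h.trans pr_one.symm)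
  exact transv_ne_one hv hc h1

include p hm in
theorem Maps.ne_zero {α : MulAut (PSp m F)} {v v' : V} (hv : v ≠ 0) {c c' : F} (hc : c ≠ 0)
    (h : α (pr (transv v c)) = pr (transv v' c')) : c' ≠ 0 := by
  rintro rfl
  rw [transv_zero, pr_one, map_eq_one_iff α α.injective] at h
  exact pr_transv_ne_one p hm hv hc h

include p hm in
theorem Maps.perp_iff {α : MulAut (PSp m F)} {v v' w w' : V} (hv : v ≠ 0) (hw : w ≠ 0)
    (h1 : Maps α v v') (h2 : Maps α w w') : f v w = 0 ↔ f v' w' = 0 := by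
  obtain ⟨c, hc⟩ := h1.2 1
  obtain ⟨d, hd⟩ := h2.2 1
  have hc0 := Maps.ne_zero p hm hv one_ne_zero hc
  have hd0 := Maps.ne_zero p hm hw one_ne_zero hd
  rw [← commute_iff p hm (v := v') (w := w') hc0 hd0,
    ← commute_iff p hm (v := v) (w := w) (one_ne_zero (α := F)) (one_ne_zero (α := F)),
    ← hc, ← hd, ← map_mul, ← map_mul, α.injective.eq_iff]

include p hm in
theorem Maps.unique {α : MulAut (PSp m F)} {v v' v'' : V} (hv : v ≠ 0)
    (h1 : Maps α v v') (h2 : Maps α v v'') : ∃ a : F, v'' = a • v' := by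
  obtain ⟨c, hc⟩ := h1.2 1
  obtain ⟨d, hd⟩ := h2.2 1
  have hc0 := Maps.ne_zero p hm hv one_ne_zero hc
  have h3 := eq_of_pr_eq p hm (transv_pow_char p _ _) (transv_pow_char p _ _) (hc.symm.trans hd)
  exact transv_eq_transv h1.1 hc0 h3

include p hm in
theorem Pres.exists_maps [Finite F] {α : MulAut (PSp m F)} (hα : Pres α) {v : V} (hv : v ≠ 0) :
    ∃ v' : V, Maps α v v' := by
  obtain ⟨v', hv', c₁, hc₁, h1⟩ := hα v hv 1 one_ne_zero
  refine ⟨v', hv', fun c => ?_⟩
  by_cases hc : c = 0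
  · exact ⟨0, by rw [hc, transv_zero, transv_zero, pr_one, map_one]⟩
  obtain ⟨v'', hv'', c₂, hc₂, h2⟩ := hα v hv c hc
  obtain ⟨a, ha⟩ : ∃ a : F, v'' = a • v' := by
    apply smul_of_perp hv'
    intro w hw
    by_cases hw0 : w = 0
    · rw [hw0, sympForm_zero_right]
    obtain ⟨u, hu, d, hd, h3⟩ := hα.inv w hw0 1 one_ne_zero
    have h4 : α (pr (transv u d)) = pr (transv w 1) := by
      rw [← h3]
      exact MulAut.apply_inv_self _ α _
    have h5 : f v u = 0 := by
      rw [← commute_iff p hm (one_ne_zero (α := F)) hd, ← α.injective.eq_iff, map_mul, map_mul,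
        h1, h4, commute_iff p hm hc₁ one_ne_zero]
      exact hw
    rw [← commute_iff p hm hc hd, ← α.injective.eq_iff, map_mul, map_mul, h2, h4,
      commute_iff p hm hc₂ one_ne_zero] at h5
    exact h5
  exact ⟨a ^ 2 * c₂, by rw [h2, ha, transv_smul_vec]⟩

include p hm in
theorem Maps.inv [Finite F] {α : MulAut (PSp m F)} (hα : Pres α) {v v' : V} (hv : v ≠ 0)
    (h : Maps α v v') : Maps α⁻¹ v' v := by
  obtain ⟨u, hu⟩ := hα.inv.exists_maps p hm h.1
  obtain ⟨c, hc⟩ := h.2 1
  have hc0 := Maps.ne_zero p hm hv one_ne_zero hc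
  obtain ⟨d, hd⟩ := hu.2 c
  have h1 : pr (transv v 1) = pr (transv u d) := by
    rw [← hd, ← hc]
    exact (MulAut.inv_apply_self _ α _).symm
  have h2 := eq_of_pr_eq p hm (transv_pow_char p _ _) (transv_pow_char p _ _) h1
  obtain ⟨a, ha⟩ := transv_eq_transv hv one_ne_zero h2
  have ha0 : a ≠ 0 := by
    rintro rfl
    rw [zero_smul] at ha
    exact hu.1 ha
  have h3 := hu.smul_right (inv_ne_zero ha0)
  rwa [ha, smul_smul, inv_mul_cancel₀ ha0, one_smul] at h3

include p hm in
theorem Pres.exists_maps' [Finite F] {α : MulAut (PSp m F)} (hα : Pres α) {v : V} (hv : v ≠ 0) :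
    ∃ v₀ : V, v₀ ≠ 0 ∧ Maps α v₀ v := by
  obtain ⟨v₀, h⟩ := hα.inv.exists_maps p hm hv
  have h1 := Maps.inv p hm hα.inv hv h
  rw [inv_inv] at h1
  exact ⟨v₀, h.1, h1⟩

include p hm in
/-- `α` maps `Q e` to `Q e` if it fixes the point `⟨e⟩`. -/
theorem exists_mem_Q [Finite F] {α : MulAut (PSp m F)} (hα : Pres α) {e : V} (he : e ≠ 0)
    (hαe : Maps α e e) {u : G} (hu : u ∈ Q e) : ∃ h ∈ Q e, α (pr u) = pr h := by
  have hup : (α (pr u)) ^ p = 1 := by
    rw [← map_pow, ← pr_pow, pow_char_eq_one_of_mem_Q hu, pr_one, map_one]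
  obtain ⟨h, hh, hp⟩ := exists_lift p hm hup
  refine ⟨h, ?_, hh.symm⟩
  have hhe : h • e = e := by
    have h1 := hαe.conj hh.symm
    rw [smul_eq_self_of_mem_Q hu] at h1
    obtain ⟨a, ha⟩ := Maps.unique p hm he hαe h1
    have h2 := pow_smul_of_smul ha p
    rw [hp, one_smul] at h2
    have h3 : a ^ p = 1 := smul_right_cancel_vec he (by rw [one_smul]; exact h2.symm)
    rw [ha, eq_one_of_pow_char h3, one_smul]
  rw [mem_Q_iff he]
  refine ⟨hhe, fun v hv => ?_⟩
  by_cases hve : ∃ b : F, v = b • e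
  · obtain ⟨b, rfl⟩ := hve
    exact ⟨0, by rw [smul_smul', hhe, zero_smul, add_zero]⟩
  push Not at hve
  have hv0 : v ≠ 0 := by
    rintro rfl
    exact hve 0 (zero_smul _ _).symm
  obtain ⟨v₀, hv₀, hm0⟩ := hα.exists_maps' p hm hv0
  have hev₀ : f e v₀ = 0 := (Maps.perp_iff p hm he hv₀ hαe hm0).2 hv
  obtain ⟨a₀, ha₀⟩ := ((mem_Q_iff he).1 hu).2 v₀ hev₀
  have hmy := hm0.conj hh.symm
  obtain ⟨a, b, hab⟩ : ∃ a b : F, h • v = a • v + b • e := by
    apply span_of_perp he hve
    intro w hw1 hw2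
    by_cases hw0 : w = 0
    · rw [hw0, sympForm_zero_right]
    obtain ⟨w₀, hw₀, hmw⟩ := hα.exists_maps' p hm hw0
    have h1 : f v₀ w₀ = 0 := (Maps.perp_iff p hm hv₀ hw₀ hm0 hmw).2 hw1
    have h2 : f e w₀ = 0 := (Maps.perp_iff p hm he hw₀ hαe hmw).2 hw2
    rw [← Maps.perp_iff p hm (smul_ne_zero' u hv₀) hw₀ hmy hmw, ha₀, sympForm_add_left,
      sympForm_smul_left, h1, h2, mul_zero, add_zero]
  have hpow : ∀ n : ℕ, ∃ b' : F, h ^ n • v = a ^ n • v + b' • e := by
    intro n
    induction n with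
    | zero => exact ⟨0, by simp⟩
    | succ n ih =>
      obtain ⟨b', hb'⟩ := ih
      refine ⟨a ^ n * b + b', ?_⟩
      rw [pow_succ', mul_smul, hb', smul_add', smul_smul', smul_smul', hhe, hab]
      module
  obtain ⟨b', hb'⟩ := hpow p
  rw [hp, one_smul] at hb'
  have h1 : a ^ p = 1 := by
    by_contra hne
    have h2 : 1 - a ^ p ≠ 0 := sub_ne_zero.2 (Ne.symm hne)
    apply hve ((1 - a ^ p)⁻¹ * b')
    have h3 : (1 - a ^ p) • v = b' • e := by
      rw [sub_smul, one_smul, sub_eq_iff_eq_add, add_comm]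
      exact hb'
    rw [mul_smul, ← h3, smul_smul, inv_mul_cancel₀ h2, one_smul]
  rw [eq_one_of_pow_char h1, one_smul] at hab
  exact ⟨b, hab⟩

include p hm in
/-- An automorphism fixing `Q e` elementwise and the point `⟨e'⟩`, `f(e,e') = 1`, is trivial. -/
theorem eq_one_of_fix [Finite F] {β : MulAut (PSp m F)} (hβ : Pres β) {e e' : V}
    (hee : f e e' = 1) (hQ : ∀ u ∈ Q e, β (pr u) = pr u) (he' : Maps β e' e') : β = 1 := by
  have he0 : e ≠ 0 := ne_zero_of_form_left (by rw [hee]; exact one_ne_zero)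
  have he0' : e' ≠ 0 := ne_zero_of_form_right (by rw [hee]; exact one_ne_zero)
  -- points opposite `e`
  have h1 : ∀ v : V, f e v ≠ 0 → Maps β v v := by
    intro v hv
    set b := f e v with hb
    set w : V := b⁻¹ • (v - f v e' • e - b • e') with hw
    have hew : f e w = 0 := by
      rw [hw, sympForm_smul_right, sympForm_sub_right, sympForm_sub_right, sympForm_smul_right,
        sympForm_smul_right, sympForm_self, hee, ← hb]
      ring
    have hwe : f w e' = 0 := by
      rw [hw, sympForm_smul_left, sympForm_sub_left, sympForm_sub_left, sympForm_smul_left,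
        sympForm_smul_left, sympForm_self, hee]
      ring
    have hu : siegel e w (b⁻¹ * f v e') • e' = b⁻¹ • v := by
      rw [siegel_smul hew, hwe, hee, hw]
      have : b⁻¹ • (b • e') = e' := by rw [smul_smul, inv_mul_cancel₀ hv, one_smul]
      rw [smul_sub, smul_sub, this]
      module
    have h2 := he'.conj (hQ _ (siegel_mem_Q hew (b⁻¹ * f v e')))
    rw [hu] at h2
    have h3 := (h2.smul_left b).smul_right hv
    rwa [smul_smul, mul_inv_cancel₀ hv, one_smul] at h3
  have hee' : Maps β e e := by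
    refine ⟨he0, fun c => ⟨c, hQ _ (transv_mem_Q e c)⟩⟩
  -- all points
  have h2 : ∀ v : V, v ≠ 0 → Maps β v v := by
    intro v hv
    by_cases hev : f e v = 0
    swap
    · exact h1 v hev
    by_cases hve : ∃ a : F, v = a • e
    · obtain ⟨a, rfl⟩ := hve
      have ha : a ≠ 0 := by
        rintro rfl
        exact hv (zero_smul _ _)
      exact (hee'.smul_left a).smul_right ha
    push Not at hve
    have hev' : ∀ a : F, e ≠ a • v := by
      intro a ha
      have ha0 : a ≠ 0 := by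
        rintro rfl
        rw [zero_smul] at ha
        exact he0 ha
      apply hve a⁻¹
      rw [ha, smul_smul, inv_mul_cancel₀ ha0, one_smul]
    obtain ⟨x₀, hx₀, hx₀'⟩ :=
      Cfsg.Agent.LieClassical.SympSimple.exists_perp_of_not_smul hv hev'
    obtain ⟨v', hv'⟩ := hβ.exists_maps p hm hv
    have key : ∀ x, f e x ≠ 0 → f v x = 0 → f v' x = 0 := by
      intro x hx hvx
      exact (Maps.perp_iff p hm hv (ne_zero_of_form_right hx) hv' (h1 x hx)).1 hvx
    obtain ⟨a, ha⟩ : ∃ a : F, v' = a • v := by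
      apply smul_of_perp hv
      intro x hx
      by_cases hex : f e x = 0
      swap
      · exact key x hex hx
      have h3 := key x₀ hx₀' hx₀
      have h4 := key (x + x₀) (by rw [sympForm_add_right, hex, zero_add]; exact hx₀')
        (by rw [sympForm_add_right, hx, hx₀, add_zero])
      rwa [sympForm_add_right, h3, add_zero] at h4
    have ha0 : a ≠ 0 := by
      rintro rfl
      rw [zero_smul] at ha
      exact hv'.1 ha
    have h5 := hv'.smul_right (inv_ne_zero ha0)
    rwa [ha, smul_smul, inv_mul_cancel₀ ha0, one_smul] at h5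
  ext1 y
  obtain ⟨A, rfl⟩ := pr_surj y
  obtain ⟨B, hB⟩ := pr_surj (β (pr A))
  rw [MulAut.one_apply, ← hB, eq_comm, pr_eq_iff]
  apply mem_center_of_smul
  intro v
  by_cases hv : v = 0
  · exact ⟨1, by rw [hv, smul_zero', smul_zero]⟩
  have h3 := (h2 v hv).conj hB.symm
  obtain ⟨a, ha⟩ := Maps.unique p hm (smul_ne_zero' A hv) (h2 _ (smul_ne_zero' A hv)) h3
  exact ⟨a, by rw [mul_smul, ha, smul_smul', inv_smul_smul]⟩

end Main

/-! ### The semilinear map -/

section Semi

/-- The orthogonal complement of the hyperbolic plane `⟨e, e'⟩`. -/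
def W (e e' : V) : Submodule F V where
  carrier := {w | f e w = 0 ∧ f w e' = 0}
  add_mem' := by
    rintro u v ⟨h1, h2⟩ ⟨h3, h4⟩
    exact ⟨by rw [sympForm_add_right, h1, h3, add_zero],
      by rw [sympForm_add_left, h2, h4, add_zero]⟩
  zero_mem' := ⟨sympForm_zero_right e, sympForm_zero_left e'⟩
  smul_mem' := by
    rintro a u ⟨h1, h2⟩
    exact ⟨by rw [sympForm_smul_right, h1, mul_zero], by rw [sympForm_smul_left, h2, mul_zero]⟩

theorem mem_W {e e' w : V} : w ∈ W e e' ↔ f e w = 0 ∧ f w e' = 0 := Iff.rfl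

/-- The `W`-component. -/
def prW (e e' v : V) : V := v - f v e' • e - f e v • e'

theorem prW_mem {e e' : V} (hee : f e e' = 1) (v : V) : prW e e' v ∈ W e e' := by
  constructor
  · rw [prW, sympForm_sub_right, sympForm_sub_right, sympForm_smul_right, sympForm_smul_right,
      sympForm_self, hee]
    ring
  · rw [prW, sympForm_sub_left, sympForm_sub_left, sympForm_smul_left, sympForm_smul_left,
      sympForm_self, hee]
    ring

theorem decomp (e e' v : V) : v = f v e' • e + prW e e' v + f e v • e' := by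
  rw [prW]
  module

theorem prW_add (e e' u v : V) : prW e e' (u + v) = prW e e' u + prW e e' v := by
  rw [prW, prW, prW, sympForm_add_left, sympForm_add_right]
  module

theorem prW_smul (e e' : V) (a : F) (v : V) : prW e e' (a • v) = a • prW e e' v := by
  rw [prW, prW, sympForm_smul_left, sympForm_smul_right]
  module

/-- The form in coordinates. -/
theorem form_coord {e e' : V} (hee : f e e' = 1) {a b c d : F} {w x : V} (hw : w ∈ W e e') (hx : x ∈ W e e') :
    f (a • e + w + b • e') (c • e + x + d • e') = a * d + f w x - b * c := by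
  have h1 : f w e = 0 := form_eq_zero_comm.1 hw.1
  have h2 : f e' x = 0 := form_eq_zero_comm.1 hx.2
  have h3 : f e' e = -1 := by rw [sympForm_swap, hee]
  simp only [sympForm_add_left, sympForm_add_right, sympForm_smul_left, sympForm_smul_right,
    sympForm_self, hee, h1, h2, h3, hx.1, hw.2]
  ring

theorem exists_W_form_eq_one {e e' : V} (hee : f e e' = 1) {w : V} (hw : w ∈ W e e') (hw0 : w ≠ 0) :
    ∃ x ∈ W e e', f w x = 1 := by
  obtain ⟨y, hy⟩ := exists_form_eq_one hw0
  refine ⟨prW e e' y, prW_mem hee y, ?_⟩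
  rw [prW, sympForm_sub_right, sympForm_sub_right, sympForm_smul_right, sympForm_smul_right,
    form_eq_zero_comm.1 hw.1, hw.2, hy]
  ring

theorem eq_of_W {e e' : V} (hee : f e e' = 1) {u v : V} (hu : u ∈ W e e') (hv : v ∈ W e e')
    (h : ∀ x ∈ W e e', f u x = f v x) : u = v := by
  by_contra hne
  obtain ⟨x, hx, hx1⟩ := exists_W_form_eq_one hee (Submodule.sub_mem _ hu hv) (sub_ne_zero.2 hne)
  rw [sympForm_sub_left, h x hx, sub_self] at hx1
  exact zero_ne_one hx1

/-- An additive surjective map of `W` multiplying the form by an additive function of its values is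
semilinear. -/
theorem semilinear_of_additive [Finite F] {e e' : V} (hee : f e e' = 1) (φ : V → V) (ζ : F → F)
    (hφW : ∀ w ∈ W e e', φ w ∈ W e e')
    (hφs : ∀ y ∈ W e e', ∃ w ∈ W e e', φ w = y)
    (hφa : ∀ u ∈ W e e', ∀ v ∈ W e e', φ (u + v) = φ u + φ v)
    (hζ0 : ζ 0 = 0) (hζi : Function.Injective ζ) (hζa : ∀ a b, ζ (a + b) = ζ a + ζ b)
    (hf : ∀ u ∈ W e e', ∀ v ∈ W e e', f (φ u) (φ v) = ζ (f u v))
    (hW : ∃ w ∈ W e e', w ≠ 0) :
    ∃ (τ : F ≃+* F) (μ : F), μ ≠ 0 ∧ (∀ a, ζ a = μ * τ a) ∧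
      ∀ w ∈ W e e', ∀ a : F, φ (a • w) = τ a • φ w := by
  have hμ : ζ 1 ≠ 0 := by
    intro h
    exact one_ne_zero (hζi (h.trans hζ0.symm))
  have hφ0 : φ 0 = 0 := by
    have := hφa 0 (Submodule.zero_mem _) 0 (Submodule.zero_mem _)
    rw [add_zero] at this
    exact left_eq_add.1 this
  have key : ∀ w ∈ W e e', ∀ a : F, φ (a • w) = (ζ a * (ζ 1)⁻¹) • φ w := by
    intro w hw a
    by_cases hw0 : w = 0
    · rw [hw0, smul_zero, hφ0, smul_zero]
    obtain ⟨w₁, hw₁, h1⟩ := exists_W_form_eq_one hee hw hw0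
    apply eq_of_W hee (hφW _ (Submodule.smul_mem _ a hw)) (Submodule.smul_mem _ _ (hφW w hw))
    intro y hy
    have hy₀ := hφW w₁ hw₁
    have hc : f (φ w) (φ w₁) = ζ 1 := by rw [hf w hw w₁ hw₁, h1]
    have hc' : f (φ (a • w)) (φ w₁) = ζ a := by
      rw [hf _ (Submodule.smul_mem _ a hw) w₁ hw₁, sympForm_smul_left, h1, mul_one]
    -- the vector `y - (f (φ w) y / ζ 1) • φ w₁` is orthogonal to `φ w`
    have hz : y - (f (φ w) y * (ζ 1)⁻¹) • φ w₁ ∈ W e e' :=
      Submodule.sub_mem _ hy (Submodule.smul_mem _ _ hy₀)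
    obtain ⟨x, hx, hxz⟩ := hφs _ hz
    have h2 : f (φ w) (φ x) = 0 := by
      rw [hxz, sympForm_sub_right, sympForm_smul_right, hc, mul_assoc, inv_mul_cancel₀ hμ, mul_one,
        sub_self]
    have h3 : f w x = 0 := by
      rw [hf w hw x hx] at h2
      exact hζi (h2.trans hζ0.symm)
    have h4 : f (φ (a • w)) (φ x) = 0 := by
      rw [hf _ (Submodule.smul_mem _ a hw) x hx, sympForm_smul_left, h3, mul_zero, hζ0]
    rw [hxz, sympForm_sub_right, sympForm_smul_right, hc'] at h4
    rw [sympForm_smul_left]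
    linear_combination h4
  obtain ⟨w, hw, hw0⟩ := hW
  have hφw : φ w ≠ 0 := by
    obtain ⟨w₁, hw₁, h1⟩ := exists_W_form_eq_one hee hw hw0
    apply ne_zero_of_form_left (v := φ w₁)
    rw [hf w hw w₁ hw₁, h1]
    exact hμ
  let τ : F →+* F :=
    { toFun := fun a => ζ a * (ζ 1)⁻¹
      map_one' := mul_inv_cancel₀ hμ
      map_zero' := by
        show ζ 0 * (ζ 1)⁻¹ = 0
        rw [hζ0, zero_mul]
      map_add' := fun a b => by
        show ζ (a + b) * (ζ 1)⁻¹ = ζ a * (ζ 1)⁻¹ + ζ b * (ζ 1)⁻¹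
        rw [hζa]
        ring
      map_mul' := fun a b => by
        show ζ (a * b) * (ζ 1)⁻¹ = (ζ a * (ζ 1)⁻¹) * (ζ b * (ζ 1)⁻¹)
        apply smul_right_cancel_vec hφw
        rw [← key w hw, mul_smul, key _ (Submodule.smul_mem _ b hw), key w hw, smul_smul] }
  have hτ : Function.Bijective τ := Finite.injective_iff_bijective.1 τ.injective
  refine ⟨RingEquiv.ofBijective τ hτ, ζ 1, hμ, ?_, ?_⟩
  · intro a
    show ζ a = ζ 1 * (ζ a * (ζ 1)⁻¹)
    field_simp
  · intro w hw a
    exact key w hw a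

/-- The semisimilitude `a e + w + b e' ↦ μ τ(a) e + φ(w) + τ(b) e'`. -/
theorem exists_semiSim [Finite F] {e e' : V} (hee : f e e' = 1) (φ : V → V) (τ : F ≃+* F) (μ : F) (hμ : μ ≠ 0)
    (hφW : ∀ w ∈ W e e', φ w ∈ W e e')
    (hφa : ∀ u ∈ W e e', ∀ v ∈ W e e', φ (u + v) = φ u + φ v)
    (hφs : ∀ w ∈ W e e', ∀ a : F, φ (a • w) = τ a • φ w)
    (hf : ∀ u ∈ W e e', ∀ v ∈ W e e', f (φ u) (φ v) = μ * τ (f u v)) :
    ∃ g : Equiv.Perm V, IsSemi g τ μ ∧ g e = μ • e ∧ g e' = e' ∧ ∀ w ∈ W e e', g w = φ w := by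
  let g₀ : V → V := fun v => (μ * τ (f v e')) • e + φ (prW e e' v) + τ (f e v) • e'
  have hg₀ : ∀ v, g₀ v = (μ * τ (f v e')) • e + φ (prW e e' v) + τ (f e v) • e' := fun _ => rfl
  have hadd : ∀ u v, g₀ (u + v) = g₀ u + g₀ v := by
    intro u v
    rw [hg₀, hg₀, hg₀, prW_add, hφa _ (prW_mem hee u) _ (prW_mem hee v), sympForm_add_left,
      sympForm_add_right, map_add, map_add]
    module
  have hsmul : ∀ (a : F) v, g₀ (a • v) = τ a • g₀ v := by
    intro a v
    rw [hg₀, hg₀, prW_smul, hφs _ (prW_mem hee v), sympForm_smul_left, sympForm_smul_right,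
      map_mul, map_mul]
    module
  have hform : ∀ u v, f (g₀ u) (g₀ v) = μ * τ (f u v) := by
    intro u v
    have h1 := form_coord hee (a := f u e') (b := f e u) (c := f v e') (d := f e v)
      (prW_mem hee u) (prW_mem hee v)
    rw [← decomp, ← decomp] at h1
    rw [hg₀, hg₀, form_coord hee (hφW _ (prW_mem hee u)) (hφW _ (prW_mem hee v)), h1,
      hf _ (prW_mem hee u) _ (prW_mem hee v), map_sub, map_add, map_mul, map_mul]
    ring
  have hinj : Function.Injective g₀ := by
    intro u v huv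
    apply eq_of_forall_sympForm_right
    intro w
    apply τ.injective
    have h1 := hform u w
    have h2 := hform v w
    rw [huv] at h1
    exact mul_left_cancel₀ hμ (h1.symm.trans h2)
  have hbij : Function.Bijective g₀ := Finite.injective_iff_bijective.1 hinj
  refine ⟨Equiv.ofBijective g₀ hbij, ⟨hadd, hsmul, hform⟩, ?_, ?_, ?_⟩
  · show g₀ e = μ • e
    have h1 : prW e e' e = 0 := by
      rw [prW, hee, sympForm_self]
      module
    have h2 : φ 0 = 0 := by
      have := hφs 0 (Submodule.zero_mem _) 0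
      rwa [smul_zero, map_zero, zero_smul] at this
    rw [hg₀, h1, h2, hee, sympForm_self, map_one, map_zero]
    module
  · show g₀ e' = e'
    have h1 : prW e e' e' = 0 := by
      rw [prW, hee, sympForm_self]
      module
    have h2 : φ 0 = 0 := by
      have := hφs 0 (Submodule.zero_mem _) 0
      rwa [smul_zero, map_zero, zero_smul] at this
    rw [hg₀, h1, h2, hee, sympForm_self, map_one, map_zero]
    module
  · intro w hw
    show g₀ w = φ w
    have h1 : prW e e' w = w := by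
      rw [prW, hw.1, hw.2]
      module
    rw [hg₀, h1, hw.1, hw.2, map_zero]
    module

/-- Conjugation of a Siegel element by a semisimilitude. -/
theorem conjHom_siegel (g : semiSim m F) {τ : F ≃+* F} {l : F} (hl : l ≠ 0)
    (hg : IsSemi g.1 τ l) {e w : V} (h : f e w = 0) (c : F) :
    conjHom m F g (siegel e w c) = siegel (g.1 e) (l⁻¹ • g.1 w) (l⁻¹ * τ c) := by
  have h' : f (g.1 e) (l⁻¹ • g.1 w) = 0 := by
    rw [sympForm_smul_right, hg.2.2, h, map_zero, mul_zero, mul_zero]
  apply rho_injective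
  ext1 x
  rw [rho_conjHom, Equiv.Perm.mul_apply, Equiv.Perm.mul_apply]
  obtain ⟨y, rfl⟩ := g.1.surjective x
  rw [perm_inv_apply_self]
  have e1 : rho m F (siegel e w c) y = siegel e w c • y := rfl
  have e2 : rho m F (siegel (g.1 e) (l⁻¹ • g.1 w) (l⁻¹ * τ c)) (g.1 y) =
    siegel (g.1 e) (l⁻¹ • g.1 w) (l⁻¹ * τ c) • g.1 y := rfl
  rw [e1, e2, siegel_smul h, siegel_smul h', hg.1, hg.1, hg.2.1, hg.2.1, hg.1, hg.2.1,
    sympForm_smul_left, hg.2.2, hg.2.2, inv_mul_cancel_left₀ hl]
  have e3 : (l * τ (f e y)) • (l⁻¹ • g.1 w + (l⁻¹ * τ c) • g.1 e) =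
      (l * l⁻¹) • (τ (f e y) • (g.1 w + τ c • g.1 e)) := by module
  rw [e3, mul_inv_cancel₀ hl, one_smul]

/-- Normal form of the elements of `Q e`. -/
theorem exists_normal {e e' : V} (hee : f e e' = 1) {u : G} (hu : u ∈ Q e) :
    ∃ w ∈ W e e', ∃ c : F, u = siegel e w c := by
  obtain ⟨z, c, hz, rfl⟩ := hu
  have hw : z - f z e' • e ∈ W e e' := by
    constructor
    · rw [sympForm_sub_right, sympForm_smul_right, sympForm_self, hz, mul_zero, sub_zero]
    · rw [sympForm_sub_left, sympForm_smul_left, hee, mul_one, sub_self]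
  refine ⟨_, hw, c + 2 * f z e', ?_⟩
  rw [← siegel_add_smul hw.1, sub_add_cancel]

theorem siegel_split {e w : V} (h : f e w = 0) (c : F) :
    siegel e w c = siegel e w 0 * siegel e 0 c := by
  rw [siegel_mul h (sympForm_zero_right e), add_zero, sympForm_zero_right, zero_add, add_zero]

theorem pres_Psi [Finite F] (g : semiSim m F) : Pres (Psi m F g) := by
  obtain ⟨τ, l, hl, hg⟩ := g.2
  intro v hv c hc
  refine ⟨g.1 v, ?_, τ c * l⁻¹, ?_, ?_⟩
  · intro h
    obtain ⟨w, hw⟩ := exists_form_eq_one hv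
    have h1 := hg.2.2 v w
    rw [h, hw, map_one, mul_one, sympForm_zero_left] at h1
    exact hl h1.symm
  · exact mul_ne_zero (by simpa using hc) (inv_ne_zero hl)
  · show Psi m F g (QuotientGroup.mk _) = _
    rw [Psi_mk, conjHom_transv g hl hg]
    rfl

theorem maps_Psi (g : semiSim m F) {v : V} (hv : v ≠ 0) : Maps (Psi m F g) v (g.1 v) := by
  obtain ⟨τ, l, hl, hg⟩ := g.2
  refine ⟨?_, fun c => ⟨τ c * l⁻¹, ?_⟩⟩
  · intro h
    obtain ⟨w, hw⟩ := exists_form_eq_one hv
    have h1 := hg.2.2 v w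
    rw [h, hw, map_one, mul_one, sympForm_zero_left] at h1
    exact hl h1.symm
  · show Psi m F g (QuotientGroup.mk _) = _
    rw [Psi_mk, conjHom_transv g hl hg]
    rfl

end Semi

section Final

variable (p : ℕ) [Fact p.Prime] [CharP F p]

include p in
/-- `α` maps Siegel elements with `c = 0` to such elements. -/
theorem exists_W_image [Finite F] (hm : 1 ≤ m) {α : MulAut (PSp m F)} (hα : Pres α) {e e' : V}
    (hee : f e e' = 1) (h1 : Maps α e e) (h2 : Maps α e' e') {w : V} (hw : w ∈ W e e') :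
    ∃ w' ∈ W e e', α (pr (siegel e w 0)) = pr (siegel e w' 0) := by
  have he : e ≠ 0 := ne_zero_of_form_left (by rw [hee]; exact one_ne_zero)
  have he' : e' ≠ 0 := ne_zero_of_form_right (by rw [hee]; exact one_ne_zero)
  obtain ⟨h, hQ, hh⟩ := exists_mem_Q p hm hα he h1 (siegel_mem_Q hw.1 0)
  obtain ⟨w', hw', c, rfl⟩ := exists_normal hee hQ
  refine ⟨w', hw', ?_⟩
  have h3 := h2.conj hh
  have h4 : f e' (siegel e w 0 • e') = 0 := by
    rw [siegel_smul hw.1, hw.2, hee, zero_smul, one_smul, add_zero, add_zero,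
      sympForm_add_right, sympForm_self, form_eq_zero_comm.1 hw.2, add_zero]
  have h5 := (Maps.perp_iff p hm he' (smul_ne_zero' _ he') h2 h3).1 h4
  rw [siegel_smul hw'.1, hw'.2, hee, sympForm_add_right, sympForm_add_right, zero_smul,
    one_smul, sympForm_add_right, sympForm_self, sympForm_zero_right, sympForm_smul_right,
    form_eq_zero_comm.1 hw'.2, sympForm_swap e' e, hee] at h5
  have h6 : c = 0 := by linear_combination -h5
  rw [hh, h6]

include p in
theorem exists_semi_aux [Finite F] (hm : 2 ≤ m) {α : MulAut (PSp m F)} (hα : Pres α) {e e' : V}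
    (hee : f e e' = 1) (h1 : Maps α e e) (h2 : Maps α e' e') :
    ∃ g : semiSim m F, Psi m F g = α := by
  have hm1 : 1 ≤ m := by omega
  have he : e ≠ 0 := ne_zero_of_form_left (by rw [hee]; exact one_ne_zero)
  have he' : e' ≠ 0 := ne_zero_of_form_right (by rw [hee]; exact one_ne_zero)
  have hinj : ∀ {u v : G}, u ∈ Q e → v ∈ Q e → pr u = pr v → u = v := fun hu hv h =>
    eq_of_pr_eq p hm1 (pow_char_eq_one_of_mem_Q hu) (pow_char_eq_one_of_mem_Q hv) h
  have hφ : ∀ w, w ∈ W e e' → ∃ w', w' ∈ W e e' ∧ α (pr (siegel e w 0)) = pr (siegel e w' 0) :=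
    fun w hw => exists_W_image p hm1 hα hee h1 h2 hw
  have hζ : ∀ c : F, ∃ c' : F, α (pr (siegel e 0 c)) = pr (siegel e 0 c') := by
    intro c
    obtain ⟨c', hc'⟩ := h1.2 (-c)
    exact ⟨-c', by rw [siegel_zero_eq_transv, siegel_zero_eq_transv, neg_neg, hc']⟩
  choose! φ hφW hφα using hφ
  choose ζ hζα using hζ
  -- product rule
  have hprod : ∀ u ∈ W e e', ∀ v ∈ W e e', φ u + φ v = φ (u + v) ∧ f (φ u) (φ v) = ζ (f u v) := by
    intro u hu v hv
    have huv := Submodule.add_mem _ hu hv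
    have e1 : siegel e u 0 * siegel e v 0 = siegel e (u + v) 0 * siegel e 0 (f u v) := by
      rw [siegel_mul hu.1 hv.1, ← siegel_split huv.1, add_zero, zero_add]
    have e2 := congrArg (fun g => α (pr g)) e1
    simp only [pr_mul, map_mul, hφα u hu, hφα v hv, hφα _ huv, hζα] at e2
    rw [← pr_mul, ← pr_mul, siegel_mul (hφW u hu).1 (hφW v hv).1, ← siegel_split (hφW _ huv).1,
      add_zero, zero_add] at e2
    have hs := Submodule.add_mem _ (hφW u hu) (hφW v hv)
    have e3 := hinj (siegel_mem_Q hs.1 _) (siegel_mem_Q (hφW _ huv).1 _) e2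
    exact siegel_inj hee hs.1 (hφW _ huv).1 hs.2 (hφW _ huv).2 e3
  have h0 := sympForm_zero_right (m := m) e
  have h0' := sympForm_zero_left (m := m) e'
  have hζa : ∀ a b, ζ (a + b) = ζ a + ζ b := by
    intro a b
    have e1 : siegel e 0 a * siegel e 0 b = siegel e 0 (a + b) := by
      rw [siegel_mul h0 h0, add_zero, sympForm_zero_right, add_zero]
    have e2 := congrArg (fun g => α (pr g)) e1
    simp only [pr_mul, map_mul, hζα] at e2
    rw [← pr_mul, siegel_mul h0 h0, add_zero, sympForm_zero_right, add_zero] at e2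
    exact (siegel_inj hee h0 h0 h0' h0' (hinj (siegel_mem_Q h0 _) (siegel_mem_Q h0 _) e2)).2.symm
  have hζ0 : ζ 0 = 0 := by
    have := hζa 0 0
    rw [add_zero] at this
    exact left_eq_add.1 this
  have hζi : Function.Injective ζ := by
    intro a b hab
    have e1 : α (pr (siegel e 0 a)) = α (pr (siegel e 0 b)) := by rw [hζα, hζα, hab]
    exact (siegel_inj hee h0 h0 h0' h0'
      (hinj (siegel_mem_Q h0 _) (siegel_mem_Q h0 _) (α.injective e1))).2
  have hφs : ∀ y ∈ W e e', ∃ w ∈ W e e', φ w = y := by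
    intro y hy
    obtain ⟨w, hw, h3⟩ := exists_W_image p hm1 hα.inv hee (Maps.inv p hm1 hα he h1)
      (Maps.inv p hm1 hα he' h2) hy
    refine ⟨w, hw, ?_⟩
    have h4 : α (pr (siegel e w 0)) = pr (siegel e y 0) := by
      rw [← h3]
      exact MulAut.apply_inv_self _ α _
    rw [hφα w hw] at h4
    exact (siegel_inj hee (hφW w hw).1 hy.1 (hφW w hw).2 hy.2
      (hinj (siegel_mem_Q (hφW w hw).1 _) (siegel_mem_Q hy.1 _) h4)).1
  have hWne : ∃ w ∈ W e e', w ≠ 0 := by
    -- otherwise every vector is in the plane `⟨e, e'⟩`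
    by_contra hcon
    push Not at hcon
    classical
    have hspan : (⊤ : Submodule F V) ≤ Submodule.span F (({e, e'} : Finset V) : Set V) := by
      intro v _
      rw [decomp e e' v, hcon _ (prW_mem hee v), add_zero]
      exact Submodule.add_mem _
        (Submodule.smul_mem _ _ (Submodule.subset_span (by simp)))
        (Submodule.smul_mem _ _ (Submodule.subset_span (by simp)))
    have h3 := Submodule.finrank_mono hspan
    rw [finrank_top, Module.finrank_fintype_fun_eq_card] at h3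
    have h4 : Module.finrank F (Submodule.span F (({e, e'} : Finset V) : Set V)) ≤
      ({e, e'} : Finset V).card := finrank_span_finset_le_card (R := F) ({e, e'} : Finset V)
    have h5 : ({e, e'} : Finset V).card ≤ 2 := Finset.card_le_two
    simp only [Fintype.card_sum, Fintype.card_fin] at h3
    omega
  obtain ⟨τ, μ, hμ, hζτ, hφτ⟩ := semilinear_of_additive hee φ ζ hφW hφs
    (fun u hu v hv => (hprod u hu v hv).1.symm) hζ0 hζi hζa (fun u hu v hv => (hprod u hu v hv).2)
    hWne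
  obtain ⟨g₀, hg, hge, hge', hgW⟩ := exists_semiSim hee φ τ μ hμ hφW
    (fun u hu v hv => (hprod u hu v hv).1.symm) hφτ
    (fun u hu v hv => by rw [(hprod u hu v hv).2, hζτ])
  let g : semiSim m F := ⟨g₀, τ, μ, hμ, hg⟩
  refine ⟨g, ?_⟩
  have hQfix : ∀ u ∈ Q e, α (pr u) = Psi m F g (pr u) := by
    intro u hu
    obtain ⟨w, hw, c, rfl⟩ := exists_normal hee hu
    have e1 : α (pr (siegel e w c)) = pr (siegel e (φ w) (ζ c)) := by
      rw [siegel_split hw.1, pr_mul, map_mul, hφα w hw, hζα, ← pr_mul, ← siegel_split (hφW w hw).1]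
    have e2 : Psi m F g (pr (siegel e w c)) = pr (conjHom m F g (siegel e w c)) := rfl
    rw [e1, e2, conjHom_siegel g hμ hg hw.1]
    have e3 : g.1 e = μ • e := hge
    have e4 : g.1 w = φ w := hgW w hw
    rw [e3, e4, siegel_smul_vec (by
      rw [sympForm_smul_right, (hφW w hw).1, mul_zero]), smul_smul, mul_inv_cancel₀ hμ, one_smul,
      hζτ]
    congr 2
    field_simp
  have hβ : (Psi m F g)⁻¹ * α = 1 := by
    apply eq_one_of_fix p hm1 ((pres_Psi g).inv.mul hα) hee
    · intro u hu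
      rw [MulAut.mul_apply, hQfix u hu]
      exact MulAut.inv_apply_self _ _ _
    · have h3 := maps_Psi g he'
      have e3 : g.1 e' = e' := hge'
      rw [e3] at h3
      exact h2.comp (Maps.inv p hm1 (pres_Psi g) he' h3)
  exact inv_mul_eq_one.1 hβ

end Final

/-- An automorphism of `PSp_2m(q)`, `m ≥ 2`, which maps transvections to transvections is induced
by a semisimilitude. -/
theorem exists_semi [Finite F] (hm : 2 ≤ m) (α : MulAut (PSp m F))
    (h : ∀ v : Fin m ⊕ Fin m → F, v ≠ 0 → ∀ c : F, c ≠ 0 →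
      ∃ v' : Fin m ⊕ Fin m → F, v' ≠ 0 ∧ ∃ c' : F, c' ≠ 0 ∧
        α (QuotientGroup.mk (transv v c)) = QuotientGroup.mk (transv v' c')) :
    ∃ g : semiSim m F, Psi m F g = α := by
  obtain ⟨p, hp⟩ := CharP.exists F
  have hpp : Fact p.Prime := ⟨CharP.char_is_prime F p⟩
  have hm1 : 1 ≤ m := by omega
  have hα : Pres α := h
  obtain ⟨e, e', hee⟩ := exists_hyperbolic (F := F) hm1
  have he : e ≠ 0 := ne_zero_of_form_left (by rw [hee]; exact one_ne_zero)
  have he' : e' ≠ 0 := ne_zero_of_form_right (by rw [hee]; exact one_ne_zero)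
  obtain ⟨a, ha⟩ := hα.exists_maps p hm1 he
  obtain ⟨b, hb⟩ := hα.exists_maps p hm1 he'
  have hab : f a b ≠ 0 := by
    intro h0
    have := (Maps.perp_iff p hm1 he he' ha hb).2 h0
    rw [hee] at this
    exact one_ne_zero this
  have hb' := hb.smul_right (inv_ne_zero hab)
  have hab' : f a ((f a b)⁻¹ • b) = 1 := by
    rw [sympForm_smul_right, inv_mul_cancel₀ hab]
  obtain ⟨A, -, hA1, hA2⟩ := exists_transvGroup_hyperbolic hab' hee
  let gA : semiSim m F := ⟨rho m F A, RingEquiv.refl F, 1, one_ne_zero, isSemi_rho A⟩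
  have h1 : Maps (Psi m F gA * α) e e := by
    have h3 := ha.comp (maps_Psi gA ha.1)
    have e1 : gA.1 a = e := hA1
    rwa [e1] at h3
  have h2 : Maps (Psi m F gA * α) e' e' := by
    have h3 := hb'.comp (maps_Psi gA hb'.1)
    have e1 : gA.1 ((f a b)⁻¹ • b) = e' := hA2
    rwa [e1] at h3
  obtain ⟨g, hg⟩ := exists_semi_aux p hm ((pres_Psi gA).mul hα) hee h1 h2
  exact ⟨gA⁻¹ * g, by rw [map_mul, map_inv, hg, inv_mul_cancel_left]⟩

end Cfsg.Agent.ClassicalGeometry.SympAutExists
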