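import Mathlib
import Cfsg.Prelude.Def_ClassicalGeometry
import Cfsg.Agent.ClassicalGeometry.SympAutSemi
import Cfsg.Agent.Lib.FieldAutCard
import Cfsg.Agent.LieClassical.SympCenter

/-!
The order of the group of semisimilitudes of a symplectic space over a finite field and of its image in
`Aut(PSp)`.
-/

set_option autoImplicit false
open Cfsg
open scoped Matrix

namespace Cfsg.Agent.ClassicalGeometry.SympGamma

open Cfsg.Agent.ClassicalGeometry.SympBasic Cfsg.Agent.ClassicalGeometry.SympAutSemi

variable {F : Type*} [Field F] {m : ℕ}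

/-- Coordinatewise action of a field automorphism. -/
def frobPerm (m : ℕ) (φ : F ≃+* F) : Equiv.Perm (Fin m ⊕ Fin m → F) where
  toFun v := fun i => φ (v i)
  invFun v := fun i => φ.symm (v i)
  left_inv v := by funext i; simp
  right_inv v := by funext i; simp

theorem frobPerm_apply (φ : F ≃+* F) (v : Fin m ⊕ Fin m → F) (i : Fin m ⊕ Fin m) :
    frobPerm m φ v i = φ (v i) := rfl

/-- The similitude multiplying the first half of the coordinates by `l`. -/
def dilPerm (m : ℕ) (l : Fˣ) : Equiv.Perm (Fin m ⊕ Fin m → F) where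
  toFun v := Sum.elim (fun i => (l : F) * v (.inl i)) (fun i => v (.inr i))
  invFun v := Sum.elim (fun i => ((l⁻¹ : Fˣ) : F) * v (.inl i)) (fun i => v (.inr i))
  left_inv v := by
    funext i
    rcases i with i | i
    · simp
    · simp
  right_inv v := by
    funext i
    rcases i with i | i
    · simp
    · simp

theorem dilPerm_inl (l : Fˣ) (v : Fin m ⊕ Fin m → F) (i : Fin m) :
    dilPerm m l v (.inl i) = l * v (.inl i) := rfl

theorem dilPerm_inr (l : Fˣ) (v : Fin m ⊕ Fin m → F) (i : Fin m) :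
    dilPerm m l v (.inr i) = v (.inr i) := rfl

theorem isSemi_frobPerm (φ : F ≃+* F) : IsSemi (frobPerm m φ) φ 1 := by
  refine ⟨?_, ?_, ?_⟩
  · intro u v
    funext i
    simp [frobPerm_apply]
  · intro a v
    funext i
    simp [frobPerm_apply]
  · intro u v
    rw [sympForm_eq_sum, sympForm_eq_sum, one_mul, map_sum]
    refine Finset.sum_congr rfl fun i _ => ?_
    simp [frobPerm_apply]

theorem isSemi_dilPerm (l : Fˣ) : IsSemi (dilPerm m l) (RingEquiv.refl F) l := by
  refine ⟨?_, ?_, ?_⟩
  · intro u v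
    funext i
    rcases i with i | i
    · simp [dilPerm_inl, mul_add]
    · simp [dilPerm_inr]
  · intro a v
    funext i
    rcases i with i | i
    · simp only [dilPerm_inl, Pi.smul_apply, smul_eq_mul, RingEquiv.refl_apply]
      ring
    · simp [dilPerm_inr]
  · intro u v
    rw [sympForm_eq_sum, sympForm_eq_sum, RingEquiv.refl_apply, Finset.mul_sum]
    refine Finset.sum_congr rfl fun i _ => ?_
    simp only [dilPerm_inl, dilPerm_inr]
    ring

/-- The multiplier and the field automorphism are determined by the semisimilitude. -/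
theorem IsSemi.unique (hm : 1 ≤ m) {g : Equiv.Perm (Fin m ⊕ Fin m → F)} {φ ψ : F ≃+* F} {l k : F}
    (hg : IsSemi g φ l) (hg' : IsSemi g ψ k) : φ = ψ ∧ l = k := by
  have i0 : Fin m := ⟨0, hm⟩
  have hne : (Pi.single (Sum.inr i0) 1 : Fin m ⊕ Fin m → F) ≠ 0 := by
    intro h
    have := congrFun h (Sum.inr i0)
    simp at this
  have hg0 : g 0 = 0 := by
    have := hg.1 0 0
    rw [add_zero] at this
    exact left_eq_add.1 this
  have hgne : g (Pi.single (Sum.inr i0) 1 : Fin m ⊕ Fin m → F) ≠ 0 := by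
    intro h
    exact hne (g.injective (h.trans hg0.symm))
  have hφ : φ = ψ := by
    ext a
    have h := (hg.2.1 a (Pi.single (Sum.inr i0) 1)).symm.trans
      (hg'.2.1 a (Pi.single (Sum.inr i0) 1))
    rw [← sub_eq_zero, ← sub_smul, smul_eq_zero] at h
    rcases h with h | h
    · exact sub_eq_zero.1 h
    · exact absurd h hgne
  refine ⟨hφ, ?_⟩
  have h := (hg.2.2 (Pi.single (Sum.inr i0) 1) (Pi.single (Sum.inl i0) 1)).symm.trans
    (hg'.2.2 (Pi.single (Sum.inr i0) 1) (Pi.single (Sum.inl i0) 1))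
  rw [sympForm_single_inr_left] at h
  simpa using h

/-- Parametrisation of the semisimilitudes. -/
def par (m : ℕ) (F : Type*) [Field F] :
    (F ≃+* F) × Fˣ × Matrix.symplecticGroup (Fin m) F → semiSim m F := fun x =>
  ⟨rho m F x.2.2 * (dilPerm m x.2.1 * frobPerm m x.1), x.1, x.2.1, x.2.1.ne_zero, by
    have h := (isSemi_rho x.2.2).mul ((isSemi_dilPerm x.2.1).mul (isSemi_frobPerm (m := m) x.1))
    have e1 : (((x.1.trans (RingEquiv.refl F)).trans (RingEquiv.refl F)) : F ≃+* F) = x.1 := by
      ext a; rfl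
    have e2 : ((1 : F) * (RingEquiv.refl F) ((x.2.1 : F) * (RingEquiv.refl F) 1)) = (x.2.1 : F) := by
      simp
    rw [e1, e2] at h
    exact h⟩

theorem par_coe (x : (F ≃+* F) × Fˣ × Matrix.symplecticGroup (Fin m) F) :
    (par m F x : Equiv.Perm (Fin m ⊕ Fin m → F)) =
      rho m F x.2.2 * (dilPerm m x.2.1 * frobPerm m x.1) := rfl

theorem isSemi_par (x : (F ≃+* F) × Fˣ × Matrix.symplecticGroup (Fin m) F) :
    IsSemi (par m F x : Equiv.Perm (Fin m ⊕ Fin m → F)) x.1 x.2.1 := by
  have h := (isSemi_rho x.2.2).mul ((isSemi_dilPerm x.2.1).mul (isSemi_frobPerm (m := m) x.1))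
  have e1 : (((x.1.trans (RingEquiv.refl F)).trans (RingEquiv.refl F)) : F ≃+* F) = x.1 := by
    ext a; rfl
  have e2 : ((1 : F) * (RingEquiv.refl F) ((x.2.1 : F) * (RingEquiv.refl F) 1)) = (x.2.1 : F) := by
    simp
  rw [e1, e2] at h
  exact h

theorem par_bijective (hm : 1 ≤ m) : Function.Bijective (par m F) := by
  constructor
  · rintro ⟨φ, l, A⟩ ⟨ψ, k, B⟩ h
    have h1 := isSemi_par (m := m) (φ, l, A)
    have h2 := isSemi_par (m := m) (ψ, k, B)
    rw [h] at h1
    obtain ⟨e1, e2⟩ := IsSemi.unique hm h1 h2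
    simp only at e1 e2
    subst e1
    rw [Units.val_inj] at e2
    subst e2
    have h3 := congrArg (fun g : semiSim m F => (g : Equiv.Perm (Fin m ⊕ Fin m → F))) h
    simp only [par_coe] at h3
    have h4 := mul_right_cancel h3
    rw [rho_injective h4]
  · rintro ⟨g, φ, l, hl, hg⟩
    have hk := (isSemi_dilPerm (m := m) (Units.mk0 l hl)).mul (isSemi_frobPerm (m := m) φ)
    have hkl : (((Units.mk0 l hl : Fˣ) : F) * (RingEquiv.refl F) 1) ≠ 0 := by simpa using hl
    have h := hg.mul (hk.inv hkl)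
    obtain ⟨A, hA⟩ := exists_rho_eq (m := m)
      (g * (dilPerm m (Units.mk0 l hl) * frobPerm m φ)⁻¹) h.1
      (by
        intro a v
        rw [h.2.1]
        congr 1
        simp)
      (by
        intro u v
        rw [h.2.2]
        simp [hl])
    refine ⟨(φ, Units.mk0 l hl, A), ?_⟩
    apply Subtype.ext
    rw [par_coe]
    simp only
    rw [hA, inv_mul_cancel_right]

theorem card_semiSim [Fintype F] (hm : 1 ≤ m) :
    Nat.card (semiSim m F) = Nat.card (F ≃+* F) * (Nat.card Fˣ *
      Nat.card (Matrix.symplecticGroup (Fin m) F)) := by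
  rw [← Nat.card_congr (Equiv.ofBijective _ (par_bijective (F := F) hm)), Nat.card_prod,
    Nat.card_prod]

/-- Scalars. -/
def scal (m : ℕ) (F : Type*) [Field F] (a : Fˣ) : Equiv.Perm (Fin m ⊕ Fin m → F) where
  toFun v := (a : F) • v
  invFun v := ((a⁻¹ : Fˣ) : F) • v
  left_inv v := by simp [smul_smul]
  right_inv v := by simp [smul_smul]

theorem scal_apply (a : Fˣ) (v : Fin m ⊕ Fin m → F) : scal m F a v = (a : F) • v := rfl

theorem isSemi_scal (a : Fˣ) : IsSemi (scal m F a) (RingEquiv.refl F) ((a : F) * a) := by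
  refine ⟨fun u v => ?_, fun c v => ?_, fun u v => ?_⟩
  · rw [scal_apply, scal_apply, scal_apply, smul_add]
  · rw [scal_apply, scal_apply, smul_comm]
    rfl
  · rw [scal_apply, scal_apply, sympForm_smul_left, sympForm_smul_right, RingEquiv.refl_apply]
    ring

/-- A semisimilitude acting trivially on `PSp` is a scalar. -/
theorem exists_scal_of_Psi_eq_one (hm : 1 ≤ m) (g : semiSim m F) (hg : Psi m F g = 1) :
    ∃ a : Fˣ, g.1 = scal m F a := by
  obtain ⟨g, hgm⟩ := g
  obtain ⟨φ, l, hl, hs⟩ := id hgm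
  have hg0 : g 0 = 0 := by
    have := hs.1 0 0
    rw [add_zero] at this
    exact left_eq_add.1 this
  -- every vector is mapped to a multiple
  have key : ∀ v : Fin m ⊕ Fin m → F, ∃ a : F, g v = a • v := by
    intro v
    by_cases hv : v = 0
    · exact ⟨1, by rw [hv, hg0, smul_zero]⟩
    have hgv : g v ≠ 0 := fun h => hv (g.injective (h.trans hg0.symm))
    have h1 := DFunLike.congr_fun hg (QuotientGroup.mk (transv v 1) : PSp m F)
    rw [Psi_mk, conjHom_transv (⟨g, hgm⟩ : semiSim m F) hl hs v 1, MulAut.one_apply,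
      eq_comm, QuotientGroup.eq, LieClassical.SympCenter.mem_center_iff] at h1
    obtain ⟨a, ha⟩ := h1
    have h2 : ((transv (g v) (φ 1 * l⁻¹) : Matrix.symplecticGroup (Fin m) F) :
        Matrix (Fin m ⊕ Fin m) (Fin m ⊕ Fin m) F) =
        a • ((transv v 1 : Matrix.symplecticGroup (Fin m) F) :
          Matrix (Fin m ⊕ Fin m) (Fin m ⊕ Fin m) F) := by
      have h3 : transv (g v) (φ 1 * l⁻¹) =
          transv v 1 * ((transv v 1)⁻¹ * transv (g v) (φ 1 * l⁻¹)) := by group
      rw [h3, Submonoid.coe_mul, ha, Matrix.mul_smul, Matrix.mul_one]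
    have hc : φ 1 * l⁻¹ ≠ 0 := by simpa using hl
    have h4 : ∀ x, x + (φ 1 * l⁻¹ * sympForm m F x (g v)) • g v =
        a • (x + (1 * sympForm m F x v) • v) := by
      intro x
      rw [← sympTransvection_mulVec, ← sympTransvection_mulVec, ← Matrix.smul_mulVec,
        ← coe_transv, ← coe_transv, h2]
    have h5 : sympForm m F v (g v) = 0 := by
      by_contra hne
      have h6 := h4 v
      rw [sympForm_self, mul_zero, zero_smul, add_zero] at h6
      have h7 : (φ 1 * l⁻¹ * sympForm m F v (g v)) • g v = (a - 1) • v := by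
        rw [sub_smul, one_smul, ← h6, add_sub_cancel_left]
      have h8 := congrArg (sympForm m F v) h7
      rw [sympForm_smul_right, sympForm_smul_right, sympForm_self, mul_zero] at h8
      rcases mul_eq_zero.1 h8 with h8 | h8
      · rcases mul_eq_zero.1 h8 with h8 | h8
        · exact hc h8
        · exact hne h8
      · exact hne h8
    have ha1 : a = 1 := by
      have h6 := h4 (g v)
      rw [sympForm_self, mul_zero, zero_smul, add_zero, sympForm_swap (g v) v, h5, neg_zero,
        mul_zero, zero_smul, add_zero] at h6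
      have h7 : (a - 1) • g v = 0 := by rw [sub_smul, one_smul, ← h6, sub_self]
      rcases smul_eq_zero.1 h7 with h7 | h7
      · exact sub_eq_zero.1 h7
      · exact absurd h7 hgv
    obtain ⟨x, hx, hx'⟩ := exists_both_ne_zero hv hgv
    have h6 := h4 x
    rw [ha1, one_smul, one_mul] at h6
    have h7 := add_left_cancel h6
    have h8 : φ 1 * l⁻¹ * sympForm m F x (g v) ≠ 0 := by
      refine mul_ne_zero hc ?_
      rw [sympForm_swap]
      exact neg_ne_zero.2 hx'
    refine ⟨(φ 1 * l⁻¹ * sympForm m F x (g v))⁻¹ * sympForm m F x v, ?_⟩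
    rw [mul_smul, ← h7, smul_smul, inv_mul_cancel₀ h8, one_smul]
  choose a ha using key
  let e : Fin m ⊕ Fin m → (Fin m ⊕ Fin m → F) := fun i => Pi.single i 1
  have he : ∀ i j, e i j = if j = i then 1 else 0 := fun i j => by
    simp [e, Pi.single_apply]
  have h1 : ∀ i j, i ≠ j → ∀ c : F, φ c * a (e j) = a (e i) * c := by
    intro i j hij c
    have h2 := ha (e i + c • e j)
    rw [hs.1, hs.2.1, ha (e i), ha (e j)] at h2
    have h3 := congrFun h2 i
    have h4 := congrFun h2 j
    simp only [Pi.add_apply, Pi.smul_apply, smul_eq_mul, he, if_true, if_neg hij, if_neg hij.symm,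
      mul_zero, mul_one, add_zero, zero_add] at h3 h4
    rw [← h3] at h4
    exact h4
  have i0 : Fin m := ⟨0, hm⟩
  have hφ : ∀ c, φ c = c := by
    intro c
    have h2 := h1 (Sum.inl i0) (Sum.inr i0) (by simp) c
    have h3 := h1 (Sum.inl i0) (Sum.inr i0) (by simp) 1
    rw [map_one, one_mul, mul_one] at h3
    rw [h3, mul_comm (a _)] at h2
    have h4 : a (e (Sum.inl i0)) ≠ 0 := by
      intro h5
      have h6 := ha (e (Sum.inl i0))
      rw [h5, zero_smul] at h6
      have h7 : e (Sum.inl i0) = 0 := g.injective (h6.trans hg0.symm)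
      have h8 := congrFun h7 (Sum.inl i0)
      rw [he] at h8
      simp at h8
    exact mul_right_cancel₀ h4 h2
  have hai : ∀ i, a (e i) = a (e (Sum.inl i0)) := by
    intro i
    by_cases hi : Sum.inl i0 = i
    · rw [hi]
    · have := h1 (Sum.inl i0) i hi 1
      rwa [map_one, one_mul, mul_one] at this
  have ha0 : a (e (Sum.inl i0)) ≠ 0 := by
    intro h5
    have h6 := ha (e (Sum.inl i0))
    rw [h5, zero_smul] at h6
    have h7 : e (Sum.inl i0) = 0 := g.injective (h6.trans hg0.symm)
    have h8 := congrFun h7 (Sum.inl i0)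
    rw [he] at h8
    simp at h8
  have hgsum : ∀ (S : Finset (Fin m ⊕ Fin m)) (w : Fin m ⊕ Fin m → F),
      g (∑ i ∈ S, w i • e i) = a (e (Sum.inl i0)) • ∑ i ∈ S, w i • e i := by
    intro S w
    induction S using Finset.induction_on with
    | empty => simp [hg0]
    | insert i S hi ih =>
      rw [Finset.sum_insert hi, hs.1, ih, hs.2.1, ha (e i), hai, hφ, smul_add, smul_comm]
  refine ⟨Units.mk0 _ ha0, ?_⟩
  ext1 v
  have hv : ∑ i, v i • e i = v := by
    funext j
    simp [Finset.sum_apply, he]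
  have := hgsum Finset.univ v
  rw [hv] at this
  exact this

theorem Psi_scal (a : Fˣ) (h : scal m F a ∈ semiSim m F) :
    Psi m F ⟨scal m F a, h⟩ = 1 := by
  ext x
  induction x using QuotientGroup.induction_on with
  | H A =>
    rw [Psi_mk, MulAut.one_apply]
    congr 1
    apply rho_injective
    rw [rho_conjHom]
    ext1 v
    rw [Equiv.Perm.mul_apply, Equiv.Perm.mul_apply, scal_apply, rho_apply, rho_apply,
      ← Matrix.mulVec_smul]
    congr 1
    rw [← scal_apply]
    exact (scal m F a).apply_symm_apply v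

theorem card_ker_Psi [Fintype F] (hm : 1 ≤ m) : Nat.card (Psi m F).ker = Nat.card Fˣ := by
  refine (Nat.card_congr (Equiv.ofBijective
    (fun a : Fˣ => (⟨⟨scal m F a, _, _, mul_ne_zero a.ne_zero a.ne_zero, isSemi_scal a⟩,
      Psi_scal a _⟩ : (Psi m F).ker)) ⟨?_, ?_⟩)).symm
  · intro a b h
    have h1 : scal m F a = scal m F b :=
      congrArg (fun g : (Psi m F).ker => (g.1 : Equiv.Perm (Fin m ⊕ Fin m → F))) h
    have h2 := DFunLike.congr_fun h1 (Pi.single (Sum.inl ⟨0, hm⟩) 1 : Fin m ⊕ Fin m → F)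
    have h3 := congrFun h2 (Sum.inl ⟨0, hm⟩)
    rw [scal_apply, scal_apply] at h3
    simp only [Pi.smul_apply, Pi.single_eq_same, smul_eq_mul, mul_one] at h3
    exact Units.ext h3
  · rintro ⟨g, hg⟩
    obtain ⟨a, ha⟩ := exists_scal_of_Psi_eq_one hm g hg
    refine ⟨a, ?_⟩
    apply Subtype.ext
    apply Subtype.ext
    exact ha.symm

theorem card_range_Psi [Fintype F] {p f : ℕ} [Fact p.Prime] (hf : 1 ≤ f)
    (hF : Fintype.card F = p ^ f) (hm : 1 ≤ m) :
    Nat.card (Psi m F).range = f * Nat.card (Matrix.symplecticGroup (Fin m) F) := by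
  have h1 := Subgroup.card_mul_index (Psi m F).ker
  rw [Subgroup.index_ker, card_ker_Psi hm, card_semiSim hm,
    Lib.FieldAutCard.card_ringAut hf hF] at h1
  have h2 : 0 < Nat.card Fˣ := Nat.card_pos
  have h3 : Nat.card Fˣ * Nat.card (Psi m F).range =
      Nat.card Fˣ * (f * Nat.card (Matrix.symplecticGroup (Fin m) F)) := by
    rw [h1]; ring
  exact Nat.eq_of_mul_eq_mul_left h2 h3

end Cfsg.Agent.ClassicalGeometry.SympGamma
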