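import Mathlib
import Cfsg.Prelude.Def_ClassicalGeometry

/-!
# The graph automorphism of `Sp_4(F)` in characteristic two

For a field `F` of characteristic two, the `2 × 2` minors of a symplectic `4 × 4` matrix, on the four totally
isotropic coordinate planes, form again a symplectic `4 × 4` matrix. This gives a homomorphism
`graphHom : Sp_4(F) → Sp_4(F)` whose square is the Frobenius map; it interchanges (stabilisers of) points and
totally isotropic lines.
-/

set_option autoImplicit false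
set_option linter.unusedSectionVars false

namespace Cfsg.Agent.ClassicalGeometry.Sp4Graph

open Matrix

/-- The index type of the standard symplectic 4-space. -/
abbrev I4 : Type := Fin 2 ⊕ Fin 2

/-- first coordinate of the pair attached to an index -/
def pa : I4 → I4
  | Sum.inl _ => Sum.inl 0
  | Sum.inr _ => Sum.inr 0

/-- second coordinate of the pair attached to an index -/
def pb : I4 → I4
  | Sum.inl i => if i = 0 then Sum.inl 1 else Sum.inr 1
  | Sum.inr i => if i = 0 then Sum.inr 1 else Sum.inl 1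

/-- The wedge of two vectors modulo the invariant bivector, in the good coordinates. -/
def wedge {R : Type*} [CommRing R] (x y : I4 → R) : I4 → R :=
  fun i => x (pa i) * y (pb i) + x (pb i) * y (pa i)

/-- The matrix of `2 × 2` minors in the good coordinates. -/
def mn {R : Type*} [CommRing R] (A : Matrix I4 I4 R) : Matrix I4 I4 R :=
  Matrix.of fun i j => A (pa i) (pa j) * A (pb i) (pb j) + A (pa i) (pb j) * A (pb i) (pa j)

theorem mn_apply {R : Type*} [CommRing R] (A : Matrix I4 I4 R) (i j : I4) :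
    mn A i j = A (pa i) (pa j) * A (pb i) (pb j) + A (pa i) (pb j) * A (pb i) (pa j) := rfl

theorem wedge_apply {R : Type*} [CommRing R] (x y : I4 → R) (i : I4) :
    wedge x y i = x (pa i) * y (pb i) + x (pb i) * y (pa i) := rfl

theorem pa_inl (i : Fin 2) : pa (Sum.inl i) = Sum.inl 0 := rfl
theorem pa_inr (i : Fin 2) : pa (Sum.inr i) = Sum.inr 0 := rfl
theorem pb_inl0 : pb (Sum.inl 0) = Sum.inl 1 := rfl
theorem pb_inl1 : pb (Sum.inl 1) = Sum.inr 1 := rfl
theorem pb_inr0 : pb (Sum.inr 0) = Sum.inr 1 := rfl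
theorem pb_inr1 : pb (Sum.inr 1) = Sum.inl 1 := rfl

section Identities

variable {R : Type*} [CommRing R] [CharP R 2]

theorem key1 (a0 a1 a2 a3 b0 b1 b2 b3 c0 c1 c2 c3 d0 d1 d2 d3 : R)
    (hA : a0*b2 + a2*b0 + a1*b3 + a3*b1 = 0) (hB : c0*d2+c2*d0+c1*d3+c3*d1 = 0) :
    (a0*c0+a1*c1+a2*c2+a3*c3)*(b0*d0+b1*d1+b2*d2+b3*d3) + (a0*d0+a1*d1+a2*d2+a3*d3)*(b0*c0+b1*c1+b2*c2+b3*c3)
     = (a0*b1+a1*b0)*(c0*d1+c1*d0) + (a0*b3+a3*b0)*(c0*d3+c3*d0) + (a2*b3+a3*b2)*(c2*d3+c3*d2)
      + (a2*b1+a1*b2)*(c2*d1+c1*d2) := by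
  have h2 : (2:R) = 0 := CharTwo.two_eq_zero
  linear_combination (c0*d2+c2*d0) * hA + (a1*b3+a3*b1) * hB + (a0*b0*c0*d0 + a1*b1*c1*d1 + a2*b2*c2*d2
    + a3*b3*c3*d3 - (c0*d2+c2*d0) * (a1*b3+a3*b1)) * h2

theorem key2 (a0 a1 a2 a3 b0 b1 b2 b3 c0 c1 c2 c3 d0 d1 d2 d3 : R)
    (hA : a0*b2 + a2*b0 + a1*b3 + a3*b1 = 0) (hC : c0*d2 + c2*d0 + c1*d3 + c3*d1 = 0)  :
     (a0*b1+a1*b0)*(c2*d3+c3*d2) + (a0*b3+a3*b0)*(c2*d1+c1*d2) + (a2*b3+a3*b2)*(c0*d1+c1*d0)
      + (a2*b1+a1*b2)*(c0*d3+c3*d0)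
      = (a0*c2+a2*c0+a1*c3+a3*c1)*(b0*d2+b2*d0+b1*d3+b3*d1)
        +(a0*d2+a2*d0+a1*d3+a3*d1)*(b0*c2+b2*c0+b1*c3+b3*c1) := by
  have h2 : (2:R) = 0 := CharTwo.two_eq_zero
  linear_combination (-(a0*b2+a2*b0)) * hC - (c1*d3+c3*d1) * hA + ((a0*b2+a2*b0)*(c1*d3+c3*d1)
    - (a0*b0*c2*d2+b1*a1*d3*c3+b3*a3*d1*c1+a2*b2*c0*d0)) * h2

theorem key3 (r0 r1 r2 r3 s0 s1 s2 s3 t0 t1 t2 t3 : R)
    (hst : s0*t1 + s1*t0 + s2*t3 + s3*t2 = 1) (hrt : r0*t1 + r1*t0 + r2*t3 + r3*t2 = 0)
    (hrs : r0*s1 + r1*s0 + r2*s3 + r3*s2 = 0) :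
    (r0*s2 + r2*s0)*(r0*t3 + r3*t0) + (r0*s3+r3*s0)*(r0*t2 + r2*t0) = r0 ^ 2 := by
  have h2 : (2:R) = 0 := CharTwo.two_eq_zero
  linear_combination r0^2 * hst + r0*t0 * hrs + r0*s0*hrt +
    (r2*r3*s0*t0 - (r0^2*s0*t1 + r0^2*s1*t0 + r0*t0*r1*s0)) * h2

end Identities

section Form

variable {F : Type*} [Field F] [CharP F 2]

theorem sympForm_eq (x y : I4 → F) : Cfsg.sympForm 2 F x y
    = x (.inl 0) * y (.inr 0) + x (.inr 0) * y (.inl 0) + x (.inl 1) * y (.inr 1) + x (.inr 1) * y (.inl 1) := by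
  have hneg : ∀ z : F, -z = z := fun z => CharTwo.neg_eq z
  unfold Cfsg.sympForm
  simp [dotProduct, mulVec, J, Matrix.fromBlocks, Fintype.sum_sum_type, Fin.sum_univ_two, Matrix.one_apply, hneg]
  ring

theorem mulVec_eq (A : Matrix I4 I4 F) (x : I4 → F) (i : I4) : (A *ᵥ x) i =
    A i (.inl 0) * x (.inl 0) + A i (.inl 1) * x (.inl 1) + A i (.inr 0) * x (.inr 0)
      + A i (.inr 1) * x (.inr 1) := by
  simp [dotProduct, mulVec, Fintype.sum_sum_type, Fin.sum_univ_two]
  ring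

theorem mul_eq (A B : Matrix I4 I4 F) (i j : I4) : (A * B) i j =
    A i (.inl 0) * B (.inl 0) j + A i (.inl 1) * B (.inl 1) j + A i (.inr 0) * B (.inr 0) j
      + A i (.inr 1) * B (.inr 1) j := by
  simp [Matrix.mul_apply, Fintype.sum_sum_type, Fin.sum_univ_two]
  ring

theorem J_apply_eq (i j : I4) : J (Fin 2) F i j = if i = Sum.swap j then 1 else 0 := by
  have hneg : ∀ z : F, -z = z := fun z => CharTwo.neg_eq z
  rcases i with i | i <;> rcases j with j | j <;>
    simp [J, Matrix.one_apply, hneg]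

/-- the rows of a symplectic matrix -/
theorem row_rel {A : Matrix I4 I4 F} (hA : A ∈ Matrix.symplecticGroup (Fin 2) F) (i j : I4) :
    A i (.inl 0) * A j (.inr 0) + A i (.inr 0) * A j (.inl 0) + A i (.inl 1) * A j (.inr 1)
      + A i (.inr 1) * A j (.inl 1) = if i = Sum.swap j then 1 else 0 := by
  have hneg : ∀ z : F, -z = z := fun z => CharTwo.neg_eq z
  rw [SymplecticGroup.mem_iff] at hA
  have := congrFun (congrFun hA i) j
  rw [J_apply_eq] at this
  rw [← this]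
  simp [Matrix.mul_apply, J, Matrix.fromBlocks, Fintype.sum_sum_type, Fin.sum_univ_two, Matrix.one_apply, hneg]
  ring

/-- the columns of a symplectic matrix -/
theorem col_rel {A : Matrix I4 I4 F} (hA : A ∈ Matrix.symplecticGroup (Fin 2) F) (i j : I4) :
    A (.inl 0) i * A (.inr 0) j + A (.inr 0) i * A (.inl 0) j + A (.inl 1) i * A (.inr 1) j
      + A (.inr 1) i * A (.inl 1) j = if i = Sum.swap j then 1 else 0 :=
  row_rel (SymplecticGroup.transpose_mem hA) i j

theorem mem_of_row_rel {A : Matrix I4 I4 F} (h : ∀ i j : I4,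
    A i (.inl 0) * A j (.inr 0) + A i (.inr 0) * A j (.inl 0) + A i (.inl 1) * A j (.inr 1)
      + A i (.inr 1) * A j (.inl 1) = if i = Sum.swap j then 1 else 0) :
    A ∈ Matrix.symplecticGroup (Fin 2) F := by
  have hneg : ∀ z : F, -z = z := fun z => CharTwo.neg_eq z
  rw [SymplecticGroup.mem_iff]
  ext i j
  rw [J_apply_eq, ← h i j]
  simp [Matrix.mul_apply, J, Matrix.fromBlocks, Fintype.sum_sum_type, Fin.sum_univ_two, Matrix.one_apply, hneg]
  ring

theorem mn_mul {A B : Matrix I4 I4 F} (hA : A ∈ Matrix.symplecticGroup (Fin 2) F)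
    (hB : B ∈ Matrix.symplecticGroup (Fin 2) F) : mn (A * B) = mn A * mn B := by
  ext i j
  have e1 : ∀ i : I4, pa i ≠ Sum.swap (pb i) := by decide
  have h1 := row_rel hA (pa i) (pb i)
  have h2 := col_rel hB (pa j) (pb j)
  rw [if_neg (e1 i)] at h1
  rw [if_neg (e1 j)] at h2
  rw [mn_apply, mul_eq, mul_eq, mul_eq, mul_eq, mul_eq]
  have h3 := key1 _ _ _ _ _ _ _ _ _ _ _ _ _ _ _ _ h1 h2
  rw [h3]
  simp only [mn_apply]
  simp only [pa_inl, pa_inr, pb_inl0, pb_inl1, pb_inr0, pb_inr1]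
  ring

theorem mn_mulVec_wedge {A : Matrix I4 I4 F} (hA : A ∈ Matrix.symplecticGroup (Fin 2) F) {x y : I4 → F}
    (hxy : Cfsg.sympForm 2 F x y = 0) : mn A *ᵥ wedge x y = wedge (A *ᵥ x) (A *ᵥ y) := by
  ext i
  have e1 : ∀ i : I4, pa i ≠ Sum.swap (pb i) := by decide
  have h1 := row_rel hA (pa i) (pb i)
  rw [if_neg (e1 i)] at h1
  rw [sympForm_eq] at hxy
  have h3 := key1 _ _ _ _ _ _ _ _ _ _ _ _ _ _ _ _ h1 hxy
  simp only [wedge_apply, mn_apply, mulVec_eq]
  simp only [pa_inl, pa_inr, pb_inl0, pb_inl1, pb_inr0, pb_inr1]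
  linear_combination (-1 : F) * h3

theorem mn_mem {A : Matrix I4 I4 F} (hA : A ∈ Matrix.symplecticGroup (Fin 2) F) :
    mn A ∈ Matrix.symplecticGroup (Fin 2) F := by
  apply mem_of_row_rel
  intro i j
  have e1 : ∀ i : I4, pa i ≠ Sum.swap (pb i) := by decide
  have h1 := row_rel hA (pa i) (pb i)
  have h2 := row_rel hA (pa j) (pb j)
  rw [if_neg (e1 i)] at h1
  rw [if_neg (e1 j)] at h2
  have h3 := key2 _ _ _ _ _ _ _ _ _ _ _ _ _ _ _ _ h1 h2
  have h4 : (if i = Sum.swap j then (1 : F) else 0)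
      = (if pa i = Sum.swap (pa j) then 1 else 0) * (if pb i = Sum.swap (pb j) then 1 else 0)
        + (if pa i = Sum.swap (pb j) then 1 else 0) * (if pb i = Sum.swap (pa j) then 1 else 0) := by
    have key : ∀ i j : I4, (i = Sum.swap j ↔ (pa i = Sum.swap (pa j) ∧ pb i = Sum.swap (pb j)))
      ∧ ¬ (pa i = Sum.swap (pb j)) := by decide
    by_cases hij : i = Sum.swap j
    · obtain ⟨h5, h6⟩ := (key i j).1.1 hij
      rw [if_pos hij, if_pos h5, if_pos h6, if_neg (key i j).2]; simp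
    · rw [if_neg hij, if_neg (key i j).2, zero_mul, add_zero]
      by_cases h5 : pa i = Sum.swap (pa j)
      · have h6 : pb i ≠ Sum.swap (pb j) := fun h6 => hij ((key i j).1.2 ⟨h5, h6⟩)
        rw [if_neg h6, mul_zero]
      · rw [if_neg h5, zero_mul]
  rw [h4, ← row_rel hA (pa i) (pa j), ← row_rel hA (pb i) (pb j), ← row_rel hA (pa i) (pb j),
    ← row_rel hA (pb i) (pa j)]
  simp only [mn_apply]
  simp only [pa_inl, pa_inr, pb_inl0, pb_inl1, pb_inr0, pb_inr1]
  linear_combination h3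

/-- The other two rows in the Frobenius computation. -/
def sI : I4 → I4
  | Sum.inl i => if i = 0 then Sum.inl 1 else Sum.inl 0
  | Sum.inr i => if i = 0 then Sum.inr 1 else Sum.inr 0

/-- The other two rows in the Frobenius computation. -/
def tI : I4 → I4
  | Sum.inl i => if i = 0 then Sum.inr 1 else Sum.inr 0
  | Sum.inr i => if i = 0 then Sum.inl 1 else Sum.inl 0

theorem mn_mn_apply (A : Matrix I4 I4 F) (i j : I4) : mn (mn A) i j =
    (A i j * A (sI i) (sI j) + A i (sI j) * A (sI i) j) * (A i j * A (tI i) (tI j) + A i (tI j) * A (tI i) j)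
    + (A i j * A (sI i) (tI j) + A i (tI j) * A (sI i) j) * (A i j * A (tI i) (sI j) + A i (sI j) * A (tI i) j) := by
  rcases i with i | i <;> rcases j with j | j <;> fin_cases i <;> fin_cases j <;>
    simp [mn, pa, pb, sI, tI] <;> ring

theorem mn_mn {A : Matrix I4 I4 F} (hA : A ∈ Matrix.symplecticGroup (Fin 2) F) (i j : I4) :
    mn (mn A) i j = A i j ^ 2 := by
  rw [mn_mn_apply]
  have e1 : ∀ i : I4, sI i = Sum.swap (tI i) ∧ i ≠ Sum.swap (sI i) ∧ i ≠ Sum.swap (tI i) := by decide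
  have hst := row_rel hA (sI i) (tI i)
  have hrt := row_rel hA i (tI i)
  have hrs := row_rel hA i (sI i)
  rw [if_pos (e1 i).1] at hst
  rw [if_neg (e1 i).2.2] at hrt
  rw [if_neg (e1 i).2.1] at hrs
  have hk : ∀ (f g : I4 → F) (j : I4), f (.inl 0) * g (.inr 0) + f (.inr 0) * g (.inl 0) + f (.inl 1) * g (.inr 1)
      + f (.inr 1) * g (.inl 1) = f j * g (Sum.swap j) + f (Sum.swap j) * g j + f (sI j) * g (tI j)
      + f (tI j) * g (sI j) := by
    intro f g j
    rcases j with j | j <;> fin_cases j <;> simp [sI, tI] <;> ring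
  rw [hk (A (sI i)) (A (tI i)) j] at hst
  rw [hk (A i) (A (tI i)) j] at hrt
  rw [hk (A i) (A (sI i)) j] at hrs
  exact key3 _ _ _ _ _ _ _ _ _ _ _ _ hst hrt hrs

end Form

/-- The graph homomorphism of `Sp_4(F)` in characteristic two. -/
def graphHom (F : Type*) [Field F] [CharP F 2] :
    Matrix.symplecticGroup (Fin 2) F →* Matrix.symplecticGroup (Fin 2) F where
  toFun A := ⟨mn A.1, mn_mem A.2⟩
  map_one' := by
    apply Subtype.ext
    have h2 : ∀ z : F, z + z = 0 := CharTwo.add_self_eq_zero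
    ext i j
    show mn (1 : Matrix I4 I4 F) i j = (1 : Matrix I4 I4 F) i j
    rw [mn_apply]
    rcases i with i | i <;> rcases j with j | j <;> fin_cases i <;> fin_cases j <;>
      simp [pa, pb, Matrix.one_apply]
  map_mul' A B := Subtype.ext (mn_mul A.2 B.2)

theorem graphHom_coe {F : Type*} [Field F] [CharP F 2] (A : Matrix.symplecticGroup (Fin 2) F) :
    (graphHom F A : Matrix I4 I4 F) = mn (A : Matrix I4 I4 F) := rfl

/-- The square of the graph homomorphism is the Frobenius map. -/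
theorem graphHom_graphHom {F : Type*} [Field F] [CharP F 2] (A : Matrix.symplecticGroup (Fin 2) F) (i j : I4) :
    (graphHom F (graphHom F A) : Matrix I4 I4 F) i j = (A : Matrix I4 I4 F) i j ^ 2 := mn_mn A.2 i j

theorem graphHom_injective (F : Type*) [Field F] [CharP F 2] : Function.Injective (graphHom F) := by
  intro A B hAB
  apply Subtype.ext
  ext i j
  have h : (A : Matrix I4 I4 F) i j ^ 2 = (B : Matrix I4 I4 F) i j ^ 2 := by
    rw [← graphHom_graphHom, ← graphHom_graphHom, hAB]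
  exact CharTwo.sq_injective h

/-- The graph automorphism of `Sp_4(F)`, `F` finite of characteristic two. -/
noncomputable def graphEquiv (F : Type*) [Field F] [Finite F] [CharP F 2] :
    Matrix.symplecticGroup (Fin 2) F ≃* Matrix.symplecticGroup (Fin 2) F :=
  MulEquiv.ofBijective (graphHom F)
    ⟨graphHom_injective F, Finite.injective_iff_surjective.1 (graphHom_injective F)⟩

theorem graphEquiv_apply {F : Type*} [Field F] [Finite F] [CharP F 2] (A : Matrix.symplecticGroup (Fin 2) F) :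
    graphEquiv F A = graphHom F A := rfl

end Cfsg.Agent.ClassicalGeometry.Sp4Graph
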