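import Mathlib
import Cfsg.Prelude.Def_ClassicalGeometry
import Cfsg.Agent.ClassicalGeometry.Sp4Graph
import Cfsg.Agent.ClassicalGeometry.SympAutSemi
import Cfsg.Agent.LieClassical.SympCenter

/-!
# The graph automorphism of `PSp_4(F)` in characteristic two and transvections

`gamma : MulAut (PSp 2 F)` interchanges the transvections and the short root elements.
-/

set_option autoImplicit false
set_option linter.unusedSectionVars false

namespace Cfsg.Agent.ClassicalGeometry.Sp4GraphAut

open Matrix Cfsg
open Cfsg.Agent.ClassicalGeometry.Sp4Graph Cfsg.Agent.ClassicalGeometry.SympBasic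

variable {F : Type*} [Field F] [CharP F 2]

/-- first basis vector -/
def e1 (F : Type*) [Field F] : I4 → F := Pi.single (Sum.inl 0) 1

/-- second basis vector -/
def e2 (F : Type*) [Field F] : I4 → F := Pi.single (Sum.inl 1) 1

/-- The short root element. -/
def S (b : F) : Matrix.symplecticGroup (Fin 2) F := transv (e1 F + e2 F) b * transv (e1 F) b * transv (e2 F) b

theorem S_def (b : F) : S b = transv (Pi.single (Sum.inl 0) 1 + Pi.single (Sum.inl 1) 1) b
    * transv (Pi.single (Sum.inl 0) 1) b * transv (Pi.single (Sum.inl 1) 1) b := rfl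

theorem S_mulVec (b : F) (x : I4 → F) : (S b : Matrix I4 I4 F) *ᵥ x
    = x + (b * x (.inr 1)) • e1 F + (b * x (.inr 0)) • e2 F := by
  have hneg : ∀ z : F, -z = z := fun z => CharTwo.neg_eq z
  have hadd : ∀ z : F, z + z = 0 := CharTwo.add_self_eq_zero
  have h2 : (2 : F) = 0 := CharTwo.two_eq_zero
  unfold S
  rw [coe_mul_mulVec, coe_mul_mulVec, coe_transv, coe_transv, coe_transv, sympTransvection_mulVec,
    sympTransvection_mulVec, sympTransvection_mulVec]
  simp only [sympForm_eq, e1, e2]
  ext i
  rcases i with i | i <;> fin_cases i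
  · simp
    linear_combination (b * x (.inr 0)) * h2
  · simp
    linear_combination (b * x (.inr 1)) * h2
  · simp
  · simp

theorem S_coe (b : F) : (S b : Matrix I4 I4 F)
    = Matrix.of fun i j => (if i = j then 1 else 0) + (if i = .inl 0 ∧ j = .inr 1 then b else 0)
      + (if i = .inl 1 ∧ j = .inr 0 then b else 0) := by
  rw [← Matrix.mulVec_injective.eq_iff]
  funext x
  rw [S_mulVec]
  ext i
  rcases i with i | i <;> fin_cases i <;>
    simp [mulVec, dotProduct, Fintype.sum_sum_type, Fin.sum_univ_two, e1, e2]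

theorem transv_coe (c : F) : (transv (e1 F) c : Matrix I4 I4 F)
    = Matrix.of fun i j => (if i = j then 1 else 0) + (if i = .inl 0 ∧ j = .inr 0 then c else 0) := by
  rw [← Matrix.mulVec_injective.eq_iff]
  funext x
  rw [coe_transv, sympTransvection_mulVec, sympForm_eq]
  ext i
  rcases i with i | i <;> fin_cases i <;>
    simp [mulVec, dotProduct, Fintype.sum_sum_type, Fin.sum_univ_two, e1]

theorem graphHom_S (b : F) : graphHom F (S b) = transv (e1 F) (b ^ 2) := by
  apply Subtype.ext
  have h2 : (2 : F) = 0 := CharTwo.two_eq_zero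
  have hadd : ∀ z : F, z + z = 0 := CharTwo.add_self_eq_zero
  rw [graphHom_coe, S_coe, transv_coe]
  ext i j
  rw [mn_apply]
  rcases i with i | i <;> rcases j with j | j <;> fin_cases i <;> fin_cases j <;>
      simp [pa, pb] <;> ring

theorem graphHom_transv (c : F) : graphHom F (transv (e1 F) c) = S c := by
  apply Subtype.ext
  have h2 : (2 : F) = 0 := CharTwo.two_eq_zero
  have hadd : ∀ z : F, z + z = 0 := CharTwo.add_self_eq_zero
  rw [graphHom_coe, S_coe, transv_coe]
  ext i j
  rw [mn_apply]
  rcases i with i | i <;> rcases j with j | j <;> fin_cases i <;> fin_cases j <;>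
      simp [pa, pb]

/-- The centre is trivial in characteristic two. -/
theorem center_eq_bot {m : ℕ} (hm : 1 ≤ m) : Subgroup.center (Matrix.symplecticGroup (Fin m) F) = ⊥ := by
  rw [eq_bot_iff]
  intro A hA
  obtain ⟨a, ha⟩ := (Cfsg.Agent.LieClassical.SympCenter.mem_center_iff m A).1 hA
  have h := Cfsg.Agent.LieClassical.SympCenter.sq_eq_one_of_smul_mem hm (a := a) (by rw [← ha]; exact A.2)
  have ha1 : a = 1 := by
    have : a ^ 2 = 1 ^ 2 := by rw [sq, h, one_pow]
    exact CharTwo.sq_injective this
  rw [Subgroup.mem_bot]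
  apply Subtype.ext
  rw [ha, ha1, one_smul]
  rfl

theorem mk_injective {m : ℕ} (hm : 1 ≤ m) {A B : Matrix.symplecticGroup (Fin m) F}
    (h : (QuotientGroup.mk A : PSp m F) = QuotientGroup.mk B) : A = B := by
  have h1 := QuotientGroup.eq.1 h
  rw [center_eq_bot hm, Subgroup.mem_bot] at h1
  exact (inv_mul_eq_one.1 h1)

theorem S_ne_transv {b : F} (hb : b ≠ 0) (w : I4 → F) (c : F) : S b ≠ transv w c := by
  intro h
  have h1 : ∀ x : I4 → F, (b * x (.inr 1)) • e1 F + (b * x (.inr 0)) • e2 F = (c * sympForm 2 F x w) • w := by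
    intro x
    have h2 : (S b : Matrix I4 I4 F) *ᵥ x = (transv w c : Matrix I4 I4 F) *ᵥ x := by rw [h]
    rw [S_mulVec, coe_transv, sympTransvection_mulVec, add_assoc] at h2
    exact add_left_cancel h2
  have h3 := h1 (Pi.single (.inr 1) 1)
  have h4 := h1 (Pi.single (.inr 0) 1)
  set s := c * sympForm 2 F (Pi.single (.inr 1) 1) w
  set t := c * sympForm 2 F (Pi.single (.inr 0) 1) w
  have e10 : b = s * w (.inl 0) := by
    have := congrFun h3 (.inl 0)
    simpa [e1, e2] using this
  have e11 : 0 = s * w (.inl 1) := by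
    have := congrFun h3 (.inl 1)
    simpa [e1, e2] using this
  have e21 : b = t * w (.inl 1) := by
    have := congrFun h4 (.inl 1)
    simpa [e1, e2] using this
  have hs : s ≠ 0 := by
    intro h0; rw [h0, zero_mul] at e10; exact hb e10
  have hw : w (.inl 1) = 0 := (mul_eq_zero.1 e11.symm).resolve_left hs
  rw [hw, mul_zero] at e21
  exact hb e21

variable (F) in
/-- The graph automorphism of `PSp_4(F)`, `F` finite of characteristic two. -/
noncomputable def gamma [Finite F] : MulAut (PSp 2 F) :=
  Cfsg.Agent.ClassicalGeometry.SympAutSemi.quotAut (graphEquiv F)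

theorem gamma_mk [Finite F] (A : Matrix.symplecticGroup (Fin 2) F) :
    gamma F (QuotientGroup.mk A) = QuotientGroup.mk (graphHom F A) := rfl

theorem gamma_S [Finite F] (b : F) : gamma F (QuotientGroup.mk (S b)) = QuotientGroup.mk (transv (e1 F) (b ^ 2)) := by
  rw [gamma_mk, graphHom_S]

theorem gamma_transv [Finite F] (c : F) : gamma F (QuotientGroup.mk (transv (e1 F) c)) = QuotientGroup.mk (S c) := by
  rw [gamma_mk, graphHom_transv]

theorem e1_ne_zero : e1 F ≠ 0 := by
  intro h
  have := congrFun h (.inl 0)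
  simp [e1] at this

/-- Short root elements go to transvections. -/
theorem exists_gamma_S [Finite F] {b : F} (hb : b ≠ 0) : ∃ (w : I4 → F) (c : F), w ≠ 0 ∧ c ≠ 0 ∧
    gamma F (QuotientGroup.mk (S b)) = QuotientGroup.mk (transv w c) :=
  ⟨e1 F, b ^ 2, e1_ne_zero, pow_ne_zero 2 hb, gamma_S b⟩

/-- Some transvection does not go to a transvection. -/
theorem gamma_transv_ne [Finite F] {c : F} (hc : c ≠ 0) (w : I4 → F) (d : F) :
    gamma F (QuotientGroup.mk (transv (e1 F) c)) ≠ QuotientGroup.mk (transv w d) := by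
  rw [gamma_transv]
  intro h
  exact S_ne_transv hc w d (mk_injective (by norm_num) h)

end Cfsg.Agent.ClassicalGeometry.Sp4GraphAut
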