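import Mathlib
import Cfsg.Agent.ClassicalGeometry.SympSiegel
import Cfsg.Agent.LieClassical.SympSimple

/-!
Elements centralising a Sylow `p`-subgroup; the case of transvections in `PSp`.
-/

set_option autoImplicit false
open Cfsg
open scoped Matrix

namespace Cfsg.Agent.ClassicalGeometry.SympAutSylow

open Cfsg.Agent.ClassicalGeometry.SympBasic
open Cfsg.Agent.ClassicalGeometry.SympSiegel

section General

variable {S : Type*} [Group S]

/-- `s` centralises some Sylow `p`-subgroup. -/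
def PCentral (p : ℕ) (s : S) : Prop := ∃ Q : Sylow p S, ∀ x ∈ Q, x * s = s * x

theorem PCentral.map {T : Type*} [Group T] [Finite S] {p : ℕ} [Fact p.Prime] {s : S}
    (h : PCentral p s) (φ : S →* T) (hφ : Function.Surjective φ) : PCentral p (φ s) := by
  obtain ⟨Q, hQ⟩ := h
  refine ⟨Q.mapSurjective hφ, ?_⟩
  intro x hx
  have hx' : x ∈ (Q : Subgroup S).map φ := hx
  obtain ⟨y, hy, rfl⟩ := Subgroup.mem_map.1 hx'
  rw [← map_mul, ← map_mul, hQ y hy]

theorem PCentral.exists_conj [Finite S] {p : ℕ} [Fact p.Prime] {s : S} (h : PCentral p s)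
    {U : Subgroup S} (hU : IsPGroup p U) : ∃ g : S, ∀ u ∈ U, u * (g * s * g⁻¹) = g * s * g⁻¹ * u := by
  obtain ⟨Q, hQ⟩ := h
  obtain ⟨Q', hQ'⟩ := hU.exists_le_sylow
  obtain ⟨g, hg⟩ := MulAction.exists_smul_eq S Q Q'
  refine ⟨g, fun u hu => ?_⟩
  have h1 : u ∈ ((g • Q : Sylow p S) : Subgroup S) := by rw [hg]; exact hQ' hu
  rw [Sylow.coe_subgroup_smul, Subgroup.mem_pointwise_smul_iff_inv_smul_mem] at h1
  have h2 := hQ _ h1
  have h3 : (MulAut.conj g)⁻¹ • u = g⁻¹ * u * g := by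
    rw [MulAut.smul_def, MulAut.conj_inv_apply]
  rw [h3] at h2
  calc u * (g * s * g⁻¹) = g * ((g⁻¹ * u * g) * s) * g⁻¹ := by group
    _ = g * (s * (g⁻¹ * u * g)) * g⁻¹ := by rw [h2]
    _ = g * s * g⁻¹ * u := by group

end General

variable {F : Type*} [Field F] {m : ℕ}

local notation "V" => (Fin m ⊕ Fin m → F)
local notation "G" => Matrix.symplecticGroup (Fin m) F
local notation "f" => sympForm m F

/-- A `p`-subgroup of `Sp` fixes a non-zero vector (`p` the characteristic). -/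
theorem exists_fixed_vector [Finite F] {p : ℕ} [Fact p.Prime] [CharP F p] (hm : 1 ≤ m)
    (Q : Subgroup G) (hQ : IsPGroup p Q) : ∃ v : V, v ≠ 0 ∧ ∀ g ∈ Q, g • v = v := by
  have hdvd : p ∣ Nat.card V := by
    have : Fintype F := Fintype.ofFinite F
    obtain ⟨n, -, hn⟩ := FiniteField.card F p
    rw [Nat.card_fun, Nat.card_eq_fintype_card, hn]
    have h1 : Nat.card (Fin m ⊕ Fin m) ≠ 0 := by
      rw [Nat.card_eq_fintype_card, Fintype.card_sum, Fintype.card_fin]
      omega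
    exact dvd_pow (dvd_pow_self p n.pos.ne') h1
  have h0 : (0 : V) ∈ MulAction.fixedPoints Q V := fun g => smul_zero' g.1
  obtain ⟨v, hv, hne⟩ := hQ.exists_fixed_point_of_prime_dvd_card_of_fixed_point V hdvd h0
  exact ⟨v, hne.symm, fun g hg => hv ⟨g, hg⟩⟩

/-- Transvections centralise a Sylow `p`-subgroup. -/
theorem pCentral_transv [Finite F] {p : ℕ} [Fact p.Prime] [CharP F p] (hm : 1 ≤ m)
    {v : V} (hv : v ≠ 0) (c : F) : PCentral p (transv v c) := by
  obtain ⟨Q⟩ : Nonempty (Sylow p G) := inferInstance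
  obtain ⟨w, hw, hfix⟩ := exists_fixed_vector hm (Q : Subgroup G) Q.2
  obtain ⟨g, -, hg⟩ := exists_transvGroup_mulVec_eq hw hv
  have hg' : g • w = v := hg
  refine ⟨g • Q, fun x hx => ?_⟩
  have h1 : x ∈ ((g • Q : Sylow p G) : Subgroup G) := hx
  rw [Sylow.coe_subgroup_smul, Subgroup.mem_pointwise_smul_iff_inv_smul_mem] at h1
  have h3 : (MulAut.conj g)⁻¹ • x = g⁻¹ * x * g := by
    rw [MulAut.smul_def, MulAut.conj_inv_apply]
  rw [h3] at h1
  have h2 := hfix _ h1
  have h4 : x • v = v := by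
    rw [mul_smul, mul_smul, hg', inv_smul_eq_iff, hg'] at h2
    exact h2
  have h5 := conj_transv x v c
  rw [h4] at h5
  exact mul_inv_eq_iff_eq_mul.1 h5

/-- `PSp`-version. -/
theorem pCentral_mk_transv [Finite F] {p : ℕ} [Fact p.Prime] [CharP F p] (hm : 1 ≤ m)
    {v : V} (hv : v ≠ 0) (c : F) :
    PCentral p (QuotientGroup.mk (transv v c) : PSp m F) :=
  (pCentral_transv hm hv c).map (QuotientGroup.mk' _) (QuotientGroup.mk'_surjective _)

/-! ### The unipotent group -/

/-- Height function on the indices. -/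
def ht (m : ℕ) : Fin m ⊕ Fin m → ℕ := Sum.elim (fun i => i) (fun i => 2 * m - i)

/-- Strictly upper triangular with respect to `ht`. -/
def SU (X : Matrix (Fin m ⊕ Fin m) (Fin m ⊕ Fin m) F) : Prop :=
  ∀ a b, X a b ≠ 0 → ht m a < ht m b

theorem SU.add {X Y : Matrix (Fin m ⊕ Fin m) (Fin m ⊕ Fin m) F} (hX : SU X) (hY : SU Y) :
    SU (X + Y) := by
  intro a b h
  by_cases hx : X a b = 0
  · apply hY
    rw [Matrix.add_apply, hx, zero_add] at h
    exact h
  · exact hX a b hx

theorem SU.smul {X : Matrix (Fin m ⊕ Fin m) (Fin m ⊕ Fin m) F} (hX : SU X) (c : F) :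
    SU (c • X) := by
  intro a b h
  apply hX
  intro h0
  rw [Matrix.smul_apply, h0, smul_zero] at h
  exact h rfl

theorem SU.mul {X Y : Matrix (Fin m ⊕ Fin m) (Fin m ⊕ Fin m) F} (hX : SU X) (hY : SU Y) :
    SU (X * Y) := by
  intro a b h
  rw [Matrix.mul_apply] at h
  obtain ⟨c, -, hc⟩ := Finset.exists_ne_zero_of_sum_ne_zero h
  exact (hX a c (left_ne_zero_of_mul hc)).trans (hY c b (right_ne_zero_of_mul hc))

theorem SU.pow_apply {X : Matrix (Fin m ⊕ Fin m) (Fin m ⊕ Fin m) F} (hX : SU X) (k : ℕ)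
    (a b : Fin m ⊕ Fin m) (h : (X ^ k) a b ≠ 0) : ht m a + k ≤ ht m b := by
  induction k generalizing b with
  | zero =>
    rw [pow_zero, Matrix.one_apply] at h
    have : a = b := by
      by_contra hab
      rw [if_neg hab] at h
      exact h rfl
    rw [this, add_zero]
  | succ k ih =>
    rw [pow_succ, Matrix.mul_apply] at h
    obtain ⟨c, -, hc⟩ := Finset.exists_ne_zero_of_sum_ne_zero h
    have h1 := ih c (left_ne_zero_of_mul hc)
    have h2 := hX c b (right_ne_zero_of_mul hc)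
    omega

theorem SU.pow_eq_zero {X : Matrix (Fin m ⊕ Fin m) (Fin m ⊕ Fin m) F} (hX : SU X) {k : ℕ}
    (hk : 2 * m < k) : X ^ k = 0 := by
  ext a b
  by_contra h
  have h1 := hX.pow_apply k a b h
  have h2 : ht m b ≤ 2 * m := by
    rcases b with i | i
    · change (i : ℕ) ≤ 2 * m
      omega
    · change 2 * m - (i : ℕ) ≤ 2 * m
      omega
  omega

/-- The upper unitriangular symplectic matrices. -/
def unip (m : ℕ) (F : Type*) [Field F] [Finite F] :
    Subgroup (Matrix.symplecticGroup (Fin m) F) where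
  carrier := {g | SU ((g : Matrix (Fin m ⊕ Fin m) (Fin m ⊕ Fin m) F) - 1)}
  mul_mem' := by
    intro g h hg hh
    have : ((g * h : Matrix.symplecticGroup (Fin m) F) : Matrix (Fin m ⊕ Fin m) (Fin m ⊕ Fin m) F) - 1 =
      ((g : Matrix (Fin m ⊕ Fin m) (Fin m ⊕ Fin m) F) - 1) *
      ((h : Matrix (Fin m ⊕ Fin m) (Fin m ⊕ Fin m) F) - 1) +
      ((g : Matrix (Fin m ⊕ Fin m) (Fin m ⊕ Fin m) F) - 1) +
      ((h : Matrix (Fin m ⊕ Fin m) (Fin m ⊕ Fin m) F) - 1) := by
      rw [Submonoid.coe_mul]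
      noncomm_ring
    change SU _
    rw [this]
    exact ((SU.mul hg hh).add hg).add hh
  one_mem' := by
    change SU _
    rw [Submonoid.coe_one, sub_self]
    intro a b h
    exact absurd (Matrix.zero_apply a b) h
  inv_mem' := by
    intro g hg
    have hfin : IsOfFinOrder g := isOfFinOrder_of_finite g
    have hpow : ∀ k : ℕ, SU (((g ^ k : Matrix.symplecticGroup (Fin m) F) : Matrix (Fin m ⊕ Fin m) (Fin m ⊕ Fin m) F) - 1) := by
      intro k
      induction k with
      | zero =>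
        rw [pow_zero, Submonoid.coe_one, sub_self]
        intro a b h
        exact absurd (Matrix.zero_apply a b) h
      | succ k ih =>
        have : ((g ^ (k + 1) : Matrix.symplecticGroup (Fin m) F) : Matrix (Fin m ⊕ Fin m) (Fin m ⊕ Fin m) F) - 1 =
          (((g ^ k : Matrix.symplecticGroup (Fin m) F) : Matrix (Fin m ⊕ Fin m) (Fin m ⊕ Fin m) F) - 1) *
          ((g : Matrix (Fin m ⊕ Fin m) (Fin m ⊕ Fin m) F) - 1) +
          (((g ^ k : Matrix.symplecticGroup (Fin m) F) : Matrix (Fin m ⊕ Fin m) (Fin m ⊕ Fin m) F) - 1) +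
          ((g : Matrix (Fin m ⊕ Fin m) (Fin m ⊕ Fin m) F) - 1) := by
          rw [pow_succ, Submonoid.coe_mul]
          noncomm_ring
        rw [this]
        exact ((SU.mul ih hg).add ih).add hg
    have : g⁻¹ = g ^ (orderOf g - 1) := by
      rw [inv_eq_iff_mul_eq_one, ← pow_succ', Nat.sub_add_cancel hfin.orderOf_pos,
        pow_orderOf_eq_one]
    rw [this]
    exact hpow _

theorem mem_unip [Finite F] {g : G} :
    g ∈ unip m F ↔ SU ((g : Matrix (Fin m ⊕ Fin m) (Fin m ⊕ Fin m) F) - 1) := Iff.rfl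

theorem isPGroup_unip [Finite F] {p : ℕ} [Fact p.Prime] [CharP F p] :
    IsPGroup p (unip m F) := by
  intro g
  obtain ⟨k, hk⟩ : ∃ k : ℕ, 2 * m < p ^ k := by
    obtain ⟨k, hk⟩ := pow_unbounded_of_one_lt (2 * m) (Fact.out : p.Prime).one_lt
    exact ⟨k, hk⟩
  refine ⟨k, ?_⟩
  apply Subtype.ext
  apply Subtype.ext
  have h0 := (mem_unip.1 g.2).pow_eq_zero hk
  have hcomm : Commute (g.1 : Matrix (Fin m ⊕ Fin m) (Fin m ⊕ Fin m) F) 1 := Commute.one_right _
  haveI : CharP (Matrix (Fin m ⊕ Fin m) (Fin m ⊕ Fin m) F) p ∨ IsEmpty (Fin m) := by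
    by_cases hm : IsEmpty (Fin m)
    · exact Or.inr hm
    · left
      rw [not_isEmpty_iff] at hm
      infer_instance
  rcases this with hch | hemp
  · rw [sub_pow_char_pow_of_commute p k hcomm, one_pow, sub_eq_zero] at h0
    exact h0
  · exact Subsingleton.elim _ _

end Cfsg.Agent.ClassicalGeometry.SympAutSylow
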