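import Mathlib
import Cfsg.Agent.ClassicalGeometry.SympAutCentral

/-!
The elements of `PSp` commuting with the unipotent group: `1 + a e₁⊗e₁ + b (e₁⊗e₂ + e₂⊗e₁)` with `2b = 0`.
-/

set_option autoImplicit false
open Cfsg
open scoped Matrix

namespace Cfsg.Agent.ClassicalGeometry.SympAutForm

open Cfsg.Agent.ClassicalGeometry.SympBasic
open Cfsg.Agent.ClassicalGeometry.SympSiegel
open Cfsg.Agent.ClassicalGeometry.SympAutSylow
open Cfsg.Agent.ClassicalGeometry.SympAutCentral

variable {F : Type*} [Field F] {m : ℕ}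

local notation "V" => (Fin m ⊕ Fin m → F)
local notation "G" => Matrix.symplecticGroup (Fin m) F
local notation "f" => sympForm m F

theorem form_eq_zero_of_inr {u v : V} (hu : ∀ i, u (Sum.inr i) = 0) (hv : ∀ i, v (Sum.inr i) = 0) :
    f u v = 0 := by
  rw [sympForm_eq_sum]
  refine Finset.sum_eq_zero fun i _ => ?_
  rw [hu, hv]
  ring

theorem central_form [Finite F] (hm : 2 ≤ m) {z : G}
    (hz : ∀ u ∈ unip m F, (QuotientGroup.mk u : PSp m F) * QuotientGroup.mk z =
      QuotientGroup.mk z * QuotientGroup.mk u) :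
    ∃ a b : F, 2 * b = 0 ∧ (QuotientGroup.mk z : PSp m F) =
      QuotientGroup.mk (siegel (E F ⟨0, by omega⟩) (b • E F ⟨1, by omega⟩) a) := by
  have hE : ∀ i : Fin m, ∃ a : F, a * a = 1 ∧ z • E F i = a • E F i := fun i =>
    smul_eq_of_commute hm (E_ne_zero i) one_ne_zero
      (hz _ (transv_mem_unip (fun j => E_inr i j) 1))
  choose a ha1 ha2 using hE
  have haij : ∀ i j : Fin m, i ≠ j → a i = a j := by
    intro i j hij
    have hne : E F i + E F j ≠ 0 := by
      intro h
      have := congrFun h (Sum.inl i)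
      rw [Pi.add_apply, E_inl, E_inl, if_pos rfl, if_neg hij, add_zero] at this
      exact one_ne_zero this
    obtain ⟨b, -, hb⟩ := smul_eq_of_commute hm hne one_ne_zero
      (hz _ (transv_mem_unip (fun k => by
        rw [Pi.add_apply, E_inr, E_inr, add_zero]) 1))
    rw [smul_add', ha2, ha2] at hb
    have h1 := congrFun hb (Sum.inl i)
    have h2 := congrFun hb (Sum.inl j)
    simp only [Pi.add_apply, Pi.smul_apply, smul_eq_mul, E_inl, if_neg hij,
      if_neg hij.symm, if_true, mul_one, mul_zero, add_zero, zero_add] at h1 h2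
    rw [h1, h2]
  let i0 : Fin m := ⟨0, by omega⟩
  let i1 : Fin m := ⟨1, by omega⟩
  have h01 : i0 < i1 := by
    change (0 : ℕ) < 1
    omega
  have hconst : ∀ i, a i = a i0 := by
    intro i
    by_cases h : i = i0
    · rw [h]
    · exact haij i i0 h
  obtain ⟨ζ, hζ⟩ := exists_scal (m := m) (ha1 i0)
  have hζc : (QuotientGroup.mk ζ : PSp m F) = 1 :=
    (QuotientGroup.eq_one_iff ζ).2 (mem_center_of_scalar hζ)
  obtain ⟨z', hz'⟩ : ∃ z' : G, z' = ζ * z := ⟨_, rfl⟩
  have hmk : (QuotientGroup.mk z' : PSp m F) = QuotientGroup.mk z := by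
    rw [hz', QuotientGroup.mk_mul, hζc, one_mul]
  have hzE : ∀ i : Fin m, z' • E F i = E F i := by
    intro i
    rw [hz', mul_smul, ha2, hζ, smul_smul, hconst i, ha1, one_smul]
  have hcomm : ∀ u ∈ unip m F, (QuotientGroup.mk u : PSp m F) * QuotientGroup.mk z' =
      QuotientGroup.mk z' * QuotientGroup.mk u := by
    rw [hmk]
    exact hz
  -- the coordinates
  have hinr : ∀ k l : Fin m, (z' • E' F k : V) (Sum.inr l) = E' F k (Sum.inr l) := by
    intro k l
    have h1 : f (z' • E' F k) (z' • E F l) = f (E' F k) (E F l) := form_smul _ _ _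
    rw [hzE, form_E_right, form_E_right] at h1
    exact h1
  set S : Fin m → Fin m → F := fun l k => (z' • E' F k : V) (Sum.inl l) with hS
  have hsymm : ∀ k l, S l k = S k l := by
    intro k l
    have h1 : f (z' • E' F k) (z' • E' F l) = f (E' F k) (E' F l) := form_smul _ _ _
    obtain ⟨w, hw⟩ : ∃ w, z' • E' F k = E' F k + w := ⟨z' • E' F k - E' F k, by abel⟩
    obtain ⟨w', hw'⟩ : ∃ w', z' • E' F l = E' F l + w' := ⟨z' • E' F l - E' F l, by abel⟩
    have hw0 : ∀ i, w (Sum.inr i) = 0 := by
      intro i
      have := hinr k i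
      rw [hw, Pi.add_apply] at this
      exact left_eq_add.1 this.symm
    have hw0' : ∀ i, w' (Sum.inr i) = 0 := by
      intro i
      have := hinr l i
      rw [hw', Pi.add_apply] at this
      exact left_eq_add.1 this.symm
    rw [hw, hw', sympForm_add_left, sympForm_add_right, sympForm_add_right,
      form_eq_zero_of_inr hw0 hw0', form_E'_left, form_E'_left, form_E'_right, E'_inl] at h1
    have e1 : S l k = w (Sum.inl l) := by
      simp only [hS]
      rw [hw, Pi.add_apply, E'_inl, zero_add]
    have e2 : S k l = w' (Sum.inl k) := by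
      simp only [hS]
      rw [hw', Pi.add_apply, E'_inl, zero_add]
    rw [e1, e2]
    linear_combination -h1
  have hrel : ∀ i j, i < j → ∀ k, S j k = -(if i = k then 1 else 0) * S i j := by
    intro i j hij k
    have h0 : f (E F i) (E' F j) = 0 := by
      rw [form_E_left, E'_inr, if_neg hij.ne, neg_zero]
    have h1 := hcomm _ (siegel_mem_unip (F := F) hij)
    rw [← QuotientGroup.mk_mul, ← QuotientGroup.mk_mul] at h1
    obtain ⟨b, -, hb⟩ := mk_eq_mk_iff.1 h1
    have hb1 : b = 1 := by
      have h2 := hb (E F i)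
      rw [mul_smul, mul_smul, hzE, smul_siegel_self h0, hzE] at h2
      have h3 := congrFun h2 (Sum.inl i)
      rw [Pi.smul_apply, E_inl, if_pos rfl, smul_eq_mul, mul_one] at h3
      exact h3.symm
    subst hb1
    have h2 := hb (E' F k)
    rw [one_smul, mul_smul, mul_smul, siegel_smul h0, siegel_smul h0, form_E'_left, form_E'_left,
      form_E_left, form_E_left, hinr, E'_inl] at h2
    simp only [zero_smul, add_zero] at h2
    rw [smul_add', smul_smul'] at h2
    have h3 := congrFun h2 (Sum.inl i)
    simp only [Pi.add_apply, Pi.smul_apply, smul_eq_mul, E_inl, E'_inr, E'_inl, if_true,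
      mul_one, mul_zero, add_zero] at h3
    have h4 : S j k = (z' • E' F k : V) (Sum.inl j) := rfl
    have h5 : S i j = (z' • E' F j : V) (Sum.inl i) := rfl
    rw [h4, h5]
    linear_combination -h3
  have hzero : ∀ j, i1 < j → ∀ k, S j k = 0 := by
    intro j hj k
    by_cases hk : k = i0
    · have := hrel i1 j hj k
      rw [hk, if_neg h01.ne', neg_zero, zero_mul] at this
      rw [hk, this]
    · have := hrel i0 j (h01.trans hj) k
      rw [if_neg (Ne.symm hk), neg_zero, zero_mul] at this
      exact this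
  have hone : ∀ k, k ≠ i0 → S i1 k = 0 := by
    intro k hk
    have := hrel i0 i1 h01 k
    rw [if_neg (Ne.symm hk), neg_zero, zero_mul] at this
    exact this
  have htwo : 2 * S i0 i1 = 0 := by
    have h1 := hrel i0 i1 h01 i0
    rw [if_pos rfl] at h1
    have h2 := hsymm i0 i1
    linear_combination h1 - h2
  have hcases : ∀ l : Fin m, l = i0 ∨ l = i1 ∨ i1 < l := by
    intro l
    rcases Nat.lt_trichotomy (l : ℕ) 1 with h | h | h
    · left
      apply Fin.ext
      change (l : ℕ) = 0
      omega
    · right; left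
      exact Fin.ext h
    · right; right
      exact h
  refine ⟨-S i0 i0, -S i0 i1, by linear_combination -htwo, ?_⟩
  rw [← hmk]
  congr 1
  have hperp : f (E F i0) (-S i0 i1 • E F i1) = 0 := by
    rw [form_E_left, Pi.smul_apply, E_inr, smul_zero, neg_zero]
  apply ext_basis
  · intro i
    rw [hzE]
    change E F i = siegel (E F i0) (-S i0 i1 • E F i1) (-S i0 i0) • E F i
    rw [siegel_smul hperp, sympForm_smul_left, form_E_left, form_E_left, E_inr, E_inr, neg_zero,
      mul_zero, zero_smul, zero_smul, add_zero, add_zero]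
  · intro k
    change z' • E' F k = siegel (E F i0) (-S i0 i1 • E F i1) (-S i0 i0) • E' F k
    rw [siegel_smul hperp, sympForm_smul_left, form_E_left, form_E_left]
    funext l
    rcases l with l | l
    · simp only [Pi.add_apply, Pi.smul_apply, smul_eq_mul, E_inl, E'_inl, E'_inr]
      change S l k = _
      rcases hcases k with rfl | rfl | hk
      · rcases hcases l with rfl | rfl | hl
        · simp [h01.ne, h01.ne']
        · simp [h01.ne, h01.ne', hsymm i0 i1]
        · simp [(h01.trans hl).ne', hl.ne', h01.ne, h01.ne', hzero l hl]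
      · rcases hcases l with rfl | rfl | hl
        · simp [h01.ne, h01.ne']
        · simp [h01.ne, h01.ne', hone i1 h01.ne']
        · simp [(h01.trans hl).ne', hl.ne', h01.ne, h01.ne', hzero l hl]
      · rw [hsymm k l, hzero k hk]
        simp [(h01.trans hk).ne, hk.ne]
    · simp only [Pi.add_apply, Pi.smul_apply, smul_eq_mul, E_inr, hinr]
      ring

end Cfsg.Agent.ClassicalGeometry.SympAutForm
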