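import Mathlib
import Cfsg.Agent.ClassicalGeometry.SympAutForm

/-!
Characteristic two: transvections form a class of odd transpositions; other classes of `2`-central involutions
do not when `m ≥ 3`.
-/

set_option autoImplicit false
open Cfsg
open scoped Matrix

namespace Cfsg.Agent.ClassicalGeometry.SympAutOdd

open Cfsg.Agent.ClassicalGeometry.SympBasic
open Cfsg.Agent.ClassicalGeometry.SympSiegel
open Cfsg.Agent.ClassicalGeometry.SympAutSylow
open Cfsg.Agent.ClassicalGeometry.SympAutCentral
open Cfsg.Agent.ClassicalGeometry.SympAutForm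

section General

variable {S T : Type*} [Group S] [Group T]

/-- Any conjugate of `s` commutes with `s` or has with it a product of odd order. -/
def OddProp (s : S) : Prop :=
  ∀ g : S, Commute s (g * s * g⁻¹) ∨ Odd (orderOf (s * (g * s * g⁻¹)))

theorem OddProp.map {s : S} (h : OddProp s) (e : S ≃* T) : OddProp (e s) := by
  intro g
  have key : g * e s * g⁻¹ = e (e.symm g * s * (e.symm g)⁻¹) := by
    rw [map_mul, map_mul, map_inv, e.apply_symm_apply]
  rw [key, ← map_mul]
  rcases h (e.symm g) with h1 | h1
  · exact Or.inl (h1.map e)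
  · right
    rw [MulEquiv.orderOf_eq]
    exact h1

theorem OddProp.conj {s : S} (h : OddProp s) (g : S) : OddProp (g * s * g⁻¹) :=
  h.map (MulAut.conj g)

end General

variable {F : Type*} [Field F] {m : ℕ}

local notation "V" => (Fin m ⊕ Fin m → F)
local notation "G" => Matrix.symplecticGroup (Fin m) F
local notation "f" => sympForm m F

theorem mk_injective (h2 : (2 : F) = 0) :
    Function.Injective (QuotientGroup.mk' (Subgroup.center (Matrix.symplecticGroup (Fin m) F))) := by
  intro A B h
  obtain ⟨b, hb, hv⟩ := mk_eq_mk_iff.1 h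
  have hb1 : b = 1 := by
    have : (b - 1) ^ 2 = 0 := by linear_combination hb + h2 * (1 - b)
    exact sub_eq_zero.1 (pow_eq_zero_iff (two_ne_zero) |>.1 this)
  subst hb1
  apply ext_smul
  intro v
  rw [hv, one_smul]

/-- The failure of `OddProp` can be checked in `Sp`. -/
theorem not_oddProp_mk (h2 : (2 : F) = 0) {s g : G} (h1 : ¬ Commute s (g * s * g⁻¹))
    (h3 : ¬ Odd (orderOf (s * (g * s * g⁻¹)))) :
    ¬ OddProp (QuotientGroup.mk s : PSp m F) := by
  intro h
  rcases h (QuotientGroup.mk g) with h4 | h4
  · apply h1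
    apply mk_injective h2
    exact h4
  · apply h3
    rw [← orderOf_injective _ (mk_injective h2)]
    exact h4

theorem oddProp_mk (h2 : (2 : F) = 0) {s : G}
    (h : ∀ g : G, Commute s (g * s * g⁻¹) ∨ Odd (orderOf (s * (g * s * g⁻¹)))) :
    OddProp (QuotientGroup.mk s : PSp m F) := by
  intro g
  obtain ⟨g, rfl⟩ := QuotientGroup.mk_surjective g
  rcases h g with h4 | h4
  · left
    exact h4.map (QuotientGroup.mk' _)
  · right
    rw [← orderOf_injective _ (mk_injective h2)] at h4
    exact h4

/-! ### Transvections -/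

theorem odd_transv_mul [Finite F] (h2 : (2 : F) = 0) (hm : 2 ≤ m) {v w : V} (hvw : f v w ≠ 0)
    {c d : F} (hc : c ≠ 0) (hd : d ≠ 0) : Odd (orderOf (transv v c * transv w d)) := by
  by_contra hodd
  rw [Nat.not_odd_iff_even] at hodd
  obtain ⟨k, hk⟩ := hodd
  set g := transv v c * transv w d with hg
  have hpos : 0 < orderOf g := orderOf_pos g
  have hv0 : v ≠ 0 := by
    rintro rfl
    exact hvw (sympForm_zero_left _)
  have hw0 : w ≠ 0 := by
    rintro rfl
    exact hvw (sympForm_zero_right _)
  have ht1 : g ^ k ≠ 1 := by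
    intro h
    have := Nat.le_of_dvd (by omega) (orderOf_dvd_of_pow_eq_one h)
    omega
  have ht2 : g ^ k * g ^ k = 1 := by
    rw [← pow_add, ← hk, pow_orderOf_eq_one]
  have htinv : (g ^ k)⁻¹ = g ^ k := inv_eq_of_mul_eq_one_left ht2
  have hneg : ∀ x : F, -x = x := fun x => by linear_combination -x * h2
  have hvinv : (transv v c)⁻¹ = transv v c := by rw [transv_inv, hneg]
  have hwinv : (transv w d)⁻¹ = transv w d := by rw [transv_inv, hneg]
  have hconj : transv v c * g * (transv v c)⁻¹ = g⁻¹ := by
    rw [hg, mul_inv_rev, hvinv, hwinv]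
    have : transv v c * transv v c = 1 := mul_eq_one_iff_inv_eq.2 hvinv
    rw [← mul_assoc, this, one_mul]
  have hcv : transv v c * g ^ k * (transv v c)⁻¹ = g ^ k := by
    rw [← conj_pow, hconj, inv_pow, htinv]
  have hcv' : transv v c * g ^ k = g ^ k * transv v c := mul_inv_eq_iff_eq_mul.1 hcv
  have hcw' : transv w d * g ^ k = g ^ k * transv w d := by
    have e1 : transv w d = (transv v c)⁻¹ * g := by rw [hg, inv_mul_cancel_left]
    have e2 : (transv v c)⁻¹ * g ^ k = g ^ k * (transv v c)⁻¹ := by rw [hvinv, hcv']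
    have e3 : g * g ^ k = g ^ k * g := (pow_succ' g k).symm.trans (pow_succ g k)
    rw [e1, mul_assoc, e3, ← mul_assoc, e2, mul_assoc]
  have hfix : ∀ {u : V} {e : F}, u ≠ 0 → e ≠ 0 → transv u e * g ^ k = g ^ k * transv u e →
      (g ^ k) • u = u := by
    intro u e hu he h
    have h' : (QuotientGroup.mk (transv u e) : PSp m F) * QuotientGroup.mk (g ^ k) =
        QuotientGroup.mk (g ^ k) * QuotientGroup.mk (transv u e) := by
      rw [← QuotientGroup.mk_mul, h, QuotientGroup.mk_mul]
    obtain ⟨a, ha, hau⟩ := smul_eq_of_commute hm hu he h'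
    have hb1 : a = 1 := by
      have : (a - 1) ^ 2 = 0 := by linear_combination ha + h2 * (1 - a)
      exact sub_eq_zero.1 (pow_eq_zero_iff (two_ne_zero) |>.1 this)
    rw [hau, hb1, one_smul]
  have hfv := hfix hv0 hc hcv'
  have hfw := hfix hw0 hd hcw'
  have hperp : ∀ x : V, f x v = 0 → f x w = 0 → (g ^ k) • x = x := by
    intro x hx1 hx2
    have hgx : g • x = x := by
      rw [hg, mul_smul, transv_smul w x, hx2, mul_zero, zero_smul, add_zero, transv_smul, hx1,
        mul_zero, zero_smul, add_zero]
    clear * - hgx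
    induction k with
    | zero => rw [pow_zero, one_smul]
    | succ k ih => rw [pow_succ, mul_smul, hgx, ih]
  apply ht1
  apply ext_smul
  intro x
  rw [one_smul]
  have hfwv : f w v = -f v w := sympForm_swap w v
  obtain ⟨y, hy⟩ : ∃ y : V, x = y + (f x w * (f v w)⁻¹) • v - (f x v * (f v w)⁻¹) • w :=
    ⟨x - (f x w * (f v w)⁻¹) • v + (f x v * (f v w)⁻¹) • w, by abel⟩
  have hy' : y = x - (f x w * (f v w)⁻¹) • v + (f x v * (f v w)⁻¹) • w := by
    have h3 := congrArg (fun z => z - (f x w * (f v w)⁻¹) • v + (f x v * (f v w)⁻¹) • w) hy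
    rw [h3]
    abel
  have hy1 : f y v = 0 := by
    rw [hy', sympForm_add_left, sympForm_sub_left, sympForm_smul_left, sympForm_smul_left,
      sympForm_self, hfwv]
    field_simp
    ring
  have hy2 : f y w = 0 := by
    rw [hy', sympForm_add_left, sympForm_sub_left, sympForm_smul_left, sympForm_smul_left,
      sympForm_self]
    field_simp
    ring
  have h5 := hperp y hy1 hy2
  rw [hy, smul_sub', smul_add', smul_smul', smul_smul', hfv, hfw, h5]

theorem oddProp_transv [Finite F] (h2 : (2 : F) = 0) (hm : 2 ≤ m) (v : V) (c : F) :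
    OddProp (QuotientGroup.mk (transv v c) : PSp m F) := by
  apply oddProp_mk h2
  intro g
  rw [conj_transv]
  by_cases hc : c = 0
  · left
    rw [hc, transv_zero]
    exact Commute.one_left _
  by_cases h : f v (g • v) = 0
  · left
    have h3 : transv v c * transv (g • v) c * (transv v c)⁻¹ = transv (g • v) c := by
      rw [conj_transv, transv_smul, form_eq_zero_comm.1 h, mul_zero, zero_smul, add_zero]
    exact mul_inv_eq_iff_eq_mul.1 h3
  · right
    exact odd_transv_mul h2 hm h hc hc

/-! ### The classes of `siegel e₁ (b e₂) 0` -/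

theorem siegel_sq (h2 : (2 : F) = 0) {u v : V} (h : f u v = 0) :
    siegel u v 0 * siegel u v 0 = 1 := by
  rw [siegel_mul h h, sympForm_self, add_zero, add_zero]
  have : v + v = 0 := by
    rw [← two_smul F v, h2, zero_smul]
  rw [this, siegel_zero_zero]

/-- Two Siegel elements with product of order four. -/
theorem siegel_order_four (h2 : (2 : F) = 0) {u v u' w x₀ : V} (huv : f u v = 0)
    (huw' : f u' w = 0) (huw : f u w = 0) (huv' : f u' v = 0) (hvw : f v w = 0)
    (hD : f u u' ≠ 0) (hx1 : f v x₀ = 0) (hx2 : f w x₀ ≠ 0) (hv : v ≠ 0) :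
    ¬ Commute (siegel u v 0) (siegel u' w 0) ∧
      ¬ Odd (orderOf (siegel u v 0 * siegel u' w 0)) := by
  have hvu : f v u = 0 := form_eq_zero_comm.1 huv
  have hwu' : f w u' = 0 := form_eq_zero_comm.1 huw'
  have hwu : f w u = 0 := form_eq_zero_comm.1 huw
  have hvu' : f v u' = 0 := form_eq_zero_comm.1 huv'
  have hwv : f w v = 0 := form_eq_zero_comm.1 hvw
  have hsw : f u' u = - f u u' := sympForm_swap u' u
  have h1 : ∀ x : V, (siegel u v 0 * siegel u' w 0) • x = x + f v x • u +
      (f u x + f u u' * f w x) • v + f w x • u' + f u' x • w := by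
    intro x
    rw [mul_smul, siegel_smul huw', siegel_smul huv]
    simp only [sympForm_add_right, sympForm_smul_right, hvu', hvw, huw, zero_smul, add_zero,
      mul_zero]
    module
  have hsq : ∀ x : V, ((siegel u v 0 * siegel u' w 0) ^ 2) • x =
      x + (f u u' * f w x) • v + (f u u' * f v x) • w := by
    intro x
    rw [pow_two, mul_smul, h1, h1]
    simp only [sympForm_add_right, sympForm_smul_right, sympForm_self, hvu, hwu', hwu, hvu', hwv,
      huv, huw', huw, huv', hvw, hsw, zero_smul, add_zero, mul_zero, zero_add]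
    have key : ∀ z : V, z + z = 0 := fun z => by rw [← two_smul F z, h2, zero_smul]
    have e1 : ∀ (A B C D E H : V), A = x + B + C + D + E → H = B + C + D + E → A + H = x := by
      intro A B C D E H hA hH
      rw [hA, hH]
      have : x + B + C + D + E + (B + C + D + E) = x + (B + B) + (C + C) + (D + D) + (E + E) := by
        abel
      rw [this, key, key, key, key]
      simp
    have hn : ∀ y : F, -y = y := fun y => by linear_combination -y * h2
    have h3 : x + f v x • u + (f u x + f u u' * f w x) • v + f w x • u' + f u' x • w +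
        (f v x • u + (f u x + f u u' * f w x) • v + f w x • u' + f u' x • w) = x :=
      e1 _ _ _ _ _ _ rfl rfl
    calc _ = x + f v x • u + (f u x + f u u' * f w x) • v + f w x • u' + f u' x • w +
        (f v x • u + (f u x + f u u' * f w x) • v + f w x • u' + f u' x • w) +
        (f w x * f u u') • v + (f v x * -f u u') • w := by module
      _ = _ := by
        rw [h3, hn, mul_comm (f w x), mul_comm (f v x)]
  have hne : (siegel u v 0 * siegel u' w 0) ^ 2 ≠ 1 := by
    intro h
    have h3 := hsq x₀
    rw [h, one_smul, hx1, mul_zero, zero_smul, add_zero] at h3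
    have h4 := left_eq_add.1 h3
    rcases smul_eq_zero.1 h4 with h5 | h5
    · exact mul_ne_zero hD hx2 h5
    · exact hv h5
  have h4 : (siegel u v 0 * siegel u' w 0) ^ 4 = 1 := by
    apply ext_smul
    intro x
    have : (siegel u v 0 * siegel u' w 0) ^ 4 = (siegel u v 0 * siegel u' w 0) ^ 2 *
        (siegel u v 0 * siegel u' w 0) ^ 2 := by rw [← pow_add]
    rw [this, mul_smul, hsq, hsq, one_smul]
    simp only [sympForm_add_right, sympForm_smul_right, sympForm_self, hwv, hvw, add_zero,
      mul_zero]
    have key : ∀ z : V, z + z = 0 := fun z => by rw [← two_smul F z, h2, zero_smul]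
    have e1 : ∀ A B : V, x + A + B + A + B = x := by
      intro A B
      have : x + A + B + A + B = x + (A + A) + (B + B) := by abel
      rw [this, key, key, add_zero, add_zero]
    exact e1 _ _
  constructor
  · intro hcomm
    apply hne
    rw [hcomm.mul_pow, pow_two, pow_two, siegel_sq h2 huv, siegel_sq h2 huw', mul_one]
  · intro hodd
    have hdvd := orderOf_dvd_of_pow_eq_one h4
    have h5 : orderOf (siegel u v 0 * siegel u' w 0) = 1 := by
      have hcop : Nat.Coprime (orderOf (siegel u v 0 * siegel u' w 0)) 4 := by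
        rw [show (4 : ℕ) = 2 ^ 2 by norm_num]
        exact Nat.Coprime.pow_right 2 (Nat.coprime_two_right.2 hodd)
      exact Nat.Coprime.eq_one_of_dvd hcop hdvd
    rw [orderOf_eq_one_iff] at h5
    apply hne
    rw [h5, one_pow]

end Cfsg.Agent.ClassicalGeometry.SympAutOdd
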