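import Mathlib
import Cfsg.Agent.ClassicalGeometry.SympAutOdd

/-!
Recognition of transvections in `PSp` under automorphisms.
-/

set_option autoImplicit false
open Cfsg
open scoped Matrix

namespace Cfsg.Agent.ClassicalGeometry.SympAutRecog

open Cfsg.Agent.ClassicalGeometry.SympBasic
open Cfsg.Agent.ClassicalGeometry.SympSiegel
open Cfsg.Agent.ClassicalGeometry.SympAutSylow
open Cfsg.Agent.ClassicalGeometry.SympAutCentral
open Cfsg.Agent.ClassicalGeometry.SympAutForm
open Cfsg.Agent.ClassicalGeometry.SympAutOdd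

variable {F : Type*} [Field F] {m : ℕ}

local notation "V" => (Fin m ⊕ Fin m → F)
local notation "G" => Matrix.symplecticGroup (Fin m) F
local notation "f" => sympForm m F

/-- The image of a transvection under an automorphism is conjugate to `siegel e₁ (b e₂) a`. -/
theorem exists_conj_form [Finite F] (hm : 2 ≤ m) (α : MulAut (PSp m F)) {v : V} (hv : v ≠ 0)
    (c : F) : ∃ (g : G) (a b : F), 2 * b = 0 ∧
      α (QuotientGroup.mk (transv v c)) = (QuotientGroup.mk g : PSp m F) *
        QuotientGroup.mk (siegel (E F ⟨0, by omega⟩) (b • E F ⟨1, by omega⟩) a) *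
        (QuotientGroup.mk g)⁻¹ := by
  obtain ⟨p, hp⟩ := CharP.exists F
  have hpp : Fact p.Prime := ⟨CharP.char_is_prime F p⟩
  have h1 : PCentral p (α (QuotientGroup.mk (transv v c))) :=
    (pCentral_mk_transv (p := p) (by omega) hv c).map (α : PSp m F →* PSp m F) α.surjective
  have hU : IsPGroup p ((unip m F).map (QuotientGroup.mk' (Subgroup.center G))) :=
    (isPGroup_unip (m := m) (F := F)).map _
  obtain ⟨g, hg⟩ := h1.exists_conj hU
  obtain ⟨z, hz⟩ := QuotientGroup.mk_surjective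
    (g * α (QuotientGroup.mk (transv v c)) * g⁻¹)
  obtain ⟨g', hg'⟩ := QuotientGroup.mk_surjective g
  obtain ⟨a, b, hb, hab⟩ := central_form hm (z := z) (fun u hu => by
    have := hg (QuotientGroup.mk u) ⟨u, hu, rfl⟩
    rw [← hz] at this
    exact this)
  refine ⟨g'⁻¹, a, b, hb, ?_⟩
  rw [← hab, hz, QuotientGroup.mk_inv, hg']
  group

/-- The same, with `a, b` not both zero. -/
theorem exists_conj_form' [Finite F] (hm : 2 ≤ m) (α : MulAut (PSp m F)) {v : V} (hv : v ≠ 0)
    {c : F} (hc : c ≠ 0) : ∃ (g : G) (a b : F), 2 * b = 0 ∧ (b = 0 → a ≠ 0) ∧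
      α (QuotientGroup.mk (transv v c)) = (QuotientGroup.mk g : PSp m F) *
        QuotientGroup.mk (siegel (E F ⟨0, by omega⟩) (b • E F ⟨1, by omega⟩) a) *
        (QuotientGroup.mk g)⁻¹ := by
  obtain ⟨g, a, b, hb, h⟩ := exists_conj_form hm α hv c
  refine ⟨g, a, b, hb, ?_, h⟩
  rintro rfl rfl
  rw [zero_smul, siegel_zero_zero, QuotientGroup.mk_one, mul_one, mul_inv_cancel] at h
  have h1 : (QuotientGroup.mk (transv v c) : PSp m F) = 1 := by
    apply α.injective
    rw [h, map_one]
  rw [← QuotientGroup.mk_one] at h1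
  obtain ⟨d, hd, hx⟩ := mk_eq_mk_iff.1 h1
  -- `1 • x = d • T x`
  obtain ⟨x, hx0, hx1, -⟩ := exists_perp_pair hm v v
  have h2 := hx x
  rw [one_smul, transv_smul, form_eq_zero_comm.1 hx1, mul_zero, zero_smul, add_zero] at h2
  have hd1 : d = 1 := by
    have : (d - 1) • x = 0 := by rw [sub_smul, ← h2, one_smul, sub_self]
    rcases smul_eq_zero.1 this with h3 | h3
    · exact sub_eq_zero.1 h3
    · exact absurd h3 hx0
  subst hd1
  obtain ⟨y, hy⟩ : ∃ y, f y v ≠ 0 := by
    by_contra hcon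
    push Not at hcon
    exact hv (eq_zero_of_forall_sympForm_left hcon)
  have h3 := hx y
  rw [one_smul, one_smul, transv_smul] at h3
  have h4 := left_eq_add.1 h3
  rcases smul_eq_zero.1 h4 with h5 | h5
  · exact mul_ne_zero hc hy h5
  · exact hv h5

/-- If `b = 0` the image is a transvection. -/
theorem transv_of_form {g : G} {a : F} (ha : a ≠ 0) {s : PSp m F} {e w : V} (he : e ≠ 0)
    (h : s = (QuotientGroup.mk g : PSp m F) * QuotientGroup.mk (siegel e ((0 : F) • w) a) *
        (QuotientGroup.mk g)⁻¹) :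
    ∃ v' : V, v' ≠ 0 ∧ ∃ c' : F, c' ≠ 0 ∧ s = QuotientGroup.mk (transv v' c') := by
  refine ⟨g • e, smul_ne_zero' g he, -a, neg_ne_zero.2 ha, ?_⟩
  rw [h, zero_smul, siegel_zero_eq_transv, ← conj_transv]
  rfl

/-- Automorphisms map transvections to transvections in odd characteristic. -/
theorem recog_odd [Finite F] (hm : 2 ≤ m) (h2 : (2 : F) ≠ 0) (α : MulAut (PSp m F)) :
    ∀ v : V, v ≠ 0 → ∀ c : F, c ≠ 0 → ∃ v' : V, v' ≠ 0 ∧ ∃ c' : F, c' ≠ 0 ∧
      α (QuotientGroup.mk (transv v c)) = QuotientGroup.mk (transv v' c') := by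
  intro v hv c hc
  obtain ⟨g, a, b, hb, hab, h⟩ := exists_conj_form' hm α hv hc
  have hb0 : b = 0 := by
    rcases mul_eq_zero.1 hb with h3 | h3
    · exact absurd h3 h2
    · exact h3
  subst hb0
  exact transv_of_form (hab rfl) (E_ne_zero _) h

end Cfsg.Agent.ClassicalGeometry.SympAutRecog
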