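import Mathlib
import Cfsg.Agent.ClassicalGeometry.SympAutRecog

/-!
Characteristic two, `m ≥ 3`: the class of `siegel e₁ (b e₂) 0` is not a class of odd transpositions.
-/

set_option autoImplicit false
open Cfsg
open scoped Matrix

namespace Cfsg.Agent.ClassicalGeometry.SympAutOddB

open Cfsg.Agent.ClassicalGeometry.SympBasic
open Cfsg.Agent.ClassicalGeometry.SympSiegel
open Cfsg.Agent.ClassicalGeometry.SympAutSylow
open Cfsg.Agent.ClassicalGeometry.SympAutCentral
open Cfsg.Agent.ClassicalGeometry.SympAutForm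
open Cfsg.Agent.ClassicalGeometry.SympAutOdd
open Cfsg.Agent.ClassicalGeometry.SympAutRecog

variable {F : Type*} [Field F] {m : ℕ}

local notation "V" => (Fin m ⊕ Fin m → F)
local notation "G" => Matrix.symplecticGroup (Fin m) F
local notation "f" => sympForm m F

theorem transv_move {x y : V} (h : f x y ≠ 0) : transv (y - x) (f x y)⁻¹ • x = y :=
  transv_sub_mulVec h

theorem transv_fix {x y u : V} (c : F) (h : f u x = f u y) : transv (y - x) c • u = u :=
  transv_sub_mulVec_of_eq c h

/-- Moving an orthogonal pair `(u, v)` to `(u', w)`. -/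
theorem exists_move {u v u' w y : V} (hvu : f v u = 0) (hvu' : f v u' = 0) (hD : f u u' ≠ 0)
    (hvy : f v y ≠ 0) (hyw : f y w ≠ 0) (hu'y : f u' y = 0) (hu'w : f u' w = 0) :
    ∃ g : G, g • u = u' ∧ g • v = w := by
  have hu'v : f u' v = 0 := form_eq_zero_comm.1 hvu'
  refine ⟨transv (w - y) (f y w)⁻¹ * (transv (y - v) (f v y)⁻¹ *
    transv (u' - u) (f u u')⁻¹), ?_, ?_⟩
  · rw [mul_smul, mul_smul, transv_move hD, transv_fix _ (hu'v.trans hu'y.symm),
      transv_fix _ (hu'y.trans hu'w.symm)]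
  · rw [mul_smul, mul_smul, transv_fix _ (hvu.trans hvu'.symm), transv_move hvy,
      transv_move hyw]

theorem not_oddProp_b (h2 : (2 : F) = 0) (hm : 3 ≤ m) {b : F} (hb : b ≠ 0) :
    ¬ OddProp (QuotientGroup.mk (siegel (E F ⟨0, by omega⟩) (b • E F ⟨1, by omega⟩) 0) :
      PSp m F) := by
  let i0 : Fin m := ⟨0, by omega⟩
  let i1 : Fin m := ⟨1, by omega⟩
  let i2 : Fin m := ⟨2, by omega⟩
  have h01 : i0 ≠ i1 := by simp [i0, i1]
  have h02 : i0 ≠ i2 := by simp [i0, i2]
  have h12 : i1 ≠ i2 := by simp [i1, i2]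
  have huv : f (E F i0) (b • E F i1) = 0 := by
    rw [form_E_left, Pi.smul_apply, E_inr, smul_zero, neg_zero]
  obtain ⟨g, hg1, hg2⟩ : ∃ g : G, g • E F i0 = E' F i0 ∧ g • (b • E F i1) = b • E F i2 := by
    obtain ⟨g, hg1, hg2⟩ := exists_move (u := E F i0) (v := E F i1) (u' := E' F i0)
      (w := E F i2) (y := E' F i1 + E' F i2)
      (by rw [form_E_left, E_inr, neg_zero])
      (by rw [form_E_left, E'_inr, if_neg h01.symm, neg_zero])
      (by rw [form_E_left, E'_inr, if_pos rfl]; exact neg_ne_zero.2 one_ne_zero)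
      (by rw [form_E_left, Pi.add_apply, E'_inr, E'_inr, if_pos rfl, if_neg h12, add_zero]
          exact neg_ne_zero.2 one_ne_zero)
      (by rw [form_E_right, Pi.add_apply, E'_inr, E'_inr, if_pos rfl, if_neg h12.symm, zero_add]
          exact one_ne_zero)
      (by rw [form_E'_left, Pi.add_apply, E'_inl, E'_inl, add_zero])
      (by rw [form_E'_left, E_inl, if_neg h02])
    exact ⟨g, hg1, by rw [smul_smul', hg2]⟩
  have hconj := conj_siegel g huv 0
  rw [hg1, hg2] at hconj
  have key := siegel_order_four h2 (u := E F i0) (v := b • E F i1) (u' := E' F i0)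
    (w := b • E F i2) (x₀ := E' F i2) huv
    (by rw [form_E'_left, Pi.smul_apply, E_inl, if_neg h02, smul_zero])
    (by rw [form_E_left, Pi.smul_apply, E_inr, smul_zero, neg_zero])
    (by rw [form_E'_left, Pi.smul_apply, E_inl, if_neg h01, smul_zero])
    (by rw [sympForm_smul_left, sympForm_smul_right, form_E_left, E_inr, neg_zero, mul_zero,
      mul_zero])
    (by rw [form_E_left, E'_inr, if_pos rfl]; exact neg_ne_zero.2 one_ne_zero)
    (by rw [sympForm_smul_left, form_E_left, E'_inr, if_neg h12, neg_zero, mul_zero])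
    (by rw [sympForm_smul_left, form_E_left, E'_inr, if_pos rfl]
        exact mul_ne_zero hb (neg_ne_zero.2 one_ne_zero))
    (smul_ne_zero hb (E_ne_zero _))
  rw [← hconj] at key
  exact not_oddProp_mk h2 key.1 key.2

end Cfsg.Agent.ClassicalGeometry.SympAutOddB
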