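import Mathlib
import Cfsg.Agent.ClassicalGeometry.SympAutOddB

/-!
Characteristic two: the class of `siegel e₁ (b e₂) a` (`a, b ≠ 0`) is not a class of odd transpositions.
Final recognition theorems.
-/

set_option autoImplicit false
open Cfsg
open scoped Matrix

namespace Cfsg.Agent.ClassicalGeometry.SympAutOddA

open Cfsg.Agent.ClassicalGeometry.SympBasic
open Cfsg.Agent.ClassicalGeometry.SympSiegel
open Cfsg.Agent.ClassicalGeometry.SympAutSylow
open Cfsg.Agent.ClassicalGeometry.SympAutCentral
open Cfsg.Agent.ClassicalGeometry.SympAutForm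
open Cfsg.Agent.ClassicalGeometry.SympAutOdd
open Cfsg.Agent.ClassicalGeometry.SympAutRecog
open Cfsg.Agent.ClassicalGeometry.SympAutOddB

variable {F : Type*} [Field F] {m : ℕ}

local notation "V" => (Fin m ⊕ Fin m → F)
local notation "G" => Matrix.symplecticGroup (Fin m) F
local notation "f" => sympForm m F

theorem transv_commute {v w : V} (h : f v w = 0) (c d : F) :
    Commute (transv v c) (transv w d) := by
  have h3 : transv v c * transv w d * (transv v c)⁻¹ = transv w d := by
    rw [conj_transv, transv_smul, form_eq_zero_comm.1 h, mul_zero, zero_smul, add_zero]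
  exact mul_inv_eq_iff_eq_mul.1 h3

theorem transv_sq (h2 : (2 : F) = 0) (v : V) (c : F) : transv v c * transv v c = 1 := by
  rw [transv_mul, ← two_mul, h2, zero_mul, transv_zero]

theorem mul_not_odd [Finite F] (h2 : (2 : F) = 0) (hm : 2 ≤ m) {v e v' e' z : V} {a c : F}
    (ha : a ≠ 0) (hc : c ≠ 0) (hve : f v e = 0) (hv'e : f v' e = 0) (hve' : f v e' = 0)
    (hv'e' : f v' e' = 0) (hvv' : f v v' = 0) (hee' : f e e' ≠ 0) (hze : f z e = 0)
    (hze' : f z e' = 0) (hz : f z v' • v' + f z v • v ≠ 0) :
    ¬ Commute (transv v a * transv e c) (transv v' a * transv e' c) ∧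
    ¬ Odd (orderOf ((transv v a * transv e c) * (transv v' a * transv e' c))) := by
  have hodd := odd_transv_mul h2 hm hee' hc hc
  have c1 : Commute (transv v' a) (transv e c) := transv_commute hv'e a c
  have c2 : Commute (transv v a) (transv e c) := transv_commute hve a c
  have c3 : Commute (transv v' a) (transv e' c) := transv_commute hv'e' a c
  have c4 : Commute (transv v a) (transv e' c) := transv_commute hve' a c
  have c5 : Commute (transv v a) (transv v' a) := transv_commute hvv' a a
  have hprod : (transv v a * transv e c) * (transv v' a * transv e' c) =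
      (transv v a * transv v' a) * (transv e c * transv e' c) := by
    rw [mul_assoc, ← mul_assoc (transv e c), ← c1.eq]
    group
  have hprod' : (transv v' a * transv e' c) * (transv v a * transv e c) =
      (transv v a * transv v' a) * (transv e' c * transv e c) := by
    rw [mul_assoc, ← mul_assoc (transv e' c), ← c4.eq, c5.eq]
    group
  have he'0 : e' ≠ 0 := by
    rintro rfl
    exact hee' (sympForm_zero_right _)
  constructor
  · intro hcomm
    have h3 : transv e c * transv e' c = transv e' c * transv e c := by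
      have h4 := hcomm.eq
      rw [hprod, hprod'] at h4
      exact mul_left_cancel h4
    have h4 : (transv e c * transv e' c) ^ 2 = 1 := by
      rw [(show Commute (transv e c) (transv e' c) from h3).mul_pow, pow_two, pow_two,
        transv_sq h2, transv_sq h2, mul_one]
    have h5 : orderOf (transv e c * transv e' c) = 1 :=
      Nat.Coprime.eq_one_of_dvd (Nat.coprime_two_right.2 hodd) (orderOf_dvd_of_pow_eq_one h4)
    rw [orderOf_eq_one_iff] at h5
    have h6 := congrArg (fun g : G => g • e) h5
    simp only [one_smul] at h6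
    rw [mul_smul, transv_smul e' e, smul_add', smul_smul', transv_smul, transv_smul,
      sympForm_self, mul_zero, zero_smul, add_zero, smul_add] at h6
    have h7 := congrArg (fun x => f x e) h6
    simp only [sympForm_add_left, sympForm_smul_left, sympForm_self, mul_zero, add_zero,
      zero_add] at h7
    have h8 : f e' e ≠ 0 := by
      intro h
      exact hee' (form_eq_zero_comm.1 h)
    exact mul_ne_zero (mul_ne_zero hc hee') h8 h7
  · intro hn
    rw [hprod] at hn
    set X := transv v a * transv v' a with hX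
    set Y := transv e c * transv e' c with hY
    have hXY : Commute X Y := by
      apply Commute.mul_left
      · exact c2.mul_right c4
      · exact c1.mul_right c3
    have hX2 : X ^ 2 = 1 := by
      rw [hX, c5.mul_pow, pow_two, pow_two, transv_sq h2, transv_sq h2, mul_one]
    obtain ⟨k, hk⟩ := hn
    have h3 : (X * Y) ^ orderOf (X * Y) = 1 := pow_orderOf_eq_one _
    rw [hXY.mul_pow, hk, pow_succ X, pow_mul, hX2, one_pow, one_mul] at h3
    have hYz : Y • z = z := by
      rw [hY, mul_smul, transv_smul e' z, hze', mul_zero, zero_smul, add_zero, transv_smul,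
        hze, mul_zero, zero_smul, add_zero]
    have hYn : ∀ n : ℕ, (Y ^ n) • z = z := by
      intro n
      induction n with
      | zero => rw [pow_zero, one_smul]
      | succ n ih => rw [pow_succ, mul_smul, hYz, ih]
    have h4 : X • z = z := by
      have h5 := congrArg (fun g : G => g • z) h3
      simp only [mul_smul, hYn, one_smul] at h5
      exact h5
    rw [hX, mul_smul, transv_smul v' z, smul_add', smul_smul', transv_smul, transv_smul,
      form_eq_zero_comm.1 hvv', mul_zero, zero_smul, add_zero] at h4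
    apply hz
    have h5 : a • (f z v' • v' + f z v • v) = 0 := by
      have : z + (a * f z v) • v + (a * f z v') • v' = z + a • (f z v' • v' + f z v • v) := by
        module
      rw [this] at h4
      exact left_eq_add.1 h4.symm
    rcases smul_eq_zero.1 h5 with h6 | h6
    · exact absurd h6 ha
    · exact h6

theorem siegel_eq_mul (h2 : (2 : F) = 0) {e e' : V} (h : f e e' = 0) {a b : F} (ha : a ≠ 0) :
    siegel e (b • e') a = transv (e + (b * a⁻¹) • e') a * transv e' (b ^ 2 * a⁻¹) := by
  have hn : ∀ y : F, -y = y := fun y => by linear_combination -y * h2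
  have hs : ∀ x y : V, f x y = f y x := fun x y => by rw [sympForm_swap, hn]
  have hperp : f e (b • e') = 0 := by rw [sympForm_smul_right, h, mul_zero]
  apply ext_smul
  intro x
  rw [mul_smul, siegel_smul hperp, transv_smul e' x, smul_add', smul_smul', transv_smul,
    transv_smul]
  simp only [sympForm_add_right, sympForm_smul_right, sympForm_smul_left, sympForm_self]
  rw [hs e' e, h, hs e' x, hs e x]
  have e1 : a * (b * a⁻¹) = b := by field_simp
  have e2 : a * (b * a⁻¹ * f x e') * (b * a⁻¹) + b ^ 2 * a⁻¹ * f x e' = 0 := by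
    have : a * (b * a⁻¹ * f x e') * (b * a⁻¹) = b ^ 2 * a⁻¹ * f x e' := by field_simp
    rw [this, ← two_mul, h2, zero_mul]
  have key : x + (b * f x e') • e + f x e • (b • e' + a • e) =
      x + (b * f x e' + a * f x e) • e + (b * f x e) • e' := by module
  rw [key]
  have key2 : x + (a * (f x e + b * a⁻¹ * f x e')) • (e + (b * a⁻¹) • e') +
      (b ^ 2 * a⁻¹ * f x e') • (e' + (a * (0 + b * a⁻¹ * 0)) • (e + (b * a⁻¹) • e')) =
      x + (a * f x e + a * (b * a⁻¹) * f x e') • e + (a * (b * a⁻¹) * f x e +
        (a * (b * a⁻¹ * f x e') * (b * a⁻¹) + b ^ 2 * a⁻¹ * f x e')) • e' := by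
    rw [mul_zero, add_zero, mul_zero, zero_smul, add_zero]
    module
  rw [key2, e1, e2, add_zero, add_comm (b * f x e')]

theorem not_oddProp_ab [Finite F] (h2 : (2 : F) = 0) (hm : 2 ≤ m)
    (h : 3 ≤ m ∨ ∃ t : F, t ≠ 0 ∧ t ≠ 1) {a b : F} (ha : a ≠ 0) (hb : b ≠ 0) :
    ¬ OddProp (QuotientGroup.mk (siegel (E F ⟨0, by omega⟩) (b • E F ⟨1, by omega⟩) a) :
      PSp m F) := by
  let i0 : Fin m := ⟨0, by omega⟩
  let i1 : Fin m := ⟨1, by omega⟩
  have h01 : i0 ≠ i1 := by simp [i0, i1]
  have hn : ∀ y : F, -y = y := fun y => by linear_combination -y * h2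
  have hE01 : f (E F i0) (E F i1) = 0 := by rw [form_E_left, E_inr, neg_zero]
  obtain ⟨r, hr⟩ : ∃ r : F, r = b * a⁻¹ := ⟨_, rfl⟩
  obtain ⟨v, hv⟩ : ∃ v : V, v = E F i0 + r • E F i1 := ⟨_, rfl⟩
  obtain ⟨e', he'⟩ : ∃ e' : V, e' = E' F i1 + r • E' F i0 := ⟨_, rfl⟩
  have hc : b ^ 2 * a⁻¹ ≠ 0 := mul_ne_zero (pow_ne_zero 2 hb) (inv_ne_zero ha)
  have hs : siegel (E F i0) (b • E F i1) a = transv v a * transv (E F i1) (b ^ 2 * a⁻¹) := by
    rw [siegel_eq_mul h2 hE01 ha, hv, hr]
  have hvE : f v (E F i1) = 0 := by
    rw [hv, form_E_right, Pi.add_apply, Pi.smul_apply, E_inr, E_inr, smul_zero, add_zero]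
  have hve' : f v e' = 0 := by
    rw [hv, sympForm_add_left, sympForm_smul_left, form_E_left, form_E_left, he', Pi.add_apply,
      Pi.add_apply, Pi.smul_apply, Pi.smul_apply, E'_inr, E'_inr, E'_inr, E'_inr, if_pos rfl,
      if_pos rfl, if_neg h01, if_neg h01.symm]
    simp only [smul_eq_mul]
    linear_combination -r * h2
  have hEe' : f (E F i1) e' ≠ 0 := by
    rw [he', form_E_left, Pi.add_apply, Pi.smul_apply, E'_inr, E'_inr, if_pos rfl,
      if_neg h01.symm, smul_zero, add_zero]
    exact neg_ne_zero.2 one_ne_zero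
  have hzE : f (E' F i0) (E F i1) = 0 := by
    rw [form_E'_left, E_inl, if_neg h01]
  have hze' : f (E' F i0) e' = 0 := by
    rw [form_E'_left, he', Pi.add_apply, Pi.smul_apply, E'_inl, E'_inl, smul_zero, add_zero]
  have hzv : f (E' F i0) v = 1 := by
    rw [form_E'_left, hv, Pi.add_apply, Pi.smul_apply, E_inl, E_inl, if_pos rfl, if_neg h01,
      smul_zero, add_zero]
  have hv0 : v ≠ 0 := by
    intro h0
    rw [h0, sympForm_zero_right] at hzv
    exact zero_ne_one hzv
  have hvz : f v (E' F i0) = 1 := by rw [sympForm_swap, hzv, hn]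
  -- it suffices to find `v'` and `g`
  have main : ∀ v' : V, f v' (E F i1) = 0 → f v' e' = 0 → f v v' = 0 →
      f (E' F i0) v' • v' + f (E' F i0) v • v ≠ 0 →
      (∃ g : G, g • (E F i1) = e' ∧ g • v = v') →
      ¬ OddProp (QuotientGroup.mk (siegel (E F i0) (b • E F i1) a) : PSp m F) := by
    rintro v' h3 h4 h5 h6 ⟨g, hg1, hg2⟩
    have key := mul_not_odd h2 hm (z := E' F i0) ha hc hvE h3 hve' h4 h5 hEe' hzE hze' h6
    rw [hs]
    have hconj : g * (transv v a * transv (E F i1) (b ^ 2 * a⁻¹)) * g⁻¹ =
        transv v' a * transv e' (b ^ 2 * a⁻¹) := by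
      rw [← hg1, ← hg2, ← conj_transv, ← conj_transv]
      group
    rw [← hconj] at key
    exact not_oddProp_mk h2 key.1 key.2
  rcases h with h | ⟨t, ht0, ht1⟩
  · let i2 : Fin m := ⟨2, by omega⟩
    have h02 : i0 ≠ i2 := by simp [i0, i2]
    have h12 : i1 ≠ i2 := by simp [i1, i2]
    apply main (E F i2)
    · rw [form_E_right, E_inr]
    · rw [he', form_E_left, Pi.add_apply, Pi.smul_apply, E'_inr, E'_inr, if_neg h12.symm,
        if_neg h02.symm, smul_zero, add_zero, neg_zero]
    · rw [hv, form_E_right, Pi.add_apply, Pi.smul_apply, E_inr, E_inr, smul_zero, add_zero]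
    · rw [hzv, form_E'_left, E_inl, if_neg h02, zero_smul, zero_add, one_smul]
      exact hv0
    · apply exists_move (y := E' F i0 + E' F i2)
      · exact hvE
      · exact hve'
      · exact hEe'
      · rw [sympForm_add_right, hvz, form_E'_right, hv, Pi.add_apply, Pi.smul_apply, E_inl, E_inl,
          if_neg h02.symm, if_neg h12.symm, smul_zero, add_zero, neg_zero, add_zero]
        exact one_ne_zero
      · rw [form_E_right, Pi.add_apply, E'_inr, E'_inr, if_neg h02.symm, if_pos rfl, zero_add]
        exact one_ne_zero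
      · rw [sympForm_add_right, form_E'_right, form_E'_right, he']
        simp only [Pi.add_apply, Pi.smul_apply, E'_inl, smul_zero, add_zero, neg_zero]
      · rw [he', form_E_right, Pi.add_apply, Pi.smul_apply, E'_inr, E'_inr, if_neg h12.symm,
          if_neg h02.symm, smul_zero, add_zero]
  · apply main (t • v)
    · rw [sympForm_smul_left, hvE, mul_zero]
    · rw [sympForm_smul_left, hve', mul_zero]
    · rw [sympForm_smul_right, sympForm_self, mul_zero]
    · rw [sympForm_smul_right, hzv, mul_one, smul_smul, ← add_smul]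
      apply smul_ne_zero _ hv0
      intro h3
      apply ht1
      have : (t - 1) ^ 2 = 0 := by linear_combination h3 - t * h2
      exact sub_eq_zero.1 (pow_eq_zero_iff (two_ne_zero) |>.1 this)
    · apply exists_move (y := E' F i0)
      · exact hvE
      · exact hve'
      · exact hEe'
      · rw [hvz]; exact one_ne_zero
      · rw [sympForm_smul_right, hzv, mul_one]; exact ht0
      · rw [form_eq_zero_comm.1 hze']
      · rw [sympForm_smul_right, form_eq_zero_comm.1 hve', mul_zero]

/-- Automorphisms of `PSp` map transvections to transvections unless `m = 2` and the characteristic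
is two. -/
theorem recog [Finite F] (hm : 2 ≤ m) (h : 3 ≤ m ∨ (2 : F) ≠ 0) (α : MulAut (PSp m F)) :
    ∀ v : V, v ≠ 0 → ∀ c : F, c ≠ 0 → ∃ v' : V, v' ≠ 0 ∧ ∃ c' : F, c' ≠ 0 ∧
      α (QuotientGroup.mk (transv v c)) = QuotientGroup.mk (transv v' c') := by
  by_cases h2 : (2 : F) = 0
  · have hm3 : 3 ≤ m := by
      rcases h with h | h
      · exact h
      · exact absurd h2 h
    intro v hv c hc
    obtain ⟨g, a, b, hb, hab, hα⟩ := exists_conj_form' hm α hv hc
    have hodd : OddProp (α (QuotientGroup.mk (transv v c))) :=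
      (oddProp_transv h2 hm v c).map α
    have hodd2 : OddProp (QuotientGroup.mk
        (siegel (E F ⟨0, by omega⟩) (b • E F ⟨1, by omega⟩) a) : PSp m F) := by
      have := hodd.conj (QuotientGroup.mk g)⁻¹
      rw [hα] at this
      convert this using 1
      group
    by_cases hb0 : b = 0
    · subst hb0
      exact transv_of_form (hab rfl) (E_ne_zero _) hα
    · exfalso
      by_cases ha0 : a = 0
      · subst ha0
        exact not_oddProp_b h2 hm3 hb0 hodd2
      · exact not_oddProp_ab h2 hm (Or.inl hm3) ha0 hb0 hodd2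
  · exact recog_odd hm h2 α

/-- `m = 2`, characteristic two, more than two elements: a transvection is mapped to a transvection or
to a conjugate of `siegel e₁ (b e₂) 0`. -/
theorem recog_two_aux [Finite F] (h2 : (2 : F) = 0) (hm : 2 ≤ m) (ht : ∃ t : F, t ≠ 0 ∧ t ≠ 1)
    (α : MulAut (PSp m F)) {v : V} (hv : v ≠ 0) {c : F} (hc : c ≠ 0) :
    (∃ v' : V, v' ≠ 0 ∧ ∃ c' : F, c' ≠ 0 ∧
      α (QuotientGroup.mk (transv v c)) = QuotientGroup.mk (transv v' c')) ∨
    (∃ (g : G) (b : F), b ≠ 0 ∧ α (QuotientGroup.mk (transv v c)) =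
      (QuotientGroup.mk g : PSp m F) *
        QuotientGroup.mk (siegel (E F ⟨0, by omega⟩) (b • E F ⟨1, by omega⟩) 0) *
        (QuotientGroup.mk g)⁻¹) := by
  obtain ⟨g, a, b, hb, hab, hα⟩ := exists_conj_form' hm α hv hc
  have hodd : OddProp (α (QuotientGroup.mk (transv v c))) :=
    (oddProp_transv h2 hm v c).map α
  have hodd2 : OddProp (QuotientGroup.mk
      (siegel (E F ⟨0, by omega⟩) (b • E F ⟨1, by omega⟩) a) : PSp m F) := by
    have := hodd.conj (QuotientGroup.mk g)⁻¹
    rw [hα] at this
    convert this using 1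
    group
  by_cases hb0 : b = 0
  · subst hb0
    exact Or.inl (transv_of_form (hab rfl) (E_ne_zero _) hα)
  · right
    by_cases ha0 : a = 0
    · subst ha0
      exact ⟨g, b, hb0, hα⟩
    · exact absurd hodd2 (not_oddProp_ab h2 hm (Or.inr ht) ha0 hb0)

end Cfsg.Agent.ClassicalGeometry.SympAutOddA
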