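import Mathlib
import Cfsg.Agent.ClassicalGeometry.SympAutOddA
import Cfsg.Agent.ClassicalGeometry.AutPSpCount
import Cfsg.Agent.ClassicalGeometry.Sp4GraphAut

/-!
`m = 2`, characteristic two: recognition of transvections up to the graph automorphism.
-/

set_option autoImplicit false
open Cfsg
open scoped Matrix

namespace Cfsg.Agent.ClassicalGeometry.SympAutTwo

open Cfsg.Agent.ClassicalGeometry.SympBasic
open Cfsg.Agent.ClassicalGeometry.SympSiegel
open Cfsg.Agent.ClassicalGeometry.SympAutSemi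
open Cfsg.Agent.ClassicalGeometry.SympAutCentral
open Cfsg.Agent.ClassicalGeometry.SympAutOddA
open Cfsg.Agent.ClassicalGeometry.AutPSpCount

variable {F : Type*} [Field F]

/-- In characteristic two (finite field) all transvections are conjugate. -/
theorem transv_conj [Finite F] {m : ℕ} (h2 : (2 : F) = 0) {v w : Fin m ⊕ Fin m → F}
    (hv : v ≠ 0) (hw : w ≠ 0) {c d : F} (hc : c ≠ 0) (hd : d ≠ 0) :
    ∃ g : Matrix.symplecticGroup (Fin m) F, g * transv v c * g⁻¹ = transv w d := by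
  have : Fintype F := Fintype.ofFinite F
  have hchar : CharP F 2 := CharTwo.of_one_ne_zero_of_two_eq_zero one_ne_zero h2
  obtain ⟨s, hs⟩ := FiniteField.isSquare_of_char_two (ringChar.eq F 2) (c * d⁻¹)
  have hs0 : s ≠ 0 := by
    rintro rfl
    rw [mul_zero] at hs
    exact mul_ne_zero hc (inv_ne_zero hd) hs
  have hw' : s⁻¹ • w ≠ 0 := smul_ne_zero (inv_ne_zero hs0) hw
  obtain ⟨g, -, hg⟩ := exists_transvGroup_mulVec_eq hv hw'
  have hg' : g • v = s⁻¹ • w := hg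
  refine ⟨g, ?_⟩
  rw [SympSiegel.conj_transv, hg', SympSiegel.transv_smul_vec]
  congr 1
  have h3 : c = s * s * d := by rw [← hs]; field_simp
  rw [h3]
  field_simp

theorem S_eq_siegel [CharP F 2] (b : F) :
    Sp4GraphAut.S b = siegel (E F (⟨0, by omega⟩ : Fin 2)) (b • E F ⟨1, by omega⟩) 0 := by
  have hn : ∀ y : F, -y = y := fun y => CharTwo.neg_eq y
  apply ext_smul
  intro x
  rw [smul_def, Sp4GraphAut.S_mulVec, siegel_smul, sympForm_smul_left, form_E_left, form_E_left,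
    hn, hn]
  · change x + (b * x (Sum.inr 1)) • Sp4GraphAut.e1 F + (b * x (Sum.inr 0)) • Sp4GraphAut.e2 F =
      x + (b * x (Sum.inr 1)) • Sp4GraphAut.e1 F +
        x (Sum.inr 0) • (b • Sp4GraphAut.e2 F + (0 : F) • Sp4GraphAut.e1 F)
    module
  · rw [sympForm_smul_right, form_E_left, E_inr, neg_zero, mul_zero]

theorem recog_two [Finite F] [CharP F 2] (ht : ∃ t : F, t ≠ 0 ∧ t ≠ 1) (α : MulAut (PSp 2 F)) :
    Pres α ∨ ∀ v : Fin 2 ⊕ Fin 2 → F, v ≠ 0 → ∀ c : F, c ≠ 0 →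
      ∃ s ∈ {s : PSp 2 F | ∃ b : F, b ≠ 0 ∧ s = QuotientGroup.mk (Sp4GraphAut.S b)},
        IsConj s (α (QuotientGroup.mk (transv v c))) := by
  have h2 : (2 : F) = 0 := CharTwo.two_eq_zero
  by_cases hP : Pres α
  · exact Or.inl hP
  right
  intro v hv c hc
  rcases recog_two_aux h2 le_rfl ht α hv hc with ⟨v', hv', c', hc', h⟩ | ⟨g, b, hb, h⟩
  · exfalso
    apply hP
    intro w hw d hd
    obtain ⟨g, hg⟩ := transv_conj h2 hv hw hc hd
    obtain ⟨w', hw', e'⟩ := exists_conj_mk_transv (α (QuotientGroup.mk g)) hv' c'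
    refine ⟨w', hw', c', hc', ?_⟩
    rw [← e', ← hg, QuotientGroup.mk_mul, QuotientGroup.mk_mul, QuotientGroup.mk_inv, map_mul,
      map_mul, map_inv, h]
  · refine ⟨QuotientGroup.mk (Sp4GraphAut.S b), ⟨b, hb, rfl⟩, ?_⟩
    rw [isConj_iff]
    exact ⟨QuotientGroup.mk g, by rw [h, S_eq_siegel]⟩

/-- The index-two statement, given (B). -/
theorem index_two [Finite F] [CharP F 2] (ht : ∃ t : F, t ≠ 0 ∧ t ≠ 1)
    (hB : ∀ α : MulAut (PSp 2 F), Pres α → α ∈ (Psi 2 F).range) :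
    (Psi 2 F).range.index = 2 := by
  refine index_eq_two hB {s | ∃ b : F, b ≠ 0 ∧ s = QuotientGroup.mk (Sp4GraphAut.S b)}
    (recog_two ht) (Sp4GraphAut.gamma F) ?_ ?_
  · rintro s ⟨b, hb, rfl⟩
    obtain ⟨w, c, hw, hc, h⟩ := Sp4GraphAut.exists_gamma_S hb
    exact ⟨w, hw, c, hc, h⟩
  · intro h
    obtain ⟨w, -, d, -, h1⟩ := h (Sp4GraphAut.e1 F) Sp4GraphAut.e1_ne_zero 1 one_ne_zero
    exact Sp4GraphAut.gamma_transv_ne one_ne_zero w d h1

end Cfsg.Agent.ClassicalGeometry.SympAutTwo
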