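import Mathlib
import Cfsg.Prelude.Def_LieClassical

/-!
The full unitary group `Cfsg.GU n F q` over a field with `q ^ 2` elements: the ring homomorphism `x ↦ x ^ q`,
membership as a matrix equation, determinants, diagonal and permutation elements, the centre, and the
determinant as a surjection onto the `(q + 1)`-st roots of unity.
-/

set_option autoImplicit false
open Cfsg Matrix

namespace Cfsg.Agent.ClassicalGeometry.GUBasic

variable {F : Type*} [Field F]

section Fin

variable [Fintype F]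

theorem two_le {q : ℕ} (hF : Fintype.card F = q ^ 2) : 2 ≤ q := by
  have h1 : 1 < Fintype.card F := Fintype.one_lt_card
  rw [hF] at h1
  by_contra hcon
  have : q = 0 ∨ q = 1 := by omega
  rcases this with rfl | rfl <;> simp at h1

/-- `x ↦ x ^ q` is a ring homomorphism when `|F| = q ^ 2`. -/
theorem exists_powHom {q : ℕ} (hF : Fintype.card F = q ^ 2) : ∃ σ : F →+* F, ∀ x, σ x = x ^ q := by
  classical
  obtain ⟨p, hp⟩ := CharP.exists F
  obtain ⟨k, hpp, hk⟩ := FiniteField.card F p
  have hdvd : q ∣ p ^ (k : ℕ) := by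
    rw [← hk, hF]
    exact dvd_pow_self q two_ne_zero
  obtain ⟨j, -, rfl⟩ := (Nat.dvd_prime_pow hpp).1 hdvd
  haveI : Fact p.Prime := ⟨hpp⟩
  haveI : ExpChar F p := ExpChar.prime hpp
  exact ⟨iterateFrobenius F p j, fun x => iterateFrobenius_def p j x⟩

theorem card_rootsOfUnity_eq {q : ℕ} (hF : Fintype.card F = q ^ 2) :
    Nat.card (rootsOfUnity (q + 1) F) = q + 1 := by
  classical
  have hq := two_le hF
  have hcard : Nat.card Fˣ = q ^ 2 - 1 := by
    rw [Nat.card_eq_fintype_card, Fintype.card_units, hF]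
  have hfac : q ^ 2 - 1 = (q + 1) * (q - 1) := by
    have := Nat.sq_sub_sq q 1
    simpa using this
  have hker : Nat.card (powMonoidHom (q + 1) : Fˣ →* Fˣ).ker = q + 1 := by
    rw [IsCyclic.card_powMonoidHom_ker, hcard, hfac]
    simp
  exact hker

end Fin

theorem hermForm_apply (n q : ℕ) (u v : Fin n → F) :
    hermForm n F q u v = ∑ i, u i * (v i) ^ q := rfl

/-- Membership in `GU`, unfolded. -/
theorem mem_GU_iff {n q : ℕ} (A : Matrix.GeneralLinearGroup (Fin n) F) :
    A ∈ Cfsg.GU n F q ↔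
      ∀ u v : Fin n → F, hermForm n F q ((A : Matrix (Fin n) (Fin n) F) *ᵥ u)
        ((A : Matrix (Fin n) (Fin n) F) *ᵥ v) = hermForm n F q u v :=
  Iff.rfl

/-- Elements of `GU` satisfy the matrix equation `Aᵀ * A^σ = 1`. -/
theorem transpose_mul_map {n q : ℕ} (hq : q ≠ 0) {A : Matrix (Fin n) (Fin n) F}
    (hA : ∀ u v : Fin n → F, hermForm n F q (A *ᵥ u) (A *ᵥ v) = hermForm n F q u v) :
    Aᵀ * A.map (fun x => x ^ q) = 1 := by
  ext i j
  have h := hA (Pi.single i 1) (Pi.single j 1)
  rw [hermForm_apply, hermForm_apply] at h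
  rw [Matrix.mul_apply]
  simp only [Matrix.mulVec_single_one, Matrix.col_apply] at h
  simp only [Matrix.transpose_apply, Matrix.map_apply]
  rw [h]
  rw [Finset.sum_eq_single i]
  · rcases eq_or_ne i j with rfl | hij
    · simp
    · rw [Pi.single_eq_same, Pi.single_eq_of_ne hij, zero_pow hq, mul_zero,
        Matrix.one_apply_ne hij]
  · intro b _ hb
    rw [Pi.single_eq_of_ne hb, zero_mul]
  · intro h; exact absurd (Finset.mem_univ _) h

/-- The determinant of a unitary matrix has norm one. -/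
theorem det_pow {n q : ℕ} [Fintype F] (hF : Fintype.card F = q ^ 2) {A : Matrix (Fin n) (Fin n) F}
    (hA : ∀ u v : Fin n → F, hermForm n F q (A *ᵥ u) (A *ᵥ v) = hermForm n F q u v) :
    A.det ^ (q + 1) = 1 := by
  obtain ⟨σ, hσ⟩ := exists_powHom hF
  have hq := two_le hF
  have h := congrArg Matrix.det (transpose_mul_map (by omega) hA)
  have h2 : A.map (fun x => x ^ q) = σ.mapMatrix A := by
    ext i j
    simp [hσ]
  rw [Matrix.det_mul, Matrix.det_transpose, h2, ← RingHom.map_det, hσ, Matrix.det_one] at h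
  rw [pow_succ', h]

/-- The diagonal matrix with entries of norm one, as an element of `GU`. -/
def guDiag {n : ℕ} (q : ℕ) (a : Fin n → F) (ha : ∀ i, a i ^ (q + 1) = 1) : Cfsg.GU n F q :=
  ⟨Matrix.GeneralLinearGroup.mkOfDetNeZero (Matrix.diagonal a) (by
    rw [Matrix.det_diagonal, Finset.prod_ne_zero_iff]
    intro i _ h0
    have h := ha i
    rw [h0, zero_pow (Nat.succ_ne_zero q)] at h
    exact zero_ne_one h), by
    refine (mem_GU_iff _).2 ?_
    intro u v
    change hermForm n F q (Matrix.diagonal a *ᵥ u) (Matrix.diagonal a *ᵥ v) = _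
    simp only [hermForm_apply, Matrix.mulVec_diagonal]
    refine Finset.sum_congr rfl fun i _ => ?_
    have h := ha i
    rw [pow_succ'] at h
    calc a i * u i * (a i * v i) ^ q = (a i * a i ^ q) * (u i * v i ^ q) := by
          rw [mul_pow]; ring
      _ = u i * v i ^ q := by rw [h, one_mul]⟩

@[simp] theorem coe_guDiag {n : ℕ} (q : ℕ) (a : Fin n → F) (ha : ∀ i, a i ^ (q + 1) = 1) :
    (((guDiag q a ha : Cfsg.GU n F q) : Matrix.GeneralLinearGroup (Fin n) F) :
      Matrix (Fin n) (Fin n) F) = Matrix.diagonal a := rfl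

/-- Permutation matrices, as elements of `GU`. -/
def guPerm {n : ℕ} (q : ℕ) (τ : Equiv.Perm (Fin n)) : Cfsg.GU n F q :=
  ⟨Matrix.GeneralLinearGroup.mkOfDetNeZero (τ.permMatrix F) (by
    rw [Matrix.det_permutation]
    intro h
    rcases Int.units_eq_one_or (Equiv.Perm.sign τ) with h1 | h1 <;> rw [h1] at h <;> simp at h), by
    refine (mem_GU_iff _).2 ?_
    intro u v
    change hermForm n F q (τ.permMatrix F *ᵥ u) (τ.permMatrix F *ᵥ v) = _
    simp only [hermForm_apply, Matrix.permMatrix_mulVec]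
    exact Equiv.sum_comp τ (fun i => u i * v i ^ q)⟩

@[simp] theorem coe_guPerm {n : ℕ} (q : ℕ) (τ : Equiv.Perm (Fin n)) :
    (((guPerm q τ : Cfsg.GU n F q) : Matrix.GeneralLinearGroup (Fin n) F) :
      Matrix (Fin n) (Fin n) F) = τ.permMatrix F := rfl

/-- Two elements of `GU` with the same matrix are equal. -/
theorem gu_ext {n q : ℕ} {A B : Cfsg.GU n F q}
    (h : ((A : Matrix.GeneralLinearGroup (Fin n) F) : Matrix (Fin n) (Fin n) F) =
      ((B : Matrix.GeneralLinearGroup (Fin n) F) : Matrix (Fin n) (Fin n) F)) : A = B :=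
  Subtype.ext (Units.ext h)

/-- Commuting elements of `GU` commute as matrices. -/
theorem coe_mul_comm {n q : ℕ} {A : Cfsg.GU n F q} (hA : A ∈ Subgroup.center (Cfsg.GU n F q))
    (B : Cfsg.GU n F q) :
    ((A : Matrix.GeneralLinearGroup (Fin n) F) : Matrix (Fin n) (Fin n) F) *
        ((B : Matrix.GeneralLinearGroup (Fin n) F) : Matrix (Fin n) (Fin n) F) =
      ((B : Matrix.GeneralLinearGroup (Fin n) F) : Matrix (Fin n) (Fin n) F) *
        ((A : Matrix.GeneralLinearGroup (Fin n) F) : Matrix (Fin n) (Fin n) F) := by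
  have h := Subgroup.mem_center_iff.1 hA B
  have h' := congrArg (fun X : Cfsg.GU n F q =>
    ((X : Matrix.GeneralLinearGroup (Fin n) F) : Matrix (Fin n) (Fin n) F)) h
  simpa using h'.symm

/-- Central elements of `GU` are scalar, provided there is an element `c ≠ 1` of norm one. -/
theorem eq_diagonal_of_mem_center {n q : ℕ} {c : F} (hc : c ^ (q + 1) = 1) (hc1 : c ≠ 1)
    {A : Cfsg.GU n F q} (hA : A ∈ Subgroup.center (Cfsg.GU n F q)) (i0 : Fin n) :
    ((A : Matrix.GeneralLinearGroup (Fin n) F) : Matrix (Fin n) (Fin n) F) =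
      Matrix.diagonal (fun _ =>
        ((A : Matrix.GeneralLinearGroup (Fin n) F) : Matrix (Fin n) (Fin n) F) i0 i0) := by
  ext i j
  rcases eq_or_ne i j with rfl | hij
  · rw [Matrix.diagonal_apply_eq]
    rcases eq_or_ne i i0 with rfl | hi
    · rfl
    have h := coe_mul_comm hA (guPerm q (Equiv.swap i i0))
    rw [coe_guPerm] at h
    have h' := congrFun (congrFun h i) i0
    rw [Equiv.Perm.permMatrix, PEquiv.toMatrix_toPEquiv_mul,
      PEquiv.mul_toMatrix_toPEquiv] at h'
    simp only [Matrix.submatrix_apply, id] at h'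
    rw [Equiv.symm_swap, Equiv.swap_apply_right, Equiv.swap_apply_left] at h'
    exact h'
  · rw [Matrix.diagonal_apply_ne _ hij]
    have hn : ∀ m, (fun m : Fin n => if m = i then c else 1) m ^ (q + 1) = 1 := by
      intro m
      simp only
      split_ifs
      · exact hc
      · exact one_pow _
    have h := coe_mul_comm hA (guDiag q (fun m => if m = i then c else 1) hn)
    rw [coe_guDiag] at h
    have h' := congrFun (congrFun h i) j
    rw [Matrix.mul_diagonal, Matrix.diagonal_mul] at h'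
    rw [if_pos rfl, if_neg hij.symm, mul_one] at h'
    have h3 : (1 - c) * ((A : Matrix.GeneralLinearGroup (Fin n) F) :
        Matrix (Fin n) (Fin n) F) i j = 0 := by
      rw [sub_mul, one_mul, ← h', sub_self]
    rcases mul_eq_zero.1 h3 with h4 | h4
    · exact absurd (sub_eq_zero.1 h4).symm hc1
    · exact h4

/-- Scalar matrices of norm one are central in `GU`. -/
theorem guDiag_const_mem_center {n : ℕ} (q : ℕ) (c : F) (hc : c ^ (q + 1) = 1) :
    (guDiag q (fun _ => c) (fun _ => hc) : Cfsg.GU n F q) ∈ Subgroup.center (Cfsg.GU n F q) := by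
  rw [Subgroup.mem_center_iff]
  intro B
  apply gu_ext
  change ((B : Matrix.GeneralLinearGroup (Fin n) F) : Matrix (Fin n) (Fin n) F) *
    Matrix.diagonal (fun _ => c) = Matrix.diagonal (fun _ => c) *
    ((B : Matrix.GeneralLinearGroup (Fin n) F) : Matrix (Fin n) (Fin n) F)
  ext i j
  rw [Matrix.mul_diagonal, Matrix.diagonal_mul, mul_comm]

/-- An element of norm one other than `1`. -/
theorem exists_norm_one [Fintype F] {q : ℕ} (hF : Fintype.card F = q ^ 2) :
    ∃ c : F, c ^ (q + 1) = 1 ∧ c ≠ 1 := by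
  have hnt : Nontrivial (rootsOfUnity (q + 1) F) := by
    have hq := two_le hF
    have hcard := card_rootsOfUnity_eq hF
    haveI : Finite (rootsOfUnity (q + 1) F) := Nat.finite_of_card_ne_zero (by omega)
    rw [← Finite.one_lt_card_iff_nontrivial]
    omega
  obtain ⟨x, hx⟩ := exists_ne (1 : rootsOfUnity (q + 1) F)
  refine ⟨((x : Fˣ) : F), ?_, ?_⟩
  · have := (mem_rootsOfUnity _ _).1 x.2
    rw [← Units.val_pow_eq_pow_val, this, Units.val_one]
  · intro h
    apply hx
    ext
    simpa using h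

/-- The centre of `GU` (any `n ≥ 1`): the scalars of norm one. -/
theorem mem_center_GU_iff [Fintype F] {n q : ℕ} (hF : Fintype.card F = q ^ 2) (hn : 1 ≤ n)
    (A : Cfsg.GU n F q) :
    A ∈ Subgroup.center (Cfsg.GU n F q) ↔
      ∃ (c : F) (hc : c ^ (q + 1) = 1), A = guDiag q (fun _ => c) (fun _ => hc) := by
  constructor
  swap
  · rintro ⟨c, hc, rfl⟩
    exact guDiag_const_mem_center q c hc
  intro hA
  obtain ⟨c, hc, hc1⟩ := exists_norm_one hF
  have i0 : Fin n := ⟨0, by omega⟩
  have hd := eq_diagonal_of_mem_center hc hc1 hA i0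
  set M : Matrix (Fin n) (Fin n) F :=
    ((A : Matrix.GeneralLinearGroup (Fin n) F) : Matrix (Fin n) (Fin n) F) with hM
  have hq := two_le hF
  have hpq : (M i0 i0) ^ (q + 1) = 1 := by
    have h := congrFun (congrFun (transpose_mul_map (by omega) ((mem_GU_iff _).1 A.2)) i0) i0
    rw [← hM, Matrix.mul_apply, Matrix.one_apply_eq, Finset.sum_eq_single i0] at h
    · rw [Matrix.transpose_apply, Matrix.map_apply] at h
      rw [pow_succ', h]
    · intro b _ hb
      rw [Matrix.transpose_apply, hd, Matrix.diagonal_apply_ne _ hb, zero_mul]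
    · intro h; exact absurd (Finset.mem_univ _) h
  exact ⟨M i0 i0, hpq, gu_ext hd⟩

/-- The determinant on `GU`, as a homomorphism to the roots of unity. -/
noncomputable def detHom [Fintype F] (n : ℕ) {q : ℕ} (hF : Fintype.card F = q ^ 2) :
    Cfsg.GU n F q →* rootsOfUnity (q + 1) F :=
  (Matrix.GeneralLinearGroup.det.comp (Cfsg.GU n F q).subtype).codRestrict (rootsOfUnity (q + 1) F)
    (fun A => by
      rw [mem_rootsOfUnity]
      apply Units.ext
      rw [Units.val_pow_eq_pow_val, Units.val_one]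
      exact det_pow hF ((mem_GU_iff _).1 A.2))

theorem coe_detHom [Fintype F] (n : ℕ) {q : ℕ} (hF : Fintype.card F = q ^ 2) (A : Cfsg.GU n F q) :
    ((detHom n hF A : Fˣ) : F) =
      ((A : Matrix.GeneralLinearGroup (Fin n) F) : Matrix (Fin n) (Fin n) F).det := rfl

theorem detHom_guDiag [Fintype F] {n : ℕ} {q : ℕ} (hF : Fintype.card F = q ^ 2) (a : Fin n → F)
    (ha : ∀ i, a i ^ (q + 1) = 1) :
    ((detHom n hF (guDiag q a ha) : Fˣ) : F) = ∏ i, a i := by
  rw [coe_detHom, coe_guDiag, Matrix.det_diagonal]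

theorem detHom_surjective [Fintype F] {n : ℕ} (hn : 1 ≤ n) {q : ℕ} (hF : Fintype.card F = q ^ 2) :
    Function.Surjective (detHom n hF) := by
  intro z
  have hz : ((z : Fˣ) : F) ^ (q + 1) = 1 := by
    rw [← Units.val_pow_eq_pow_val, (mem_rootsOfUnity _ _).1 z.2, Units.val_one]
  have i0 : Fin n := ⟨0, by omega⟩
  have hn : ∀ m, (fun m : Fin n => if m = i0 then ((z : Fˣ) : F) else 1) m ^ (q + 1) = 1 := by
    intro m
    simp only
    split_ifs
    · exact hz
    · exact one_pow _
  refine ⟨guDiag q _ hn, ?_⟩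
  apply Subtype.ext
  apply Units.ext
  rw [detHom_guDiag]
  simp

end Cfsg.Agent.ClassicalGeometry.GUBasic
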