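import Mathlib
import Cfsg.Agent.ClassicalGeometry.UnitAutBasic
import Cfsg.Agent.ClassicalGeometry.GUBasic
import Cfsg.Agent.LieClassical.GUOrder
import Cfsg.Agent.LieClassical.FieldTransfer
import Cfsg.Agent.Lib.FieldAutCard
import Cfsg.Agent.S0279

/-!
# Semilinear automorphisms of `PSU n F q` and their number

`semiConj A ρ : MulAut (SU n F q)` (conjugation by the semi-isometry `x ↦ A (ρ ∘ x)`, `A ∈ GU`),
`toAut A ρ : MulAut (PSU n F q)`, its fibres (norm one scalars) and the count of `MulAut (PSU n F q)` when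
`toAut` is surjective.
-/

set_option autoImplicit false

namespace Cfsg.Agent.ClassicalGeometry.PSUAutCount

open Cfsg Cfsg.Agent.LieClassical.HermBasic Cfsg.Agent.LieClassical.HermSiegel
  Cfsg.Agent.LieClassical.HermGen Cfsg.Agent.LieClassical.SUBasic
  Cfsg.Agent.ClassicalGeometry.UnitAutBasic Cfsg.Agent.LieClassical.FieldTransfer Matrix

section Defs

variable {F : Type*} [Field F] {q n : ℕ}

/-- The underlying matrix of an element of `GU`. -/
def gm (A : Cfsg.GU n F q) : Matrix (Fin n) (Fin n) F := ((A : GL (Fin n) F) : Matrix (Fin n) (Fin n) F)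

theorem gm_def (A : Cfsg.GU n F q) :
    gm A = ((A : GL (Fin n) F) : Matrix (Fin n) (Fin n) F) := rfl

theorem gm_mul (A B : Cfsg.GU n F q) : gm (A * B) = gm A * gm B := rfl

theorem gm_one : gm (1 : Cfsg.GU n F q) = 1 := rfl

theorem gm_mul_inv (A : Cfsg.GU n F q) : gm A * gm A⁻¹ = 1 := by
  rw [← gm_mul, mul_inv_cancel, gm_one]

theorem gm_inv_mul (A : Cfsg.GU n F q) : gm A⁻¹ * gm A = 1 := by
  rw [← gm_mul, inv_mul_cancel, gm_one]

theorem gm_inj {A B : Cfsg.GU n F q} (h : gm A = gm B) : A = B :=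
  Subtype.ext (Units.ext h)

theorem herm_gm (A : Cfsg.GU n F q) (u v : Fin n → F) :
    hermForm n F q (gm A *ᵥ u) (gm A *ᵥ v) = hermForm n F q u v := A.2 u v

theorem gm_inv_mulVec (A : Cfsg.GU n F q) (u : Fin n → F) : gm A⁻¹ *ᵥ (gm A *ᵥ u) = u := by
  rw [mulVec_mulVec, gm_inv_mul, one_mulVec]

theorem gm_mulVec_inv (A : Cfsg.GU n F q) (u : Fin n → F) : gm A *ᵥ (gm A⁻¹ *ᵥ u) = u := by
  rw [mulVec_mulVec, gm_mul_inv, one_mulVec]

theorem det_conj (A : Cfsg.GU n F q) (g : SU n F q) : (gm A * mat g * gm A⁻¹).det = 1 := by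
  have h1 : (mat g).det = 1 := (g : SpecialLinearGroup (Fin n) F).det_coe
  have h2 := congrArg Matrix.det (gm_mul_inv A)
  rw [det_mul, det_one] at h2
  rw [det_mul, det_mul, h1, mul_one, h2]

theorem isom_conj (A : Cfsg.GU n F q) (g : SU n F q) (u v : Fin n → F) :
    hermForm n F q ((gm A * mat g * gm A⁻¹) *ᵥ u) ((gm A * mat g * gm A⁻¹) *ᵥ v) =
      hermForm n F q u v := by
  rw [← mulVec_mulVec, ← mulVec_mulVec, ← mulVec_mulVec, ← mulVec_mulVec, herm_gm]
  have h := (LieClassical.SUBasic.mem_SU_iff _).1 g.2 (gm A⁻¹ *ᵥ u) (gm A⁻¹ *ᵥ v)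
  rw [← herm_gm A⁻¹ u v]
  exact h

/-- Conjugation by an element of `GU` on `SU`, as a map. -/
def guConjFun (A : Cfsg.GU n F q) (g : SU n F q) : SU n F q :=
  ⟨⟨gm A * mat g * gm A⁻¹, det_conj A g⟩, (LieClassical.SUBasic.mem_SU_iff _).2 (isom_conj A g)⟩

theorem mat_guConjFun (A : Cfsg.GU n F q) (g : SU n F q) :
    mat (guConjFun A g) = gm A * mat g * gm A⁻¹ := rfl

theorem act_guConjFun (A : Cfsg.GU n F q) (g : SU n F q) (x : Fin n → F) :
    act (guConjFun A g) x = gm A *ᵥ act g (gm A⁻¹ *ᵥ x) := by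
  rw [act_def, mat_guConjFun, act_def, mulVec_mulVec, mulVec_mulVec, Matrix.mul_assoc]

/-- Conjugation by an element of `GU` on `SU`. -/
def guConj (A : Cfsg.GU n F q) : MulAut (SU n F q) where
  toFun := guConjFun A
  invFun := guConjFun A⁻¹
  left_inv g := by
    apply ext_act
    intro x
    rw [act_guConjFun, act_guConjFun, gm_inv_mulVec, inv_inv, gm_inv_mulVec]
  right_inv g := by
    apply ext_act
    intro x
    rw [act_guConjFun, act_guConjFun, inv_inv, gm_mulVec_inv, gm_mulVec_inv]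
  map_mul' g g' := by
    apply ext_act
    intro x
    rw [act_guConjFun, act_mul, act_mul, act_guConjFun, act_guConjFun, gm_inv_mulVec]

theorem act_guConj (A : Cfsg.GU n F q) (g : SU n F q) (x : Fin n → F) :
    act (guConj A g) x = gm A *ᵥ act g (gm A⁻¹ *ᵥ x) := act_guConjFun A g x

/-- Conjugation by the semi-isometry `x ↦ A (ρ ∘ x)`. -/
def semiConj (A : Cfsg.GU n F q) (ρ : F ≃+* F) : MulAut (SU n F q) :=
  (suCongr n q ρ).trans (guConj A)

theorem act_suCongr (ρ : F ≃+* F) (g : SU n F q) (x : Fin n → F) :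
    act (suCongr n q ρ g) (fun i => ρ (x i)) = fun i => ρ (act g x i) :=
  slCongr_mulVec ρ g.1 x

theorem act_semiConj (A : Cfsg.GU n F q) (ρ : F ≃+* F) (g : SU n F q) (x : Fin n → F) :
    act (semiConj A ρ g) (gm A *ᵥ fun i => ρ (x i)) = gm A *ᵥ fun i => ρ (act g x i) := by
  have h : act (semiConj A ρ g) (gm A *ᵥ fun i => ρ (x i)) =
      act (guConj A (suCongr n q ρ g)) (gm A *ᵥ fun i => ρ (x i)) := rfl
  rw [h, act_guConj, gm_inv_mulVec, act_suCongr]

/-- The automorphism of `PSU` induced by `semiConj`. -/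
def toAut (A : Cfsg.GU n F q) (ρ : F ≃+* F) : MulAut (PSU n F q) :=
  centralQuotientCongr (semiConj A ρ)

theorem toAut_pr (A : Cfsg.GU n F q) (ρ : F ≃+* F) (g : SU n F q) :
    toAut A ρ (pr n F q g) = pr n F q (semiConj A ρ g) := rfl

theorem herm_map (ρ : F ≃+* F) (u v : Fin n → F) :
    hermForm n F q (fun i => ρ (u i)) (fun i => ρ (v i)) = ρ (hermForm n F q u v) :=
  hermForm_map ρ n q u v

theorem herm_semi (A : Cfsg.GU n F q) (ρ : F ≃+* F) (u v : Fin n → F) :
    hermForm n F q (gm A *ᵥ fun i => ρ (u i)) (gm A *ᵥ fun i => ρ (v i)) =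
      ρ (hermForm n F q u v) := by
  rw [herm_gm, herm_map]

end Defs

section Fin

variable {F : Type*} [Field F] [Fintype F] {q n : ℕ}

/-- `toAut` on transvections. -/
theorem toAut_tau (hF : Fintype.card F = q ^ 2) (A : Cfsg.GU n F q) (ρ : F ≃+* F)
    {r : F} (hr : c0 hF * (r * r ^ q) = ρ (c0 hF)) {v : Fin n → F}
    (hv : hermForm n F q v v = 0) :
    toAut A ρ (tau hF v) = tau hF (r • (gm A *ᵥ fun i => ρ (v i))) := by
  have hw : hermForm n F q (gm A *ᵥ fun i => ρ (v i)) (gm A *ᵥ fun i => ρ (v i)) = 0 := by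
    rw [herm_semi, hv, map_zero]
  rw [tau_def, toAut_pr, tau_def]
  congr 1
  apply ext_act
  intro x
  have hx : x = gm A *ᵥ fun i => ρ ((fun j => ρ.symm ((gm A⁻¹ *ᵥ x) j)) i) := by
    have : (fun i => ρ ((fun j => ρ.symm ((gm A⁻¹ *ᵥ x) j)) i)) = gm A⁻¹ *ᵥ x := by
      funext i
      simp
    rw [this, gm_mulVec_inv]
  rw [hx]
  generalize (fun j => ρ.symm ((gm A⁻¹ *ᵥ x) j)) = y
  rw [act_semiConj, act_T hF hv, act_T_smul hF hw, herm_semi, hr, ← map_mul,
    show (fun i => ρ ((y + (c0 hF * hermForm n F q y v) • v) i)) =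
      (fun i => ρ (y i)) + ρ (c0 hF * hermForm n F q y v) • (fun i => ρ (v i)) by
      funext i
      simp [map_add, map_mul, Pi.add_apply, Pi.smul_apply, smul_eq_mul],
    mulVec_add, mulVec_smul]

/-- There is `r ≠ 0` with `c₀ N(r) = ρ(c₀)`. -/
theorem exists_r (hF : Fintype.card F = q ^ 2) (ρ : F ≃+* F) :
    ∃ r : F, r ≠ 0 ∧ c0 hF * (r * r ^ q) = ρ (c0 hF) := by
  obtain ⟨r, hr⟩ := exists_c0_mul_norm hF (c := ρ (c0 hF)) (by
    rw [← map_pow, ← map_add, c0_tr, map_zero])
  refine ⟨r, ?_, hr⟩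
  rintro rfl
  rw [zero_mul, mul_zero] at hr
  exact c0_ne_zero hF ((map_eq_zero ρ).1 hr.symm)

/-- If two semilinear automorphisms agree then `A' ρ'(v)` is proportional to `A ρ(v)`. -/
theorem exists_smul_of_toAut_eq (hF : Fintype.card F = q ^ 2) (hn : 3 ≤ n) {A A' : Cfsg.GU n F q}
    {ρ ρ' : F ≃+* F} (h : toAut A ρ = toAut A' ρ') {v : Fin n → F}
    (hv : hermForm n F q v v = 0) (h0 : v ≠ 0) :
    ∃ κ : F, (gm A' *ᵥ fun i => ρ' (v i)) = κ • (gm A *ᵥ fun i => ρ (v i)) := by
  obtain ⟨r, hr0, hr⟩ := exists_r hF ρ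
  obtain ⟨r', hr0', hr'⟩ := exists_r hF ρ'
  have h1 : tau hF (r • (gm A *ᵥ fun i => ρ (v i))) =
      tau hF (r' • (gm A' *ᵥ fun i => ρ' (v i))) := by
    rw [← toAut_tau hF A ρ hr hv, ← toAut_tau hF A' ρ' hr' hv, h]
  have hne : r • (gm A *ᵥ fun i => ρ (v i)) ≠ 0 := by
    intro h2
    rcases smul_eq_zero.1 h2 with h3 | h3
    · exact hr0 h3
    · have h4 := congrArg (fun x => gm A⁻¹ *ᵥ x) h3
      simp only [gm_inv_mulVec, mulVec_zero] at h4
      apply h0
      funext i
      have h5 := congrFun h4 i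
      simpa using h5
  obtain ⟨ζ, -, hζ⟩ := (tau_eq_tau_iff hF hn
    (iso_smul r (by rw [herm_semi, hv, map_zero])) (iso_smul r' (by rw [herm_semi, hv, map_zero]))
    hne).1 h1
  refine ⟨r'⁻¹ * (ζ * r), ?_⟩
  rw [← smul_smul, ← smul_smul, ← hζ, smul_smul, inv_mul_cancel₀ hr0', one_smul]

/-- A matrix `B` with `B ψ(u) ∈ F u` for all isotropic `u` is a scalar, and `ψ = 1`. -/
theorem scalar_of_isotropic (hF : Fintype.card F = q ^ 2) (hn : 3 ≤ n)
    {B : Matrix (Fin n) (Fin n) F} (hB : B ≠ 0) {ψ : F ≃+* F}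
    (h : ∀ u : Fin n → F, hermForm n F q u u = 0 → u ≠ 0 →
      ∃ κ : F, (B *ᵥ fun i => ψ (u i)) = κ • u) :
    (∀ x, ψ x = x) ∧ ∃ b : F, b ≠ 0 ∧ B = b • (1 : Matrix (Fin n) (Fin n) F) := by
  classical
  have hq := q_pos hF
  obtain ⟨κ, hκ⟩ := exists_norm_eq hF (c := (-1 : F)) (by rw [neg_pow_q hF, one_pow])
  have hκ0 : κ ≠ 0 := by
    rintro rfl
    rw [zero_mul] at hκ
    exact one_ne_zero (neg_eq_zero.1 hκ.symm)
  obtain ⟨ζ, hζ, hζ1⟩ := GUBasic.exists_norm_one hF
  have hζ' : ζ * ζ ^ q = 1 := by rw [← pow_succ', hζ]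
  have hκ2 : (ζ * κ) * (ζ * κ) ^ q = -1 := by
    rw [LieClassical.HermBasic.norm_mul, hζ', one_mul, hκ]
  -- the vectors `e_i + κ e_j`
  have hiso : ∀ i j : Fin n, i ≠ j → ∀ k : F, k * k ^ q = -1 →
      hermForm n F q (Pi.single i 1 + k • Pi.single j 1) (Pi.single i 1 + k • Pi.single j 1) = 0 := by
    intro i j hij k hk
    rw [herm_add_left, herm_add_right hF, herm_add_right hF, herm_smul_left, herm_smul_left,
      herm_smul_right, herm_smul_right, herm_single_left, herm_single_left, herm_single_left,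
      herm_single_left, Pi.single_eq_same, Pi.single_eq_same, Pi.single_eq_of_ne hij,
      Pi.single_eq_of_ne hij.symm, zero_pow_q hF, one_pow]
    linear_combination hk
  have hne : ∀ i j : Fin n, i ≠ j → ∀ k : F, (Pi.single i 1 + k • Pi.single j 1 : Fin n → F) ≠ 0 := by
    intro i j hij k h0
    have h1 := congrFun h0 i
    rw [Pi.add_apply, Pi.smul_apply, Pi.single_eq_same, Pi.single_eq_of_ne hij, smul_zero,
      add_zero, Pi.zero_apply] at h1
    exact one_ne_zero h1
  have himg : ∀ i j : Fin n, ∀ k : F, ∀ l : Fin n,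
      (B *ᵥ fun i' => ψ ((Pi.single i 1 + k • Pi.single j 1 : Fin n → F) i')) l =
        B l i + ψ k * B l j := by
    intro i j k l
    have h1 : (fun i' => ψ ((Pi.single i 1 + k • Pi.single j 1 : Fin n → F) i')) =
        Pi.single i 1 + ψ k • Pi.single j 1 := by
      funext i'
      rw [Pi.add_apply, Pi.add_apply, Pi.smul_apply, Pi.smul_apply, map_add, smul_eq_mul, map_mul,
        smul_eq_mul]
      congr 1
      · rcases eq_or_ne i' i with rfl | hi
        · rw [Pi.single_eq_same, map_one]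
        · rw [Pi.single_eq_of_ne hi, map_zero]
      · congr 1
        rcases eq_or_ne i' j with rfl | hi
        · rw [Pi.single_eq_same, map_one]
        · rw [Pi.single_eq_of_ne hi, map_zero]
    rw [h1, mulVec_add, mulVec_smul, mulVec_single_one, mulVec_single_one, Pi.add_apply,
      Pi.smul_apply, smul_eq_mul]
    rfl
  have hex : ∀ i j : Fin n, ∃ k : Fin n, k ≠ i ∧ k ≠ j := by
    intro i j
    by_contra hcon
    push Not at hcon
    have h1 : (Finset.univ : Finset (Fin n)) ⊆ {i, j} := by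
      intro k _
      rw [Finset.mem_insert, Finset.mem_singleton]
      by_contra h2
      push Not at h2
      exact h2.2 (hcon k h2.1)
    have h2 := Finset.card_le_card h1
    have h3 : ({i, j} : Finset (Fin n)).card ≤ 2 := Finset.card_le_two
    rw [Finset.card_univ, Fintype.card_fin] at h2
    omega
  -- off-diagonal entries
  have hoff : ∀ k j : Fin n, k ≠ j → B k j = 0 := by
    intro k j hkj
    obtain ⟨i, hik, hij⟩ := hex k j
    have h1 : ∀ t : F, t * t ^ q = -1 → B k i + ψ t * B k j = 0 := by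
      intro t ht
      obtain ⟨l, hl⟩ := h _ (hiso i j hij t ht) (hne i j hij t)
      have h2 := congrFun hl k
      rw [himg, Pi.smul_apply, Pi.add_apply, Pi.smul_apply, Pi.single_eq_of_ne hik.symm,
        Pi.single_eq_of_ne hkj, smul_zero, add_zero, smul_zero] at h2
      exact h2
    have h2 := h1 κ hκ
    have h3 := h1 (ζ * κ) hκ2
    have h4 : (ψ κ - ψ (ζ * κ)) * B k j = 0 := by linear_combination h2 - h3
    rcases mul_eq_zero.1 h4 with h5 | h5
    · exfalso
      have h6 : κ = ζ * κ := ψ.injective (sub_eq_zero.1 h5)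
      apply hζ1
      have h7 : (ζ - 1) * κ = 0 := by linear_combination -h6
      rcases mul_eq_zero.1 h7 with h8 | h8
      · exact sub_eq_zero.1 h8
      · exact absurd h8 hκ0
    · exact h5
  have hdiag : ∀ i j : Fin n, i ≠ j → ψ κ * B j j = B i i * κ := by
    intro i j hij
    obtain ⟨l, hl⟩ := h _ (hiso i j hij κ hκ) (hne i j hij κ)
    have h2 := congrFun hl i
    have h3 := congrFun hl j
    rw [himg, Pi.smul_apply, Pi.add_apply, Pi.smul_apply, Pi.single_eq_same,
      Pi.single_eq_of_ne hij, smul_zero, add_zero, hoff i j hij, mul_zero, add_zero,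
      smul_eq_mul, mul_one] at h2
    rw [himg, Pi.smul_apply, Pi.add_apply, Pi.smul_apply, Pi.single_eq_same,
      Pi.single_eq_of_ne hij.symm, zero_add, hoff j i hij.symm, zero_add,
      smul_eq_mul, smul_eq_mul, mul_one] at h3
    rw [h3, h2]
  have hdd : ∀ i j : Fin n, B i i = B j j := by
    intro i j
    rcases eq_or_ne i j with rfl | hij
    · rfl
    · obtain ⟨k, hki, hkj⟩ := hex i j
      have h1 := hdiag i k hki.symm
      have h2 := hdiag j k hkj.symm
      rw [h1] at h2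
      exact mul_right_cancel₀ hκ0 h2
  let i0 : Fin n := ⟨0, by omega⟩
  have hBeq : B = B i0 i0 • (1 : Matrix (Fin n) (Fin n) F) := by
    ext i j
    rw [Matrix.smul_apply, smul_eq_mul]
    rcases eq_or_ne i j with rfl | hij
    · rw [Matrix.one_apply_eq, mul_one, hdd]
    · rw [Matrix.one_apply_ne hij, mul_zero, hoff i j hij]
  have hb0 : B i0 i0 ≠ 0 := by
    intro h0
    apply hB
    rw [hBeq, h0, zero_smul]
  refine ⟨fun x => ?_, B i0 i0, hb0, hBeq⟩
  -- the vector `(1, x, c)`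
  obtain ⟨c, hc⟩ := exists_norm_eq hF (c := -1 - x * x ^ q) (by
    rw [sub_pow_q hF, neg_pow_q hF, one_pow, norm_pow_q hF])
  let i1 : Fin n := ⟨1, by omega⟩
  let i2 : Fin n := ⟨2, by omega⟩
  have h01 : i0 ≠ i1 := by intro h; exact absurd (congrArg Fin.val h) (by simp [i0, i1])
  have h02 : i0 ≠ i2 := by intro h; exact absurd (congrArg Fin.val h) (by simp [i0, i2])
  have h12 : i1 ≠ i2 := by intro h; exact absurd (congrArg Fin.val h) (by simp [i1, i2])
  set u : Fin n → F := Pi.single i0 1 + x • Pi.single i1 1 + c • Pi.single i2 1 with hu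
  have hu0 : u i0 = 1 := by
    rw [hu, Pi.add_apply, Pi.add_apply, Pi.smul_apply, Pi.smul_apply, Pi.single_eq_same,
      Pi.single_eq_of_ne h01, Pi.single_eq_of_ne h02, smul_zero, smul_zero, add_zero, add_zero]
  have hu1 : u i1 = x := by
    rw [hu, Pi.add_apply, Pi.add_apply, Pi.smul_apply, Pi.smul_apply, Pi.single_eq_same,
      Pi.single_eq_of_ne h01.symm, Pi.single_eq_of_ne h12, smul_zero, zero_add, add_zero,
      smul_eq_mul, mul_one]
  have hu2 : hermForm n F q u u = 0 := by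
    have e1 : ∀ a b : F, ∀ i j : Fin n, i ≠ j →
        hermForm n F q (a • Pi.single i 1) (b • Pi.single j 1) = 0 := by
      intro a b i j hij
      rw [herm_smul_left, herm_single_left, Pi.smul_apply, Pi.single_eq_of_ne hij, smul_zero,
        zero_pow_q hF, mul_zero, mul_zero]
    have e2 : ∀ a : F, ∀ i : Fin n,
        hermForm n F q (a • Pi.single i 1) (a • Pi.single i 1) = a * a ^ q := by
      intro a i
      rw [herm_smul_left, herm_single_left, Pi.smul_apply, Pi.single_eq_same, smul_eq_mul, mul_one,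
        one_mul]
    have hu' : u = (1 : F) • Pi.single i0 1 + x • Pi.single i1 1 + c • Pi.single i2 1 := by
      rw [hu, one_smul]
    rw [hu', herm_add_left, herm_add_left, herm_add_right hF, herm_add_right hF,
      herm_add_right hF, herm_add_right hF, herm_add_right hF, herm_add_right hF, e2, e2, e2,
      e1 _ _ _ _ h01, e1 _ _ _ _ h02, e1 _ _ _ _ h12, e1 _ _ _ _ h01.symm, e1 _ _ _ _ h02.symm,
      e1 _ _ _ _ h12.symm, hc, one_pow]
    ring
  obtain ⟨l, hl⟩ := h u hu2 (by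
    intro h0
    rw [h0, Pi.zero_apply] at hu0
    exact zero_ne_one hu0)
  rw [hBeq, smul_mulVec, one_mulVec] at hl
  have h3 := congrFun hl i0
  have h4 := congrFun hl i1
  rw [Pi.smul_apply, Pi.smul_apply, hu0, map_one, smul_eq_mul, smul_eq_mul, mul_one, mul_one] at h3
  rw [Pi.smul_apply, Pi.smul_apply, hu1, smul_eq_mul, smul_eq_mul, ← h3] at h4
  exact mul_left_cancel₀ hb0 h4

/-- The fibres of `toAut`. -/
theorem eq_of_toAut_eq (hF : Fintype.card F = q ^ 2) (hn : 3 ≤ n) {A A' : Cfsg.GU n F q}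
    {ρ ρ' : F ≃+* F} (h : toAut A ρ = toAut A' ρ') :
    ρ' = ρ ∧ ∃ c : F, c * c ^ q = 1 ∧ gm A' = c • gm A := by
  have hne : gm A⁻¹ * gm A' ≠ 0 := by
    intro h0
    have h1 := congrArg (fun M => M * gm A'⁻¹) h0
    simp only [Matrix.zero_mul, Matrix.mul_assoc, gm_mul_inv, Matrix.mul_one] at h1
    have h2 := gm_mul_inv A
    rw [h1, Matrix.mul_zero] at h2
    have h3 := congrFun (congrFun h2 ⟨0, by omega⟩) ⟨0, by omega⟩
    rw [Matrix.zero_apply, Matrix.one_apply_eq] at h3
    exact zero_ne_one h3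
  obtain ⟨hψ, b, hb0, hb⟩ := scalar_of_isotropic hF hn (B := gm A⁻¹ * gm A')
    (ψ := ρ.symm.trans ρ') hne (by
      intro u hu hu0
      have hv : hermForm n F q (fun i => ρ.symm (u i)) (fun i => ρ.symm (u i)) = 0 := by
        rw [herm_map, hu, map_zero]
      have hv0 : (fun i => ρ.symm (u i)) ≠ 0 := by
        intro h0
        apply hu0
        funext i
        have h1 := congrFun h0 i
        simpa using h1
      obtain ⟨κ, hκ⟩ := exists_smul_of_toAut_eq hF hn h hv hv0
      refine ⟨κ, ?_⟩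
      have e1 : (fun i => ρ ((fun j => ρ.symm (u j)) i)) = u := by
        funext i
        simp
      rw [e1] at hκ
      have e2 : (fun i => (ρ.symm.trans ρ') (u i)) = fun i => ρ' ((fun j => ρ.symm (u j)) i) := rfl
      rw [e2, ← mulVec_mulVec, hκ, mulVec_smul, gm_inv_mulVec])
  have hρ : ρ' = ρ := by
    ext x
    have h1 := hψ (ρ x)
    rw [RingEquiv.trans_apply, RingEquiv.symm_apply_apply] at h1
    exact h1
  have hA : gm A' = b • gm A := by
    have h1 := congrArg (fun M => gm A * M) hb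
    simp only [← Matrix.mul_assoc, gm_mul_inv, Matrix.one_mul, Matrix.mul_smul,
      Matrix.mul_one] at h1
    exact h1
  refine ⟨hρ, b, ?_, hA⟩
  have h1 := herm_gm A' (Pi.single ⟨0, by omega⟩ 1) (Pi.single ⟨0, by omega⟩ 1)
  rw [hA, smul_mulVec, herm_smul_left, herm_smul_right, herm_gm, herm_single_left,
    Pi.single_eq_same, one_pow] at h1
  linear_combination h1

/-- Norm one scalars, as elements of `GU`. -/
def sc (n : ℕ) (c : {c : F // c * c ^ q = 1}) : Cfsg.GU n F q :=
  GUBasic.guDiag q (fun _ => c.1) (fun _ => by rw [pow_succ', c.2])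

omit [Fintype F] in
theorem gm_sc_mul (c : {c : F // c * c ^ q = 1}) (A : Cfsg.GU n F q) :
    gm (sc n c * A) = c.1 • gm A := by
  rw [gm_mul]
  change Matrix.diagonal (fun _ => c.1) * gm A = _
  ext i j
  rw [Matrix.diagonal_mul, Matrix.smul_apply, smul_eq_mul]

omit [Fintype F] in
theorem toAut_sc_mul (c : {c : F // c * c ^ q = 1}) (A : Cfsg.GU n F q) (ρ : F ≃+* F) :
    toAut (sc n c * A) ρ = toAut A ρ := by
  ext x
  obtain ⟨g, rfl⟩ := pr_surjective x
  rw [toAut_pr, toAut_pr]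
  congr 1
  apply ext_act
  intro x
  have hc0 : c.1 ≠ 0 := by
    intro h0
    have h1 := c.2
    rw [h0, zero_mul] at h1
    exact zero_ne_one h1
  have hx : x = gm (sc n c * A) *ᵥ fun i => ρ ((fun j => ρ.symm ((gm (sc n c * A)⁻¹ *ᵥ x) j)) i) := by
    have : (fun i => ρ ((fun j => ρ.symm ((gm (sc n c * A)⁻¹ *ᵥ x) j)) i)) =
        gm (sc n c * A)⁻¹ *ᵥ x := by
      funext i
      simp
    rw [this, gm_mulVec_inv]
  rw [hx]
  generalize (fun j => ρ.symm ((gm (sc n c * A)⁻¹ *ᵥ x) j)) = y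
  rw [act_semiConj, gm_sc_mul, smul_mulVec, smul_mulVec, act_smul, act_semiConj]

/-- If every automorphism of `PSU` is semilinear then `|Aut| = gcd(n, q+1) · 2f · |PSU|`. -/
theorem card_mulAut_of (hF : Fintype.card F = q ^ 2) (hn : 3 ≤ n) {p f : ℕ} (hp : p.Prime)
    (hf : 1 ≤ f) (hq : q = p ^ f)
    (H : ∀ α : MulAut (PSU n F q), ∃ (A : Cfsg.GU n F q) (ρ : F ≃+* F), α = toAut A ρ) :
    Nat.card (MulAut (PSU n F q)) = Nat.gcd n (q + 1) * (2 * f) * Nat.card (PSU n F q) := by
  classical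
  have := Fact.mk hp
  have hfinG : Finite (Cfsg.GU n F q) := LieClassical.GUOrder.finite_GU n
  have hfinP : Finite (PSU n F q) := Finite.of_surjective _ (pr_surjective (n := n) (F := F) (q := q))
  have hfinM : Finite (MulAut (PSU n F q)) :=
    Finite.of_injective (fun α : MulAut (PSU n F q) => (α : PSU n F q → PSU n F q))
      (fun α β h => MulEquiv.ext fun x => congrFun h x)
  have hfinR : Finite (F ≃+* F) :=
    Finite.of_injective (fun α : F ≃+* F => (α : F → F))
      (fun α β h => RingEquiv.ext fun x => congrFun h x)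
  have hcR : Nat.card (F ≃+* F) = 2 * f :=
    Lib.FieldAutCard.card_ringAut (p := p) (by omega) (by rw [hF, hq, ← pow_mul, mul_comm])
  let Φ : Cfsg.GU n F q × (F ≃+* F) → MulAut (PSU n F q) := fun x => toAut x.1 x.2
  have hfib : ∀ α : MulAut (PSU n F q), Nat.card {x // Φ x = α} = q + 1 := by
    intro α
    obtain ⟨A, ρ, rfl⟩ := H α
    rw [← card_norm_eq_one hF]
    refine (Nat.card_congr (Equiv.ofBijective
      (fun c : {c : F // c * c ^ q = 1} => (⟨(sc n c * A, ρ), toAut_sc_mul c A ρ⟩ :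
        {x // Φ x = toAut A ρ})) ⟨?_, ?_⟩)).symm
    · intro c c' h
      have h1 : sc n c * A = sc n c' * A := congrArg (fun y => y.1.1) h
      have h2 : sc n c = sc n c' := mul_right_cancel h1
      have h3 := congrArg gm h2
      have h4 := congrFun (congrFun h3 ⟨0, by omega⟩) ⟨0, by omega⟩
      change Matrix.diagonal (fun _ => c.1) _ _ = Matrix.diagonal (fun _ => c'.1) _ _ at h4
      rw [Matrix.diagonal_apply_eq, Matrix.diagonal_apply_eq] at h4
      exact Subtype.ext h4
    · rintro ⟨⟨A', ρ'⟩, h⟩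
      obtain ⟨h1, c, hc, h2⟩ := eq_of_toAut_eq hF hn (A := A) (ρ := ρ) (A' := A') (ρ' := ρ') h.symm
      refine ⟨⟨c, hc⟩, ?_⟩
      apply Subtype.ext
      apply Prod.ext
      · apply gm_inj
        change gm (sc n ⟨c, hc⟩ * A) = gm A'
        rw [gm_sc_mul, h2]
      · exact h1.symm
  have hcount : Nat.card (Cfsg.GU n F q × (F ≃+* F)) =
      Nat.card (MulAut (PSU n F q)) * (q + 1) := by
    letI := Fintype.ofFinite (MulAut (PSU n F q))
    rw [Nat.card_congr (Equiv.sigmaFiberEquiv Φ).symm, Nat.card_sigma]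
    rw [Finset.sum_congr rfl (fun α _ => hfib α), Finset.sum_const, Finset.card_univ, smul_eq_mul,
      Nat.card_eq_fintype_card]
  rw [Nat.card_prod, hcR, LieClassical.GUOrder.card_GU_eq hF (by omega)] at hcount
  have h1 : Nat.card (MulAut (PSU n F q)) = Nat.card (SU n F q) * (2 * f) := by
    have h2 : (q + 1) * Nat.card (MulAut (PSU n F q)) =
        (q + 1) * (Nat.card (SU n F q) * (2 * f)) := by
      linarith
    exact Nat.eq_of_mul_eq_mul_left (Nat.succ_pos q) h2
  have h3 : Nat.card (SU n F q) = Nat.card (PSU n F q) * Nat.gcd n (q + 1) := by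
    rw [← S0279.result hF n hn]
    exact Subgroup.card_eq_card_quotient_mul_card_subgroup _
  rw [h1, h3]
  ring

end Fin

end Cfsg.Agent.ClassicalGeometry.PSUAutCount
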