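import Mathlib
import Cfsg.Prelude.Def_Classical
import Cfsg.Prelude.Def_LieClassical
import Cfsg.Agent.LieClassical.HermBasic

/-!
# Orthonormal bases for the standard Hermitian form

`hF : Fintype.card F = q ^ 2` throughout. Every non-degenerate subspace of `F ^ n` has an orthonormal
basis; orthogonal complements; matrices in `GU_n` adapted to a non-degenerate subspace.
-/

set_option autoImplicit false

namespace Cfsg.Agent.ClassicalGeometry.HermOrtho

open Cfsg Module
open Cfsg.Agent.LieClassical.HermBasic

variable {F : Type*} [Field F] {q n : ℕ}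

/-- The linear functional `u ↦ h(u, v)`. -/
def hermLeft (q : ℕ) (v : Fin n → F) : (Fin n → F) →ₗ[F] F where
  toFun u := hermForm n F q u v
  map_add' u u' := herm_add_left u u' v
  map_smul' c u := by simp [herm_smul_left]

@[simp] theorem hermLeft_apply (u v : Fin n → F) : hermLeft q v u = hermForm n F q u v := rfl

/-- The orthogonal complement of a set of vectors: `{u | h(u, v) = 0 for all v ∈ S}`. -/
def hermPerp (q : ℕ) (S : Set (Fin n → F)) : Submodule F (Fin n → F) where
  carrier := {u | ∀ v ∈ S, hermForm n F q u v = 0}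
  add_mem' {u u'} hu hu' := fun v hv => by rw [herm_add_left, hu v hv, hu' v hv, add_zero]
  zero_mem' := fun v _ => herm_zero_left v
  smul_mem' c u hu := fun v hv => by rw [herm_smul_left, hu v hv, mul_zero]

theorem mem_hermPerp {S : Set (Fin n → F)} {u : Fin n → F} :
    u ∈ hermPerp q S ↔ ∀ v ∈ S, hermForm n F q u v = 0 := Iff.rfl

variable [Fintype F]

/-- `h(u,v) = 0` for all `u, v ∈ W` if `h(v,v) = 0` for all `v ∈ W`. -/
theorem herm_eq_zero_of_isotropic (hF : Fintype.card F = q ^ 2) (W : Submodule F (Fin n → F))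
    (h : ∀ v ∈ W, hermForm n F q v v = 0) {u v : Fin n → F} (hu : u ∈ W) (hv : v ∈ W) :
    hermForm n F q u v = 0 := by
  refine eq_zero_of_forall_trace hF fun c => ?_
  have h1 := h (c • u + v) (W.add_mem (W.smul_mem c hu) hv)
  rw [herm_add_left, herm_add_right hF, herm_add_right hF, h _ (W.smul_mem c hu), h _ hv,
    herm_smul_left, zero_add, add_zero] at h1
  rw [herm_swap hF (c • u) v, herm_smul_left] at h1
  exact h1

/-- A subspace that is non-degenerate and non-zero contains a vector of norm one. -/
theorem exists_norm_one_vector (hF : Fintype.card F = q ^ 2) (W : Submodule F (Fin n → F))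
    (hW : ∀ u ∈ W, (∀ v ∈ W, hermForm n F q u v = 0) → u = 0) (hW0 : W ≠ ⊥) :
    ∃ v ∈ W, hermForm n F q v v = 1 := by
  obtain ⟨v, hv, hvv⟩ : ∃ v ∈ W, hermForm n F q v v ≠ 0 := by
    by_contra hcon
    push Not at hcon
    apply hW0
    rw [Submodule.eq_bot_iff]
    exact fun u hu => hW u hu fun v hv => herm_eq_zero_of_isotropic hF W hcon hu hv
  obtain ⟨a, ha⟩ := exists_norm_eq hF (c := (hermForm n F q v v)⁻¹)
    (by rw [inv_pow, herm_self_pow hF])
  refine ⟨a • v, W.smul_mem a hv, ?_⟩
  rw [herm_smul_left, herm_smul_right, ← mul_assoc, ha, inv_mul_cancel₀ hvv]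

/-- Every non-degenerate subspace has an orthonormal basis. -/
theorem exists_orthonormal_aux (hF : Fintype.card F = q ^ 2) (k : ℕ) :
    ∀ (W : Submodule F (Fin n → F)),
    (∀ u ∈ W, (∀ v ∈ W, hermForm n F q u v = 0) → u = 0) → finrank F W = k →
    ∃ b : Fin k → (Fin n → F), (∀ i, b i ∈ W) ∧
      ∀ i j, hermForm n F q (b i) (b j) = if i = j then 1 else 0 := by
  induction k with
  | zero =>
    intro W _ _
    exact ⟨fun i => i.elim0, fun i => i.elim0, fun i => i.elim0⟩
  | succ k ih =>
    intro W hW hk
    have hW0 : W ≠ ⊥ := by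
      rintro rfl
      rw [finrank_bot] at hk
      omega
    obtain ⟨v, hv, hvv⟩ := exists_norm_one_vector hF W hW hW0
    -- the orthogonal complement of `v` in `W`
    set W' : Submodule F (Fin n → F) := W ⊓ hermPerp q {v} with hW'
    have hmem : ∀ w, w ∈ W' ↔ w ∈ W ∧ hermForm n F q w v = 0 := by
      intro w
      rw [hW', Submodule.mem_inf, mem_hermPerp]
      simp
    have hdec : ∀ w ∈ W, w - hermForm n F q w v • v ∈ W' := by
      intro w hw
      rw [hmem]
      refine ⟨W.sub_mem hw (W.smul_mem _ hv), ?_⟩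
      rw [herm_sub_left, herm_smul_left, hvv, mul_one, sub_self]
    have hnd : ∀ u ∈ W', (∀ w ∈ W', hermForm n F q u w = 0) → u = 0 := by
      intro u hu h
      refine hW u ((hmem u).1 hu).1 fun w hw => ?_
      have h1 := h _ (hdec w hw)
      rw [herm_sub_right hF, herm_smul_right, ((hmem u).1 hu).2, mul_zero, sub_zero] at h1
      exact h1
    have hrank : finrank F W' = k := by
      -- the functional `w ↦ h(w, v)` on `W`
      have h1 := LinearMap.finrank_range_add_finrank_ker ((hermLeft q v).comp W.subtype)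
      have h2 : LinearMap.range ((hermLeft q v).comp W.subtype) = ⊤ := by
        rw [LinearMap.range_eq_top]
        intro c
        refine ⟨c • ⟨v, hv⟩, ?_⟩
        simp [hvv]
      have h3 : finrank F (LinearMap.ker ((hermLeft q v).comp W.subtype)) = finrank F W' := by
        have h4 : W' = (LinearMap.ker ((hermLeft q v).comp W.subtype)).map W.subtype := by
          ext w
          rw [hmem, Submodule.mem_map]
          constructor
          · rintro ⟨hw, hw'⟩
            exact ⟨⟨w, hw⟩, by simpa using hw', rfl⟩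
          · rintro ⟨w', hw', rfl⟩
            exact ⟨w'.2, by simpa using hw'⟩
        rw [h4]
        exact (LinearEquiv.finrank_eq
          (Submodule.equivMapOfInjective W.subtype W.injective_subtype _))
      rw [h2, finrank_top, finrank_self, h3, hk] at h1
      omega
    obtain ⟨b, hb, hbb⟩ := ih W' hnd hrank
    refine ⟨Fin.cons v b, ?_, ?_⟩
    · intro i
      refine Fin.cases ?_ (fun i => ?_) i
      · exact hv
      · exact ((hmem _).1 (hb i)).1
    · intro i j
      refine Fin.cases ?_ (fun i => ?_) i <;> refine Fin.cases ?_ (fun j => ?_) j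
      · simpa using hvv
      · rw [Fin.cons_zero, Fin.cons_succ, if_neg (Fin.succ_ne_zero j).symm]
        exact herm_eq_zero_swap hF ((hmem _).1 (hb j)).2
      · rw [Fin.cons_zero, Fin.cons_succ, if_neg (Fin.succ_ne_zero i)]
        exact ((hmem _).1 (hb i)).2
      · rw [Fin.cons_succ, Fin.cons_succ, hbb]
        simp [Fin.succ_inj]

/-- Every non-degenerate subspace has an orthonormal basis. -/
theorem exists_orthonormal (hF : Fintype.card F = q ^ 2) (W : Submodule F (Fin n → F))
    (hW : ∀ u ∈ W, (∀ v ∈ W, hermForm n F q u v = 0) → u = 0) {k : ℕ} (hk : finrank F W = k) :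
    ∃ b : Fin k → (Fin n → F), (∀ i, b i ∈ W) ∧
      ∀ i j, hermForm n F q (b i) (b j) = if i = j then 1 else 0 :=
  exists_orthonormal_aux hF k W hW hk

omit [Fintype F] in
/-- Orthonormal expansions: coordinates of a linear combination. -/
theorem herm_sum_smul_left {ι : Type*} [Fintype ι] [DecidableEq ι] {b : ι → (Fin n → F)}
    (hb : ∀ i j, hermForm n F q (b i) (b j) = if i = j then 1 else 0) (c : ι → F) (j : ι) :
    hermForm n F q (∑ i, c i • b i) (b j) = c j := by
  rw [herm_sum_left]
  simp only [herm_smul_left, hb, mul_ite, mul_one, mul_zero]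
  rw [Finset.sum_ite_eq' Finset.univ j c, if_pos (Finset.mem_univ j)]

omit [Fintype F] in
theorem linearIndependent_of_orthonormal {ι : Type*} [Fintype ι] [DecidableEq ι]
    {b : ι → (Fin n → F)}
    (hb : ∀ i j, hermForm n F q (b i) (b j) = if i = j then 1 else 0) :
    LinearIndependent F b := by
  rw [Fintype.linearIndependent_iff]
  intro c hc j
  rw [← herm_sum_smul_left hb c j, hc, herm_zero_left]

omit [Fintype F] in
/-- An orthonormal system of `finrank W` vectors of `W` spans `W`. -/
theorem span_eq_of_orthonormal {ι : Type*} [Fintype ι] [DecidableEq ι]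
    (W : Submodule F (Fin n → F)) {b : ι → (Fin n → F)}
    (hk : finrank F W = Fintype.card ι) (hbW : ∀ i, b i ∈ W)
    (hb : ∀ i j, hermForm n F q (b i) (b j) = if i = j then 1 else 0) :
    Submodule.span F (Set.range b) = W := by
  apply Submodule.eq_of_le_of_finrank_eq
  · rw [Submodule.span_le]
    rintro _ ⟨i, rfl⟩
    exact hbW i
  · rw [finrank_span_eq_card (linearIndependent_of_orthonormal hb), hk]

omit [Fintype F] in
/-- Orthonormal expansion of a vector of `W`. -/
theorem eq_sum_of_orthonormal {ι : Type*} [Fintype ι] [DecidableEq ι]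
    (W : Submodule F (Fin n → F)) {b : ι → (Fin n → F)}
    (hk : finrank F W = Fintype.card ι) (hbW : ∀ i, b i ∈ W)
    (hb : ∀ i j, hermForm n F q (b i) (b j) = if i = j then 1 else 0) {w : Fin n → F}
    (hw : w ∈ W) : w = ∑ i, hermForm n F q w (b i) • b i := by
  rw [← span_eq_of_orthonormal W hk hbW hb, Submodule.mem_span_range_iff_exists_fun] at hw
  obtain ⟨c, rfl⟩ := hw
  simp only [herm_sum_smul_left hb c]

/-- The orthogonal projection decomposition with respect to a non-degenerate subspace. -/
theorem exists_add_perp (hF : Fintype.card F = q ^ 2) (W : Submodule F (Fin n → F))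
    (hW : ∀ u ∈ W, (∀ v ∈ W, hermForm n F q u v = 0) → u = 0) (x : Fin n → F) :
    ∃ w ∈ W, ∃ u ∈ hermPerp q (W : Set (Fin n → F)), x = w + u := by
  obtain ⟨b, hbW, hb⟩ := exists_orthonormal hF W hW rfl
  have hk : finrank F W = Fintype.card (Fin (finrank F W)) := by simp
  refine ⟨∑ i, hermForm n F q x (b i) • b i, W.sum_mem fun i _ => W.smul_mem _ (hbW i),
    x - ∑ i, hermForm n F q x (b i) • b i, ?_, by abel⟩
  intro v hv
  rw [eq_sum_of_orthonormal W hk hbW hb hv, herm_sum_right hF]
  refine Finset.sum_eq_zero fun j _ => ?_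
  rw [herm_smul_right, herm_sub_left, herm_sum_smul_left hb, sub_self, mul_zero]

/-- `V = W ⊕ W^⊥` for a non-degenerate subspace `W`. -/
theorem isCompl_hermPerp (hF : Fintype.card F = q ^ 2) (W : Submodule F (Fin n → F))
    (hW : ∀ u ∈ W, (∀ v ∈ W, hermForm n F q u v = 0) → u = 0) :
    IsCompl W (hermPerp q (W : Set (Fin n → F))) := by
  constructor
  · rw [Submodule.disjoint_def]
    exact fun u hu hu' => hW u hu hu'
  · rw [codisjoint_iff, Submodule.eq_top_iff']
    intro x
    obtain ⟨w, hw, u, hu, rfl⟩ := exists_add_perp hF W hW x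
    exact Submodule.add_mem_sup hw hu

theorem finrank_hermPerp_of_nondeg (hF : Fintype.card F = q ^ 2) (W : Submodule F (Fin n → F))
    (hW : ∀ u ∈ W, (∀ v ∈ W, hermForm n F q u v = 0) → u = 0) :
    finrank F W + finrank F (hermPerp q (W : Set (Fin n → F)) : Submodule F (Fin n → F)) = n := by
  rw [Submodule.finrank_add_eq_of_isCompl (isCompl_hermPerp hF W hW), finrank_fin_fun]

/-- `W^⊥` is non-degenerate if `W` is. -/
theorem hermPerp_nondeg (hF : Fintype.card F = q ^ 2) (W : Submodule F (Fin n → F))
    (hW : ∀ u ∈ W, (∀ v ∈ W, hermForm n F q u v = 0) → u = 0) :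
    ∀ u ∈ hermPerp q (W : Set (Fin n → F)),
      (∀ v ∈ hermPerp q (W : Set (Fin n → F)), hermForm n F q u v = 0) → u = 0 := by
  intro u hu h
  refine herm_nondeg hF fun x => ?_
  obtain ⟨w, hw, u', hu', rfl⟩ := exists_add_perp hF W hW x
  rw [herm_add_right hF, h u' hu', hu w hw, add_zero]

/-- A matrix preserving the form is invertible. -/
theorem isUnit_of_isometry (hF : Fintype.card F = q ^ 2) {M : Matrix (Fin n) (Fin n) F}
    (h : ∀ u v, hermForm n F q (M.mulVec u) (M.mulVec v) = hermForm n F q u v) : IsUnit M := by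
  rw [← Matrix.mulVec_injective_iff_isUnit]
  intro x y hxy
  have h1 : x - y = 0 := by
    refine herm_nondeg hF fun v => ?_
    have hxy' : M.mulVec x = M.mulVec y := hxy
    rw [← h, Matrix.mulVec_sub, hxy', sub_self, herm_zero_left]
  exact sub_eq_zero.1 h1

/-- A matrix preserving the form is (the matrix of) an element of `GU_n`. -/
theorem exists_GU_of_isometry (hF : Fintype.card F = q ^ 2) {M : Matrix (Fin n) (Fin n) F}
    (h : ∀ u v, hermForm n F q (M.mulVec u) (M.mulVec v) = hermForm n F q u v) :
    ∃ g ∈ GU n F q, ((g : Matrix.GeneralLinearGroup (Fin n) F) : Matrix (Fin n) (Fin n) F) = M := by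
  obtain ⟨g, rfl⟩ := isUnit_of_isometry hF h
  exact ⟨g, h, rfl⟩

/-- The matrix with orthonormal columns is an element of `GU_n`. -/
theorem exists_GU_of_orthonormal (hF : Fintype.card F = q ^ 2) {b : Fin n → (Fin n → F)}
    (hb : ∀ i j, hermForm n F q (b i) (b j) = if i = j then 1 else 0) :
    ∃ g ∈ GU n F q, ∀ x : Fin n → F,
      ((g : Matrix.GeneralLinearGroup (Fin n) F) : Matrix (Fin n) (Fin n) F).mulVec x =
        ∑ i, x i • b i := by
  have hM : ∀ x : Fin n → F, (Matrix.of fun i j => b j i).mulVec x = ∑ i, x i • b i := by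
    intro x
    ext i
    simp only [Matrix.mulVec, dotProduct, Matrix.of_apply, Finset.sum_apply, Pi.smul_apply,
      smul_eq_mul]
    exact Finset.sum_congr rfl fun j _ => mul_comm _ _
  obtain ⟨g, hg, hgM⟩ := exists_GU_of_isometry hF (M := Matrix.of fun i j => b j i) (by
    intro u v
    rw [hM, hM, herm_sum_right hF]
    simp only [herm_smul_right, herm_sum_smul_left hb]
    rw [herm_def]
    exact Finset.sum_congr rfl fun j _ => mul_comm _ _)
  exact ⟨g, hg, fun x => by rw [hgM, hM]⟩

/-- A matrix in `GU_n` adapted to a non-degenerate `k`-subspace `W`: `P x ∈ W` exactly when the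
coordinates of `x` outside the first `k` vanish. -/
theorem exists_GU_adapted (hF : Fintype.card F = q ^ 2) {k m : ℕ} (e : Fin k ⊕ Fin m ≃ Fin n)
    (W : Submodule F (Fin n → F))
    (hW : ∀ u ∈ W, (∀ v ∈ W, hermForm n F q u v = 0) → u = 0) (hk : finrank F W = k) :
    ∃ P ∈ GU n F q, ∀ x : Fin n → F,
      ((P : Matrix.GeneralLinearGroup (Fin n) F) : Matrix (Fin n) (Fin n) F).mulVec x ∈ W ↔
        ∀ j : Fin m, x (e (.inr j)) = 0 := by
  have hn : k + m = n := by
    have := Fintype.card_congr e
    simpa using this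
  have hm : finrank F (hermPerp q (W : Set (Fin n → F)) : Submodule F (Fin n → F)) = m := by
    have := finrank_hermPerp_of_nondeg hF W hW
    omega
  obtain ⟨b, hbW, hb⟩ := exists_orthonormal hF W hW hk
  obtain ⟨b', hbW', hb'⟩ := exists_orthonormal hF (hermPerp q (W : Set (Fin n → F)))
    (hermPerp_nondeg hF W hW) hm
  have hc : ∀ i j, hermForm n F q (Sum.elim b b' (e.symm i)) (Sum.elim b b' (e.symm j)) =
      if i = j then 1 else 0 := by
    intro i j
    obtain ⟨i, rfl⟩ := e.surjective i
    obtain ⟨j, rfl⟩ := e.surjective j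
    rw [e.symm_apply_apply, e.symm_apply_apply]
    rcases i with i | i <;> rcases j with j | j
    · simp [hb]
    · simpa using herm_eq_zero_swap hF (hbW' j (b i) (hbW i))
    · simpa using hbW' i (b j) (hbW j)
    · simp [hb']
  obtain ⟨P, hP, hPx⟩ := exists_GU_of_orthonormal hF hc
  refine ⟨P, hP, fun x => ?_⟩
  rw [hPx]
  constructor
  · intro hx j
    have h1 := herm_sum_smul_left hc x (e (.inr j))
    rw [e.symm_apply_apply, Sum.elim_inr] at h1
    rw [← h1]
    exact herm_eq_zero_swap hF (hbW' j _ hx)
  · intro hx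
    refine W.sum_mem fun i _ => ?_
    obtain ⟨i, rfl⟩ := e.surjective i
    rw [e.symm_apply_apply]
    rcases i with i | i
    · exact W.smul_mem _ (hbW i)
    · rw [hx i, zero_smul]
      exact W.zero_mem

end Cfsg.Agent.ClassicalGeometry.HermOrtho
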