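import Mathlib
import Cfsg.Agent.LieClassical.HermGen
import Cfsg.Agent.LieClassical.SUBasic

/-!
# Automorphisms of `PSU n F q`: basic definitions

`pr : SU n F q →* PSU n F q`; `siegG u` (unipotent radical of the stabiliser of an isotropic point) and
`transvG u` (its centre, the transvection group); `p`-elements lift uniquely; frames.
-/

set_option autoImplicit false

namespace Cfsg.Agent.ClassicalGeometry.PSUAutBasic

open Cfsg Cfsg.Agent.LieClassical.HermBasic Cfsg.Agent.LieClassical.HermSiegel
  Cfsg.Agent.LieClassical.HermGen Cfsg.Agent.LieClassical.SUBasic Matrix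

section Proj

variable {F : Type*} [Field F] {q n : ℕ}

/-- The projection `SU → PSU`. -/
def pr (n : ℕ) (F : Type*) [Field F] (q : ℕ) : SU n F q →* PSU n F q :=
  QuotientGroup.mk' (Subgroup.center (SU n F q))

theorem pr_apply (g : SU n F q) : pr n F q g = (QuotientGroup.mk g : PSU n F q) := rfl

theorem pr_surjective : Function.Surjective (pr n F q) := QuotientGroup.mk'_surjective _

theorem pr_eq_one_iff {g : SU n F q} : pr n F q g = 1 ↔ g ∈ Subgroup.center (SU n F q) :=
  QuotientGroup.eq_one_iff g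

theorem pr_eq_iff {g h : SU n F q} : pr n F q g = pr n F q h ↔
    g⁻¹ * h ∈ Subgroup.center (SU n F q) :=
  QuotientGroup.eq

theorem exists_center_mul {g h : SU n F q} (H : pr n F q g = pr n F q h) :
    ∃ z ∈ Subgroup.center (SU n F q), h = g * z :=
  ⟨g⁻¹ * h, pr_eq_iff.1 H, by group⟩

end Proj

section Center

variable {F : Type*} [Field F] [Fintype F] {q n : ℕ}

omit [Fintype F] in
theorem act_suScalar {c : F} (hcn : c ^ n = 1) (hcq : c ^ (q + 1) = 1) (v : Fin n → F) :
    act (suScalar q c hcn hcq) v = c • v := by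
  rw [act_def, mat_def, coe_suScalar]
  funext i
  rw [Matrix.mulVec_diagonal, Pi.smul_apply, smul_eq_mul]

/-- Central elements act as scalars of norm one. -/
theorem exists_scalar_of_mem_center (hF : Fintype.card F = q ^ 2) (hn : 3 ≤ n) {z : SU n F q}
    (hz : z ∈ Subgroup.center (SU n F q)) :
    ∃ c : F, c ≠ 0 ∧ c * c ^ q = 1 ∧ ∀ v, act z v = c • v := by
  obtain ⟨c, hcn, hcq, rfl⟩ := (mem_center_SU_iff hF hn z).1 hz
  refine ⟨c, ?_, by rw [← pow_succ']; exact hcq, fun v => act_suScalar hcn hcq v⟩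
  rintro rfl
  rw [zero_pow (Nat.succ_ne_zero q)] at hcq
  exact zero_ne_one hcq

omit [Fintype F] in
/-- An element acting as a scalar is central. -/
theorem mem_center_of_act {z : SU n F q} {c : F} (h : ∀ v, act z v = c • v) :
    z ∈ Subgroup.center (SU n F q) := by
  rw [Subgroup.mem_center_iff]
  intro g
  apply ext_act
  intro v
  rw [act_mul, act_mul, h, h, act_smul]

/-- A central `p`-element is trivial. -/
theorem eq_one_of_center_of_pow (hF : Fintype.card F = q ^ 2) (hn : 3 ≤ n) {p : ℕ} [Fact p.Prime]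
    [CharP F p] {z : SU n F q} (hz : z ∈ Subgroup.center (SU n F q)) {k : ℕ}
    (hk : z ^ p ^ k = 1) : z = 1 := by
  obtain ⟨c, hc0, -, hc⟩ := exists_scalar_of_mem_center hF hn hz
  have hpow : ∀ m : ℕ, ∀ v, act (z ^ m) v = c ^ m • v := by
    intro m
    induction m with
    | zero => intro v; rw [pow_zero, act_one, pow_zero, one_smul]
    | succ m ih => intro v; rw [pow_succ, act_mul, hc, act_smul, ih, smul_smul, pow_succ, mul_comm]
  have h1 : c ^ p ^ k = 1 := by
    have h2 := hpow (p ^ k) (Pi.single (⟨0, by omega⟩ : Fin n) 1)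
    rw [hk, act_one] at h2
    have h3 := congrFun h2 ⟨0, by omega⟩
    rw [Pi.smul_apply, Pi.single_eq_same, smul_eq_mul, mul_one] at h3
    exact h3.symm
  have h4 : c = 1 := by
    have h5 : (c - 1) ^ p ^ k = 0 := by rw [sub_pow_char_pow, h1, one_pow, sub_self]
    exact sub_eq_zero.1 (eq_zero_of_pow_eq_zero h5)
  apply ext_act
  intro v
  rw [hc, h4, one_smul, act_one]

/-- Two `p`-elements of `SU` with the same image in `PSU` are equal. -/
theorem eq_of_pr_eq (hF : Fintype.card F = q ^ 2) (hn : 3 ≤ n) {p : ℕ} [Fact p.Prime]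
    [CharP F p] {a b : SU n F q} {k l : ℕ} (ha : a ^ p ^ k = 1) (hb : b ^ p ^ l = 1)
    (h : pr n F q a = pr n F q b) : a = b := by
  obtain ⟨z, hz, rfl⟩ := exists_center_mul h
  have hc : Commute a z := (Subgroup.mem_center_iff.1 hz a)
  have h1 : z ^ p ^ (k + l) = 1 := by
    have h2 : (a * z) ^ p ^ (k + l) = 1 := by
      rw [pow_add, mul_comm (p ^ k), pow_mul, hb, one_pow]
    rw [hc.mul_pow, pow_add, pow_mul a, ha, one_pow, one_mul, ← pow_add] at h2
    exact h2
  rw [eq_one_of_center_of_pow hF hn hz h1, mul_one]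

/-- Every element of `PSU` of `p`-power order lifts to an element of `p`-power order. -/
theorem exists_lift (hF : Fintype.card F = q ^ 2) (hn : 3 ≤ n) {p : ℕ} [Fact p.Prime]
    [CharP F p] {x : PSU n F q} {k : ℕ} (hx : x ^ p ^ k = 1) :
    ∃ a : SU n F q, pr n F q a = x ∧ ∃ l : ℕ, a ^ p ^ l = 1 := by
  obtain ⟨a, rfl⟩ := pr_surjective x
  -- the `p'`-part of the order of `a`
  have hfin : Finite (SU n F q) := inferInstance
  set m := orderOf a with hm
  have hm0 : 0 < m := orderOf_pos a
  obtain ⟨t, m', hm', hmt⟩ := Nat.exists_eq_pow_mul_and_not_dvd hm0.ne' p (Fact.out : p.Prime).ne_one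
  -- `a ^ m'` is a `p`-element, `a ^ (p ^ t)` a `p'`-element
  have hcop : Nat.Coprime m' (p ^ k) :=
    (((Fact.out : p.Prime).coprime_iff_not_dvd.2 hm').symm).pow_right k
  obtain ⟨j, hj⟩ : ∃ j : ℕ, 1 ≡ j * m' [MOD p ^ k] := by
    rcases Nat.eq_zero_or_pos k with h0 | h0
    · subst h0
      rw [pow_zero]
      exact ⟨0, Nat.modEq_one⟩
    · have h1 : 1 < p ^ k := Nat.one_lt_pow h0.ne' (Fact.out : p.Prime).one_lt
      obtain ⟨j, -, hj⟩ := Nat.exists_mul_mod_eq_one_of_coprime hcop h1
      refine ⟨j, ?_⟩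
      rw [Nat.ModEq, Nat.mod_eq_of_lt h1, mul_comm, hj]
  refine ⟨a ^ (m' * j), ?_, t, ?_⟩
  · rw [map_pow, mul_comm]
    have := pow_eq_pow_iff_modEq (x := pr n F q a) (m := j * m') (n := 1)
    rw [pow_one] at this
    exact (this.2 (hj.of_dvd (orderOf_dvd_of_pow_eq_one hx))).symm
  · rw [← pow_mul, show m' * j * p ^ t = m * j by rw [hmt]; ring, pow_mul, hm,
      pow_orderOf_eq_one, one_pow]

end Center

section Groups

variable {F : Type*} [Field F] [Fintype F] {q n : ℕ}

/-- The group of Siegel transformations attached to an isotropic vector `u`. -/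
def siegG (hF : Fintype.card F = q ^ 2) (u : Fin n → F) (hu : hermForm n F q u u = 0) :
    Subgroup (SU n F q) where
  carrier := {g | ∃ (w : Fin n → F) (μ : F) (h : IsSiegel q u w μ), g = siegel hF u w μ h}
  one_mem' := ⟨0, 0, IsSiegel.zero hF hu, (siegel_zero hF _).symm⟩
  mul_mem' := by
    rintro _ _ ⟨w, μ, h, rfl⟩ ⟨w', μ', h', rfl⟩
    exact ⟨_, _, _, siegel_mul hF h h'⟩
  inv_mem' := by
    rintro _ ⟨w, μ, h, rfl⟩
    exact ⟨_, _, _, siegel_inv hF h⟩

theorem mem_siegG {hF : Fintype.card F = q ^ 2} {u : Fin n → F} {hu : hermForm n F q u u = 0}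
    {g : SU n F q} : g ∈ siegG hF u hu ↔
      ∃ (w : Fin n → F) (μ : F) (h : IsSiegel q u w μ), g = siegel hF u w μ h := Iff.rfl

omit [Fintype F] in
/-- The conditions for a transvection. -/
theorem isSiegel_zero {u : Fin n → F} (hu : hermForm n F q u u = 0) {μ : F} (hμ : μ + μ ^ q = 0) :
    IsSiegel q u 0 μ :=
  ⟨hu, herm_zero_left u, by rw [herm_zero_left, add_zero, hμ]⟩

/-- The unitary transvection `v ↦ v + μ h(v,u) u`. -/
def transv (hF : Fintype.card F = q ^ 2) (u : Fin n → F) (hu : hermForm n F q u u = 0) (μ : F)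
    (hμ : μ + μ ^ q = 0) : SU n F q :=
  siegel hF u 0 μ (isSiegel_zero hu hμ)

theorem act_transv (hF : Fintype.card F = q ^ 2) {u : Fin n → F} (hu : hermForm n F q u u = 0)
    {μ : F} (hμ : μ + μ ^ q = 0) (v : Fin n → F) :
    act (transv hF u hu μ hμ) v = v + (μ * hermForm n F q v u) • u := by
  rw [transv, act_siegel, herm_zero_right hF, smul_zero, add_zero, sub_zero]

theorem transv_mul (hF : Fintype.card F = q ^ 2) {u : Fin n → F} (hu : hermForm n F q u u = 0)
    {μ μ' : F} (hμ : μ + μ ^ q = 0) (hμ' : μ' + μ' ^ q = 0) :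
    transv hF u hu μ hμ * transv hF u hu μ' hμ' =
      transv hF u hu (μ + μ') (by rw [add_pow_q hF]; linear_combination hμ + hμ') := by
  apply ext_act
  intro v
  rw [act_mul, act_transv, act_transv, act_transv, herm_add_left, herm_smul_left, hu, mul_zero,
    add_zero]
  funext i
  simp only [Pi.add_apply, Pi.smul_apply, smul_eq_mul]
  ring

theorem transv_zero (hF : Fintype.card F = q ^ 2) {u : Fin n → F} (hu : hermForm n F q u u = 0)
    (h0 : (0 : F) + 0 ^ q = 0) : transv hF u hu 0 h0 = 1 := by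
  apply ext_act
  intro v
  rw [act_transv, act_one, zero_mul, zero_smul, add_zero]

/-- The transvection group attached to an isotropic vector `u`. -/
def transvG (hF : Fintype.card F = q ^ 2) (u : Fin n → F) (hu : hermForm n F q u u = 0) :
    Subgroup (SU n F q) where
  carrier := {g | ∃ (μ : F) (hμ : μ + μ ^ q = 0), g = transv hF u hu μ hμ}
  one_mem' := ⟨0, by rw [zero_pow_q hF, add_zero], (transv_zero hF hu _).symm⟩
  mul_mem' := by
    rintro _ _ ⟨μ, h, rfl⟩ ⟨μ', h', rfl⟩
    exact ⟨_, _, transv_mul hF hu h h'⟩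
  inv_mem' := by
    rintro _ ⟨μ, h, rfl⟩
    refine ⟨-μ, by rw [neg_pow_q hF]; linear_combination -h, ?_⟩
    rw [inv_eq_iff_mul_eq_one, transv_mul]
    apply ext_act
    intro v
    rw [act_transv, act_one, add_neg_cancel, zero_mul, zero_smul, add_zero]

theorem mem_transvG {hF : Fintype.card F = q ^ 2} {u : Fin n → F} {hu : hermForm n F q u u = 0}
    {g : SU n F q} : g ∈ transvG hF u hu ↔
      ∃ (μ : F) (hμ : μ + μ ^ q = 0), g = transv hF u hu μ hμ := Iff.rfl

theorem transvG_le_siegG (hF : Fintype.card F = q ^ 2) {u : Fin n → F}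
    (hu : hermForm n F q u u = 0) : transvG hF u hu ≤ siegG hF u hu := by
  rintro _ ⟨μ, hμ, rfl⟩
  exact ⟨0, μ, isSiegel_zero hu hμ, rfl⟩

/-- Siegel transformations have order dividing a power of `p`. -/
theorem siegel_pow_card (hF : Fintype.card F = q ^ 2) {u w : Fin n → F} {μ : F}
    (h : IsSiegel q u w μ) : siegel hF u w μ h ^ Fintype.card F = 1 := by
  have h2 := two_le hF
  have h3 : 3 ≤ Fintype.card F := by rw [hF]; nlinarith
  rcases Nat.eq_zero_or_pos n with rfl | hn
  · exact ext_act fun v => Subsingleton.elim _ _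
  have : Nonempty (Fin n) := ⟨⟨0, hn⟩⟩
  obtain ⟨p, hp⟩ := CharP.exists F
  obtain ⟨k, hprime, hcard⟩ := FiniteField.card F p
  have := Fact.mk hprime
  set M : Matrix (Fin n) (Fin n) F := siegelMat q u w μ with hM
  have hM3 : (M - 1) * (M - 1) * (M - 1) = 0 := by
    apply Matrix.ext_of_mulVec_single
    intro i
    set e : Fin n → F := Pi.single i 1
    have key : ∀ v : Fin n → F, (siegelMat q u w μ - 1) *ᵥ v =
        hermForm n F q v u • w + (μ * hermForm n F q v u - hermForm n F q v w) • u := by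
      intro v
      rw [Matrix.sub_mulVec, siegelMat_mulVec, Matrix.one_mulVec]
      abel
    rw [Matrix.zero_mulVec, ← Matrix.mulVec_mulVec, ← Matrix.mulVec_mulVec, key e, key, key]
    simp only [herm_add_left, herm_smul_left, h.iso, h.orth, h.orth' hF, mul_zero, add_zero,
      zero_sub, zero_smul, zero_add, sub_self]
  have hc : (M - 1) ^ Fintype.card F = M ^ Fintype.card F - 1 := by
    rw [hcard]
    have := sub_pow_char_pow_of_commute (R := Matrix (Fin n) (Fin n) F) (p := p) (n := (k : ℕ))
      (Commute.one_right M)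
    rw [this, one_pow]
  have h0 : (M - 1) ^ Fintype.card F = 0 := by
    obtain ⟨m, hm⟩ := Nat.exists_eq_add_of_le h3
    rw [hm, pow_add, pow_succ, pow_two, hM3, zero_mul]
  rw [h0] at hc
  have h1 : M ^ Fintype.card F = 1 := (sub_eq_zero.1 hc.symm)
  apply mat_injective
  have hmp : ∀ m : ℕ, mat (siegel hF u w μ h ^ m) = M ^ m := by
    intro m
    induction m with
    | zero => rw [pow_zero, pow_zero, mat_one]
    | succ m ih => rw [pow_succ, pow_succ, mat_mul, ih]; rfl
  rw [hmp, h1, mat_one]

/-- The characteristic: `card F` is a power of `p`. -/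
theorem exists_card_eq (p : ℕ) [Fact p.Prime] [CharP F p] : ∃ k : ℕ, Fintype.card F = p ^ k := by
  obtain ⟨k, -, h⟩ := FiniteField.card F p
  exact ⟨k, h⟩

theorem siegel_pow_prime_pow (hF : Fintype.card F = q ^ 2) (p : ℕ) [Fact p.Prime] [CharP F p]
    {u w : Fin n → F} {μ : F} (h : IsSiegel q u w μ) :
    ∃ k : ℕ, siegel hF u w μ h ^ p ^ k = 1 := by
  obtain ⟨k, hk⟩ := exists_card_eq (F := F) p
  exact ⟨k, by rw [← hk]; exact siegel_pow_card hF h⟩

theorem isPGroup_siegG (hF : Fintype.card F = q ^ 2) (p : ℕ) [Fact p.Prime] [CharP F p]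
    {u : Fin n → F} (hu : hermForm n F q u u = 0) : IsPGroup p (siegG hF u hu) := by
  rintro ⟨_, w, μ, h, rfl⟩
  obtain ⟨k, hk⟩ := siegel_pow_prime_pow hF p h
  exact ⟨k, Subtype.ext hk⟩

/-- Elements fixing the isotropic vector `e` of a hyperbolic pair and acting trivially on
`e^⊥ / e` are Siegel transformations. -/
theorem mem_siegG_of_act (hF : Fintype.card F = q ^ 2) {e f : Fin n → F}
    (he : hermForm n F q e e = 0) (hf : hermForm n F q f f = 0) (hef : hermForm n F q e f = 1)
    {g : SU n F q} (hge : act g e = e)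
    (hg : ∀ w, hermForm n F q w e = 0 → ∃ c : F, act g w - w = c • e) : g ∈ siegG hF e he := by
  have hfe : hermForm n F q f e = 1 := by rw [herm_swap hF e f, hef, one_pow]
  -- move `f` to `g f`
  obtain ⟨c, μ, hs, hact⟩ := exists_siegel_map hF he (v := f) (v' := act g f)
    (by rw [herm_act]) (by conv_rhs => rw [← hge, herm_act]) (by rw [hfe]; exact one_ne_zero)
  set s := siegel hF e (c • (act g f - f)) μ hs with hsdef
  have hse : act s e = e := act_siegel_self hF hs
  suffices H : s⁻¹ * g = 1 by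
    rw [inv_mul_eq_one] at H
    exact ⟨_, _, hs, H.symm⟩
  set t := s⁻¹ * g with ht
  have hse' : act s⁻¹ e = e := ((act_eq_iff s).1 hse).symm
  have hte : act t e = e := by rw [ht, act_mul, hge, hse']
  have htf : act t f = f := by rw [ht, act_mul, ← hact, act_inv_act]
  -- action on `e^⊥`
  have hs' : ∀ w, hermForm n F q w e = 0 → ∃ c : F, act s⁻¹ w = w + c • e := by
    intro w hw
    have h1 : act s w = w + (-hermForm n F q w (c • (act g f - f))) • e := by
      rw [hsdef, act_siegel, hw]; simp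
    refine ⟨hermForm n F q w (c • (act g f - f)), ?_⟩
    symm
    rw [← act_eq_iff, act_add, h1, act_smul, hse]
    simp
  have ht' : ∀ w, hermForm n F q w e = 0 → hermForm n F q w f = 0 → act t w = w := by
    intro w hwe hwf
    obtain ⟨c1, hc1⟩ := hg w hwe
    have hgw : act g w = w + c1 • e := by rw [← hc1]; abel
    obtain ⟨c2, hc2⟩ := hs' w hwe
    have h1 : act t w = w + (c1 + c2) • e := by
      rw [ht, act_mul, hgw, act_add, act_smul, hse', hc2, add_smul]; abel
    have h2 : hermForm n F q (act t w) f = 0 := by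
      conv_lhs => rw [← htf]
      rw [herm_act, hwf]
    rw [h1, herm_add_left, herm_smul_left, hwf, hef, zero_add, mul_one] at h2
    rw [h1, h2, zero_smul, add_zero]
  apply ext_act
  intro v
  rw [act_one]
  -- decompose `v`
  have hv : v = (v - hermForm n F q v f • e - hermForm n F q v e • f) +
      hermForm n F q v f • e + hermForm n F q v e • f := by abel
  have h1 := ht' (v - hermForm n F q v f • e - hermForm n F q v e • f)
    (by rw [herm_sub_left, herm_sub_left, herm_smul_left, herm_smul_left, he, hfe]; ring)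
    (by rw [herm_sub_left, herm_sub_left, herm_smul_left, herm_smul_left, hf, hef]; ring)
  conv_lhs => rw [hv]
  rw [act_add, act_add, act_smul, act_smul, hte, htf, h1]
  exact hv.symm

end Groups

section Frame

variable {F : Type*} [Field F] {q n : ℕ}

/-- A hyperbolic pair whose orthogonal complement is the coordinate subspace of the first
`n - 2` coordinates. -/
structure IsFrame (q : ℕ) (e f : Fin n → F) : Prop where
  ee : hermForm n F q e e = 0
  ff : hermForm n F q f f = 0
  ef : hermForm n F q e f = 1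
  mem : ∀ w : Fin n → F, w ∈ coordSub F n (n - 2) ↔
    hermForm n F q w e = 0 ∧ hermForm n F q w f = 0

theorem exists_frame [Fintype F] (hF : Fintype.card F = q ^ 2) (hn : 2 ≤ n) :
    ∃ e f : Fin n → F, IsFrame q e f := by
  let i : Fin n := ⟨n - 2, by omega⟩
  let j : Fin n := ⟨n - 1, by omega⟩
  have hij : i ≠ j := by simp [i, j]; omega
  obtain ⟨p, p', a, b, ha, hp, hp', hpp, hp'p', hpp'⟩ := exists_hyp_pair (q := q) hF hij
  refine ⟨p, p', hpp, hp'p', hpp', fun w => ?_⟩
  have h1 : hermForm n F q w p = w i + w j * a ^ q := by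
    rw [hp, herm_add_right hF, herm_smul_right, herm_single_right hF, herm_single_right hF]
    ring
  have h2 : hermForm n F q w p' = w i + b ^ q * (w i + w j * a ^ q) := by
    rw [hp', herm_add_right hF, herm_smul_right, herm_single_right hF, h1]
    ring
  rw [h1, h2]
  constructor
  · intro hw
    have hi : w i = 0 := hw i le_rfl
    have hj : w j = 0 := hw j (by simp [j]; omega)
    rw [hi, hj]; simp
  · rintro ⟨h3, h4⟩ l hl
    rw [h3, mul_zero, add_zero] at h4
    rw [h4, zero_add] at h3
    have hj : w j = 0 := by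
      rcases mul_eq_zero.1 h3 with h | h
      · exact h
      · exact absurd h (pow_ne_zero _ ha)
    have hl2 : l.val = n - 2 ∨ l.val = n - 1 := by omega
    rcases hl2 with h | h
    · rw [show l = i from Fin.ext h]; exact h4
    · rw [show l = j from Fin.ext h]; exact hj

end Frame

end Cfsg.Agent.ClassicalGeometry.PSUAutBasic
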