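import Mathlib
import Cfsg.Agent.LieClassical.HermCount
import Cfsg.Agent.ClassicalGeometry.PSUAutBasic

/-!
# Automorphisms of `PSU n F q`: centres of Sylow `p`-subgroups

A Sylow `p`-subgroup of `SU` fixes an isotropic vector `u` and contains the Siegel group of `u`; the
centre of its image in `PSU` is the image of the transvection group of `u`. Hence every automorphism of
`PSU` permutes the images of the transvection groups.
-/

set_option autoImplicit false

namespace Cfsg.Agent.ClassicalGeometry.PSUAutSylow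

open Cfsg Cfsg.Agent.LieClassical.HermBasic Cfsg.Agent.LieClassical.HermSiegel
  Cfsg.Agent.LieClassical.HermGen Cfsg.Agent.LieClassical.SUBasic Matrix
  Cfsg.Agent.ClassicalGeometry.PSUAutBasic

variable {F : Type*} [Field F] [Fintype F] {q n : ℕ}

/-- An element `t` such that all multiples of `t` are fixed by `x ↦ x ^ q` is zero. -/
theorem eq_zero_of_forall_fixed (hF : Fintype.card F = q ^ 2) {t : F}
    (h : ∀ c : F, (c * t) ^ q = c * t) : t = 0 := by
  by_contra ht
  obtain ⟨x, hx⟩ := exists_not_fixed hF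
  apply hx
  have := h (x * t⁻¹)
  rwa [mul_assoc, inv_mul_cancel₀ ht, mul_one] at this

/-- Every nonzero isotropic vector is part of a hyperbolic pair. -/
theorem exists_partner (hF : Fintype.card F = q ^ 2) {u : Fin n → F} (hu0 : u ≠ 0)
    (hu : hermForm n F q u u = 0) :
    ∃ f, hermForm n F q f f = 0 ∧ hermForm n F q u f = 1 ∧ hermForm n F q f u = 1 := by
  obtain ⟨x, hx⟩ := exists_herm_ne_zero hF hu0
  obtain ⟨t, ht⟩ := exists_iso_correct hF hu hx
  set y := x + t • u with hy
  have huy : hermForm n F q u y = hermForm n F q u x := by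
    rw [hy, herm_add_right hF, herm_smul_right, hu, mul_zero, add_zero]
  set a := hermForm n F q u x with ha
  refine ⟨(a⁻¹ ^ q) • y, ?_, ?_, ?_⟩
  · rw [herm_smul_left, herm_smul_right, ht]; ring
  · rw [herm_smul_right, huy, ← pow_mul, ← sq, ← hF, FiniteField.pow_card, inv_mul_cancel₀ hx]
  · rw [herm_swap hF u, herm_smul_right, huy, ← pow_mul, ← sq, ← hF, FiniteField.pow_card,
      inv_mul_cancel₀ hx, one_pow]

/-- A Siegel transformation with parameter in `F u` is a transvection. -/
theorem siegel_smul_self_mem (hF : Fintype.card F = q ^ 2) {u : Fin n → F}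
    (hu : hermForm n F q u u = 0) {c μ : F} (h : IsSiegel q u (c • u) μ) :
    siegel hF u (c • u) μ h ∈ transvG hF u hu := by
  have htr := h.tr
  rw [herm_smul_left, herm_smul_right, hu, mul_zero, mul_zero, add_zero] at htr
  refine ⟨μ + c - c ^ q, ?_, ?_⟩
  · rw [sub_pow_q hF, add_pow_q hF, pow_q_pow_q hF]
    linear_combination htr
  · apply ext_act
    intro v
    rw [act_siegel, act_transv, herm_smul_right]
    funext i
    simp only [Pi.add_apply, Pi.smul_apply, smul_eq_mul]
    ring

/-- The orthogonal space of `u^⊥` is `F u`. -/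
theorem exists_smul_of_perp_perp (hF : Fintype.card F = q ^ 2) {u f w : Fin n → F}
    (huf : hermForm n F q u f = 1)
    (hfu : hermForm n F q f u = 1) (h : ∀ v, hermForm n F q v u = 0 → hermForm n F q v w = 0) :
    w = (hermForm n F q w f) • u := by
  have h1 : w - (hermForm n F q w f) • u = 0 := by
    apply herm_nondeg hF
    intro v
    have h2 := h (v - hermForm n F q v u • f)
      (by rw [herm_sub_left, herm_smul_left, hfu]; ring)
    have h3 : hermForm n F q w v = (hermForm n F q v w) ^ q := herm_swap hF v w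
    have h4 : hermForm n F q u v = (hermForm n F q v u) ^ q := herm_swap hF v u
    rw [herm_sub_left, herm_smul_left] at h2
    rw [herm_sub_left, herm_smul_left, h3, h4, sub_eq_zero.1 h2, mul_pow, ← herm_swap hF f w]
    ring
  exact sub_eq_zero.1 h1

/-- An element commuting with the whole Siegel group of `u`, and fixing `u`, is a transvection. -/
theorem mem_transvG_of_commute (hF : Fintype.card F = q ^ 2) {u : Fin n → F} (hu0 : u ≠ 0)
    (hu : hermForm n F q u u = 0) {z : SU n F q} (hzu : act z u = u)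
    (hz : ∀ s ∈ siegG hF u hu, z * s * z⁻¹ = s) : z ∈ transvG hF u hu := by
  obtain ⟨f, hff, huf, hfu⟩ := exists_partner hF hu0 hu
  -- conjugation of a Siegel element evaluated at `f`
  have key : ∀ w, hermForm n F q w u = 0 → ∀ μ, IsSiegel q u w μ →
      act z w - hermForm n F q f (act z w) • u = w - hermForm n F q f w • u := by
    intro w hw μ h
    have h1 := hz _ ⟨w, μ, h, rfl⟩
    rw [conj_siegel] at h1
    have h2 := congrArg (fun g => act g f) h1
    simp only [act_siegel, hzu, hfu, one_smul, mul_one] at h2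
    rw [add_assoc, add_assoc, add_right_inj, sub_smul, sub_smul] at h2
    have h3 : act z w - hermForm n F q f (act z w) • u + μ • u =
        w - hermForm n F q f w • u + μ • u := by
      calc _ = act z w + (μ • u - hermForm n F q f (act z w) • u) := by abel
        _ = w + (μ • u - hermForm n F q f w • u) := h2
        _ = _ := by abel
    exact add_right_cancel h3
  have hμ : ∀ w, hermForm n F q w u = 0 → ∃ μ, IsSiegel q u w μ := by
    intro w hw
    obtain ⟨μ, hμ⟩ := exists_trace_eq hF (c := -hermForm n F q w w)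
      (by rw [neg_pow_q hF, herm_self_pow hF])
    exact ⟨μ, hu, hw, by rw [hμ]; ring⟩
  have hzS : z ∈ siegG hF u hu := by
    apply mem_siegG_of_act hF hu hff huf hzu
    intro w hw
    obtain ⟨μ, h⟩ := hμ w hw
    refine ⟨hermForm n F q f (act z w) - hermForm n F q f w, ?_⟩
    have h1 := key w hw μ h
    have h2 : act z w - w = (act z w - hermForm n F q f (act z w) • u) -
        (w - hermForm n F q f w • u) +
        (hermForm n F q f (act z w) - hermForm n F q f w) • u := by
      rw [sub_smul]; abel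
    rw [h2, h1, sub_self, zero_add]
  obtain ⟨w0, μ0, h0, rfl⟩ := hzS
  have hperp : ∀ w, hermForm n F q w u = 0 → hermForm n F q w w0 = 0 := by
    intro w hw
    apply eq_zero_of_forall_fixed hF
    intro c
    have hcw : hermForm n F q (c • w) u = 0 := by rw [herm_smul_left, hw, mul_zero]
    obtain ⟨μ, h⟩ := hμ _ hcw
    have h1 := key _ hcw μ h
    rw [act_siegel, hcw, zero_smul, add_zero, mul_zero, zero_sub] at h1
    simp only [herm_add_right hF, herm_smul_right, hfu, mul_one, herm_smul_left,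
      neg_pow_q hF] at h1
    have h2 : ((c * hermForm n F q w w0) ^ q - c * hermForm n F q w w0) • u = 0 := by
      rw [← sub_eq_zero.2 h1]
      simp only [sub_smul, add_smul, neg_smul]
      abel
    rcases smul_eq_zero.1 h2 with h3 | h3
    · exact sub_eq_zero.1 h3
    · exact absurd h3 hu0
  have hw0 := exists_smul_of_perp_perp hF huf hfu hperp
  rw [siegel_congr hF h0 (by rw [← hw0]; exact h0) rfl hw0 rfl]
  exact siegel_smul_self_mem hF hu _

section Sylow

variable (p : ℕ) [Fact p.Prime] [CharP F p]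

theorem prime_dvd_q (hF : Fintype.card F = q ^ 2) : p ∣ q := by
  obtain ⟨k, hk⟩ := exists_card_eq (F := F) p
  have h1 : p ∣ Fintype.card F := by
    rw [hk]
    apply dvd_pow_self
    rintro rfl
    have := Fintype.one_lt_card (α := F)
    rw [hk, pow_zero] at this
    omega
  rw [hF] at h1
  exact (Fact.out : p.Prime).dvd_of_dvd_pow h1

theorem prime_dvd_card_iso (hF : Fintype.card F = q ^ 2) (hn : 2 ≤ n) :
    p ∣ Nat.card {v : Fin n → F // hermForm n F q v v = 0} := by
  have h1 := Cfsg.Agent.LieClassical.HermCount.card_herm_eq_zero (n := n) hF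
  obtain ⟨m, rfl⟩ := Nat.exists_eq_add_of_le hn
  have hq : (q : ℤ) ≠ 0 := by
    have := two_le hF
    positivity
  have h2 : ((Nat.card {v : Fin (2 + m) → F // hermForm (2 + m) F q v v = 0} : ℕ) : ℤ) =
      q * ((q : ℤ) ^ (2 * m + 2) + (-(q : ℤ)) ^ m * (q - 1)) := by
    apply mul_left_cancel₀ hq
    rw [h1]
    ring
  have h3 : (q : ℤ) ∣ ((Nat.card {v : Fin (2 + m) → F // hermForm (2 + m) F q v v = 0} : ℕ) : ℤ) :=
    ⟨_, h2⟩
  exact dvd_trans (prime_dvd_q p hF) (Int.natCast_dvd_natCast.1 h3)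

/-- A Sylow `p`-subgroup of `SU` fixes a nonzero isotropic vector. -/
theorem exists_fixed (hF : Fintype.card F = q ^ 2) (hn : 2 ≤ n) {S : Subgroup (SU n F q)}
    (hS : IsPGroup p S) :
    ∃ u : Fin n → F, u ≠ 0 ∧ hermForm n F q u u = 0 ∧ ∀ g ∈ S, act g u = u := by
  let _ : MulAction S {v : Fin n → F // hermForm n F q v v = 0} :=
    { smul := fun g v => ⟨act (g : SU n F q) v.1, by rw [herm_act]; exact v.2⟩
      one_smul := fun v => Subtype.ext (act_one _)
      mul_smul := fun g h v => Subtype.ext (act_mul _ _ _) }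
  have h0 : (⟨0, herm_zero_left 0⟩ : {v : Fin n → F // hermForm n F q v v = 0}) ∈
      MulAction.fixedPoints S {v : Fin n → F // hermForm n F q v v = 0} :=
    fun g => Subtype.ext (act_zero _)
  obtain ⟨b, hb, hb0⟩ := hS.exists_fixed_point_of_prime_dvd_card_of_fixed_point _
    (prime_dvd_card_iso p hF hn) h0
  refine ⟨b.1, ?_, b.2, fun g hg => congrArg Subtype.val (hb ⟨g, hg⟩)⟩
  intro h
  exact hb0 (Subtype.ext h.symm)

/-- A Sylow subgroup fixing the isotropic vector `u` contains the Siegel group of `u`. -/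
theorem siegG_le_sylow (hF : Fintype.card F = q ^ 2) (S : Sylow p (SU n F q)) {u : Fin n → F}
    (hu : hermForm n F q u u = 0) (hfix : ∀ g ∈ S, act g u = u) :
    siegG hF u hu ≤ (S : Subgroup (SU n F q)) := by
  have hnorm : (S : Subgroup (SU n F q)) ≤ Subgroup.normalizer (siegG hF u hu : Set (SU n F q)) := by
    intro g hg
    rw [Subgroup.mem_normalizer_iff]
    have hg1 := hfix g hg
    have hg2 : act g⁻¹ u = u := ((act_eq_iff g).1 hg1).symm
    intro s
    constructor
    · rintro ⟨w, μ, h, rfl⟩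
      refine ⟨act g w, μ, ?_, ?_⟩
      · have := h.map g; rwa [hg1] at this
      · rw [conj_siegel]; exact siegel_congr hF _ _ hg1 rfl rfl
    · rintro ⟨w, μ, h, hs⟩
      refine ⟨act g⁻¹ w, μ, ?_, ?_⟩
      · have := h.map g⁻¹; rwa [hg2] at this
      · have h1 : s = g⁻¹ * siegel hF u w μ h * g⁻¹⁻¹ := by rw [← hs]; group
        rw [h1, conj_siegel]; exact siegel_congr hF _ _ hg2 rfl rfl
  have hsup := IsPGroup.to_sup_of_normal_right' S.isPGroup' (isPGroup_siegG hF p hu) hnorm
  have := S.is_maximal' hsup le_sup_left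
  rw [← this]
  exact le_sup_right

/-- The centre of a subgroup, as a subgroup of the big group. -/
def cent {G : Type*} [Group G] (S : Subgroup G) : Subgroup G :=
  S ⊓ Subgroup.centralizer (S : Set G)

theorem cent_map {G : Type*} [Group G] (S : Subgroup G) (α : MulAut G) :
    (cent S).map (α : G →* G) = cent (S.map (α : G →* G)) := by
  ext x
  constructor
  · rintro ⟨y, ⟨hy1, hy2⟩, rfl⟩
    refine ⟨⟨y, hy1, rfl⟩, ?_⟩
    have hy3 := Subgroup.mem_centralizer_iff.1 (show y ∈ Subgroup.centralizer (S : Set G) from hy2)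
    refine Subgroup.mem_centralizer_iff.2 ?_
    rintro _ ⟨z, hz, rfl⟩
    rw [← map_mul, hy3 z hz, map_mul]
  · rintro ⟨⟨y, hy1, rfl⟩, hy2⟩
    refine ⟨y, ⟨hy1, ?_⟩, rfl⟩
    have hy3 := Subgroup.mem_centralizer_iff.1
      (show (α : G →* G) y ∈ Subgroup.centralizer (S.map (α : G →* G) : Set G) from hy2)
    refine Subgroup.mem_centralizer_iff.2 ?_
    intro z hz
    have := hy3 (α z) ⟨z, hz, rfl⟩
    have h2 : α (z * y) = α (y * z) := by rw [map_mul, map_mul]; exact this
    exact α.injective h2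

/-- The centre of the image in `PSU` of a Sylow subgroup fixing the isotropic vector `u`. -/
theorem cent_sylow (hF : Fintype.card F = q ^ 2) (hn : 3 ≤ n) (S : Sylow p (SU n F q))
    {u : Fin n → F} (hu0 : u ≠ 0) (hu : hermForm n F q u u = 0) (hfix : ∀ g ∈ S, act g u = u) :
    cent ((S : Subgroup (SU n F q)).map (pr n F q)) = (transvG hF u hu).map (pr n F q) := by
  have hle := siegG_le_sylow p hF S hu hfix
  apply le_antisymm
  · rintro _ ⟨⟨z, hz, rfl⟩, hcz⟩
    refine ⟨z, ?_, rfl⟩
    have hcz' : pr n F q z ∈ Subgroup.centralizer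
      (((S : Subgroup (SU n F q)).map (pr n F q) : Subgroup (PSU n F q)) : Set (PSU n F q)) := hcz
    apply mem_transvG_of_commute hF hu0 hu (hfix z hz)
    intro s hs
    have hsS := hle hs
    have h1 := Subgroup.mem_centralizer_iff.1 hcz' (pr n F q s) ⟨s, hsS, rfl⟩
    obtain ⟨k, hk⟩ := S.isPGroup' ⟨z * s * z⁻¹, S.mul_mem (S.mul_mem hz hsS) (S.inv_mem hz)⟩
    obtain ⟨l, hl⟩ := S.isPGroup' ⟨s, hsS⟩
    apply eq_of_pr_eq hF hn (p := p) (k := k) (l := l) (congrArg Subtype.val hk)
      (congrArg Subtype.val hl)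
    rw [map_mul, map_mul, ← h1, map_inv]
    group
  · rintro _ ⟨z, hz, rfl⟩
    refine ⟨⟨z, hle (transvG_le_siegG hF hu hz), rfl⟩, ?_⟩
    refine Subgroup.mem_centralizer_iff.2 ?_
    rintro _ ⟨s, hs, rfl⟩
    obtain ⟨μ, hμ, rfl⟩ := hz
    rw [← map_mul, ← map_mul]
    congr 1
    rw [← mul_inv_eq_iff_eq_mul, transv, conj_siegel]
    exact siegel_congr hF _ _ (hfix s hs) (act_zero s) rfl

omit [CharP F p] in
/-- Sylow subgroups of `PSU` lift. -/
theorem exists_sylow_lift (T : Sylow p (PSU n F q)) :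
    ∃ S : Sylow p (SU n F q), (S : Subgroup (SU n F q)).map (pr n F q) =
      (T : Subgroup (PSU n F q)) := by
  obtain ⟨S, hS⟩ := Sylow.mapSurjective_surjective (pr_surjective (n := n) (F := F) (q := q)) p T
  exact ⟨S, by rw [← hS]; rfl⟩

end Sylow

/-- The image in `PSU` of the transvection group of the isotropic vector `u`. -/
def RR (hF : Fintype.card F = q ^ 2) (u : Fin n → F) (hu : hermForm n F q u u = 0) :
    Subgroup (PSU n F q) :=
  (transvG hF u hu).map (pr n F q)

/-- Every automorphism of `PSU` permutes the images of the transvection groups. -/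
theorem exists_map_RR (hF : Fintype.card F = q ^ 2) (hn : 3 ≤ n) (α : MulAut (PSU n F q))
    {u : Fin n → F} (hu0 : u ≠ 0) (hu : hermForm n F q u u = 0) :
    ∃ (u' : Fin n → F) (_ : u' ≠ 0) (hu' : hermForm n F q u' u' = 0),
      (RR hF u hu).map (α : PSU n F q →* PSU n F q) = RR hF u' hu' := by
  obtain ⟨p, hp⟩ := CharP.exists F
  have : Fact p.Prime := ⟨CharP.char_is_prime F p⟩
  obtain ⟨S⟩ : Nonempty (Sylow p (SU n F q)) := inferInstance
  obtain ⟨u₁, hu₁0, hu₁, hfix₁⟩ := exists_fixed p hF (by omega) S.isPGroup'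
  obtain ⟨g, -, hg⟩ := exists_map_iso hF hn le_rfl (mem_coordSub_top u₁) (mem_coordSub_top u)
    hu₁0 hu0 hu₁ hu
  have hfix : ∀ x ∈ g • S, act x u = u := by
    intro x hx
    have hx' : x ∈ ((g • S : Sylow p (SU n F q)) : Subgroup (SU n F q)) := hx
    rw [Sylow.coe_subgroup_smul] at hx'
    obtain ⟨s, hs, rfl⟩ := hx'
    have h1 : act g⁻¹ u = u₁ := ((act_eq_iff g).1 hg).symm
    change act (g * s * g⁻¹) u = u
    rw [act_mul, act_mul, h1, hfix₁ s hs, hg]
  have h1 := cent_sylow p hF hn (g • S) hu0 hu hfix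
  let T : Sylow p (PSU n F q) := (g • S).mapSurjective pr_surjective
  let T' : Sylow p (PSU n F q) := T.mapSurjective (f := (α : PSU n F q →* PSU n F q)) α.surjective
  obtain ⟨S', hS'⟩ := exists_sylow_lift p T'
  obtain ⟨u', hu'0, hu', hfix'⟩ := exists_fixed p hF (by omega) S'.isPGroup'
  refine ⟨u', hu'0, hu', ?_⟩
  have h2 := cent_sylow p hF hn S' hu'0 hu' hfix'
  rw [RR, RR, ← h1, ← h2, cent_map, hS']
  rfl

theorem mem_RR {hF : Fintype.card F = q ^ 2} {u : Fin n → F} {hu : hermForm n F q u u = 0}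
    {x : PSU n F q} : x ∈ RR hF u hu ↔
      ∃ (μ : F) (hμ : μ + μ ^ q = 0), x = pr n F q (transv hF u hu μ hμ) := by
  constructor
  · rintro ⟨_, ⟨μ, hμ, rfl⟩, rfl⟩
    exact ⟨μ, hμ, rfl⟩
  · rintro ⟨μ, hμ, rfl⟩
    exact ⟨_, ⟨μ, hμ, rfl⟩, rfl⟩

/-- Siegel transformations are determined by their images. -/
theorem siegel_pr_inj (hF : Fintype.card F = q ^ 2) (hn : 3 ≤ n) {u w u' w' : Fin n → F}
    {μ μ' : F} (h : IsSiegel q u w μ) (h' : IsSiegel q u' w' μ')
    (H : pr n F q (siegel hF u w μ h) = pr n F q (siegel hF u' w' μ' h')) :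
    siegel hF u w μ h = siegel hF u' w' μ' h' := by
  obtain ⟨p, hp⟩ := CharP.exists F
  have : Fact p.Prime := ⟨CharP.char_is_prime F p⟩
  obtain ⟨k, hk⟩ := siegel_pow_prime_pow hF p h
  obtain ⟨l, hl⟩ := siegel_pow_prime_pow hF p h'
  exact eq_of_pr_eq hF hn hk hl H

theorem RR_le (hF : Fintype.card F = q ^ 2) {u : Fin n → F} (hu : hermForm n F q u u = 0)
    {c : F} (hc : c ≠ 0) (hu' : hermForm n F q (c • u) (c • u) = 0) :
    RR hF (c • u) hu' = RR hF u hu := by
  have hcq : c * c ^ q ≠ 0 := mul_ne_zero hc (pow_ne_zero _ hc)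
  have key : ∀ μ (hμ : μ + μ ^ q = 0) (hμ' : c * c ^ q * μ + (c * c ^ q * μ) ^ q = 0),
      transv hF (c • u) hu' μ hμ = transv hF u hu (c * c ^ q * μ) hμ' := by
    intro μ hμ hμ'
    apply ext_act
    intro v
    rw [act_transv, act_transv, herm_smul_right]
    funext i
    simp only [Pi.add_apply, Pi.smul_apply, smul_eq_mul]
    ring
  ext x
  rw [mem_RR, mem_RR]
  constructor
  · rintro ⟨μ, hμ, rfl⟩
    have hμ' : c * c ^ q * μ + (c * c ^ q * μ) ^ q = 0 := by
      rw [mul_pow, norm_pow_q hF, ← mul_add, hμ, mul_zero]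
    exact ⟨_, hμ', by rw [key μ hμ hμ']⟩
  · rintro ⟨μ, hμ, rfl⟩
    have hμ1 : (c * c ^ q)⁻¹ * μ + ((c * c ^ q)⁻¹ * μ) ^ q = 0 := by
      rw [mul_pow, inv_pow, norm_pow_q hF, ← mul_add, hμ, mul_zero]
    have hμ2 : c * c ^ q * ((c * c ^ q)⁻¹ * μ) = μ := mul_inv_cancel_left₀ hcq μ
    refine ⟨_, hμ1, ?_⟩
    rw [key _ hμ1 (by rw [hμ2]; exact hμ)]
    congr 1
    exact siegel_congr hF _ _ rfl rfl hμ2.symm

theorem RR_eq_iff (hF : Fintype.card F = q ^ 2) (hn : 3 ≤ n) {u u' : Fin n → F} (hu0 : u ≠ 0)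
    (hu0' : u' ≠ 0) (hu : hermForm n F q u u = 0) (hu' : hermForm n F q u' u' = 0) :
    RR hF u hu = RR hF u' hu' ↔ ∃ c : F, c ≠ 0 ∧ u' = c • u := by
  constructor
  · intro H
    obtain ⟨μ, hμ0, hμ⟩ := exists_trace_zero_ne hF
    have h1 : pr n F q (transv hF u hu μ hμ) ∈ RR hF u' hu' := by
      rw [← H]; exact mem_RR.2 ⟨μ, hμ, rfl⟩
    obtain ⟨μ', hμ', h2⟩ := mem_RR.1 h1
    have h3 := siegel_pr_inj hF hn _ _ h2
    obtain ⟨f, -, huf, hfu⟩ := exists_partner hF hu0 hu
    have h4 := congrArg (fun g => act g f) h3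
    have h5 : f + (μ * 1) • u = f + (μ' * hermForm n F q f u') • u' := by
      have h6 := act_transv hF hu hμ f
      have h7 := act_transv hF hu' hμ' f
      rw [hfu] at h6
      rw [← h6, ← h7]
      exact h4
    rw [add_right_inj, mul_one] at h5
    have hne : μ' * hermForm n F q f u' ≠ 0 := by
      intro h0
      rw [h0, zero_smul, smul_eq_zero] at h5
      rcases h5 with h | h
      · exact hμ0 h
      · exact hu0 h
    refine ⟨(μ' * hermForm n F q f u')⁻¹ * μ, mul_ne_zero (inv_ne_zero hne) hμ0, ?_⟩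
    rw [mul_smul, h5, smul_smul, inv_mul_cancel₀ hne, one_smul]
  · rintro ⟨c, hc, rfl⟩
    exact (RR_le hF hu hc hu').symm

theorem RR_congr (hF : Fintype.card F = q ^ 2) {u u' : Fin n → F}
    (hu : hermForm n F q u u = 0) (hu' : hermForm n F q u' u' = 0) (h : u = u') :
    RR hF u hu = RR hF u' hu' := by
  subst h; rfl

/-- Conjugation. -/
theorem RR_conj (hF : Fintype.card F = q ^ 2) {u : Fin n → F}
    (hu : hermForm n F q u u = 0) (g : SU n F q)
    (hgu : hermForm n F q (act g u) (act g u) = 0) (x : PSU n F q) :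
    x ∈ RR hF (act g u) hgu ↔ (pr n F q g)⁻¹ * x * pr n F q g ∈ RR hF u hu := by
  rw [mem_RR, mem_RR]
  have key : ∀ μ (hμ : μ + μ ^ q = 0),
      transv hF (act g u) hgu μ hμ = g * transv hF u hu μ hμ * g⁻¹ := by
    intro μ hμ
    rw [transv, transv, conj_siegel]
    exact siegel_congr hF _ _ rfl (act_zero g).symm rfl
  constructor
  · rintro ⟨μ, hμ, rfl⟩
    refine ⟨μ, hμ, ?_⟩
    rw [key, map_mul, map_mul, map_inv]
    group
  · rintro ⟨μ, hμ, h⟩
    refine ⟨μ, hμ, ?_⟩
    rw [key, map_mul, map_mul, ← h, map_inv]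
    group

/-- The groups of two points commute exactly when the points are orthogonal. -/
theorem RR_commute_iff (hF : Fintype.card F = q ^ 2) (hn : 3 ≤ n) {u u' : Fin n → F}
    (hu0 : u ≠ 0) (hu0' : u' ≠ 0) (hu : hermForm n F q u u = 0) (hu' : hermForm n F q u' u' = 0) :
    (∀ x ∈ RR hF u hu, ∀ y ∈ RR hF u' hu', x * y = y * x) ↔ hermForm n F q u u' = 0 := by
  constructor
  · intro H
    obtain ⟨μ, hμ0, hμ⟩ := exists_trace_zero_ne hF
    set s := transv hF u hu μ hμ with hs
    have h1 : ∀ y ∈ RR hF u' hu', (pr n F q s)⁻¹ * y * pr n F q s = y := by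
      intro y hy
      have hsy : pr n F q s * y = y * pr n F q s := H _ (mem_RR.2 ⟨μ, hμ, rfl⟩) y hy
      rw [mul_assoc, ← hsy, inv_mul_cancel_left]
    have hsu' : hermForm n F q (act s u') (act s u') = 0 := by rw [herm_act]; exact hu'
    have h2 : RR hF u' hu' = RR hF (act s u') hsu' := by
      ext x
      rw [RR_conj hF hu']
      constructor
      · intro hx; rw [h1 x hx]; exact hx
      · intro hx
        have h3 := h1 _ hx
        have h4 : x = pr n F q s * ((pr n F q s)⁻¹ * x * pr n F q s) * (pr n F q s)⁻¹ := by group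
        have h5 : (pr n F q s)⁻¹ * x * pr n F q s =
            pr n F q s * ((pr n F q s)⁻¹ * x * pr n F q s) * (pr n F q s)⁻¹ := by
          conv_rhs => rw [← h3]
          group
        rw [h4, ← h5]
        exact hx
    have hs0 : act s u' ≠ 0 := fun h => hu0' ((act_eq_zero s).1 h)
    obtain ⟨c, hc0, hc⟩ := (RR_eq_iff hF hn hu0' hs0 hu' hsu').1 h2
    rw [hs, act_transv] at hc
    by_contra hne
    have hne' : hermForm n F q u' u ≠ 0 := fun h => hne (herm_eq_zero_swap hF h)
    have h6 : (μ * hermForm n F q u' u) • u = (c - 1) • u' := by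
      rw [sub_smul, one_smul, ← hc, add_sub_cancel_left]
    have h7 : hermForm n F q ((μ * hermForm n F q u' u) • u) u' =
        hermForm n F q ((c - 1) • u') u' := by rw [h6]
    rw [herm_smul_left, herm_smul_left, hu', mul_zero] at h7
    rcases mul_eq_zero.1 h7 with h8 | h8
    · rcases mul_eq_zero.1 h8 with h9 | h9
      · exact hμ0 h9
      · exact hne' h9
    · exact hne h8
  · intro H x hx y hy
    obtain ⟨μ, hμ, rfl⟩ := mem_RR.1 hx
    obtain ⟨μ', hμ', rfl⟩ := mem_RR.1 hy
    rw [← map_mul, ← map_mul]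
    congr 1
    apply ext_act
    intro v
    have H' : hermForm n F q u' u = 0 := herm_eq_zero_swap hF H
    rw [act_mul, act_mul, act_transv, act_transv, act_transv, act_transv]
    simp only [herm_add_left, herm_smul_left, H, H']
    funext i
    simp only [Pi.add_apply, Pi.smul_apply, smul_eq_mul]
    ring

end Cfsg.Agent.ClassicalGeometry.PSUAutSylow
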