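import Mathlib
import Cfsg.Agent.ClassicalGeometry.PSUAutUnip

/-!
# Automorphisms of `PSU n F q`: the induced map on `e^⊥ / e`

For an automorphism `α` fixing `RR e` (and `RR f`), the induced additive bijection `φ` of the coordinate
subspace `V₁ = {e, f}^⊥`, and its equivariance under the stabiliser of the two points.
-/

set_option autoImplicit false

namespace Cfsg.Agent.ClassicalGeometry.PSUAutPhi

open Cfsg Cfsg.Agent.LieClassical.HermBasic Cfsg.Agent.LieClassical.HermSiegel
  Cfsg.Agent.LieClassical.HermGen Cfsg.Agent.LieClassical.SUBasic Matrix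
  Cfsg.Agent.ClassicalGeometry.PSUAutBasic Cfsg.Agent.ClassicalGeometry.PSUAutSylow
  Cfsg.Agent.ClassicalGeometry.PSUAutUnip

variable {F : Type*} [Field F] [Fintype F] {q n : ℕ}

/-! ### Normal form of Siegel transformations -/

omit [Fintype F] in
theorem frame_ne_zero {e f : Fin n → F} (H : IsFrame q e f) : e ≠ 0 := by
  intro h; have := H.ef; rw [h, herm_zero_left] at this; exact zero_ne_one this

theorem frame_ne_zero' (hF : Fintype.card F = q ^ 2) {e f : Fin n → F} (H : IsFrame q e f) :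
    f ≠ 0 := by
  intro h; have := H.ef; rw [h, herm_zero_right hF] at this; exact zero_ne_one this

theorem frame_fe (hF : Fintype.card F = q ^ 2) {e f : Fin n → F} (H : IsFrame q e f) :
    hermForm n F q f e = 1 := by
  rw [herm_swap hF e f, H.ef, one_pow]

theorem sub_mem_V (hF : Fintype.card F = q ^ 2) {e f : Fin n → F} (H : IsFrame q e f)
    (w : Fin n → F) :
    w - hermForm n F q w f • e - hermForm n F q w e • f ∈ coordSub F n (n - 2) := by
  rw [H.mem]
  constructor
  · rw [herm_sub_left, herm_sub_left, herm_smul_left, herm_smul_left, H.ee, frame_fe hF H]; ring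
  · rw [herm_sub_left, herm_sub_left, herm_smul_left, herm_smul_left, H.ff, H.ef]; ring

/-- Every Siegel transformation for `e` has its parameter in the coordinate subspace. -/
theorem exists_normal (hF : Fintype.card F = q ^ 2) {e f : Fin n → F} (H : IsFrame q e f)
    {w : Fin n → F} {μ : F} (h : IsSiegel q e w μ) :
    ∃ w' ∈ coordSub F n (n - 2), ∃ (μ' : F) (h' : IsSiegel q e w' μ'),
      siegel hF e w μ h = siegel hF e w' μ' h' := by
  set t := hermForm n F q w f with ht
  have hmem : w - t • e ∈ coordSub F n (n - 2) := by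
    have := sub_mem_V hF H w
    rwa [h.orth, zero_smul, sub_zero] at this
  have h' : IsSiegel q e (w - t • e) (μ + t - t ^ q) := by
    refine ⟨h.iso, ?_, ?_⟩
    · rw [herm_sub_left, herm_smul_left, h.iso, h.orth]; ring
    · have htr := h.tr
      rw [sub_pow_q hF, add_pow_q hF, pow_q_pow_q hF, herm_sub_left, herm_sub_right hF,
        herm_sub_right hF, herm_smul_left, herm_smul_right, herm_smul_left, herm_smul_right, h.iso,
        h.orth, h.orth' hF]
      linear_combination htr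
  refine ⟨_, hmem, _, h', ?_⟩
  apply ext_act
  intro v
  rw [act_siegel, act_siegel, herm_sub_right hF, herm_smul_right]
  funext i
  simp only [Pi.add_apply, Pi.sub_apply, Pi.smul_apply, smul_eq_mul]
  ring

/-- The parameters are unique. -/
theorem siegel_inj (hF : Fintype.card F = q ^ 2) {e f : Fin n → F} (H : IsFrame q e f)
    {w w' : Fin n → F} {μ μ' : F} (hw : w ∈ coordSub F n (n - 2)) (hw' : w' ∈ coordSub F n (n - 2))
    (h : IsSiegel q e w μ) (h' : IsSiegel q e w' μ')
    (heq : siegel hF e w μ h = siegel hF e w' μ' h') : w = w' ∧ μ = μ' := by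
  have h1 := congrArg (fun g => act g f) heq
  simp only [act_siegel, frame_fe hF H, one_smul, mul_one] at h1
  have hfw : hermForm n F q f w = 0 := herm_eq_zero_swap hF ((H.mem w).1 hw).2
  have hfw' : hermForm n F q f w' = 0 := herm_eq_zero_swap hF ((H.mem w').1 hw').2
  rw [hfw, hfw', sub_zero, sub_zero, add_assoc, add_assoc, add_right_inj] at h1
  have h2 := congrArg (fun v => hermForm n F q v f) h1
  simp only [herm_add_left, herm_smul_left, H.ef, ((H.mem w).1 hw).2, ((H.mem w').1 hw').2,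
    zero_add, mul_one] at h2
  refine ⟨?_, h2⟩
  rw [h2] at h1
  exact add_right_cancel h1

theorem pr_siegel_inj (hF : Fintype.card F = q ^ 2) (hn : 3 ≤ n) {e f : Fin n → F}
    (H : IsFrame q e f)
    {w w' : Fin n → F} {μ μ' : F} (hw : w ∈ coordSub F n (n - 2)) (hw' : w' ∈ coordSub F n (n - 2))
    (h : IsSiegel q e w μ) (h' : IsSiegel q e w' μ')
    (heq : pr n F q (siegel hF e w μ h) = pr n F q (siegel hF e w' μ' h')) :
    w = w' ∧ μ = μ' :=
  siegel_inj hF H hw hw' h h' (siegel_pr_inj hF hn h h' heq)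

theorem exists_isSiegel (hF : Fintype.card F = q ^ 2) {e f : Fin n → F} (H : IsFrame q e f)
    {w : Fin n → F} (hw : w ∈ coordSub F n (n - 2)) : ∃ μ, IsSiegel q e w μ := by
  obtain ⟨μ, hμ⟩ := exists_trace_eq hF (c := -hermForm n F q w w)
    (by rw [neg_pow_q hF, herm_self_pow hF])
  exact ⟨μ, H.ee, ((H.mem w).1 hw).1, by rw [hμ]; ring⟩

/-! ### The induced map -/

/-- `α` induces `φ` on `V₁`. -/
def Ind (hF : Fintype.card F = q ^ 2) (e : Fin n → F) (α : MulAut (PSU n F q))
    (φ : coordSub F n (n - 2) → coordSub F n (n - 2)) : Prop :=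
  ∀ (w : coordSub F n (n - 2)) (μ : F) (h : IsSiegel q e (w : Fin n → F) μ),
    ∃ (μ' : F) (h' : IsSiegel q e (φ w : Fin n → F) μ'),
      α (pr n F q (siegel hF e w μ h)) = pr n F q (siegel hF e (φ w) μ' h')

theorem Ind.one (hF : Fintype.card F = q ^ 2) (e : Fin n → F) :
    Ind hF e (1 : MulAut (PSU n F q)) id :=
  fun _ μ h => ⟨μ, h, rfl⟩

theorem Ind.mul {hF : Fintype.card F = q ^ 2} {e : Fin n → F} {α β : MulAut (PSU n F q)}
    {φ ψ : coordSub F n (n - 2) → coordSub F n (n - 2)} (hα : Ind hF e α φ) (hβ : Ind hF e β ψ) :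
    Ind hF e (α * β) (φ ∘ ψ) := by
  intro w μ h
  obtain ⟨μ1, h1, e1⟩ := hβ w μ h
  obtain ⟨μ2, h2, e2⟩ := hα (ψ w) μ1 h1
  exact ⟨μ2, h2, by rw [MulAut.mul_apply, e1, e2]; rfl⟩

theorem Ind.unique {hF : Fintype.card F = q ^ 2} (hn : 3 ≤ n) {e f : Fin n → F}
    (H : IsFrame q e f) {α : MulAut (PSU n F q)}
    {φ ψ : coordSub F n (n - 2) → coordSub F n (n - 2)} (hφ : Ind hF e α φ) (hψ : Ind hF e α ψ) :
    φ = ψ := by
  funext w
  obtain ⟨μ, h⟩ := exists_isSiegel hF H w.2
  obtain ⟨μ1, h1, e1⟩ := hφ w μ h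
  obtain ⟨μ2, h2, e2⟩ := hψ w μ h
  rw [e1] at e2
  exact Subtype.ext (pr_siegel_inj hF hn H (φ w).2 (ψ w).2 h1 h2 e2).1

theorem Ind.add {hF : Fintype.card F = q ^ 2} (hn : 3 ≤ n) {e f : Fin n → F}
    (H : IsFrame q e f) {α : MulAut (PSU n F q)}
    {φ : coordSub F n (n - 2) → coordSub F n (n - 2)} (hφ : Ind hF e α φ)
    (w w' : coordSub F n (n - 2)) : φ (w + w') = φ w + φ w' := by
  obtain ⟨μ, h⟩ := exists_isSiegel hF H w.2
  obtain ⟨μ', h'⟩ := exists_isSiegel hF H w'.2
  obtain ⟨μ1, h1, e1⟩ := hφ w μ h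
  obtain ⟨μ2, h2, e2⟩ := hφ w' μ' h'
  obtain ⟨μ3, h3, e3⟩ := hφ (w + w') _ (h.mul hF h')
  have e4 : pr n F q (siegel hF e _ μ3 h3) = pr n F q (siegel hF e _ _ (h1.mul hF h2)) := by
    rw [← e3, ← siegel_mul hF h1 h2, map_mul, ← e1, ← e2, ← map_mul, ← map_mul,
      siegel_mul hF h h']
    rfl
  exact Subtype.ext (pr_siegel_inj hF hn H (φ (w + w')).2 (φ w + φ w').2 h3 _ e4).1

/-- Existence of the induced map. -/
theorem exists_ind (hF : Fintype.card F = q ^ 2) (hn : 3 ≤ n) {e f : Fin n → F}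
    (H : IsFrame q e f) (α : MulAut (PSU n F q))
    (hα : ∀ x, x ∈ RR hF e H.ee ↔ α x ∈ RR hF e H.ee) :
    ∃ φ : coordSub F n (n - 2) → coordSub F n (n - 2), Ind hF e α φ := by
  have hQ := map_QQ_le hF hn H α hα
  have h1 : ∀ w : coordSub F n (n - 2), ∃ w' : coordSub F n (n - 2),
      ∃ (μ : F) (h : IsSiegel q e (w : Fin n → F) μ) (μ' : F)
        (h' : IsSiegel q e (w' : Fin n → F) μ'),
        α (pr n F q (siegel hF e w μ h)) = pr n F q (siegel hF e w' μ' h') := by
    intro w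
    obtain ⟨μ, h⟩ := exists_isSiegel hF H w.2
    obtain ⟨w1, μ1, h1, e1⟩ := mem_QQ.1 (hQ _ (mem_QQ.2 ⟨w, μ, h, rfl⟩))
    obtain ⟨w2, hw2, μ2, h2, e2⟩ := exists_normal hF H h1
    exact ⟨⟨w2, hw2⟩, μ, h, μ2, h2, by rw [e1, e2]⟩
  choose φ hφ using h1
  refine ⟨φ, fun w μ h => ?_⟩
  obtain ⟨μ0, h0, μ1, h1, e1⟩ := hφ w
  -- `siegel w μ = siegel w μ0 * transv (μ - μ0)`
  have htr : (μ - μ0) + (μ - μ0) ^ q = 0 := by
    have t1 := h.tr
    have t0 := h0.tr
    rw [sub_pow_q hF]
    linear_combination t1 - t0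
  have e2 : siegel hF e w μ h = siegel hF e w μ0 h0 * transv hF e H.ee (μ - μ0) htr := by
    rw [transv, siegel_mul]
    apply siegel_congr hF _ _ rfl
    · rw [add_zero]
    · rw [herm_zero_left]; ring
  have h2 : α (pr n F q (transv hF e H.ee (μ - μ0) htr)) ∈ RR hF e H.ee :=
    (hα _).1 (mem_RR.2 ⟨_, htr, rfl⟩)
  obtain ⟨ν, hν, e3⟩ := mem_RR.1 h2
  have h4 : IsSiegel q e (φ w : Fin n → F) (μ1 + ν) := by
    refine ⟨h1.iso, h1.orth, ?_⟩
    have t1 := h1.tr
    rw [add_pow_q hF]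
    linear_combination t1 + hν
  refine ⟨μ1 + ν, h4, ?_⟩
  rw [e2, map_mul, map_mul, e1, e3, ← map_mul, transv, siegel_mul]
  congr 1
  apply siegel_congr hF _ _ rfl
  · rw [add_zero]
  · rw [herm_zero_left]; ring

/-- The induced map as an additive bijection. -/
theorem exists_ind_equiv (hF : Fintype.card F = q ^ 2) (hn : 3 ≤ n) {e f : Fin n → F}
    (H : IsFrame q e f) (α : MulAut (PSU n F q))
    (hα : ∀ x, x ∈ RR hF e H.ee ↔ α x ∈ RR hF e H.ee) :
    ∃ φ : coordSub F n (n - 2) ≃+ coordSub F n (n - 2),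
      Ind hF e α φ ∧ Ind hF e α⁻¹ φ.symm := by
  have hα' : ∀ x, x ∈ RR hF e H.ee ↔ α⁻¹ x ∈ RR hF e H.ee := by
    intro x
    rw [hα (α⁻¹ x), MulAut.apply_inv_self]
  obtain ⟨φ, hφ⟩ := exists_ind hF hn H α hα
  obtain ⟨ψ, hψ⟩ := exists_ind hF hn H α⁻¹ hα'
  have h1 : φ ∘ ψ = id := by
    have := hφ.mul hψ
    rw [mul_inv_cancel] at this
    exact Ind.unique hn H this (Ind.one hF e)
  have h2 : ψ ∘ φ = id := by
    have := hψ.mul hφ
    rw [inv_mul_cancel] at this
    exact Ind.unique hn H this (Ind.one hF e)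
  exact ⟨{ toFun := φ
           invFun := ψ
           left_inv := congrFun h2
           right_inv := congrFun h1
           map_add' := Ind.add hn H hφ }, hφ, hψ⟩

/-! ### The stabiliser of the two points -/

/-- Conjugation of a Siegel transformation by an element of the stabiliser of the point `e`. -/
theorem conj_siegel_stab (hF : Fintype.card F = q ^ 2) {e : Fin n → F} {l : SU n F q} {a : F}
    (hl : act l e = a • e) (ha : a ≠ 0) {w : Fin n → F} {μ : F} (h : IsSiegel q e w μ) :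
    ∃ h' : IsSiegel q e (a ^ q • act l w) (a * a ^ q * μ),
      l * siegel hF e w μ h * l⁻¹ = siegel hF e (a ^ q • act l w) (a * a ^ q * μ) h' := by
  have h2 : IsSiegel q (a • e) (act l w) μ := by rw [← hl]; exact h.map l
  have h' : IsSiegel q e (a ^ q • act l w) (a * a ^ q * μ) := by
    refine ⟨h.iso, ?_, ?_⟩
    · have h3 := h2.orth
      rw [herm_smul_right] at h3
      rcases mul_eq_zero.1 h3 with h4 | h4
      · exact absurd h4 (pow_ne_zero _ ha)
      · rw [herm_smul_left, h4, mul_zero]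
    · have h3 := h2.tr
      rw [herm_smul_left, herm_smul_right, mul_pow, norm_pow_q hF, pow_q_pow_q hF]
      linear_combination (a * a ^ q) * h3
  refine ⟨h', ?_⟩
  rw [conj_siegel]
  apply ext_act
  intro v
  rw [act_siegel, act_siegel, hl]
  simp only [herm_smul_right, smul_smul, pow_q_pow_q hF]
  funext i
  simp only [Pi.add_apply, Pi.smul_apply, smul_eq_mul]
  ring

omit [Fintype F] in
theorem eigen_ne_zero {e : Fin n → F} (he : e ≠ 0) {l : SU n F q} {a : F}
    (hl : act l e = a • e) : a ≠ 0 := by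
  rintro rfl
  rw [zero_smul, act_eq_zero] at hl
  exact he hl

/-- The twisted action of the stabiliser of the two points preserves `V₁`. -/
theorem stab_mem (hF : Fintype.card F = q ^ 2) {e f : Fin n → F} (H : IsFrame q e f)
    {l : SU n F q} {a b : F} (he : act l e = a • e) (hf : act l f = b • f)
    {w : Fin n → F} (hw : w ∈ coordSub F n (n - 2)) : act l w ∈ coordSub F n (n - 2) := by
  have ha := eigen_ne_zero (frame_ne_zero H) he
  have hb := eigen_ne_zero (frame_ne_zero' hF H) hf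
  rw [H.mem] at hw ⊢
  constructor
  · have h1 : hermForm n F q (act l w) (act l e) = 0 := by rw [herm_act, hw.1]
    rw [he, herm_smul_right] at h1
    exact (mul_eq_zero.1 h1).resolve_left (pow_ne_zero _ ha)
  · have h1 : hermForm n F q (act l w) (act l f) = 0 := by rw [herm_act, hw.2]
    rw [hf, herm_smul_right] at h1
    exact (mul_eq_zero.1 h1).resolve_left (pow_ne_zero _ hb)

/-- Equivariance of the induced map. -/
theorem Ind.equivariant {hF : Fintype.card F = q ^ 2} (hn : 3 ≤ n) {e f : Fin n → F}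
    (H : IsFrame q e f) {α : MulAut (PSU n F q)}
    {φ : coordSub F n (n - 2) → coordSub F n (n - 2)} (hφ : Ind hF e α φ)
    {l l' : SU n F q} {a a' b' : F} (hle : act l e = a • e)
    (hle' : act l' e = a' • e) (hlf' : act l' f = b' • f)
    (hll : α (pr n F q l) = pr n F q l')
    {w w2 : coordSub F n (n - 2)} (hw : (w2 : Fin n → F) = a ^ q • act l (w : Fin n → F)) :
    (φ w2 : Fin n → F) = a' ^ q • act l' (φ w : Fin n → F) := by
  have ha := eigen_ne_zero (frame_ne_zero H) hle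
  have ha' := eigen_ne_zero (frame_ne_zero H) hle'
  obtain ⟨μ, h⟩ := exists_isSiegel hF H w.2
  obtain ⟨μ1, h1, e1⟩ := hφ w μ h
  obtain ⟨h2, e2⟩ := conj_siegel_stab hF hle ha h
  obtain ⟨h3, e3⟩ := conj_siegel_stab hF hle' ha' h1
  have h2' : IsSiegel q e (w2 : Fin n → F) (a * a ^ q * μ) := by rw [hw]; exact h2
  obtain ⟨μ4, h4, e4⟩ := hφ w2 _ h2'
  have e5 : pr n F q (siegel hF e _ μ4 h4) = pr n F q (siegel hF e _ _ h3) := by
    rw [← e4, ← e3, siegel_congr hF h2' h2 rfl hw rfl, ← e2]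
    rw [map_mul, map_mul, map_mul, map_mul, map_mul, map_mul, map_inv, map_inv, map_inv, hll, e1]
  exact (pr_siegel_inj hF hn H (φ w2).2
    (Submodule.smul_mem _ _ (stab_mem hF H hle' hlf' (φ w).2)) h4 h3 e5).1

/-- Lifting of the stabiliser of the two points along `α`. -/
theorem exists_stab_map (hF : Fintype.card F = q ^ 2) (hn : 3 ≤ n) {e f : Fin n → F}
    (H : IsFrame q e f) (α : MulAut (PSU n F q))
    (hα : ∀ x, x ∈ RR hF e H.ee ↔ α x ∈ RR hF e H.ee)
    (hα' : ∀ x, x ∈ RR hF f H.ff ↔ α x ∈ RR hF f H.ff)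
    {l : SU n F q} {a b : F} (hle : act l e = a • e) (hlf : act l f = b • f) :
    ∃ (l' : SU n F q) (a' b' : F), act l' e = a' • e ∧ act l' f = b' • f ∧
      α (pr n F q l) = pr n F q l' := by
  have ha := eigen_ne_zero (frame_ne_zero H) hle
  have hb := eigen_ne_zero (frame_ne_zero' hF H) hlf
  obtain ⟨l', hl'⟩ := pr_surjective (α (pr n F q l))
  have h1 : NormRR hF e H.ee (pr n F q l) :=
    (normRR_iff hF hn (frame_ne_zero H) H.ee l).2 ⟨a, ha, hle⟩
  have h2 : NormRR hF f H.ff (pr n F q l) :=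
    (normRR_iff hF hn (frame_ne_zero' hF H) H.ff l).2 ⟨b, hb, hlf⟩
  have h3 : NormRR hF e H.ee (pr n F q l') := by
    rw [hl']
    intro y
    obtain ⟨z, rfl⟩ := α.surjective y
    rw [← hα, h1 z, hα, map_mul, map_mul, map_inv]
  have h4 : NormRR hF f H.ff (pr n F q l') := by
    rw [hl']
    intro y
    obtain ⟨z, rfl⟩ := α.surjective y
    rw [← hα', h2 z, hα', map_mul, map_mul, map_inv]
  obtain ⟨a', -, ha'⟩ := (normRR_iff hF hn (frame_ne_zero H) H.ee l').1 h3
  obtain ⟨b', -, hb'⟩ := (normRR_iff hF hn (frame_ne_zero' hF H) H.ff l').1 h4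
  exact ⟨l', a', b', ha', hb', hl'.symm⟩

end Cfsg.Agent.ClassicalGeometry.PSUAutPhi
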