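import Mathlib
import Cfsg.Agent.ClassicalGeometry.PSUAutPhi

/-!
# Automorphisms of `PSU n F q`: the induced map is a semisimilarity of `V₁`
-/

set_option autoImplicit false

namespace Cfsg.Agent.ClassicalGeometry.PSUAutSemi

open Cfsg Cfsg.Agent.LieClassical.HermBasic Cfsg.Agent.LieClassical.HermSiegel
  Cfsg.Agent.LieClassical.HermGen Cfsg.Agent.LieClassical.SUBasic Matrix
  Cfsg.Agent.ClassicalGeometry.PSUAutBasic Cfsg.Agent.ClassicalGeometry.PSUAutSylow
  Cfsg.Agent.ClassicalGeometry.PSUAutUnip Cfsg.Agent.ClassicalGeometry.PSUAutPhi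

variable {F : Type*} [Field F] [Fintype F] {q n : ℕ}

/-- The basis vectors of `V₁` (and zero for the last two coordinates). -/
def bas (F : Type*) [Field F] (n : ℕ) (i : Fin n) : coordSub F n (n - 2) :=
  if h : i.val < n - 2 then ⟨Pi.single i 1, single_mem_coordSub h 1⟩ else 0

omit [Fintype F] in
theorem bas_pos {i : Fin n} (h : i.val < n - 2) :
    (bas F n i : Fin n → F) = Pi.single i 1 := by
  rw [bas, dif_pos h]

omit [Fintype F] in
theorem bas_neg {i : Fin n} (h : ¬ i.val < n - 2) : bas F n i = 0 := by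
  rw [bas, dif_neg h]

omit [Fintype F] in
theorem bas_ne_zero {i : Fin n} (h : i.val < n - 2) : bas F n i ≠ 0 := by
  intro h0
  have h1 := congrArg (fun v : coordSub F n (n - 2) => (v : Fin n → F) i) h0
  simp only [bas_pos h, Pi.single_eq_same] at h1
  exact one_ne_zero h1

omit [Fintype F] in
theorem eq_sum_bas (w : coordSub F n (n - 2)) : w = ∑ i, (w : Fin n → F) i • bas F n i := by
  apply Subtype.ext
  rw [Submodule.coe_sum]
  funext j
  rw [Finset.sum_apply, Finset.sum_eq_single j]
  · by_cases h : j.val < n - 2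
    · rw [Submodule.coe_smul, bas_pos h, Pi.smul_apply, Pi.single_eq_same, smul_eq_mul, mul_one]
    · rw [w.2 j (by omega), zero_smul]; rfl
  · intro i _ hij
    by_cases h : i.val < n - 2
    · rw [Submodule.coe_smul, bas_pos h, Pi.smul_apply, Pi.single_eq_of_ne (Ne.symm hij), smul_zero]
    · rw [bas_neg h, smul_zero]; rfl
  · intro h; exact absurd (Finset.mem_univ j) h

theorem herm_bas (hF : Fintype.card F = q ^ 2) {i : Fin n} (h : i.val < n - 2) :
    hermForm n F q (bas F n i : Fin n → F) (bas F n i : Fin n → F) = 1 := by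
  rw [bas_pos h, herm_single_right hF, Pi.single_eq_same, one_pow, one_mul]

theorem herm_bas_ne (hF : Fintype.card F = q ^ 2) {i j : Fin n} (hij : i ≠ j) :
    hermForm n F q (bas F n i : Fin n → F) (bas F n j : Fin n → F) = 0 := by
  by_cases hi : i.val < n - 2
  · by_cases hj : j.val < n - 2
    · rw [bas_pos hi, bas_pos hj, herm_single_right hF, Pi.single_eq_of_ne (Ne.symm hij), zero_mul]
    · rw [bas_neg hj]; exact herm_zero_right hF _
  · rw [bas_neg hi]; exact herm_zero_left _

/-- The induced map is semilinear. -/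
theorem exists_semilinear (hF : Fintype.card F = q ^ 2) (hn : 3 ≤ n)
    {e f : Fin n → F} (H : IsFrame q e f)
    (schur : ∀ (T : (coordSub F n (n - 2)) →+ (coordSub F n (n - 2)))
      (_ : ∀ (l : SU n F q) (a b : F), act l e = a • e → act l f = b • f →
        ∀ w w2 : coordSub F n (n - 2), (w2 : Fin n → F) = a ^ q • act l (w : Fin n → F) →
          (T w2 : Fin n → F) = a ^ q • act l (T w : Fin n → F)), ∃ c : F, ∀ w, T w = c • w)
    (α : MulAut (PSU n F q))
    (hα : ∀ x, x ∈ RR hF e H.ee ↔ α x ∈ RR hF e H.ee)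
    (hα' : ∀ x, x ∈ RR hF f H.ff ↔ α x ∈ RR hF f H.ff)
    {φ : coordSub F n (n - 2) ≃+ coordSub F n (n - 2)} (hφ : Ind hF e α φ)
    (hφ' : Ind hF e α⁻¹ φ.symm) :
    ∃ ρ : F ≃+* F, ∀ (c : F) (w : coordSub F n (n - 2)), φ (c • w) = ρ c • φ w := by
  have hβ : ∀ x, x ∈ RR hF e H.ee ↔ α⁻¹ x ∈ RR hF e H.ee := by
    intro x; rw [hα (α⁻¹ x), MulAut.apply_inv_self]
  have hβ' : ∀ x, x ∈ RR hF f H.ff ↔ α⁻¹ x ∈ RR hF f H.ff := by
    intro x; rw [hα' (α⁻¹ x), MulAut.apply_inv_self]
  have key : ∀ c : F, ∃ c' : F, ∀ w : coordSub F n (n - 2), φ (c • w) = c' • φ w := by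
    intro c
    let T : (coordSub F n (n - 2)) →+ (coordSub F n (n - 2)) :=
      { toFun := fun w => φ (c • φ.symm w)
        map_zero' := by rw [map_zero, smul_zero, map_zero]
        map_add' := fun w w' => by rw [map_add, smul_add, map_add] }
    obtain ⟨c', hc'⟩ := schur T (by
      intro l a b hle hlf w w2 hw
      obtain ⟨l', a', b', hle', hlf', hll⟩ := exists_stab_map hF hn H α⁻¹ hβ hβ' hle hlf
      have h1 := Ind.equivariant hn H hφ' hle hle' hlf' hll hw
      have h2 : ((c • φ.symm w2 : coordSub F n (n - 2)) : Fin n → F) =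
          a' ^ q • act l' ((c • φ.symm w : coordSub F n (n - 2)) : Fin n → F) := by
        rw [Submodule.coe_smul, Submodule.coe_smul, h1, act_smul, smul_comm]
      have hll' : α (pr n F q l') = pr n F q l := by
        rw [← hll, MulAut.apply_inv_self]
      exact Ind.equivariant hn H hφ hle' hle hlf hll' h2)
    refine ⟨c', fun w => ?_⟩
    have h3 := hc' (φ w)
    change φ (c • φ.symm (φ w)) = c' • φ w at h3
    rwa [AddEquiv.symm_apply_apply] at h3
  choose ρ hρ using key
  let i0 : Fin n := ⟨0, by omega⟩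
  have hi0 : i0.val < n - 2 := by simp [i0]; omega
  have hw0 : φ (bas F n i0) ≠ 0 := by
    intro h
    exact bas_ne_zero (F := F) hi0 ((map_eq_zero_iff φ φ.injective).1 h)
  have hinj : ∀ c d : F, c • φ (bas F n i0) = d • φ (bas F n i0) → c = d := by
    intro c d h
    exact smul_left_injective F hw0 h
  let R : F →+* F :=
    { toFun := ρ
      map_one' := hinj _ _ (by rw [← hρ, one_smul, one_smul])
      map_mul' := fun c d => hinj _ _ (by rw [← hρ, mul_smul, hρ, hρ, mul_smul])
      map_zero' := hinj _ _ (by rw [← hρ, zero_smul, zero_smul, map_zero])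
      map_add' := fun c d => hinj _ _ (by rw [← hρ, add_smul, add_smul, map_add, hρ, hρ]) }
  exact ⟨RingEquiv.ofBijective R ⟨R.injective, Finite.surjective_of_injective R.injective⟩,
    fun c w => hρ c w⟩

/-- Commuting Siegel transformations. -/
theorem herm_symm_of_symm {hF : Fintype.card F = q ^ 2} (hn : 3 ≤ n)
    {e f : Fin n → F} (H : IsFrame q e f) {α : MulAut (PSU n F q)}
    {φ : coordSub F n (n - 2) → coordSub F n (n - 2)} (hφ : Ind hF e α φ)
    {w w' : coordSub F n (n - 2)}
    (hw : hermForm n F q (w : Fin n → F) w' = hermForm n F q (w' : Fin n → F) w) :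
    hermForm n F q (φ w : Fin n → F) (φ w') = hermForm n F q (φ w' : Fin n → F) (φ w) := by
  obtain ⟨μ, h⟩ := exists_isSiegel hF H w.2
  obtain ⟨μ', h'⟩ := exists_isSiegel hF H w'.2
  obtain ⟨μ1, h1, e1⟩ := hφ w μ h
  obtain ⟨μ2, h2, e2⟩ := hφ w' μ' h'
  have e3 : siegel hF e w μ h * siegel hF e w' μ' h' =
      siegel hF e w' μ' h' * siegel hF e w μ h := by
    rw [siegel_mul, siegel_mul]
    apply siegel_congr hF _ _ rfl (add_comm _ _)
    rw [hw]; ring
  have e4 : pr n F q (siegel hF e _ _ (h1.mul hF h2)) =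
      pr n F q (siegel hF e _ _ (h2.mul hF h1)) := by
    rw [← siegel_mul hF h1 h2, ← siegel_mul hF h2 h1, map_mul, map_mul, ← e1, ← e2, ← map_mul, ← map_mul, ← map_mul,
      ← map_mul, e3]
  have e5 := (pr_siegel_inj hF hn H (φ w + φ w').2 (φ w' + φ w).2 _ _ e4).2
  linear_combination e5

/-- The induced map multiplies the form by a scalar, up to the field automorphism. -/
theorem exists_scale {hF : Fintype.card F = q ^ 2} (hn : 3 ≤ n)
    {e f : Fin n → F} (H : IsFrame q e f) {α : MulAut (PSU n F q)}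
    {φ : coordSub F n (n - 2) ≃+ coordSub F n (n - 2)} (hφ : Ind hF e α φ)
    {ρ : F ≃+* F} (hρ : ∀ (c : F) (w : coordSub F n (n - 2)), φ (c • w) = ρ c • φ w) :
    ∃ κ : F, κ ≠ 0 ∧ κ ^ q = κ ∧ ∀ w w' : coordSub F n (n - 2),
      hermForm n F q (φ w : Fin n → F) (φ w') = κ * ρ (hermForm n F q (w : Fin n → F) w') := by
  have hperp : ∀ w w' : coordSub F n (n - 2), hermForm n F q (w : Fin n → F) w' = 0 →
      hermForm n F q (φ w : Fin n → F) (φ w') = 0 := by
    intro w w' hw
    apply eq_zero_of_forall_fixed hF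
    intro d
    have h1 := herm_symm_of_symm hn H hφ (w := ρ.symm d • w) (w' := w') (by
      rw [Submodule.coe_smul, herm_smul_left, herm_smul_right, hw, herm_eq_zero_swap hF hw]
      ring)
    rw [hρ, RingEquiv.apply_symm_apply, Submodule.coe_smul, herm_smul_left, herm_smul_right] at h1
    rw [mul_pow, ← herm_swap hF]
    exact h1.symm
  let i0 : Fin n := ⟨0, by omega⟩
  have hi0 : i0.val < n - 2 := by simp [i0]; omega
  set κ := hermForm n F q (φ (bas F n i0) : Fin n → F) (φ (bas F n i0)) with hκ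
  have hκi : ∀ i : Fin n, i.val < n - 2 →
      hermForm n F q (φ (bas F n i) : Fin n → F) (φ (bas F n i)) = κ := by
    intro i hi
    by_cases h0 : i = i0
    · rw [h0]
    · have h1 := hperp (bas F n i + bas F n i0) (bas F n i - bas F n i0) (by
        rw [Submodule.coe_add, Submodule.coe_sub, herm_add_left, herm_sub_right hF,
          herm_sub_right hF, herm_bas hF hi, herm_bas hF hi0, herm_bas_ne hF h0,
          herm_bas_ne hF (Ne.symm h0)]
        ring)
      rw [map_add, map_sub, Submodule.coe_add, Submodule.coe_sub, herm_add_left,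
        herm_sub_right hF, herm_sub_right hF, hperp _ _ (herm_bas_ne hF h0),
        hperp _ _ (herm_bas_ne hF (Ne.symm h0)), ← hκ] at h1
      linear_combination h1
  have hform : ∀ w w' : coordSub F n (n - 2),
      hermForm n F q (φ w : Fin n → F) (φ w') = κ * ρ (hermForm n F q (w : Fin n → F) w') := by
    intro w w'
    have e1 : ∀ w : coordSub F n (n - 2), (φ w : Fin n → F) =
        ∑ i, ρ ((w : Fin n → F) i) • (φ (bas F n i) : Fin n → F) := by
      intro w
      conv_lhs => rw [eq_sum_bas w]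
      rw [map_sum, Submodule.coe_sum]
      exact Finset.sum_congr rfl fun i _ => by rw [hρ, Submodule.coe_smul]
    rw [e1 w, e1 w', herm_sum_left, herm_def (w : Fin n → F), map_sum, Finset.mul_sum]
    refine Finset.sum_congr rfl fun i _ => ?_
    rw [herm_smul_left, herm_sum_right hF, Finset.sum_eq_single i]
    · rw [herm_smul_right, map_mul, map_pow]
      by_cases hi : i.val < n - 2
      · rw [hκi i hi]; ring
      · rw [w.2 i (by omega), map_zero]; ring
    · intro j _ hji
      rw [herm_smul_right, hperp _ _ (herm_bas_ne hF (Ne.symm hji)), mul_zero]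
    · intro h; exact absurd (Finset.mem_univ i) h
  refine ⟨κ, ?_, herm_self_pow hF _, hform⟩
  intro h0
  have h1 := hform (φ.symm (bas F n i0)) (φ.symm (bas F n i0))
  rw [AddEquiv.apply_symm_apply, h0, zero_mul, herm_bas hF hi0] at h1
  exact one_ne_zero h1

end Cfsg.Agent.ClassicalGeometry.PSUAutSemi
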