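import Mathlib
import Cfsg.Agent.ClassicalGeometry.PSUAutSemi
import Cfsg.Agent.ClassicalGeometry.PSUAutCount
import Cfsg.Agent.ClassicalGeometry.HermOrtho

/-!
# Automorphisms of `PSU n F q`: extension of a semisimilarity of `V₁`, action on Siegel elements
-/

set_option autoImplicit false

namespace Cfsg.Agent.ClassicalGeometry.PSUAutExt

open Cfsg Cfsg.Agent.LieClassical.HermBasic Cfsg.Agent.LieClassical.HermSiegel
  Cfsg.Agent.LieClassical.HermGen Cfsg.Agent.LieClassical.SUBasic Matrix
  Cfsg.Agent.ClassicalGeometry.PSUAutBasic Cfsg.Agent.ClassicalGeometry.PSUAutSylow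
  Cfsg.Agent.ClassicalGeometry.PSUAutUnip Cfsg.Agent.ClassicalGeometry.PSUAutPhi
  Cfsg.Agent.ClassicalGeometry.PSUAutSemi

open Cfsg.Agent.ClassicalGeometry.PSUAutCount (gm semiConj toAut herm_gm act_semiConj herm_semi
  gm_inv_mulVec gm_mulVec_inv)

variable {F : Type*} [Field F] [Fintype F] {q n : ℕ}

/-- The projection to `V₁`. -/
def prV (hF : Fintype.card F = q ^ 2) {e f : Fin n → F} (H : IsFrame q e f) (v : Fin n → F) :
    coordSub F n (n - 2) :=
  ⟨v - hermForm n F q v f • e - hermForm n F q v e • f, sub_mem_V hF H v⟩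

theorem prV_coe (hF : Fintype.card F = q ^ 2) {e f : Fin n → F} (H : IsFrame q e f)
    (v : Fin n → F) :
    (prV hF H v : Fin n → F) = v - hermForm n F q v f • e - hermForm n F q v e • f := rfl

theorem prV_add (hF : Fintype.card F = q ^ 2) {e f : Fin n → F} (H : IsFrame q e f)
    (v w : Fin n → F) : prV hF H (v + w) = prV hF H v + prV hF H w := by
  apply Subtype.ext
  rw [Submodule.coe_add, prV_coe, prV_coe, prV_coe, herm_add_left, herm_add_left, add_smul,
    add_smul]
  abel

theorem prV_smul (hF : Fintype.card F = q ^ 2) {e f : Fin n → F} (H : IsFrame q e f)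
    (c : F) (v : Fin n → F) : prV hF H (c • v) = c • prV hF H v := by
  apply Subtype.ext
  rw [Submodule.coe_smul, prV_coe, prV_coe, herm_smul_left, herm_smul_left, smul_sub, smul_sub,
    smul_smul, smul_smul]

theorem prV_of_mem (hF : Fintype.card F = q ^ 2) {e f : Fin n → F} (H : IsFrame q e f)
    (w : coordSub F n (n - 2)) : prV hF H (w : Fin n → F) = w := by
  apply Subtype.ext
  have h := (H.mem w).1 w.2
  rw [prV_coe, h.1, h.2, zero_smul, zero_smul, sub_zero, sub_zero]

/-- The form in terms of the decomposition. -/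
theorem herm_decomp (hF : Fintype.card F = q ^ 2) {e f : Fin n → F} (H : IsFrame q e f)
    (a b c d : F) (w w' : coordSub F n (n - 2)) :
    hermForm n F q (a • e + b • f + (w : Fin n → F)) (c • e + d • f + (w' : Fin n → F)) =
      a * d ^ q + b * c ^ q + hermForm n F q (w : Fin n → F) w' := by
  have hw := (H.mem w).1 w.2
  have hw' := (H.mem w').1 w'.2
  simp only [herm_add_left, herm_add_right hF, herm_smul_left, herm_smul_right, H.ee, H.ff, H.ef,
    frame_fe hF H, hw.1, hw.2, herm_eq_zero_swap hF hw'.1, herm_eq_zero_swap hF hw'.2]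
  ring

theorem decomp (hF : Fintype.card F = q ^ 2) {e f : Fin n → F} (H : IsFrame q e f)
    (v : Fin n → F) :
    v = hermForm n F q v f • e + hermForm n F q v e • f + (prV hF H v : Fin n → F) := by
  rw [prV_coe]; abel

/-- Extension of a semisimilarity of `V₁` to the whole space. -/
theorem exists_GU (hF : Fintype.card F = q ^ 2) {e f : Fin n → F} (H : IsFrame q e f)
    (φ : coordSub F n (n - 2) ≃+ coordSub F n (n - 2))
    (ρ : F ≃+* F) (hρ : ∀ (c : F) (w : coordSub F n (n - 2)), φ (c • w) = ρ c • φ w)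
    {κ : F} (hκ0 : κ ≠ 0) (hκq : κ ^ q = κ) (hform : ∀ w w' : coordSub F n (n - 2),
      hermForm n F q (φ w : Fin n → F) (φ w') = κ * ρ (hermForm n F q (w : Fin n → F) w')) :
    ∃ (A : GU n F q) (t : F), t ≠ 0 ∧ t * t ^ q = κ ∧
      (gm A *ᵥ fun i => ρ (e i)) = (t⁻¹ * κ) • e ∧
      (gm A *ᵥ fun i => ρ (f i)) = t⁻¹ • f ∧
      ∀ w : coordSub F n (n - 2), (gm A *ᵥ fun i => ρ ((w : Fin n → F) i)) =
        t⁻¹ • (φ w : Fin n → F) := by
  obtain ⟨t, ht0, ht⟩ := exists_norm_eq_ne hF hκq hκ0
  have htq : t ^ q ≠ 0 := pow_ne_zero _ ht0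
  -- the semilinear map
  let g : (Fin n → F) → (Fin n → F) := fun v =>
    t⁻¹ • ((κ * ρ (hermForm n F q v f)) • e + ρ (hermForm n F q v e) • f +
      (φ (prV hF H v) : Fin n → F))
  have hgadd : ∀ v w, g (v + w) = g v + g w := by
    intro v w
    simp only [g]
    rw [herm_add_left, herm_add_left, map_add, map_add, prV_add, map_add, Submodule.coe_add,
      mul_add, add_smul, add_smul, ← smul_add]
    congr 1
    abel
  have hgsmul : ∀ (c : F) v, g (c • v) = ρ c • g v := by
    intro c v
    simp only [g]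
    rw [herm_smul_left, herm_smul_left, map_mul, map_mul, prV_smul, hρ, Submodule.coe_smul,
      smul_comm (ρ c)]
    congr 1
    rw [smul_add, smul_add, smul_smul, smul_smul]
    congr 3
    ring
  have hgform : ∀ v w, hermForm n F q (g v) (g w) = ρ (hermForm n F q v w) := by
    intro v w
    have h1 : hermForm n F q v w = hermForm n F q v f * hermForm n F q w e ^ q +
        hermForm n F q v e * hermForm n F q w f ^ q +
        hermForm n F q (prV hF H v : Fin n → F) (prV hF H w) := by
      conv_lhs => rw [decomp hF H v, decomp hF H w]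
      rw [herm_decomp hF H]
    simp only [g]
    rw [herm_smul_left, herm_smul_right, herm_decomp hF H, hform, h1, map_add, map_add, map_mul,
      map_mul, map_pow, map_pow, mul_pow, hκq, inv_pow, ← ht]
    field_simp
  let L : (Fin n → F) →ₗ[F] (Fin n → F) :=
    { toFun := fun x => g (fun i => ρ.symm (x i))
      map_add' := fun x y => by
        rw [← hgadd]
        congr 1
        funext i
        exact map_add _ _ _
      map_smul' := fun c x => by
        have h1 : (fun i => ρ.symm ((c • x) i)) = ρ.symm c • fun i => ρ.symm (x i) := by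
          funext i
          rw [Pi.smul_apply, smul_eq_mul, map_mul]
          rfl
        rw [h1, hgsmul, RingEquiv.apply_symm_apply]
        rfl }
  obtain ⟨A0, hA0, hAm⟩ := HermOrtho.exists_GU_of_isometry (M := LinearMap.toMatrix' L) hF (by
    intro u v
    rw [LinearMap.toMatrix'_mulVec, LinearMap.toMatrix'_mulVec]
    change hermForm n F q (g _) (g _) = _
    rw [hgform]
    have h1 := PSUAutCount.herm_map (q := q) ρ (fun i => ρ.symm (u i)) (fun i => ρ.symm (v i))
    simp only [RingEquiv.apply_symm_apply] at h1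
    exact h1.symm)
  have key : ∀ v : Fin n → F, (gm (⟨A0, hA0⟩ : GU n F q) *ᵥ fun i => ρ (v i)) = g v := by
    intro v
    have h1 : gm (⟨A0, hA0⟩ : GU n F q) = LinearMap.toMatrix' L := hAm
    rw [h1, LinearMap.toMatrix'_mulVec]
    change g (fun i => ρ.symm (ρ (v i))) = g v
    simp only [RingEquiv.symm_apply_apply]
  refine ⟨⟨A0, hA0⟩, t, ht0, ht, ?_, ?_, ?_⟩
  · rw [key]
    have h1 : prV hF H e = 0 := by
      apply Subtype.ext
      rw [prV_coe, H.ef, H.ee, one_smul, zero_smul, sub_self, sub_zero]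
      rfl
    simp only [g]
    rw [H.ef, H.ee, map_one, map_zero, h1, map_zero, zero_smul, mul_one, add_zero,
      Submodule.coe_zero, add_zero, smul_smul]
  · rw [key]
    have h1 : prV hF H f = 0 := by
      apply Subtype.ext
      rw [prV_coe, H.ff, frame_fe hF H, one_smul, zero_smul, sub_zero, sub_self]
      rfl
    simp only [g]
    rw [H.ff, frame_fe hF H, map_one, map_zero, h1, map_zero, mul_zero, zero_smul, one_smul,
      zero_add, Submodule.coe_zero, add_zero]
  · intro w
    rw [key]
    have h := (H.mem w).1 w.2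
    simp only [g]
    rw [prV_of_mem, h.1, h.2, map_zero, mul_zero, zero_smul, zero_smul, zero_add, zero_add]

omit [Fintype F] in
/-- The image of a Siegel condition. -/
theorem isSiegel_semi (A : GU n F q) (ρ : F ≃+* F)
    {u w : Fin n → F} {μ : F} (h : IsSiegel q u w μ) :
    IsSiegel q (gm A *ᵥ fun i => ρ (u i)) (gm A *ᵥ fun i => ρ (w i)) (ρ μ) := by
  refine ⟨?_, ?_, ?_⟩
  · rw [herm_semi, h.iso, map_zero]
  · rw [herm_semi, h.orth, map_zero]
  · rw [herm_semi, ← map_pow, ← map_add, ← map_add, h.tr, map_zero]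

/-- `semiConj` on Siegel transformations. -/
theorem semiConj_siegel (hF : Fintype.card F = q ^ 2) (A : GU n F q) (ρ : F ≃+* F)
    {u w : Fin n → F} {μ : F} (h : IsSiegel q u w μ) :
    semiConj A ρ (siegel hF u w μ h) = siegel hF (gm A *ᵥ fun i => ρ (u i))
      (gm A *ᵥ fun i => ρ (w i)) (ρ μ) (isSiegel_semi A ρ h) := by
  apply ext_act
  intro x
  have hx : x = gm A *ᵥ fun i => ρ ((fun j => ρ.symm ((gm A⁻¹ *ᵥ x) j)) i) := by
    simp only [RingEquiv.apply_symm_apply]
    rw [gm_mulVec_inv]
  rw [hx, act_semiConj]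
  set y : Fin n → F := fun j => ρ.symm ((gm A⁻¹ *ᵥ x) j) with hy
  rw [act_siegel, act_siegel, herm_semi, herm_semi]
  have h1 : (fun i => ρ ((y + hermForm n F q y u • w +
      (μ * hermForm n F q y u - hermForm n F q y w) • u) i)) =
      (fun i => ρ (y i)) + ρ (hermForm n F q y u) • (fun i => ρ (w i)) +
        (ρ μ * ρ (hermForm n F q y u) - ρ (hermForm n F q y w)) • (fun i => ρ (u i)) := by
    funext i
    simp only [Pi.add_apply, Pi.smul_apply, smul_eq_mul, map_add, map_mul, map_sub]
  rw [h1, mulVec_add, mulVec_add, mulVec_smul, mulVec_smul]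

end Cfsg.Agent.ClassicalGeometry.PSUAutExt
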