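import Mathlib
import Cfsg.Prelude.Def_ClassicalGeometry
import Cfsg.Agent.LieClassical.HermBasic

/-!
# Rank one updates, unitary transvections and Siegel transformations in `SU_n(q)`

`act A x` is the action of `A : SU n F q` on a column vector. `utv hF v c` is the unitary transvection
`x ↦ x + c h(x, v) v` and `siegel hF u w μ` the Siegel transformation
`x ↦ x + h(x, u) w + (μ h(x, u) - h(x, w)) u` as elements of `SU n F q`. Every unitary transvection
is the commutator of two Siegel transformations when `n ≥ 3`.
-/

set_option autoImplicit false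

namespace Cfsg.Agent.ClassicalGeometry.UnitTransv

open Cfsg Cfsg.Agent.LieClassical.HermBasic
open scoped Matrix

section Basic

variable {F : Type*} [Field F] {n q : ℕ}

/-- The matrix of `x ↦ x + h(x, b) a`. -/
def rankOne (q : ℕ) (a b : Fin n → F) : Matrix (Fin n) (Fin n) F :=
  1 + Matrix.vecMulVec a (fun j => b j ^ q)

theorem rankOne_mulVec (a b x : Fin n → F) :
    rankOne q a b *ᵥ x = x + hermForm n F q x b • a := by
  rw [rankOne, Matrix.add_mulVec, Matrix.one_mulVec, Matrix.vecMulVec_mulVec, op_smul_eq_smul]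
  congr 2
  exact Finset.sum_congr rfl fun i _ => mul_comm _ _

theorem det_rankOne (a b : Fin n → F) : (rankOne q a b).det = 1 + hermForm n F q a b := by
  rw [rankOne, Matrix.vecMulVec_eq Unit, Matrix.det_one_add_replicateCol_mul_replicateRow]
  congr 1
  exact Finset.sum_congr rfl fun i _ => mul_comm _ _

theorem unitaryTransvection_eq (v : Fin n → F) (c : F) :
    unitaryTransvection n q v c = rankOne q (c • v) v := by
  rw [unitaryTransvection, rankOne, Matrix.smul_vecMulVec]

theorem unitaryTransvection_mulVec (v : Fin n → F) (c : F) (x : Fin n → F) :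
    unitaryTransvection n q v c *ᵥ x = x + (c * hermForm n F q x v) • v := by
  rw [unitaryTransvection_eq, rankOne_mulVec, smul_smul, mul_comm]

theorem det_unitaryTransvection {v : Fin n → F} (hv : hermForm n F q v v = 0) (c : F) :
    (unitaryTransvection n q v c).det = 1 := by
  rw [unitaryTransvection_eq, det_rankOne, herm_smul_left, hv, mul_zero, add_zero]

/-- The action of `SU` on column vectors. -/
def act (A : SU n F q) (x : Fin n → F) : Fin n → F :=
  ((A : Matrix.SpecialLinearGroup (Fin n) F) : Matrix (Fin n) (Fin n) F) *ᵥ x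

theorem act_def (A : SU n F q) (x : Fin n → F) :
    act A x = ((A : Matrix.SpecialLinearGroup (Fin n) F) : Matrix (Fin n) (Fin n) F) *ᵥ x := rfl

theorem act_mul (A B : SU n F q) (x : Fin n → F) : act (A * B) x = act A (act B x) := by
  simp only [act_def, Matrix.mulVec_mulVec]; rfl

theorem act_one (x : Fin n → F) : act (1 : SU n F q) x = x := by
  rw [act_def]
  exact Matrix.one_mulVec x

theorem act_inv_act (A : SU n F q) (x : Fin n → F) : act A⁻¹ (act A x) = x := by
  rw [← act_mul, inv_mul_cancel, act_one]

theorem act_act_inv (A : SU n F q) (x : Fin n → F) : act A (act A⁻¹ x) = x := by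
  rw [← act_mul, mul_inv_cancel, act_one]

theorem act_add (A : SU n F q) (x y : Fin n → F) : act A (x + y) = act A x + act A y := by
  simp only [act_def, Matrix.mulVec_add]

theorem act_smul (A : SU n F q) (c : F) (x : Fin n → F) : act A (c • x) = c • act A x := by
  simp only [act_def, Matrix.mulVec_smul]

theorem act_sub (A : SU n F q) (x y : Fin n → F) : act A (x - y) = act A x - act A y := by
  simp only [act_def, Matrix.mulVec_sub]

theorem act_zero (A : SU n F q) : act A (0 : Fin n → F) = 0 := by
  simp only [act_def, Matrix.mulVec_zero]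

theorem herm_act (A : SU n F q) (x y : Fin n → F) :
    hermForm n F q (act A x) (act A y) = hermForm n F q x y := A.2 x y

theorem act_injective (A : SU n F q) : Function.Injective (act A) := by
  intro x y h
  rw [← act_inv_act A x, h, act_inv_act]

theorem ext_act {A B : SU n F q} (h : ∀ x, act A x = act B x) : A = B := by
  apply Subtype.ext
  apply Subtype.ext
  exact Matrix.ext_of_mulVec_single fun i => h _

/-- Build an element of `SU` from a matrix. -/
def mk (M : Matrix (Fin n) (Fin n) F) (hd : M.det = 1)
    (h : ∀ x y, hermForm n F q (M *ᵥ x) (M *ᵥ y) = hermForm n F q x y) : SU n F q :=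
  ⟨⟨M, hd⟩, h⟩

theorem act_mk (M : Matrix (Fin n) (Fin n) F) (hd : M.det = 1)
    (h : ∀ x y, hermForm n F q (M *ᵥ x) (M *ᵥ y) = hermForm n F q x y) (x : Fin n → F) :
    act (mk M hd h) x = M *ᵥ x := rfl

theorem coe_mk (M : Matrix (Fin n) (Fin n) F) (hd : M.det = 1)
    (h : ∀ x y, hermForm n F q (M *ᵥ x) (M *ᵥ y) = hermForm n F q x y) :
    ((mk M hd h : Matrix.SpecialLinearGroup (Fin n) F) : Matrix (Fin n) (Fin n) F) = M := rfl

theorem act_eq_of_coe {A : SU n F q} {M : Matrix (Fin n) (Fin n) F}
    (h : ((A : Matrix.SpecialLinearGroup (Fin n) F) : Matrix (Fin n) (Fin n) F) = M)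
    (x : Fin n → F) : act A x = M *ᵥ x := by
  rw [act_def, h]

end Basic

section Transv

variable {F : Type*} [Field F] [Fintype F] {n q : ℕ} (hF : Fintype.card F = q ^ 2)
include hF

/-- The form of two images under `x ↦ x + c h(x, v) v`, `v` isotropic. -/
theorem herm_utv {v : Fin n → F} (hv : hermForm n F q v v = 0) (c : F) (x y : Fin n → F) :
    hermForm n F q (unitaryTransvection n q v c *ᵥ x) (unitaryTransvection n q v c *ᵥ y) =
      hermForm n F q x y + (c + c ^ q) * (hermForm n F q x v * hermForm n F q v y) := by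
  simp only [unitaryTransvection_mulVec, herm_add_left, herm_add_right hF, herm_smul_left,
    herm_smul_right, hv, mul_pow]
  rw [← herm_swap hF y v]
  ring

/-- The unitary transvection `x ↦ x + c h(x, v) v` as an element of `SU`. -/
def utv (v : Fin n → F) (c : F) (hv : hermForm n F q v v = 0) (hc : c + c ^ q = 0) : SU n F q :=
  mk (unitaryTransvection n q v c) (det_unitaryTransvection hv c) (fun x y => by
    rw [herm_utv hF hv, hc, zero_mul, add_zero])

theorem act_utv {v : Fin n → F} {c : F} (hv : hermForm n F q v v = 0) (hc : c + c ^ q = 0)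
    (x : Fin n → F) : act (utv hF v c hv hc) x = x + (c * hermForm n F q x v) • v := by
  rw [utv, act_mk, unitaryTransvection_mulVec]

theorem coe_utv {v : Fin n → F} {c : F} (hv : hermForm n F q v v = 0) (hc : c + c ^ q = 0) :
    ((utv hF v c hv hc : Matrix.SpecialLinearGroup (Fin n) F) : Matrix (Fin n) (Fin n) F) =
      unitaryTransvection n q v c := rfl

/-- If a transvection matrix with `v ≠ 0` is in `SU` then its scalar has trace zero. -/
theorem trace_zero_of_coe {A : SU n F q} {v : Fin n → F} {c : F}
    (hv : hermForm n F q v v = 0) (hv0 : v ≠ 0)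
    (hA : ((A : Matrix.SpecialLinearGroup (Fin n) F) : Matrix (Fin n) (Fin n) F) =
      unitaryTransvection n q v c) : c + c ^ q = 0 := by
  obtain ⟨y, hy⟩ := exists_herm_ne_zero hF hv0
  have h := herm_act A y y
  rw [act_eq_of_coe hA, herm_utv hF hv] at h
  have h1 : (c + c ^ q) * (hermForm n F q y v * hermForm n F q v y) = 0 := by
    linear_combination h
  rcases mul_eq_zero.1 h1 with h2 | h2
  · exact h2
  · rcases mul_eq_zero.1 h2 with h3 | h3
    · exact absurd (herm_eq_zero_swap hF h3) hy
    · exact absurd h3 hy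

/-- The transvections of an element of `SU` with a transvection matrix. -/
theorem eq_one_or_utv {A : SU n F q} {v : Fin n → F} {c : F}
    (hv : hermForm n F q v v = 0)
    (hA : ((A : Matrix.SpecialLinearGroup (Fin n) F) : Matrix (Fin n) (Fin n) F) =
      unitaryTransvection n q v c) :
    A = 1 ∨ (v ≠ 0 ∧ ∃ hc : c + c ^ q = 0, A = utv hF v c hv hc) := by
  by_cases hv0 : v = 0
  · left
    apply ext_act
    intro x
    rw [act_eq_of_coe hA, unitaryTransvection_mulVec, hv0, smul_zero, add_zero, act_one]
  · right
    refine ⟨hv0, trace_zero_of_coe hF hv hv0 hA, ?_⟩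
    apply Subtype.ext
    apply Subtype.ext
    rw [hA, coe_utv]

end Transv

section Siegel

variable {F : Type*} [Field F] [Fintype F] {n q : ℕ} (hF : Fintype.card F = q ^ 2)

/-- The matrix of the Siegel transformation. -/
def siegelMat (q : ℕ) (u w : Fin n → F) (μ : F) : Matrix (Fin n) (Fin n) F :=
  rankOne q (w + μ • u) u * rankOne q (-u) w

omit [Fintype F] in
theorem siegelMat_mulVec {u : Fin n → F} (w : Fin n → F) (μ : F)
    (hu : hermForm n F q u u = 0) (x : Fin n → F) :
    siegelMat q u w μ *ᵥ x =
      x + hermForm n F q x u • w + (μ * hermForm n F q x u - hermForm n F q x w) • u := by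
  rw [siegelMat, ← Matrix.mulVec_mulVec, rankOne_mulVec, rankOne_mulVec, herm_add_left,
    herm_smul_left, herm_neg_left, hu]
  ext i
  simp only [Pi.add_apply, Pi.smul_apply, Pi.neg_apply, smul_eq_mul]
  ring

include hF in
theorem det_siegelMat {u w : Fin n → F} (μ : F) (hu : hermForm n F q u u = 0)
    (hwu : hermForm n F q w u = 0) : (siegelMat q u w μ).det = 1 := by
  rw [siegelMat, Matrix.det_mul, det_rankOne, det_rankOne, herm_add_left, herm_smul_left, hu, hwu,
    herm_neg_left, herm_eq_zero_swap hF hwu]
  ring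

/-- The Siegel transformation `x ↦ x + h(x, u) w + (μ h(x, u) - h(x, w)) u`. -/
def siegel (u w : Fin n → F) (μ : F) (hu : hermForm n F q u u = 0)
    (hwu : hermForm n F q w u = 0) (hμ : μ + μ ^ q + hermForm n F q w w = 0) : SU n F q :=
  mk (siegelMat q u w μ) (det_siegelMat hF μ hu hwu) (fun x y => by
    have huw := herm_eq_zero_swap hF hwu
    rw [siegelMat_mulVec w μ hu, siegelMat_mulVec w μ hu]
    simp only [herm_add_left, herm_add_right hF, herm_smul_left, herm_smul_right, hu, hwu, huw,
      sub_pow_q hF, mul_pow]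
    rw [← herm_swap hF y u, ← herm_swap hF y w]
    linear_combination (hermForm n F q x u * hermForm n F q u y) * hμ)

theorem act_siegel {u w : Fin n → F} {μ : F} (hu : hermForm n F q u u = 0)
    (hwu : hermForm n F q w u = 0) (hμ : μ + μ ^ q + hermForm n F q w w = 0) (x : Fin n → F) :
    act (siegel hF u w μ hu hwu hμ) x =
      x + hermForm n F q x u • w + (μ * hermForm n F q x u - hermForm n F q x w) • u := by
  rw [siegel, act_mk, siegelMat_mulVec w μ hu]

/-- The commutation rule of Siegel transformations with the same `u`. -/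
theorem siegel_mul_comm {u w w' : Fin n → F} {μ μ' c : F} (hu : hermForm n F q u u = 0)
    (hwu : hermForm n F q w u = 0) (hμ : μ + μ ^ q + hermForm n F q w w = 0)
    (hwu' : hermForm n F q w' u = 0) (hμ' : μ' + μ' ^ q + hermForm n F q w' w' = 0)
    (hc : c + c ^ q = 0) (hcw : hermForm n F q w w' - hermForm n F q w' w = c) :
    siegel hF u w μ hu hwu hμ * siegel hF u w' μ' hu hwu' hμ' =
      utv hF u c hu hc * (siegel hF u w' μ' hu hwu' hμ' * siegel hF u w μ hu hwu hμ) := by
  have huw := herm_eq_zero_swap hF hwu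
  have huw' := herm_eq_zero_swap hF hwu'
  apply ext_act
  intro x
  rw [act_mul, act_mul, act_mul]
  simp only [act_siegel hF, act_utv hF, herm_add_left, herm_smul_left, hu, hwu, hwu', huw, huw',
    mul_zero, add_zero]
  ext i
  simp only [Pi.add_apply, Pi.smul_apply, smul_eq_mul]
  linear_combination (hermForm n F q x u * u i) * hcw

/-- A trace zero element is `y - y ^ q`. -/
theorem exists_sub_pow_eq (hF : Fintype.card F = q ^ 2) {c : F} (hc : c + c ^ q = 0) :
    ∃ y : F, y - y ^ q = c := by
  obtain ⟨x, hx⟩ := exists_trace_ne hF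
  refine ⟨c * (x + x ^ q)⁻¹ * x, ?_⟩
  rw [mul_pow, mul_pow, inv_pow, trace_pow_q hF]
  have hc' : c ^ q = -c := by linear_combination hc
  rw [hc']
  field_simp
  ring

/-- In dimension at least three, there are two vectors orthogonal to `v` which are not orthogonal
to each other. -/
theorem exists_perp_pair (hF : Fintype.card F = q ^ 2) (hn : 3 ≤ n) (v : Fin n → F) :
    ∃ w w' : Fin n → F, hermForm n F q w v = 0 ∧ hermForm n F q w' v = 0 ∧
      hermForm n F q w w' ≠ 0 := by
  classical
  by_cases h : ∃ j, v j = 0
  · obtain ⟨j, hj⟩ := h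
    refine ⟨Pi.single j 1, Pi.single j 1, ?_, ?_, ?_⟩
    · rw [herm_single_left, hj, zero_pow_q hF, mul_zero]
    · rw [herm_single_left, hj, zero_pow_q hF, mul_zero]
    · rw [herm_single_left, Pi.single_eq_same, one_pow, one_mul]
      exact one_ne_zero
  · push Not at h
    let i : Fin n := ⟨0, by omega⟩
    let j : Fin n := ⟨1, by omega⟩
    let k : Fin n := ⟨2, by omega⟩
    have hij : i ≠ j := by simp [i, j]
    have hik : i ≠ k := by simp [i, k]
    have hjk : j ≠ k := by simp [j, k]
    refine ⟨Pi.single j (v i ^ q) - Pi.single i (v j ^ q),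
      Pi.single k (v i ^ q) - Pi.single i (v k ^ q), ?_, ?_, ?_⟩
    · rw [herm_sub_left, herm_single_left, herm_single_left]; ring
    · rw [herm_sub_left, herm_single_left, herm_single_left]; ring
    · rw [herm_sub_left, herm_single_left, herm_single_left]
      simp only [Pi.sub_apply, Pi.single_eq_same, Pi.single_eq_of_ne hjk,
        Pi.single_eq_of_ne hik, Pi.single_eq_of_ne hij.symm, sub_self, zero_pow_q hF, mul_zero,
        zero_sub, neg_pow_q hF, pow_q_pow_q hF]
      rw [mul_neg, neg_neg]
      exact mul_ne_zero (pow_ne_zero _ (h j)) (h k)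

/-- Every unitary transvection in dimension at least three is a commutator in `SU`. -/
theorem utv_mem_commutatorSet (hn : 3 ≤ n) {v : Fin n → F} {c : F}
    (hv : hermForm n F q v v = 0) (hc : c + c ^ q = 0) :
    utv hF v c hv hc ∈ commutatorSet ↥(SU n F q) := by
  obtain ⟨w, w', hw, hw', hne⟩ := exists_perp_pair hF hn v
  obtain ⟨y, hy⟩ := exists_sub_pow_eq hF hc
  -- rescale `w`
  set a : F := y * (hermForm n F q w w')⁻¹ with ha
  have h1 : hermForm n F q (a • w) w' = y := by
    rw [herm_smul_left, ha, mul_assoc, inv_mul_cancel₀ hne, mul_one]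
  have h2 : hermForm n F q (a • w) v = 0 := by rw [herm_smul_left, hw, mul_zero]
  have h3 : hermForm n F q (a • w) w' - hermForm n F q w' (a • w) = c := by
    rw [herm_swap hF (a • w) w', h1, hy]
  have htr : ∀ z : Fin n → F, ∃ μ : F, μ + μ ^ q + hermForm n F q z z = 0 := by
    intro z
    obtain ⟨μ, hμ⟩ := exists_trace_eq hF (c := -hermForm n F q z z) (by
      rw [neg_pow_q hF, herm_self_pow hF])
    exact ⟨μ, by rw [hμ]; ring⟩
  obtain ⟨μ, hμ⟩ := htr (a • w)
  obtain ⟨μ', hμ'⟩ := htr w'
  refine ⟨siegel hF v (a • w) μ hv h2 hμ, siegel hF v w' μ' hv hw' hμ', ?_⟩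
  rw [commutatorElement_def, siegel_mul_comm hF hv h2 hμ hw' hμ' hc h3]
  group

end Siegel

end Cfsg.Agent.ClassicalGeometry.UnitTransv
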