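import Mathlib
import Cfsg.Agent.ClassicalGeometry.PSUAutBasic
import Cfsg.Agent.ClassicalGeometry.PSUAutTorus

/-!
# The delta lemma for the automorphisms of `PSU n F q`

An additive map from the space `coordSub F n (n - 2)` to `F` which is equivariant for the torus elements
with respect to the norm is zero. Also: isotropic vectors generate (`coordSub_induction`), elements of norm
one.
-/

set_option autoImplicit false

namespace Cfsg.Agent.ClassicalGeometry.PSUAutDelta

open Cfsg Cfsg.Agent.LieClassical.HermBasic Cfsg.Agent.LieClassical.HermSiegel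
  Cfsg.Agent.LieClassical.HermGen Cfsg.Agent.ClassicalGeometry.PSUAutBasic
  Cfsg.Agent.ClassicalGeometry.PSUAutTorus

variable {F : Type*} [Field F] [Fintype F] {q n : ℕ}

/-- Induction principle: a property of vectors of a coordinate subspace of dimension at least two,
closed under addition and true for isotropic vectors, holds for all vectors. -/
theorem coordSub_induction (hF : Fintype.card F = q ^ 2) {k : ℕ} (hk : 2 ≤ k) (hkn : k ≤ n)
    {P : (Fin n → F) → Prop}
    (hadd : ∀ x y, x ∈ coordSub F n k → y ∈ coordSub F n k → P x → P y → P (x + y))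
    (hiso : ∀ y ∈ coordSub F n k, hermForm n F q y y = 0 → P y) :
    ∀ w ∈ coordSub F n k, P w := by
  intro w hw
  have h0 : P 0 := hiso 0 (Submodule.zero_mem _) (herm_zero_left 0)
  have hterm : ∀ i : Fin n, (w i • (Pi.single i 1 : Fin n → F)) ∈ coordSub F n k ∧
      P (w i • (Pi.single i 1 : Fin n → F)) := by
    intro i
    by_cases hi : i.val < k
    · obtain ⟨j, hjk, hij⟩ : ∃ j : Fin n, j.val < k ∧ i ≠ j := by
        by_cases h : i.val = 0
        · exact ⟨⟨1, by omega⟩, by simp; omega, fun hh => by simp [hh] at h⟩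
        · exact ⟨⟨0, by omega⟩, by simp; omega, fun hh => by simp [hh] at h⟩
      obtain ⟨p, p', a, b, ha, hp, hp', hpp, hp'p', hpp'⟩ := exists_hyp_pair (q := q) hF hij
      have hmi : (Pi.single i 1 : Fin n → F) ∈ coordSub F n k := single_mem_coordSub hi 1
      have hmj : (Pi.single j 1 : Fin n → F) ∈ coordSub F n k := single_mem_coordSub hjk 1
      have hmp : p ∈ coordSub F n k := by
        rw [hp]; exact Submodule.add_mem _ hmi (Submodule.smul_mem _ _ hmj)
      have hmp' : p' ∈ coordSub F n k := by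
        rw [hp']; exact Submodule.add_mem _ hmi (Submodule.smul_mem _ _ hmp)
      have heq : (w i • (Pi.single i 1 : Fin n → F)) = w i • p' + (-(w i * b)) • p := by
        rw [hp', smul_add, smul_smul, neg_smul, add_assoc, add_neg_cancel, add_zero]
      refine ⟨Submodule.smul_mem _ _ hmi, ?_⟩
      rw [heq]
      apply hadd _ _ (Submodule.smul_mem _ _ hmp') (Submodule.smul_mem _ _ hmp)
      · exact hiso _ (Submodule.smul_mem _ _ hmp')
          (by rw [herm_smul_left, herm_smul_right, hp'p', mul_zero, mul_zero])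
      · exact hiso _ (Submodule.smul_mem _ _ hmp)
          (by rw [herm_smul_left, herm_smul_right, hpp, mul_zero, mul_zero])
    · rw [hw i (by omega), zero_smul]
      exact ⟨Submodule.zero_mem _, h0⟩
  have hsum : w = ∑ i, w i • (Pi.single i 1 : Fin n → F) := by
    funext j
    rw [Finset.sum_apply, Finset.sum_eq_single j]
    · simp
    · intro b _ hb
      rw [Pi.smul_apply, Pi.single_eq_of_ne (Ne.symm hb), smul_zero]
    · intro h; exact absurd (Finset.mem_univ j) h
  have hall : ∀ s : Finset (Fin n), (∑ i ∈ s, w i • (Pi.single i 1 : Fin n → F)) ∈ coordSub F n k ∧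
      P (∑ i ∈ s, w i • (Pi.single i 1 : Fin n → F)) := by
    intro s
    classical
    induction s using Finset.induction_on with
    | empty => simpa using h0
    | insert a s ha ih =>
      rw [Finset.sum_insert ha]
      exact ⟨Submodule.add_mem _ (hterm a).1 ih.1, hadd _ _ (hterm a).1 ih.1 (hterm a).2 ih.2⟩
  rw [hsum]
  exact (hall _).2

theorem frame_orth (hF : Fintype.card F = q ^ 2) {e f : Fin n → F} (H : IsFrame q e f)
    {x : Fin n → F} (hx : x ∈ coordSub F n (n - 2)) :
    hermForm n F q e x = 0 ∧ hermForm n F q f x = 0 :=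
  ⟨herm_eq_zero_swap hF ((H.mem x).1 hx).1, herm_eq_zero_swap hF ((H.mem x).1 hx).2⟩

/-- The subring generated by squares is everything. -/
theorem forall_of_squares {P : F → Prop} (hadd : ∀ x y, P x → P y → P (x + y))
    (hneg : ∀ x, P x → P (-x)) (hsq : ∀ d : F, P (d ^ 2)) (c : F) : P c := by
  by_cases h2 : (2 : F) = 0
  · have hchar : CharP F 2 := by
      obtain ⟨p, hp⟩ := CharP.exists F
      have h := (CharP.cast_eq_zero_iff F p 2).1 (by exact_mod_cast h2)
      have hp1 : p ≠ 1 := CharP.char_ne_one F p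
      have : p = 2 := by
        rcases (Nat.dvd_prime Nat.prime_two).1 h with h | h
        · exact absurd h hp1
        · exact h
      rwa [this] at hp
    obtain ⟨r, hr⟩ := FiniteField.isSquare_of_char_two (F := F) (ringChar.eq F 2) c
    rw [hr, ← pow_two]
    exact hsq r
  · have : c = ((c + 1) / 2) ^ 2 + -((c - 1) / 2) ^ 2 := by
      field_simp
      ring
    rw [this]
    exact hadd _ _ (hsq _) (hneg _ (hsq _))

/-- Non trivial element of norm one whose square is not one. -/
theorem exists_norm_one_sq_ne (hF : Fintype.card F = q ^ 2) :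
    ∃ d : F, d * d ^ q = 1 ∧ d ^ 2 ≠ 1 := by
  classical
  have h2 := two_le hF
  by_contra hcon
  push Not at hcon
  have h1 : Nat.card {x : F // x * x ^ q = 1} ≤ 2 := by
    rw [Nat.card_eq_fintype_card, Fintype.card_subtype]
    refine le_trans (Finset.card_le_card (t := {1, -1}) ?_) Finset.card_le_two
    intro x hx
    rw [Finset.mem_filter] at hx
    have := hcon x hx.2
    rw [Finset.mem_insert, Finset.mem_singleton]
    have h3 : (x - 1) * (x + 1) = 0 := by linear_combination this
    rcases mul_eq_zero.1 h3 with h | h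
    · exact Or.inl (sub_eq_zero.1 h)
    · exact Or.inr (eq_neg_of_add_eq_zero_left h)
  rw [card_norm_eq_one hF] at h1
  omega

section Delta

variable {e f : Fin n → F}

theorem delta_iso (hF : Fintype.card F = q ^ 2) (H : IsFrame q e f)
    (δ : (coordSub F n (n - 2)) →+ F)
    (hδ : ∀ (l : SU n F q) (a b : F), act l e = a • e → act l f = b • f →
      ∀ w w2 : coordSub F n (n - 2), (w2 : Fin n → F) = a ^ q • act l (w : Fin n → F) →
        δ w2 = (a * a ^ q) * δ w)
    (y : coordSub F n (n - 2)) (hyy : hermForm n F q (y : Fin n → F) y = 0) : δ y = 0 := by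
  by_cases hy0 : (y : Fin n → F) = 0
  · have : y = 0 := Subtype.ext hy0
    rw [this, map_zero]
  -- a partner for `y`
  obtain ⟨z, hz, hzz, hyz, -⟩ := exists_iso_common hF y.2 y.2 hy0 hy0 hyy hyy
  have hzy : hermForm n F q z y ≠ 0 := by
    rw [herm_swap hF (y : Fin n → F) z]; exact pow_ne_zero _ hyz
  set x : Fin n → F := (hermForm n F q z y)⁻¹ • z with hx
  have hxS : x ∈ coordSub F n (n - 2) := Submodule.smul_mem _ _ hz
  have hxx : hermForm n F q x x = 0 := by
    rw [hx, herm_smul_left, herm_smul_right, hzz, mul_zero, mul_zero]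
  have hxy : hermForm n F q x y = 1 := by
    rw [hx, herm_smul_left, inv_mul_cancel₀ hzy]
  obtain ⟨d, hd1, hd2⟩ := exists_norm_one_sq_ne (F := F) hF
  have hd0 : d ≠ 0 := by
    rintro rfl
    rw [zero_mul] at hd1
    exact zero_ne_one hd1
  -- the torus element with `a = (d⁻¹)^q`, so that `(a⁻¹)^q (a^q)⁻¹ = d^2`
  set a : F := (d⁻¹) ^ q with ha
  have ha0 : a ≠ 0 := pow_ne_zero _ (inv_ne_zero hd0)
  obtain ⟨l, hle, hlf, hlx, hly⟩ := exists_torus_hyp hF H hxS y.2 hxx hyy hxy ha0
  have haq : a ^ q = d⁻¹ := by rw [ha, pow_q_pow_q hF]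
  have key : ∀ c : F, ∀ w w2 : coordSub F n (n - 2), (w : Fin n → F) = c • (y : Fin n → F) →
      (w2 : Fin n → F) = (d ^ 2 * c) • (y : Fin n → F) → δ w2 = δ w := by
    intro c w w2 hw hw2
    have h1 := hδ l a⁻¹ (a ^ q) hle hlf w w2 (by
      rw [hw2, hw, act_smul, hly, smul_smul, smul_smul, inv_pow, haq, inv_inv]
      congr 1; ring)
    rw [h1, inv_pow, haq, inv_inv]
    have h2 : a⁻¹ * d = 1 := by
      rw [ha, inv_pow, inv_inv, mul_comm]; exact hd1
    rw [h2, one_mul]
  have hd2' : d ^ 2 - 1 ≠ 0 := sub_ne_zero.2 hd2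
  have h3 := key ((d ^ 2 - 1)⁻¹) ((d ^ 2 - 1)⁻¹ • y) ((d ^ 2 * (d ^ 2 - 1)⁻¹) • y) rfl rfl
  have h4 : y = (d ^ 2 * (d ^ 2 - 1)⁻¹) • y - (d ^ 2 - 1)⁻¹ • y := by
    have : d ^ 2 * (d ^ 2 - 1)⁻¹ - (d ^ 2 - 1)⁻¹ = 1 := by
      field_simp
    have h5 := sub_smul (d ^ 2 * (d ^ 2 - 1)⁻¹) ((d ^ 2 - 1)⁻¹) y
    rw [this, one_smul] at h5
    exact h5
  rw [h4, map_sub, h3, sub_self]

omit [Fintype F] in
/-- In rank one the space is a line. -/
theorem coordSub_three (w : coordSub F 3 (3 - 2)) :
    (w : Fin 3 → F) = (w : Fin 3 → F) 0 • (Pi.single 0 1 : Fin 3 → F) := by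
  funext j
  rw [Pi.smul_apply]
  by_cases hj : j = 0
  · subst hj; simp
  · rw [Pi.single_eq_of_ne hj, smul_zero]
    exact w.2 j (by
      have : j.val ≠ 0 := fun h => hj (Fin.ext h)
      omega)

omit [Fintype F] in
theorem single_zero_mem : (Pi.single 0 1 : Fin 3 → F) ∈ coordSub F 3 (3 - 2) :=
  single_mem_coordSub (by simp) 1

theorem herm_single_zero (hF : Fintype.card F = q ^ 2) :
    hermForm 3 F q (Pi.single 0 1 : Fin 3 → F) (Pi.single 0 1) = 1 := by
  rw [herm_single_right hF, Pi.single_eq_same]; simp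

theorem exists_norm_one_three (hF : Fintype.card F = q ^ 2) (hq : q ≠ 2) :
    ∃ a : F, a ≠ 0 ∧ a * a ^ q = 1 ∧ a ^ (2 * q - 1) ≠ 1 := by
  classical
  have h2 := two_le hF
  -- a generator
  obtain ⟨g, hg⟩ := IsCyclic.exists_generator (α := Fˣ)
  have hord : orderOf g = (q + 1) * (q - 1) := by
    rw [← card_units_eq hF]; exact orderOf_eq_card_of_forall_mem_zpowers hg
  refine ⟨((g ^ (q - 1) : Fˣ) : F), Units.ne_zero _, ?_, ?_⟩
  · rw [← pow_succ', ← Units.val_pow_eq_pow_val, ← pow_mul, mul_comm (q - 1), ← hord,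
      pow_orderOf_eq_one, Units.val_one]
  · intro h
    rw [← Units.val_pow_eq_pow_val, ← pow_mul] at h
    have h1 : g ^ ((q - 1) * (2 * q - 1)) = 1 := Units.ext (by rw [h, Units.val_one])
    have h3 : (q + 1) * (q - 1) ∣ (q - 1) * (2 * q - 1) := by
      rw [← hord]; exact orderOf_dvd_of_pow_eq_one h1
    rw [mul_comm (q - 1)] at h3
    have h4 : (q + 1) ∣ (2 * q - 1) := Nat.dvd_of_mul_dvd_mul_right (by omega) h3
    have h5 : (q + 1) ∣ 3 := by
      have h6 : 2 * (q + 1) = (2 * q - 1) + 3 := by omega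
      have h7 : (q + 1) ∣ (2 * q - 1) + 3 := by rw [← h6]; exact Dvd.intro_left _ rfl
      exact (Nat.dvd_add_right h4).1 h7
    have h8 := Nat.le_of_dvd (by norm_num) h5
    omega

theorem delta_eq_zero (hF : Fintype.card F = q ^ 2) (hn : 3 ≤ n) (h32 : ¬ (n = 3 ∧ q = 2))
    (H : IsFrame q e f) (δ : (coordSub F n (n - 2)) →+ F)
    (hδ : ∀ (l : SU n F q) (a b : F), act l e = a • e → act l f = b • f →
      ∀ w w2 : coordSub F n (n - 2), (w2 : Fin n → F) = a ^ q • act l (w : Fin n → F) →
        δ w2 = (a * a ^ q) * δ w) : δ = 0 := by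
  rcases Nat.lt_or_ge 3 n with hn4 | hn3
  · -- `n ≥ 4`
    have key : ∀ w ∈ coordSub F n (n - 2), ∃ w' : coordSub F n (n - 2), (w' : Fin n → F) = w ∧
        δ w' = 0 := by
      apply coordSub_induction hF (k := n - 2) (P := fun w => ∃ w' : coordSub F n (n - 2),
        (w' : Fin n → F) = w ∧ δ w' = 0) (by omega) (by omega)
      · rintro x y hx hy ⟨x', rfl, hx'⟩ ⟨y', rfl, hy'⟩
        exact ⟨x' + y', rfl, by rw [map_add, hx', hy', add_zero]⟩
      · intro y hy hyy
        exact ⟨⟨y, hy⟩, rfl, delta_iso hF H δ hδ ⟨y, hy⟩ hyy⟩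
    ext w
    obtain ⟨w', hw', h⟩ := key w w.2
    have : w' = w := Subtype.ext hw'
    rw [← this, h]; rfl
  · obtain rfl : n = 3 := le_antisymm hn3 hn
    have hq : q ≠ 2 := fun h => h32 ⟨rfl, h⟩
    obtain ⟨a, ha0, ha1, ha2⟩ := exists_norm_one_three (F := F) hF hq
    obtain ⟨l, hle, hlf, hlz, -⟩ := exists_torus_unit hF H single_zero_mem
      (herm_single_zero hF) ha0
    set m : F := a ^ (2 * q - 1) with hm
    have hq2 := two_le hF
    have hma : a ^ q * (a ^ q * a⁻¹) = m := by
      rw [hm]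
      have h1 : a ^ q * a ^ q = a ^ (2 * q - 1) * a := by
        rw [← pow_add, ← pow_succ]; congr 1; omega
      rw [← mul_assoc, h1, mul_assoc, mul_inv_cancel₀ ha0, mul_one]
    have hm1 : m - 1 ≠ 0 := sub_ne_zero.2 ha2
    have key : ∀ w : coordSub F 3 (3 - 2), δ (m • w) = δ w := by
      intro w
      have h1 := hδ l a (a ^ q)⁻¹ hle hlf w (m • w) (by
        rw [Submodule.coe_smul, coordSub_three w, act_smul, hlz, smul_smul, smul_smul, smul_smul,
          ← hma]
        congr 1; ring)
      rw [h1, ha1, one_mul]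
    ext w
    have h4 : w = m • ((m - 1)⁻¹ • w) - (m - 1)⁻¹ • w := by
      have : m * (m - 1)⁻¹ - (m - 1)⁻¹ = 1 := by field_simp
      have h5 := sub_smul (m * (m - 1)⁻¹) ((m - 1)⁻¹) w
      rw [this, one_smul] at h5
      rw [smul_smul]
      exact h5
    rw [h4, map_sub, key, sub_self]; rfl

end Delta

end Cfsg.Agent.ClassicalGeometry.PSUAutDelta
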