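import Mathlib
import Cfsg.Agent.ClassicalGeometry.PSUAutSemi
import Cfsg.Agent.ClassicalGeometry.PSUAutDelta
import Cfsg.Agent.ClassicalGeometry.PSUAutCount

/-!
# Automorphisms of `PSU n F q`: an automorphism fixing the frame and inducing the identity is trivial
-/

set_option autoImplicit false

namespace Cfsg.Agent.ClassicalGeometry.PSUAutFix

open Cfsg Cfsg.Agent.LieClassical.HermBasic Cfsg.Agent.LieClassical.HermSiegel
  Cfsg.Agent.LieClassical.HermGen Cfsg.Agent.LieClassical.SUBasic Matrix
  Cfsg.Agent.ClassicalGeometry.PSUAutBasic Cfsg.Agent.ClassicalGeometry.PSUAutSylow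
  Cfsg.Agent.ClassicalGeometry.PSUAutUnip Cfsg.Agent.ClassicalGeometry.PSUAutPhi
  Cfsg.Agent.ClassicalGeometry.PSUAutSemi

variable {F : Type*} [Field F] [Fintype F] {q n : ℕ}

/-- Every trace zero element is of the form `c - c ^ q`. -/
theorem exists_sub_pow (hF : Fintype.card F = q ^ 2) {μ : F} (hμ : μ + μ ^ q = 0) :
    ∃ c : F, c - c ^ q = μ := by
  obtain ⟨τ, hτ⟩ := exists_trace_eq hF (c := (1 : F)) (one_pow _)
  refine ⟨μ * τ, ?_⟩
  have h1 : μ ^ q = -μ := (neg_eq_of_add_eq_zero_right hμ).symm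
  rw [mul_pow, h1]
  linear_combination μ * hτ

/-- An automorphism inducing the identity fixes the transvections for `e`. -/
theorem fix_transv {hF : Fintype.card F = q ^ 2} (hn : 3 ≤ n)
    {e f : Fin n → F} (H : IsFrame q e f) {β : MulAut (PSU n F q)}
    (hβ : Ind hF e β id) {μ : F} (hμ : μ + μ ^ q = 0) :
    β (pr n F q (transv hF e H.ee μ hμ)) = pr n F q (transv hF e H.ee μ hμ) := by
  obtain ⟨c, hc⟩ := exists_sub_pow hF hμ
  let i0 : Fin n := ⟨0, by omega⟩
  have hi0 : i0.val < n - 2 := by simp [i0]; omega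
  set w : coordSub F n (n - 2) := c • bas F n i0 with hw
  set w' : coordSub F n (n - 2) := bas F n i0 with hw'
  have hww' : hermForm n F q (w : Fin n → F) w' = c := by
    rw [hw, hw', Submodule.coe_smul, herm_smul_left, herm_bas hF hi0, mul_one]
  have hw'w : hermForm n F q (w' : Fin n → F) w = c ^ q := by
    rw [herm_swap hF (w : Fin n → F), hww']
  obtain ⟨ν, h⟩ := exists_isSiegel hF H w.2
  obtain ⟨ν', h'⟩ := exists_isSiegel hF H w'.2
  obtain ⟨ν1, h1, e1⟩ := hβ w ν h
  obtain ⟨ν2, h2, e2⟩ := hβ w' ν' h'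
  -- image of the transvection
  have h0 : IsSiegel q e ((0 : coordSub F n (n - 2)) : Fin n → F) μ := isSiegel_zero H.ee hμ
  obtain ⟨μ', h0', e0⟩ := hβ 0 μ h0
  -- the commutator relation
  have e3 : siegel hF e w ν h * siegel hF e w' ν' h' =
      siegel hF e w' ν' h' * siegel hF e w ν h * siegel hF e ((0 : coordSub F n (n - 2)) : Fin n → F) μ h0 := by
    rw [siegel_mul, siegel_mul, siegel_mul]
    apply siegel_congr hF _ _ rfl
    · rw [Submodule.coe_zero, add_zero, add_comm]
    · rw [Submodule.coe_zero, herm_zero_left, hww', hw'w, ← hc]; ring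
  have e4 : pr n F q (siegel hF e w ν1 h1) * pr n F q (siegel hF e w' ν2 h2) =
      pr n F q (siegel hF e w' ν2 h2) * pr n F q (siegel hF e w ν1 h1) *
        pr n F q (siegel hF e ((0 : coordSub F n (n - 2)) : Fin n → F) μ' h0') := by
    have e5 := congrArg (fun x => β (pr n F q x)) e3
    simp only [map_mul] at e5
    have e1' : β (pr n F q (siegel hF e w ν h)) = pr n F q (siegel hF e w ν1 h1) := e1
    have e2' : β (pr n F q (siegel hF e w' ν' h')) = pr n F q (siegel hF e w' ν2 h2) := e2
    have e0' : β (pr n F q (siegel hF e ((0 : coordSub F n (n - 2)) : Fin n → F) μ h0)) =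
      pr n F q (siegel hF e ((0 : coordSub F n (n - 2)) : Fin n → F) μ' h0') := e0
    rw [e1', e2', e0'] at e5
    exact e5
  have h1' : IsSiegel q e (w : Fin n → F) ν1 := h1
  have h2' : IsSiegel q e (w' : Fin n → F) ν2 := h2
  have h0'' : IsSiegel q e ((0 : coordSub F n (n - 2)) : Fin n → F) μ' := h0'
  rw [← map_mul, ← map_mul, ← map_mul, siegel_mul hF h1' h2', siegel_mul hF h2' h1',
    siegel_mul hF _ h0''] at e4
  have e6 := (pr_siegel_inj hF hn H (w + w').2 (w' + w + 0).2 _ _ e4).2
  rw [Submodule.coe_zero, herm_zero_left, hww', hw'w] at e6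
  have e7 : μ' = μ := by rw [← hc]; linear_combination -e6
  have e8 : β (pr n F q (siegel hF e ((0 : coordSub F n (n - 2)) : Fin n → F) μ h0)) =
      pr n F q (siegel hF e ((0 : coordSub F n (n - 2)) : Fin n → F) μ' h0') := e0
  have e9 : siegel hF e ((0 : coordSub F n (n - 2)) : Fin n → F) μ' h0' =
      transv hF e H.ee μ hμ := siegel_congr hF _ _ rfl rfl e7
  exact e8.trans (congrArg (pr n F q) e9)

/-- An automorphism inducing the identity, and fixing both points, fixes all Siegel transformations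
for `e`. -/
theorem fix_siegel {hF : Fintype.card F = q ^ 2} (hn : 3 ≤ n) (h32 : ¬ (n = 3 ∧ q = 2))
    {e f : Fin n → F} (H : IsFrame q e f) {β : MulAut (PSU n F q)}
    (hα : ∀ x, x ∈ RR hF e H.ee ↔ β x ∈ RR hF e H.ee)
    (hα' : ∀ x, x ∈ RR hF f H.ff ↔ β x ∈ RR hF f H.ff)
    (hβ : Ind hF e β id) {w : Fin n → F} {μ : F} (h : IsSiegel q e w μ) :
    β (pr n F q (siegel hF e w μ h)) = pr n F q (siegel hF e w μ h) := by
  -- the defect
  have key : ∀ w : coordSub F n (n - 2), ∃ d : F, ∀ (μ : F) (h : IsSiegel q e (w : Fin n → F) μ),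
      ∃ h' : IsSiegel q e (w : Fin n → F) (μ + d),
      β (pr n F q (siegel hF e w μ h)) = pr n F q (siegel hF e w (μ + d) h') := by
    intro w
    obtain ⟨μ0, h0⟩ := exists_isSiegel hF H w.2
    obtain ⟨μ1, h1, e1⟩ := hβ w μ0 h0
    refine ⟨μ1 - μ0, fun μ h => ?_⟩
    have h1' : IsSiegel q e (w : Fin n → F) μ1 := h1
    have htr : (μ - μ0) + (μ - μ0) ^ q = 0 := by
      have t1 := h.tr
      have t0 := h0.tr
      rw [sub_pow_q hF]
      linear_combination t1 - t0
    have h2 : IsSiegel q e (w : Fin n → F) (μ + (μ1 - μ0)) := by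
      refine ⟨h.iso, h.orth, ?_⟩
      have t1 := h.tr
      have t0 := h0.tr
      have t2 := h1'.tr
      rw [add_pow_q hF, sub_pow_q hF]
      linear_combination t1 - t0 + t2
    refine ⟨h2, ?_⟩
    have e2 : siegel hF e w μ h = siegel hF e w μ0 h0 * transv hF e H.ee (μ - μ0) htr := by
      rw [transv, siegel_mul]
      apply siegel_congr hF _ _ rfl
      · rw [add_zero]
      · rw [herm_zero_left]; ring
    have e1' : β (pr n F q (siegel hF e w μ0 h0)) = pr n F q (siegel hF e w μ1 h1') := e1
    rw [e2, map_mul, map_mul, fix_transv hn H hβ, e1', ← map_mul, transv, siegel_mul]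
    congr 1
    apply siegel_congr hF _ _ rfl
    · rw [add_zero]
    · rw [herm_zero_left]; ring
  choose d hd using key
  -- additivity
  have hadd : ∀ w w', d (w + w') = d w + d w' := by
    intro w w'
    obtain ⟨μ, h⟩ := exists_isSiegel hF H w.2
    obtain ⟨μ', h'⟩ := exists_isSiegel hF H w'.2
    obtain ⟨h1, e1⟩ := hd w μ h
    obtain ⟨h2, e2⟩ := hd w' μ' h'
    obtain ⟨h3, e3⟩ := hd (w + w') _ (h.mul hF h')
    have e4 : pr n F q (siegel hF e _ _ h3) = pr n F q (siegel hF e _ _ (h1.mul hF h2)) := by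
      rw [← e3, ← siegel_mul hF h1 h2, map_mul, ← e1, ← e2, ← map_mul, ← map_mul,
        siegel_mul hF h h']
      rfl
    have e5 := (pr_siegel_inj hF hn H (w + w').2 (w + w').2 h3 _ e4).2
    linear_combination e5
  have hzero : d 0 = 0 := by
    have := hadd 0 0
    rw [add_zero] at this
    exact (add_eq_left.1 this.symm)
  let δ : (coordSub F n (n - 2)) →+ F :=
    { toFun := d
      map_zero' := hzero
      map_add' := hadd }
  have hδ : δ = 0 := by
    apply PSUAutDelta.delta_eq_zero hF hn h32 H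
    intro l a b hle hlf w w2 hw
    change d w2 = (a * a ^ q) * d w
    obtain ⟨l', a', b', hle', hlf', hll⟩ := exists_stab_map hF hn H β hα hα' hle hlf
    have ha := eigen_ne_zero (frame_ne_zero H) hle
    have ha' := eigen_ne_zero (frame_ne_zero H) hle'
    -- the norms agree
    have hnorm : a' * a' ^ q = a * a ^ q := by
      obtain ⟨μ, hμ0, hμ⟩ := exists_trace_zero_ne hF
      have s0 : IsSiegel q e (0 : Fin n → F) μ := isSiegel_zero H.ee hμ
      obtain ⟨s1, t1⟩ := conj_siegel_stab hF hle ha s0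
      obtain ⟨s2, t2⟩ := conj_siegel_stab hF hle' ha' s0
      have hz : a ^ q • act l (0 : Fin n → F) = 0 := by rw [act_zero, smul_zero]
      have hz' : a' ^ q • act l' (0 : Fin n → F) = 0 := by rw [act_zero, smul_zero]
      have hμ1 : a * a ^ q * μ + (a * a ^ q * μ) ^ q = 0 := by
        rw [mul_pow, norm_pow_q hF, ← mul_add, hμ, mul_zero]
      have hμ2 : a' * a' ^ q * μ + (a' * a' ^ q * μ) ^ q = 0 := by
        rw [mul_pow, norm_pow_q hF, ← mul_add, hμ, mul_zero]
      have t3 : l * transv hF e H.ee μ hμ * l⁻¹ = transv hF e H.ee (a * a ^ q * μ) hμ1 := by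
        rw [transv, t1]
        exact siegel_congr hF _ _ rfl hz rfl
      have t4 : l' * transv hF e H.ee μ hμ * l'⁻¹ = transv hF e H.ee (a' * a' ^ q * μ) hμ2 := by
        rw [transv, t2]
        exact siegel_congr hF _ _ rfl hz' rfl
      have t5 : pr n F q (transv hF e H.ee (a' * a' ^ q * μ) hμ2) =
          pr n F q (transv hF e H.ee (a * a ^ q * μ) hμ1) := by
        rw [← fix_transv hn H hβ hμ1, ← t3, ← t4]
        simp only [map_mul, map_inv, hll]
        rw [fix_transv hn H hβ hμ]
      have t6 := (pr_siegel_inj hF hn H (coordSub F n (n - 2)).zero_mem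
        (coordSub F n (n - 2)).zero_mem _ _ t5).2
      exact mul_right_cancel₀ hμ0 t6
    -- the twisted actions agree
    have hww : (w2 : Fin n → F) = a' ^ q • act l' (w : Fin n → F) :=
      Ind.equivariant hn H hβ hle hle' hlf' hll hw
    obtain ⟨μ, h⟩ := exists_isSiegel hF H w.2
    obtain ⟨h1, e1⟩ := hd w μ h
    obtain ⟨h2, e2⟩ := conj_siegel_stab hF hle ha h
    obtain ⟨h3, e3⟩ := conj_siegel_stab hF hle' ha' h1
    have h2' : IsSiegel q e (w2 : Fin n → F) (a * a ^ q * μ) := by rw [hw]; exact h2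
    obtain ⟨h4, e4⟩ := hd w2 _ h2'
    have e5 : pr n F q (siegel hF e _ _ h4) = pr n F q (siegel hF e _ _ h3) := by
      rw [← e4, ← e3, siegel_congr hF h2' h2 rfl hw rfl, ← e2]
      simp only [map_mul, map_inv, hll, e1]
    have e6 := (pr_siegel_inj hF hn H w2.2
      (by rw [← hww]; exact w2.2) h4 h3 e5).2
    rw [hnorm] at e6
    linear_combination e6
  obtain ⟨w', hw', μ', h', e1⟩ := exists_normal hF H h
  rw [e1]
  obtain ⟨h2, e2⟩ := hd ⟨w', hw'⟩ μ' h'
  have h3 : d ⟨w', hw'⟩ = 0 := DFunLike.congr_fun hδ ⟨w', hw'⟩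
  have e2' : β (pr n F q (siegel hF e w' μ' h')) = pr n F q (siegel hF e w' _ h2) := e2
  rw [e2']
  congr 1
  exact siegel_congr hF _ _ rfl rfl (by rw [h3, add_zero])

/-- An automorphism inducing the identity, and fixing both points, is trivial. -/
theorem eq_one_of_ind {hF : Fintype.card F = q ^ 2} (hn : 3 ≤ n) (h32 : ¬ (n = 3 ∧ q = 2))
    {e f : Fin n → F} (H : IsFrame q e f) {β : MulAut (PSU n F q)}
    (hα : ∀ x, x ∈ RR hF e H.ee ↔ β x ∈ RR hF e H.ee)
    (hα' : ∀ x, x ∈ RR hF f H.ff ↔ β x ∈ RR hF f H.ff)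
    (hβ : Ind hF e β id) : β = 1 := by
  have he0 := frame_ne_zero H
  have hf0 := frame_ne_zero' hF H
  have hfe := frame_fe hF H
  -- points not orthogonal to `e`
  have opp : ∀ (u : Fin n → F) (hu : hermForm n F q u u = 0), hermForm n F q u e ≠ 0 →
      ∀ x, x ∈ RR hF u hu ↔ β x ∈ RR hF u hu := by
    intro u hu hue
    set c := (hermForm n F q u e)⁻¹ with hc
    have hc0 : c ≠ 0 := inv_ne_zero hue
    have hcu : hermForm n F q (c • u) (c • u) = 0 := by
      rw [herm_smul_left, herm_smul_right, hu]; ring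
    have hcue : hermForm n F q (c • u) e = 1 := by
      rw [herm_smul_left, hc, inv_mul_cancel₀ hue]
    obtain ⟨t, μ, hs, hact⟩ := exists_siegel_map hF H.ee (v := f) (v' := c • u)
      (by rw [H.ff, hcu]) (by rw [hfe, hcue]) (by rw [hfe]; exact one_ne_zero)
    have hfix := fix_siegel hn h32 H hα hα' hβ hs
    set s := siegel hF e (t • (c • u - f)) μ hs with hsdef
    have hsf : hermForm n F q (act s f) (act s f) = 0 := by rw [hact]; exact hcu
    intro x
    have h1 : RR hF u hu = RR hF (act s f) hsf := by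
      rw [← RR_le hF hu hc0 hcu]
      exact RR_congr hF _ _ hact.symm
    rw [h1, RR_conj hF H.ff, RR_conj hF H.ff, hα', map_mul, map_mul, map_inv, hfix]
  -- all points
  have all : ∀ (u : Fin n → F) (_ : u ≠ 0) (hu : hermForm n F q u u = 0),
      (RR hF u hu).map (β : PSU n F q →* PSU n F q) = RR hF u hu := by
    intro u hu0 hu
    have conv : (∀ x, x ∈ RR hF u hu ↔ β x ∈ RR hF u hu) →
        (RR hF u hu).map (β : PSU n F q →* PSU n F q) = RR hF u hu := by
      intro h
      ext y
      constructor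
      · rintro ⟨x, hx, rfl⟩
        exact (h x).1 hx
      · intro hy
        obtain ⟨x, rfl⟩ := β.surjective y
        exact ⟨x, (h x).2 hy, rfl⟩
    by_cases hue : hermForm n F q u e = 0
    swap
    · exact conv (opp u hu hue)
    by_cases hue' : ∃ c : F, u = c • e
    · obtain ⟨c, hc⟩ := hue'
      have hc0 : c ≠ 0 := by rintro rfl; exact hu0 (by rw [hc, zero_smul])
      apply conv
      have hce : hermForm n F q (c • e) (c • e) = 0 := by rw [← hc]; exact hu
      have h1 : RR hF u hu = RR hF e H.ee := by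
        rw [← RR_le hF H.ee hc0 hce]
        exact RR_congr hF _ _ hc
      rw [h1]
      exact hα
    -- the interesting case
    obtain ⟨u', hu'0, hu', hmap⟩ := exists_map_RR hF hn β hu0 hu
    rw [hmap]
    -- vectors opposite `e` and orthogonal to `u` are orthogonal to `u'`
    have h1 : ∀ v, hermForm n F q v v = 0 → hermForm n F q v e ≠ 0 → hermForm n F q v u = 0 →
        hermForm n F q v u' = 0 := by
      intro v hv hve hvu
      have hv0 : v ≠ 0 := by rintro rfl; exact hve (herm_zero_left _)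
      rw [← RR_commute_iff hF hn hv0 hu'0 hv hu']
      intro x hx y hy
      rw [← hmap] at hy
      obtain ⟨y, hy, rfl⟩ := hy
      obtain ⟨x, rfl⟩ := β.surjective x
      have h2 := (RR_commute_iff hF hn hv0 hu0 hv hu).2 hvu x ((opp v hv hve x).2 hx) y hy
      change β x * β y = β y * β x
      rw [← map_mul, h2, map_mul]
    -- a vector opposite `e` orthogonal to `u`
    obtain ⟨f', hff', huf', hfu'⟩ := exists_partner hF hu0 hu
    obtain ⟨x, hxu, hxe⟩ : ∃ x, hermForm n F q x u = 0 ∧ hermForm n F q x e ≠ 0 := by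
      by_contra hcon
      push Not at hcon
      have h2 := exists_smul_of_perp_perp hF huf' hfu' hcon
      set k := hermForm n F q e f' with hk
      apply hue'
      have hk0 : k ≠ 0 := by
        intro h0; rw [h0, zero_smul] at h2; exact he0 h2
      exact ⟨k⁻¹, by rw [h2, smul_smul, inv_mul_cancel₀ hk0, one_smul]⟩
    have heu : hermForm n F q e u = 0 := herm_eq_zero_swap hF hue
    obtain ⟨t, ht⟩ := exists_iso_correct hF H.ee (x := x)
      (fun h => hxe (herm_eq_zero_swap hF h))
    set v0 := x + t • e with hv0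
    have hv0e : hermForm n F q v0 e ≠ 0 := by
      rw [hv0, herm_add_left, herm_smul_left, H.ee, mul_zero, add_zero]; exact hxe
    have hv0u : hermForm n F q v0 u = 0 := by
      rw [hv0, herm_add_left, herm_smul_left, hxu, heu, mul_zero, add_zero]
    have hv0u' := h1 v0 ht hv0e hv0u
    -- `e ⟂ u'`
    have hev0 : hermForm n F q e v0 ≠ 0 := fun h => hv0e (herm_eq_zero_swap hF h)
    have h3 : ∀ w, hermForm n F q w u = 0 → hermForm n F q w e = 0 →
        ∃ t : F, hermForm n F q (v0 + w + t • e) u' = 0 := by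
      intro w hwu hwe
      obtain ⟨t, ht'⟩ := exists_iso_correct hF H.ee (x := v0 + w) (by
        rw [herm_add_right hF, herm_eq_zero_swap hF hwe, add_zero]; exact hev0)
      refine ⟨t, h1 _ ht' ?_ ?_⟩
      · rw [herm_add_left, herm_add_left, herm_smul_left, hwe, H.ee, mul_zero, add_zero, add_zero]
        exact hv0e
      · rw [herm_add_left, herm_add_left, herm_smul_left, hwu, heu, hv0u, mul_zero, add_zero,
          add_zero]
    have heu' : hermForm n F q e u' = 0 := by
      obtain ⟨μ, hμ0, hμ⟩ := exists_trace_zero_ne hF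
      -- `v0 + s e` isotropic, `s ≠ 0`
      set k := hermForm n F q e v0 with hk
      have hke : hermForm n F q v0 e = k ^ q := herm_swap hF e v0
      have hkq : k ^ q ≠ 0 := pow_ne_zero _ hev0
      have h4 : hermForm n F q (v0 + (μ / k) • e) (v0 + (μ / k) • e) = 0 := by
        simp only [herm_add_left, herm_add_right hF, herm_smul_left, herm_smul_right, H.ee, ht,
          ← hk, hke, div_pow]
        field_simp
        linear_combination (k * k ^ q) * hμ
      have h5 := h1 _ h4
        (by rw [herm_add_left, herm_smul_left, H.ee, mul_zero, add_zero]; exact hv0e)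
        (by rw [herm_add_left, herm_smul_left, hv0u, heu, mul_zero, add_zero])
      rw [herm_add_left, herm_smul_left, hv0u', zero_add] at h5
      exact (mul_eq_zero.1 h5).resolve_left (div_ne_zero hμ0 hev0)
    have h6 : ∀ w, hermForm n F q w u = 0 → hermForm n F q w e = 0 →
        hermForm n F q w u' = 0 := by
      intro w hwu hwe
      obtain ⟨t, ht'⟩ := h3 w hwu hwe
      rw [herm_add_left, herm_add_left, herm_smul_left, hv0u', heu', mul_zero, add_zero,
        zero_add] at ht'
      exact ht'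
    have h7 : ∀ w, hermForm n F q w u = 0 → hermForm n F q w u' = 0 := by
      intro w hwu
      set k := hermForm n F q w e / hermForm n F q v0 e with hk
      have h8 := h6 (w - k • v0) (by rw [herm_sub_left, herm_smul_left, hwu, hv0u]; ring)
        (by rw [herm_sub_left, herm_smul_left, hk, div_mul_cancel₀ _ hv0e, sub_self])
      rw [herm_sub_left, herm_smul_left, hv0u', mul_zero, sub_zero] at h8
      exact h8
    have h9 := exists_smul_of_perp_perp hF huf' hfu' h7
    symm
    rw [RR_eq_iff hF hn hu0 hu'0 hu hu']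
    refine ⟨_, ?_, h9⟩
    intro h0
    rw [h0, zero_smul] at h9
    exact hu'0 h9
  -- conclusion
  ext x
  obtain ⟨g, rfl⟩ := pr_surjective x
  obtain ⟨g', hg'⟩ := pr_surjective (β (pr n F q g))
  rw [MulAut.one_apply, ← hg']
  -- `g⁻¹ g'` fixes all isotropic points
  have h1 : ∀ u : Fin n → F, hermForm n F q u u = 0 → u ≠ 0 →
      ∃ κ : F, mat (g⁻¹ * g') *ᵥ u = κ • u := by
    intro u hu hu0
    have hgu : hermForm n F q (act g u) (act g u) = 0 := by rw [herm_act]; exact hu
    have hgu' : hermForm n F q (act g' u) (act g' u) = 0 := by rw [herm_act]; exact hu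
    have hgu0 : act g u ≠ 0 := fun h => hu0 ((act_eq_zero g).1 h)
    have hgu0' : act g' u ≠ 0 := fun h => hu0 ((act_eq_zero g').1 h)
    have h2 : RR hF (act g u) hgu = RR hF (act g' u) hgu' := by
      rw [← all (act g u) hgu0 hgu]
      ext y
      rw [RR_conj hF hu g' hgu', hg']
      constructor
      · rintro ⟨z, hz, rfl⟩
        have hz' := (RR_conj hF hu g hgu z).1 hz
        rw [← all u hu0 hu]
        exact ⟨_, hz', by
          change β ((pr n F q g)⁻¹ * z * pr n F q g) = (β (pr n F q g))⁻¹ * β z * β (pr n F q g)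
          rw [map_mul, map_mul, map_inv]⟩
      · intro hy
        obtain ⟨z, rfl⟩ := β.surjective y
        refine ⟨z, (RR_conj hF hu g hgu z).2 ?_, rfl⟩
        rw [← all u hu0 hu] at hy
        obtain ⟨z', hz', hz2⟩ := hy
        have h3 : β z' = β ((pr n F q g)⁻¹ * z * pr n F q g) := by
          rw [map_mul, map_mul, map_inv]; exact hz2
        rw [← β.injective h3]
        exact hz'
    obtain ⟨c, -, hc⟩ := (RR_eq_iff hF hn hgu0 hgu0' hgu hgu').1 h2
    refine ⟨c, ?_⟩
    change act (g⁻¹ * g') u = c • u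
    rw [act_mul, hc, act_smul, act_inv_act]
  have hne : mat (g⁻¹ * g') ≠ 0 := by
    intro h0
    have h2 := det_mat (g⁻¹ * g')
    have : Nonempty (Fin n) := ⟨⟨0, by omega⟩⟩
    rw [h0, Matrix.det_zero] at h2
    exact zero_ne_one h2
  obtain ⟨-, b, hb0, hb⟩ := PSUAutCount.scalar_of_isotropic hF hn hne (ψ := RingEquiv.refl F) h1
  have hcen : g⁻¹ * g' ∈ Subgroup.center (SU n F q) := by
    apply mem_center_of_act (c := b)
    intro v
    rw [act_def, hb, Matrix.smul_mulVec, Matrix.one_mulVec]
  exact (pr_eq_iff.2 hcen).symm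

end Cfsg.Agent.ClassicalGeometry.PSUAutFix
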