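import Mathlib
import Cfsg.Agent.ClassicalGeometry.PSUAutDelta

/-!
# The Schur lemma for the automorphisms of `PSU n F q`

An additive endomorphism of `coordSub F n (n - 2)` commuting with the action of the stabiliser of a frame
is a scalar.
-/

set_option autoImplicit false

namespace Cfsg.Agent.ClassicalGeometry.PSUAutSchur

open Cfsg Cfsg.Agent.LieClassical.HermBasic Cfsg.Agent.LieClassical.HermSiegel
  Cfsg.Agent.LieClassical.HermGen Cfsg.Agent.ClassicalGeometry.PSUAutBasic
  Cfsg.Agent.ClassicalGeometry.PSUAutTorus Cfsg.Agent.ClassicalGeometry.PSUAutDelta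

variable {F : Type*} [Field F] [Fintype F] {q n : ℕ}

/-- A subring of `F` containing all `(2q-1)`-th powers is everything, if `q ≠ 2`. -/
theorem subfield_eq_top (hF : Fintype.card F = q ^ 2) (hq : q ≠ 2) (K : Subfield F)
    (hK : ∀ a : F, a ≠ 0 → a ^ (2 * q - 1) ∈ K) : K = ⊤ := by
  classical
  have h2 := two_le hF
  have hfin : Finite K := inferInstance
  have : Fintype K := Fintype.ofFinite K
  set r := Fintype.card K with hr
  have hr1 : 1 < r := Fintype.one_lt_card
  -- `F` is a vector space over `K`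
  have hcard : Fintype.card F = r ^ Module.finrank K F := Module.card_eq_pow_finrank
  by_contra hne
  have hfr : 2 ≤ Module.finrank K F := by
    by_contra hcon
    have hpos : 0 < Module.finrank K F := Module.finrank_pos
    have h1 : Module.finrank K F = 1 := by omega
    rw [h1, pow_one] at hcard
    apply hne
    have h3 : Function.Bijective (Subtype.val : K → F) := by
      rw [Fintype.bijective_iff_injective_and_card]
      exact ⟨Subtype.val_injective, hcard.symm⟩
    rw [eq_top_iff]
    intro x _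
    obtain ⟨y, hy⟩ := h3.2 x
    rw [← hy]
    exact y.2
  have hrq : r ≤ q := by
    have h1 : r ^ 2 ≤ q ^ 2 := by
      rw [← hF, hcard]
      exact Nat.pow_le_pow_right (by omega) hfr
    exact (Nat.pow_le_pow_iff_left (by norm_num)).1 h1
  obtain ⟨g, hg⟩ := IsCyclic.exists_generator (α := Fˣ)
  have hord : orderOf g = (q + 1) * (q - 1) := by
    rw [← card_units_eq hF]; exact orderOf_eq_card_of_forall_mem_zpowers hg
  have h1 : g ^ ((2 * q - 1) * (r - 1)) = 1 := by
    apply Units.ext
    rw [pow_mul, Units.val_pow_eq_pow_val, Units.val_pow_eq_pow_val, Units.val_one]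
    have h3 := hK (g : F) (Units.ne_zero g)
    have h4 : (⟨(g : F) ^ (2 * q - 1), h3⟩ : K) ≠ 0 := by
      intro h
      exact pow_ne_zero _ (Units.ne_zero g) (congrArg Subtype.val h)
    have h5 := FiniteField.pow_card_sub_one_eq_one (⟨(g : F) ^ (2 * q - 1), h3⟩ : K) h4
    exact congrArg Subtype.val h5
  have h3 : (q + 1) * (q - 1) ∣ (2 * q - 1) * (r - 1) := by
    rw [← hord]; exact orderOf_dvd_of_pow_eq_one h1
  have h4 : (q + 1) * (q - 1) ∣ 3 * (r - 1) := by
    obtain ⟨s, hs⟩ : ∃ s, r = s + 1 := ⟨r - 1, by omega⟩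
    rw [hs] at h3 ⊢
    obtain ⟨m, rfl⟩ : ∃ m, q = m + 2 := ⟨q - 2, by omega⟩
    rw [show 2 * (m + 2) - 1 = 2 * m + 3 by omega, show m + 2 - 1 = m + 1 by omega,
      Nat.add_sub_cancel] at h3
    rw [show m + 2 - 1 = m + 1 by omega, Nat.add_sub_cancel]
    have h5 : (m + 2 + 1) * (m + 1) ∣ (2 * m + 3) * s * (2 * m + 5) := Dvd.dvd.mul_right h3 _
    have h6 : (2 * m + 3) * s * (2 * m + 5) = (m + 2 + 1) * (m + 1) * (4 * s) + 3 * s := by ring
    rw [h6] at h5
    exact (Nat.dvd_add_right (Dvd.intro _ rfl)).1 h5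
  have h5 := Nat.le_of_dvd (by omega) h4
  have h6 : (q + 1) * (q - 1) ≤ 3 * (q - 1) := h5.trans (by omega)
  have h7 : q + 1 ≤ 3 := Nat.le_of_mul_le_mul_right h6 (by omega)
  omega

section Schur

variable {e f : Fin n → F}

/-- Equivariance under transvections. -/
theorem map_transv (hF : Fintype.card F = q ^ 2) (H : IsFrame q e f)
    (T : (coordSub F n (n - 2)) →+ (coordSub F n (n - 2)))
    (hT : ∀ (l : SU n F q) (a b : F), act l e = a • e → act l f = b • f →
      ∀ w w2 : coordSub F n (n - 2), (w2 : Fin n → F) = a ^ q • act l (w : Fin n → F) →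
        (T w2 : Fin n → F) = a ^ q • act l (T w : Fin n → F))
    {x : coordSub F n (n - 2)} (hxx : hermForm n F q (x : Fin n → F) x = 0) {μ : F}
    (hμ : μ + μ ^ q = 0) (v : coordSub F n (n - 2)) :
    (T ((μ * hermForm n F q (v : Fin n → F) x) • x) : Fin n → F) =
      (μ * hermForm n F q (T v : Fin n → F) x) • (x : Fin n → F) := by
  have ho := frame_orth hF H x.2
  have h1 := hT (transv hF (x : Fin n → F) hxx μ hμ) 1 1
    (by rw [act_transv, ho.1, mul_zero, zero_smul, add_zero, one_smul])
    (by rw [act_transv, ho.2, mul_zero, zero_smul, add_zero, one_smul])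
    v (v + (μ * hermForm n F q (v : Fin n → F) x) • x)
    (by rw [one_pow, one_smul, act_transv]; rfl)
  rw [one_pow, one_smul, act_transv, map_add, Submodule.coe_add] at h1
  exact add_left_cancel h1

/-- On an isotropic line `T` is a scalar. -/
theorem exists_scalar_iso (hF : Fintype.card F = q ^ 2) (H : IsFrame q e f)
    (T : (coordSub F n (n - 2)) →+ (coordSub F n (n - 2)))
    (hT : ∀ (l : SU n F q) (a b : F), act l e = a • e → act l f = b • f →
      ∀ w w2 : coordSub F n (n - 2), (w2 : Fin n → F) = a ^ q • act l (w : Fin n → F) →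
        (T w2 : Fin n → F) = a ^ q • act l (T w : Fin n → F))
    (y : coordSub F n (n - 2)) (hy0 : (y : Fin n → F) ≠ 0)
    (hyy : hermForm n F q (y : Fin n → F) y = 0) :
    ∃ τ : F, ∀ c : F, T (c • y) = (c * τ) • y := by
  -- a partner for `y`
  obtain ⟨z, hz, hzz, hyz, -⟩ := exists_iso_common hF y.2 y.2 hy0 hy0 hyy hyy
  have hzy : hermForm n F q z y ≠ 0 := by
    rw [herm_swap hF (y : Fin n → F) z]; exact pow_ne_zero _ hyz
  set x : Fin n → F := (hermForm n F q z y)⁻¹ • z with hx
  have hxS : x ∈ coordSub F n (n - 2) := Submodule.smul_mem _ _ hz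
  have hxx : hermForm n F q x x = 0 := by
    rw [hx, herm_smul_left, herm_smul_right, hzz, mul_zero, mul_zero]
  have hxy : hermForm n F q x y = 1 := by
    rw [hx, herm_smul_left, inv_mul_cancel₀ hzy]
  -- `T` maps the line to itself
  obtain ⟨μ, hμ0, hμ⟩ := exists_trace_zero_ne (F := F) hF
  have hline : ∀ c : F, ∃ τ : F, (T (c • y) : Fin n → F) = τ • (y : Fin n → F) := by
    intro c
    have h1 := map_transv hF H T hT hyy hμ ((c * μ⁻¹) • ⟨x, hxS⟩)
    rw [Submodule.coe_smul, herm_smul_left, hxy, mul_one, mul_comm c, mul_inv_cancel_left₀ hμ0] at h1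
    exact ⟨_, h1⟩
  -- squares
  have hsq : ∀ d c : F, (T ((d ^ 2 * c) • y) : Fin n → F) = d ^ 2 • (T (c • y) : Fin n → F) := by
    intro d c
    by_cases hd0 : d = 0
    · rw [hd0, zero_pow two_ne_zero, zero_mul, zero_smul, zero_smul, map_zero]; rfl
    set a : F := (d⁻¹) ^ q with ha
    have ha0 : a ≠ 0 := pow_ne_zero _ (inv_ne_zero hd0)
    obtain ⟨l, hle, hlf, hlx, hly⟩ := exists_torus_hyp hF H hxS y.2 hxx hyy hxy ha0
    have haq : a ^ q = d⁻¹ := by rw [ha, pow_q_pow_q hF]
    obtain ⟨τ, hτ⟩ := hline c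
    have h1 := hT l a⁻¹ (a ^ q) hle hlf (c • y) ((d ^ 2 * c) • y) (by
      rw [Submodule.coe_smul, Submodule.coe_smul, act_smul, hly, smul_smul, smul_smul, inv_pow,
        haq, inv_inv]
      congr 1; ring)
    rw [h1, hτ, act_smul, hly, smul_smul, smul_smul, smul_smul, inv_pow, haq, inv_inv]
    congr 1; ring
  have hall : ∀ k c : F, (T ((k * c) • y) : Fin n → F) = k • (T (c • y) : Fin n → F) := by
    intro k
    apply forall_of_squares (P := fun k : F => ∀ c : F,
      (T ((k * c) • y) : Fin n → F) = k • (T (c • y) : Fin n → F))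
    · intro k1 k2 h1 h2 c
      rw [add_mul, add_smul, map_add, Submodule.coe_add, h1, h2, ← add_smul]
    · intro k1 h1 c
      have e1 : (-(k1 * c)) • y = -((k1 * c) • y) := neg_smul (k1 * c) y
      rw [neg_mul, e1, map_neg, Submodule.coe_neg, h1, neg_smul]
    · exact hsq
  obtain ⟨τ, hτ⟩ := hline 1
  refine ⟨τ, fun c => Subtype.ext ?_⟩
  have h1 := hall c 1
  rw [mul_one, hτ, smul_smul] at h1
  rw [h1]; rfl

theorem schur (hF : Fintype.card F = q ^ 2) (hn : 3 ≤ n) (h32 : ¬ (n = 3 ∧ q = 2))
    (H : IsFrame q e f) (T : (coordSub F n (n - 2)) →+ (coordSub F n (n - 2)))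
    (hT : ∀ (l : SU n F q) (a b : F), act l e = a • e → act l f = b • f →
      ∀ w w2 : coordSub F n (n - 2), (w2 : Fin n → F) = a ^ q • act l (w : Fin n → F) →
        (T w2 : Fin n → F) = a ^ q • act l (T w : Fin n → F)) :
    ∃ c : F, ∀ w, T w = c • w := by
  rcases Nat.lt_or_ge 3 n with hn4 | hn3
  · -- `n ≥ 4`
    have hlink : ∀ (x y : coordSub F n (n - 2)) (σ τ : F), (x : Fin n → F) ≠ 0 →
        hermForm n F q (x : Fin n → F) x = 0 → hermForm n F q (x : Fin n → F) y ≠ 0 →
        (∀ c : F, T (c • x) = (c * τ) • x) → (∀ c : F, T (c • y) = (c * σ) • y) → τ = σ := by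
      intro x y σ τ hx0 hxx hxy hτ hσ
      obtain ⟨μ, hμ0, hμ⟩ := exists_trace_zero_ne (F := F) hF
      have hyx : hermForm n F q (y : Fin n → F) x ≠ 0 := by
        rw [herm_swap hF (x : Fin n → F) y]; exact pow_ne_zero _ hxy
      have h1 := map_transv hF H T hT hxx hμ y
      have h2 := hσ 1
      rw [one_smul, one_mul] at h2
      rw [hτ, h2, Submodule.coe_smul, Submodule.coe_smul, herm_smul_left] at h1
      have h3 : (μ * hermForm n F q (y : Fin n → F) x * τ -
          μ * (σ * hermForm n F q (y : Fin n → F) x)) • (x : Fin n → F) = 0 := by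
        rw [sub_smul, h1, sub_self]
      rcases smul_eq_zero.1 h3 with h4 | h4
      · have h5 : μ * hermForm n F q (y : Fin n → F) x * (τ - σ) = 0 := by
          linear_combination h4
        rcases mul_eq_zero.1 h5 with h6 | h6
        · exact absurd h6 (mul_ne_zero hμ0 hyx)
        · exact sub_eq_zero.1 h6
      · exact absurd h4 hx0
    -- a first isotropic vector
    obtain ⟨p, p', a, b, ha, hp, hp', hpp, hp'p', hpp'⟩ :=
      exists_hyp_pair (q := q) (n := n) hF (i := ⟨0, by omega⟩) (j := ⟨1, by omega⟩) (by simp)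
    have hpS : p ∈ coordSub F n (n - 2) := by
      rw [hp]
      exact Submodule.add_mem _ (single_mem_coordSub (by simp; omega) 1)
        (Submodule.smul_mem _ _ (single_mem_coordSub (by simp; omega) 1))
    have hp0 : p ≠ 0 := by
      rintro h
      rw [h, herm_zero_left] at hpp'
      exact zero_ne_one hpp'
    obtain ⟨τ, hτ⟩ := exists_scalar_iso hF H T hT ⟨p, hpS⟩ hp0 hpp
    have hiso : ∀ y : coordSub F n (n - 2), hermForm n F q (y : Fin n → F) y = 0 →
        T y = τ • y := by
      intro y hyy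
      by_cases hy0 : (y : Fin n → F) = 0
      · have : y = 0 := Subtype.ext hy0
        rw [this, map_zero, smul_zero]
      obtain ⟨σ, hσ⟩ := exists_scalar_iso hF H T hT y hy0 hyy
      have hστ : σ = τ := by
        by_cases hpy : hermForm n F q p y = 0
        · obtain ⟨z, hz, hzz, hpz, hyz⟩ := exists_iso_common hF hpS y.2 hp0 hy0 hpp hpy
          have hz0 : z ≠ 0 := by
            rintro rfl
            exact hpz (herm_zero_right hF _)
          obtain ⟨ρ, hρ⟩ := exists_scalar_iso hF H T hT ⟨z, hz⟩ hz0 hzz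
          rw [hlink y ⟨z, hz⟩ ρ σ hy0 hyy hyz hσ hρ, hlink ⟨p, hpS⟩ ⟨z, hz⟩ ρ τ hp0 hpp hpz hτ hρ]
        · exact (hlink ⟨p, hpS⟩ y σ τ hp0 hpp hpy hτ hσ).symm
      have := hσ 1
      rw [one_smul, one_mul] at this
      rw [this, hστ]
    refine ⟨τ, ?_⟩
    have key : ∀ w ∈ coordSub F n (n - 2), ∃ w' : coordSub F n (n - 2), (w' : Fin n → F) = w ∧
        T w' = τ • w' := by
      apply coordSub_induction hF (k := n - 2) (P := fun w => ∃ w' : coordSub F n (n - 2),
        (w' : Fin n → F) = w ∧ T w' = τ • w') (by omega) (by omega)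
      · rintro x y hx hy ⟨x', rfl, hx'⟩ ⟨y', rfl, hy'⟩
        exact ⟨x' + y', rfl, by rw [map_add, hx', hy', smul_add]⟩
      · intro y hy hyy
        exact ⟨⟨y, hy⟩, rfl, hiso ⟨y, hy⟩ hyy⟩
    intro w
    obtain ⟨w', hw', h⟩ := key w w.2
    have : w' = w := Subtype.ext hw'
    rw [← this, h]
  · obtain rfl : n = 3 := le_antisymm hn3 hn
    have hq : q ≠ 2 := fun h => h32 ⟨rfl, h⟩
    have hq2 := two_le hF
    -- the subfield of scalars commuting with `T`
    let K : Subfield F :=
      { carrier := {k | ∀ w, T (k • w) = k • T w}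
        mul_mem' := fun {k1 k2} h1 h2 w => by rw [mul_smul, h1, h2, ← mul_smul]
        one_mem' := fun w => by rw [one_smul, one_smul]
        add_mem' := fun {k1 k2} h1 h2 w => by rw [add_smul, map_add, h1, h2, ← add_smul]
        zero_mem' := fun w => by rw [zero_smul, zero_smul, map_zero]
        neg_mem' := fun {k} h w => by
          have e1 : (-k) • w = -(k • w) := neg_smul k w
          have e2 : (-k) • T w = -(k • T w) := neg_smul k (T w)
          rw [e1, map_neg, h, e2]
        inv_mem' := fun k h w => by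
          by_cases hk : k = 0
          · rw [hk, inv_zero, zero_smul, zero_smul, map_zero]
          · have h1 := h (k⁻¹ • w)
            rw [smul_smul, mul_inv_cancel₀ hk, one_smul] at h1
            rw [h1, smul_smul, inv_mul_cancel₀ hk, one_smul] }
    have hK : K = ⊤ := by
      apply subfield_eq_top hF hq
      intro a ha0
      obtain ⟨l, hle, hlf, hlz, -⟩ := exists_torus_unit hF H single_zero_mem
        (herm_single_zero hF) ha0
      set m : F := a ^ (2 * q - 1) with hm
      have hma : a ^ q * (a ^ q * a⁻¹) = m := by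
        rw [hm]
        have h1 : a ^ q * a ^ q = a ^ (2 * q - 1) * a := by
          rw [← pow_add, ← pow_succ]; congr 1; omega
        rw [← mul_assoc, h1, mul_assoc, mul_inv_cancel₀ ha0, mul_one]
      have hact : ∀ w : coordSub F 3 (3 - 2), a ^ q • act l (w : Fin 3 → F) =
          m • (w : Fin 3 → F) := by
        intro w
        rw [coordSub_three w, act_smul, hlz, smul_smul, smul_smul, smul_smul, ← hma]
        congr 1; ring
      intro w
      have h1 := hT l a (a ^ q)⁻¹ hle hlf w (m • w) (by rw [Submodule.coe_smul, hact])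
      rw [hact] at h1
      exact Subtype.ext h1
    have hlin : ∀ (k : F) (w : coordSub F 3 (3 - 2)), T (k • w) = k • T w := by
      intro k
      have : k ∈ K := by rw [hK]; trivial
      exact this
    let z : coordSub F 3 (3 - 2) := ⟨Pi.single 0 1, single_zero_mem⟩
    have hz : ∀ w : coordSub F 3 (3 - 2), w = (w : Fin 3 → F) 0 • z :=
      fun w => Subtype.ext (coordSub_three w)
    refine ⟨(T z : Fin 3 → F) 0, fun w => ?_⟩
    conv_lhs => rw [hz w, hlin, hz (T z)]
    conv_rhs => rw [hz w]
    rw [smul_smul, smul_smul, mul_comm]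

end Schur

end Cfsg.Agent.ClassicalGeometry.PSUAutSchur
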