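import Mathlib
import Cfsg.Agent.ClassicalGeometry.PSUAutExt
import Cfsg.Agent.ClassicalGeometry.PSUAutFix
import Cfsg.Agent.ClassicalGeometry.PSUAutSchur

/-!
# Automorphisms of `PSU n F q` are induced by semi-isometries
-/

set_option autoImplicit false

namespace Cfsg.Agent.ClassicalGeometry.PSUAutMain

open Cfsg Cfsg.Agent.LieClassical.HermBasic Cfsg.Agent.LieClassical.HermSiegel
  Cfsg.Agent.LieClassical.HermGen Cfsg.Agent.LieClassical.SUBasic Matrix
  Cfsg.Agent.ClassicalGeometry.PSUAutBasic Cfsg.Agent.ClassicalGeometry.PSUAutSylow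
  Cfsg.Agent.ClassicalGeometry.PSUAutUnip Cfsg.Agent.ClassicalGeometry.PSUAutPhi
  Cfsg.Agent.ClassicalGeometry.PSUAutSemi Cfsg.Agent.ClassicalGeometry.PSUAutExt
  Cfsg.Agent.ClassicalGeometry.PSUAutFix

open Cfsg.Agent.ClassicalGeometry.PSUAutCount (gm semiConj toAut herm_gm act_semiConj herm_semi
  gm_inv_mulVec gm_mulVec_inv)

variable {F : Type*} [Field F] [Fintype F] {q n : ℕ}

omit [Fintype F] in
theorem toAut_pr' (A : GU n F q) (ρ : F ≃+* F) (g : SU n F q) :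
    toAut A ρ (pr n F q g) = pr n F q (semiConj A ρ g) := rfl

/-- `toAut` on the transvection groups. -/
theorem toAut_RR (hF : Fintype.card F = q ^ 2) (A : GU n F q) (ρ : F ≃+* F) {u u' : Fin n → F}
    (hu : hermForm n F q u u = 0) (hu' : hermForm n F q u' u' = 0)
    (h : (gm A *ᵥ fun i => ρ (u i)) = u') (x : PSU n F q) :
    x ∈ RR hF u hu ↔ toAut A ρ x ∈ RR hF u' hu' := by
  subst h
  have h0 : (gm A *ᵥ fun i => ρ ((0 : Fin n → F) i)) = 0 := by
    have : (fun i => ρ ((0 : Fin n → F) i)) = 0 := by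
      funext i; exact map_zero ρ
    rw [this, mulVec_zero]
  have key : ∀ μ (hμ : μ + μ ^ q = 0) (hμ' : ρ μ + ρ μ ^ q = 0),
      toAut A ρ (pr n F q (transv hF u hu μ hμ)) = pr n F q (transv hF _ hu' (ρ μ) hμ') := by
    intro μ hμ hμ'
    rw [toAut_pr', transv, semiConj_siegel, transv]
    congr 1
    exact siegel_congr hF _ _ rfl h0 rfl
  constructor
  · intro hx
    obtain ⟨μ, hμ, rfl⟩ := mem_RR.1 hx
    have hμ' : ρ μ + ρ μ ^ q = 0 := by rw [← map_pow, ← map_add, hμ, map_zero]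
    exact mem_RR.2 ⟨_, hμ', key μ hμ hμ'⟩
  · intro hx
    obtain ⟨ν, hν, h1⟩ := mem_RR.1 hx
    have hμ : ρ.symm ν + ρ.symm ν ^ q = 0 := by rw [← map_pow, ← map_add, hν, map_zero]
    have h2 : ρ (ρ.symm ν) = ν := ρ.apply_symm_apply ν
    have h3 := key (ρ.symm ν) hμ (by rw [h2]; exact hν)
    have h4 : pr n F q (transv hF _ hu' (ρ (ρ.symm ν)) (by rw [h2]; exact hν)) =
        pr n F q (transv hF _ hu' ν hν) := by
      congr 1
      exact siegel_congr hF _ _ rfl rfl h2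
    rw [h4, ← h1] at h3
    rw [← (toAut A ρ).injective h3]
    exact mem_RR.2 ⟨_, hμ, rfl⟩

/-- Automorphisms fixing the two points of a frame. -/
theorem exists_toAut_of_fix (hF : Fintype.card F = q ^ 2) (hn : 3 ≤ n) (h32 : ¬ (n = 3 ∧ q = 2))
    {e f : Fin n → F} (H : IsFrame q e f) (α : MulAut (PSU n F q))
    (hα : ∀ x, x ∈ RR hF e H.ee ↔ α x ∈ RR hF e H.ee)
    (hα' : ∀ x, x ∈ RR hF f H.ff ↔ α x ∈ RR hF f H.ff) :
    ∃ (A : GU n F q) (ρ : F ≃+* F), α = toAut A ρ := by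
  obtain ⟨φ, hφ, hφ'⟩ := exists_ind_equiv hF hn H α hα
  obtain ⟨ρ, hρ⟩ := exists_semilinear hF hn H
    (fun T hT => PSUAutSchur.schur hF hn h32 H T hT) α hα hα' hφ hφ'
  obtain ⟨κ, hκ0, hκq, hform⟩ := exists_scale hn H hφ hρ
  obtain ⟨A, t, ht0, ht, hAe, hAf, hAw⟩ := exists_GU hF H φ ρ hρ hκ0 hκq hform
  have htq : t ^ q ≠ 0 := pow_ne_zero _ ht0
  have hc : t⁻¹ * κ = t ^ q := by rw [← ht, inv_mul_cancel_left₀ ht0]
  rw [hc] at hAe
  set γ := toAut A ρ with hγ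
  have hqe : hermForm n F q (t ^ q • e) (t ^ q • e) = 0 := by
    rw [herm_smul_left, herm_smul_right, H.ee]; ring
  have hqf : hermForm n F q (t⁻¹ • f) (t⁻¹ • f) = 0 := by
    rw [herm_smul_left, herm_smul_right, H.ff]; ring
  have hγe : ∀ x, x ∈ RR hF e H.ee ↔ γ x ∈ RR hF e H.ee := by
    intro x
    rw [toAut_RR hF A ρ H.ee hqe hAe, RR_le hF H.ee htq hqe]
  have hγf : ∀ x, x ∈ RR hF f H.ff ↔ γ x ∈ RR hF f H.ff := by
    intro x
    rw [toAut_RR hF A ρ H.ff hqf hAf, RR_le hF H.ff (inv_ne_zero ht0) hqf]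
  -- `γ` induces `φ`
  have hγφ : Ind hF e γ φ := by
    intro w μ h
    have h1 : IsSiegel q (t ^ q • e) (t⁻¹ • (φ w : Fin n → F)) (ρ μ) := by
      have := isSiegel_semi A ρ h
      rwa [hAe, hAw] at this
    have h2 : (t ^ q) ^ q • t⁻¹ • (φ w : Fin n → F) = φ w := by
      rw [pow_q_pow_q hF, smul_smul, mul_inv_cancel₀ ht0, one_smul]
    have h3 : IsSiegel q e (φ w : Fin n → F) (t ^ q * (t ^ q) ^ q * ρ μ) := by
      refine ⟨H.ee, ((H.mem _).1 (φ w).2).1, ?_⟩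
      have h4 := h1.tr
      have h5 : hermForm n F q (φ w : Fin n → F) (φ w) =
          (t * t ^ q) * hermForm n F q (t⁻¹ • (φ w : Fin n → F)) (t⁻¹ • (φ w : Fin n → F)) := by
        rw [herm_smul_left, herm_smul_right, inv_pow]
        field_simp
      rw [h5, pow_q_pow_q hF, mul_pow, mul_pow, pow_q_pow_q hF]
      linear_combination (t * t ^ q) * h4
    refine ⟨_, h3, ?_⟩
    rw [hγ, toAut_pr', semiConj_siegel]
    congr 1
    apply ext_act
    intro v
    rw [act_siegel, act_siegel, hAe, hAw]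
    simp only [herm_smul_right, inv_pow, pow_q_pow_q hF]
    funext i
    simp only [Pi.add_apply, Pi.smul_apply, smul_eq_mul]
    field_simp
  obtain ⟨ψ, hψ, hψ'⟩ := exists_ind_equiv hF hn H γ hγe
  have hψφ : (ψ : coordSub F n (n - 2) → coordSub F n (n - 2)) = φ := Ind.unique hn H hψ hγφ
  have hβ : Ind hF e (γ⁻¹ * α) id := by
    have h1 := hψ'.mul hφ
    have h2 : (ψ.symm : coordSub F n (n - 2) → coordSub F n (n - 2)) ∘ φ = id := by
      funext w
      rw [← hψφ]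
      exact ψ.symm_apply_apply w
    rwa [h2] at h1
  have hβe : ∀ x, x ∈ RR hF e H.ee ↔ (γ⁻¹ * α) x ∈ RR hF e H.ee := by
    intro x
    rw [hα, hγe ((γ⁻¹ * α) x), MulAut.mul_apply, MulAut.apply_inv_self]
  have hβf : ∀ x, x ∈ RR hF f H.ff ↔ (γ⁻¹ * α) x ∈ RR hF f H.ff := by
    intro x
    rw [hα', hγf ((γ⁻¹ * α) x), MulAut.mul_apply, MulAut.apply_inv_self]
  have hone := eq_one_of_ind hn h32 H hβe hβf hβ
  exact ⟨A, ρ, (inv_mul_eq_one.1 hone).symm⟩

/-- Every automorphism of `PSU n F q` is induced by a semi-isometry. -/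
theorem exists_toAut (hF : Fintype.card F = q ^ 2) (hn : 3 ≤ n) (h32 : ¬ (n = 3 ∧ q = 2))
    (α : MulAut (PSU n F q)) : ∃ (A : GU n F q) (ρ : F ≃+* F), α = toAut A ρ := by
  obtain ⟨e, f, H⟩ := exists_frame (F := F) (q := q) (n := n) hF (by omega)
  have he0 := frame_ne_zero H
  have hf0 := frame_ne_zero' hF H
  obtain ⟨u, hu0, hu, hαu⟩ := exists_map_RR hF hn α he0 H.ee
  obtain ⟨v, hv0, hv, hαv⟩ := exists_map_RR hF hn α hf0 H.ff
  have huv : hermForm n F q u v ≠ 0 := by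
    intro h0
    have h1 := (RR_commute_iff hF hn hu0 hv0 hu hv).2 h0
    have h2 : hermForm n F q e f = 0 := by
      rw [← RR_commute_iff hF hn he0 hf0 H.ee H.ff]
      intro x hx y hy
      have h3 := h1 (α x) (by rw [← hαu]; exact ⟨x, hx, rfl⟩) (α y)
        (by rw [← hαv]; exact ⟨y, hy, rfl⟩)
      rw [← map_mul, ← map_mul] at h3
      exact α.injective h3
    rw [H.ef] at h2
    exact one_ne_zero h2
  -- rescale `v`
  set c := ((hermForm n F q u v)⁻¹) ^ q with hc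
  have hc0 : c ≠ 0 := pow_ne_zero _ (inv_ne_zero huv)
  have hcv : hermForm n F q (c • v) (c • v) = 0 := by
    rw [herm_smul_left, herm_smul_right, hv]; ring
  have hucv : hermForm n F q u (c • v) = 1 := by
    rw [herm_smul_right, hc, pow_q_pow_q hF, inv_mul_cancel₀ huv]
  obtain ⟨g, -, hgu, hgv⟩ := exists_map_hyp hF hn le_rfl (mem_coordSub_top u)
    (mem_coordSub_top (c • v)) (mem_coordSub_top e) (mem_coordSub_top f) hu hcv hucv H.ee H.ff H.ef
  set α₁ : MulAut (PSU n F q) := MulAut.conj (pr n F q g) * α with hα₁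
  have hgu' : hermForm n F q (act g u) (act g u) = 0 := by rw [herm_act]; exact hu
  have hgv' : hermForm n F q (act g (c • v)) (act g (c • v)) = 0 := by rw [herm_act]; exact hcv
  have h1 : ∀ x, x ∈ RR hF e H.ee ↔ α₁ x ∈ RR hF e H.ee := by
    intro x
    have h2 : (pr n F q g)⁻¹ * α₁ x * pr n F q g = α x := by
      rw [hα₁, MulAut.mul_apply, MulAut.conj_apply]; group
    have hR : α₁ x ∈ RR hF e H.ee ↔ α x ∈ RR hF u hu := by
      rw [RR_congr hF H.ee hgu' hgu.symm, RR_conj hF hu, h2]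
    rw [hR, ← hαu]
    constructor
    · intro hx; exact ⟨x, hx, rfl⟩
    · rintro ⟨y, hy, hxy⟩
      rw [← α.injective hxy]; exact hy
  have h1' : ∀ x, x ∈ RR hF f H.ff ↔ α₁ x ∈ RR hF f H.ff := by
    intro x
    have h2 : (pr n F q g)⁻¹ * α₁ x * pr n F q g = α x := by
      rw [hα₁, MulAut.mul_apply, MulAut.conj_apply]; group
    have hR : α₁ x ∈ RR hF f H.ff ↔ α x ∈ RR hF v hv := by
      rw [RR_congr hF H.ff hgv' hgv.symm, RR_conj hF hcv, RR_le hF hv hc0 hcv, h2]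
    rw [hR, ← hαv]
    constructor
    · intro hx; exact ⟨x, hx, rfl⟩
    · rintro ⟨y, hy, hxy⟩
      rw [← α.injective hxy]; exact hy
  obtain ⟨A, ρ, hA⟩ := exists_toAut_of_fix hF hn h32 H α₁ h1 h1'
  -- `g` as an element of `GU`
  obtain ⟨B0, hB0, hBm⟩ := HermOrtho.exists_GU_of_isometry (M := mat g) hF (fun u v => herm_act g u v)
  set B : GU n F q := ⟨B0, hB0⟩ with hB
  have hgm : gm B = mat g := hBm
  refine ⟨B⁻¹ * A, ρ, ?_⟩
  have h3 : α = (MulAut.conj (pr n F q g))⁻¹ * toAut A ρ := by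
    rw [← hA, hα₁, inv_mul_cancel_left]
  rw [h3]
  ext x
  obtain ⟨y, rfl⟩ := pr_surjective x
  rw [MulAut.mul_apply, MulAut.conj_inv_apply, toAut_pr', toAut_pr', ← map_inv, ← map_mul,
    ← map_mul]
  congr 1
  apply ext_act
  intro z
  -- write `z = B⁻¹ A (ρ z')`
  have hz : z = gm (B⁻¹ * A) *ᵥ fun i => ρ ((fun j => ρ.symm ((gm (B⁻¹ * A)⁻¹ *ᵥ z) j)) i) := by
    simp only [RingEquiv.apply_symm_apply]
    rw [gm_mulVec_inv]
  set z' : Fin n → F := fun j => ρ.symm ((gm (B⁻¹ * A)⁻¹ *ᵥ z) j) with hz'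
  rw [hz, act_semiConj, PSUAutCount.gm_mul, ← mulVec_mulVec, ← mulVec_mulVec]
  have h4 : ∀ w : Fin n → F, act g (gm B⁻¹ *ᵥ w) = w := by
    intro w
    rw [act_def, ← hgm, gm_mulVec_inv]
  have h5 : ∀ w : Fin n → F, gm B⁻¹ *ᵥ w = act g⁻¹ w := by
    intro w
    rw [← act_eq_iff]
    exact h4 w
  rw [act_mul, act_mul, h4, act_semiConj, h5]

end Cfsg.Agent.ClassicalGeometry.PSUAutMain
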