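import Cfsg.Agent.ClassicalGeometry.InvolutiveNorm

/-!
# Orthonormal bases of Hermitian forms over finite fields

`B : V →ₛₗ[σ] V →ₗ[F] F` symmetric (`σ (B x y) = B y x`) and nondegenerate, `σ` a non-identity
involution of the finite field `F`: every orthonormal family `Fin k → V` extends, and there is an
orthonormal basis.
-/

set_option autoImplicit false

namespace Cfsg.Agent.ClassicalGeometry.HermOrthonormal

open Cfsg.Agent.ClassicalGeometry.InvolutiveNorm

variable {F V : Type*} [Field F] [AddCommGroup V] [Module F V]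

/-- If `B w y ≠ 0` then some combination of `w, y` is anisotropic. -/
theorem exists_anisotropic {σ : F →+* F} (hσ : σ ≠ RingHom.id F)
    (B : V →ₛₗ[σ] V →ₗ[F] F) (hS : B.IsSymm) {w y : V} (hwy : B w y ≠ 0) :
    ∃ a c : F, B (a • w + c • y) (a • w + c • y) ≠ 0 := by
  by_contra h
  push Not at h
  obtain ⟨d, hd⟩ := exists_add_sigma_ne_zero hσ
  apply hd
  have hw : B w w = 0 := by simpa using h 1 0
  have hy : B y y = 0 := by simpa using h 0 1
  have h1 := h 1 (d / B w y)
  rw [one_smul, LinearMap.map_add₂, LinearMap.map_smulₛₗ₂, map_add, map_add, map_smul, map_smul,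
    hw, hy, ← hS.eq w y] at h1
  simp only [smul_eq_mul, mul_zero, add_zero, zero_add] at h1
  rw [div_mul_cancel₀ _ hwy, ← map_mul, div_mul_cancel₀ _ hwy] at h1
  exact h1

/-- Over a finite field, if `B w y ≠ 0` then some combination of `w, y` is a unit vector. -/
theorem exists_unit_vector [Finite F] {σ : F →+* F} (hσ : σ ≠ RingHom.id F)
    (hσ2 : ∀ a : F, σ (σ a) = a)
    (B : V →ₛₗ[σ] V →ₗ[F] F) (hS : B.IsSymm) {w y : V} (hwy : B w y ≠ 0) :
    ∃ a c : F, B (a • w + c • y) (a • w + c • y) = 1 := by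
  obtain ⟨a, c, hac⟩ := exists_anisotropic hσ B hS hwy
  obtain ⟨x, hx⟩ := exists_mul_sigma_eq hσ hσ2 (hS.eq (a • w + c • y) (a • w + c • y))
  have hx0 : x ≠ 0 := by
    rintro rfl
    rw [zero_mul] at hx
    exact hac hx.symm
  have hsx : σ x ≠ 0 := fun h => hx0 ((map_eq_zero σ).mp h)
  refine ⟨x⁻¹ * a, x⁻¹ * c, ?_⟩
  rw [mul_smul, mul_smul, ← smul_add, LinearMap.map_smulₛₗ₂, map_smul,
    ← hx, smul_eq_mul, smul_eq_mul, map_inv₀]
  field_simp

/-- The projection of `x` to the orthogonal complement of an orthonormal family. -/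
theorem orth_proj {σ : F →+* F} (B : V →ₛₗ[σ] V →ₗ[F] F) {ι : Type*} [Fintype ι] [DecidableEq ι]
    {v : ι → V} (hv : ∀ i j, B (v i) (v j) = if i = j then 1 else 0) (x : V) (i : ι) :
    B (v i) (x - ∑ j, B (v j) x • v j) = 0 := by
  rw [map_sub, map_sum]
  simp only [map_smul, hv, smul_eq_mul, mul_ite, mul_one, mul_zero, Finset.sum_ite_eq,
    Finset.mem_univ, if_true, sub_self]

/-- An orthonormal family of fewer than `dim V` vectors can be extended by a unit vector. -/
theorem exists_extend [Finite F] [FiniteDimensional F V] {σ : F →+* F} (hσ : σ ≠ RingHom.id F)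
    (hσ2 : ∀ a : F, σ (σ a) = a) (B : V →ₛₗ[σ] V →ₗ[F] F) (hS : B.IsSymm)
    (hB : B.SeparatingLeft) {k : ℕ} (hk : k < Module.finrank F V) {v : Fin k → V}
    (hv : ∀ i j, B (v i) (v j) = if i = j then 1 else 0) :
    ∃ u : V, B u u = 1 ∧ ∀ i, B (v i) u = 0 := by
  have hspan : Submodule.span F (Set.range v) ≠ ⊤ := by
    intro htop
    have h1 := finrank_range_le_card (R := F) v
    rw [Set.finrank, htop, finrank_top, Fintype.card_fin] at h1
    omega
  obtain ⟨x, hx⟩ : ∃ x : V, x ∉ Submodule.span F (Set.range v) := by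
    by_contra h
    push Not at h
    exact hspan (Submodule.eq_top_iff'.mpr h)
  set w : V := x - ∑ j, B (v j) x • v j with hw
  have hw0 : w ≠ 0 := by
    intro h0
    apply hx
    rw [hw, sub_eq_zero] at h0
    rw [h0]
    exact Submodule.sum_mem _ fun j _ =>
      Submodule.smul_mem _ _ (Submodule.subset_span (Set.mem_range_self j))
  have hwv : ∀ i, B (v i) w = 0 := fun i => orth_proj B hv x i
  have hwv' : ∀ i, B w (v i) = 0 := fun i => by rw [← hS.eq (v i) w, hwv, map_zero]
  obtain ⟨y, hy⟩ : ∃ y : V, B w y ≠ 0 := by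
    by_contra h
    push Not at h
    exact hw0 (hB w h)
  set z : V := y - ∑ j, B (v j) y • v j with hz
  have hzv : ∀ i, B (v i) z = 0 := fun i => orth_proj B hv y i
  have hwz : B w z ≠ 0 := by
    rw [hz, map_sub, map_sum]
    simp only [map_smul, hwv', smul_zero, Finset.sum_const_zero, sub_zero]
    exact hy
  obtain ⟨a, c, hac⟩ := exists_unit_vector hσ hσ2 B hS hwz
  refine ⟨a • w + c • z, hac, fun i => ?_⟩
  rw [map_add, map_smul, map_smul, hwv, hzv, smul_zero, smul_zero, add_zero]

/-- Orthonormal families of every size `k ≤ dim V` exist. -/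
theorem exists_orthonormal_family [Finite F] [FiniteDimensional F V] {σ : F →+* F}
    (hσ : σ ≠ RingHom.id F)
    (hσ2 : ∀ a : F, σ (σ a) = a) (B : V →ₛₗ[σ] V →ₗ[F] F) (hS : B.IsSymm)
    (hB : B.SeparatingLeft) (k : ℕ) (hk : k ≤ Module.finrank F V) :
    ∃ v : Fin k → V, ∀ i j, B (v i) (v j) = if i = j then 1 else 0 := by
  induction k with
  | zero => exact ⟨Fin.elim0, fun i => Fin.elim0 i⟩
  | succ k ih =>
    obtain ⟨v, hv⟩ := ih (by omega)
    obtain ⟨u, hu, huv⟩ := exists_extend hσ hσ2 B hS hB (by omega) hv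
    have huv' : ∀ i, B u (v i) = 0 := fun i => by rw [← hS.eq (v i) u, huv, map_zero]
    refine ⟨Fin.cons u v, fun i j => ?_⟩
    refine Fin.cases ?_ (fun i => ?_) i <;> refine Fin.cases ?_ (fun j => ?_) j
    · simpa using hu
    · simpa [Fin.succ_ne_zero, eq_comm] using huv' j
    · simpa [Fin.succ_ne_zero] using huv i
    · simpa using hv i j

/-- Orthonormal families are linearly independent. -/
theorem linearIndependent_of_orthonormal {σ : F →+* F}
    (B : V →ₛₗ[σ] V →ₗ[F] F) {ι : Type*} [Fintype ι] [DecidableEq ι] {v : ι → V}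
    (hv : ∀ i j, B (v i) (v j) = if i = j then 1 else 0) :
    LinearIndependent F v := by
  rw [Fintype.linearIndependent_iff]
  intro g hg i
  have h1 : B (v i) (∑ j, g j • v j) = 0 := by rw [hg, map_zero]
  rw [map_sum] at h1
  simpa [hv] using h1

/-- A nondegenerate Hermitian form over a finite field has an orthonormal basis. -/
theorem exists_orthonormal_basis [Finite F] [FiniteDimensional F V] {σ : F →+* F}
    (hσ : σ ≠ RingHom.id F)
    (hσ2 : ∀ a : F, σ (σ a) = a) (B : V →ₛₗ[σ] V →ₗ[F] F) (hS : B.IsSymm)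
    (hB : B.SeparatingLeft) :
    ∃ b : Module.Basis (Fin (Module.finrank F V)) F V,
      ∀ i j, B (b i) (b j) = if i = j then 1 else 0 := by
  obtain ⟨v, hv⟩ := exists_orthonormal_family hσ hσ2 B hS hB _ le_rfl
  refine ⟨basisOfLinearIndependentOfCardEqFinrank' (b := v)
    (linearIndependent_of_orthonormal B hv) (by simp), fun i j => ?_⟩
  simp only [coe_basisOfLinearIndependentOfCardEqFinrank']
  exact hv i j

end Cfsg.Agent.ClassicalGeometry.HermOrthonormal
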