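import Mathlib

set_option autoImplicit false

namespace Cfsg.Agent.ClassicalGeometry.RankOne

open Matrix

/-- A matrix of rank one over a field is `vecMulVec a b` with `a`, `b` nonzero. -/
theorem exists_vecMulVec_of_rank_eq_one {m n : Type*} [Fintype m] [DecidableEq m] [Fintype n] [DecidableEq n]
    {F : Type*} [Field F] (N : Matrix m n F) (hN : N.rank = 1) :
    ∃ (a : m → F) (b : n → F), a ≠ 0 ∧ b ≠ 0 ∧ N = Matrix.vecMulVec a b := by
  rw [Matrix.rank] at hN
  obtain ⟨⟨a, ha⟩, ha0, hspan⟩ := finrank_eq_one_iff'.1 hN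
  have ha0' : a ≠ 0 := fun h => ha0 (Subtype.ext h)
  have hc : ∀ j : n, ∃ c : F, c • a = N.mulVecLin (Pi.single j 1) := fun j => by
    obtain ⟨c, hc⟩ := hspan ⟨N.mulVecLin (Pi.single j 1), ⟨_, rfl⟩⟩
    exact ⟨c, congrArg Subtype.val hc⟩
  choose b hb using hc
  have hNab : N = Matrix.vecMulVec a b := by
    ext i j
    have h1 := congrFun (hb j) i
    rw [Matrix.mulVecLin_apply, Matrix.mulVec_single_one] at h1
    rw [Matrix.vecMulVec_apply, mul_comm]
    exact h1.symm
  refine ⟨a, b, ha0', ?_, hNab⟩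
  rintro rfl
  obtain ⟨x, hx⟩ := ha
  apply ha0'
  rw [← hx, Matrix.mulVecLin_apply, hNab]
  funext i
  show ∑ j, Matrix.vecMulVec a (0 : n → F) i j * x j = 0
  refine Finset.sum_eq_zero fun j _ => ?_
  rw [Matrix.vecMulVec_apply, Pi.zero_apply, mul_zero, zero_mul]

/-- Every nonzero row vector is, up to a nonzero scalar, the `i₀`-th row of a matrix of determinant one. -/
theorem exists_sl_row {m : Type*} [Fintype m] [DecidableEq m] {F : Type*} [Field F] (i₀ : m) (b : m → F)
    (hb : b ≠ 0) : ∃ (h : Matrix.SpecialLinearGroup m F) (c : F), c ≠ 0 ∧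
      ∀ j, (h : Matrix m m F) i₀ j = c * b j := by
  obtain ⟨i, hi⟩ := Function.ne_iff.1 hb
  have hi : b i ≠ 0 := hi
  set M : Matrix m m F := ((1 : Matrix m m F).updateRow i b).submatrix (Equiv.swap i₀ i) id with hM
  have hdet1 : ((1 : Matrix m m F).updateRow i b).det = b i := by
    rw [← Matrix.cramer_transpose_apply, Matrix.transpose_one, Matrix.cramer_one]
    rfl
  have hdet : M.det = Equiv.Perm.sign (Equiv.swap i₀ i) * b i := by
    rw [hM, Matrix.det_permute, hdet1]
  have hM0 : M.det ≠ 0 := by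
    rw [hdet]
    refine mul_ne_zero ?_ hi
    rcases Int.units_eq_one_or (Equiv.Perm.sign (Equiv.swap i₀ i)) with h | h <;> simp [h]
  have hrow : M i₀ = b := by
    ext j
    simp [hM]
  refine ⟨⟨M.updateRow i₀ ((M.det)⁻¹ • M i₀), ?_⟩, (M.det)⁻¹, inv_ne_zero hM0, ?_⟩
  · rw [Matrix.det_updateRow_smul, Matrix.updateRow_eq_self, inv_mul_cancel₀ hM0]
  · intro j
    simp [hrow]

end Cfsg.Agent.ClassicalGeometry.RankOne
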