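import Cfsg.Agent.ClassicalGeometry.PSL2Basic
import Cfsg.Agent.LieClassical.SLTwoUnipotent
import Cfsg.Agent.LieClassical.Order72

/-!
# Solvable subgroups of `PSL(2, q)`; simple groups are not solvable
-/

set_option autoImplicit false

namespace Cfsg.Agent.ClassicalGeometry.PSL2Solvable

open Cfsg.Agent.LieClassical.SLTwoUnipotent Cfsg.Agent.ClassicalGeometry.PSL2Basic

/-- Dihedral groups are solvable. -/
theorem isSolvable_dihedral (n : ℕ) : Group.IsSolvable (DihedralGroup n) := by
  let f : Multiplicative (ZMod n) →* DihedralGroup n :=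
    { toFun := fun x => DihedralGroup.r x.toAdd
      map_one' := rfl
      map_mul' := fun a b => by
        rw [DihedralGroup.r_mul_r]
        rfl }
  let g : DihedralGroup n →* ℤˣ :=
    { toFun := fun x => match x with
        | DihedralGroup.r _ => 1
        | DihedralGroup.sr _ => -1
      map_one' := rfl
      map_mul' := by
        rintro (a | a) (b | b) <;> rfl }
  refine Group.isSolvable_of_ker_le_range f g ?_
  rintro (a | a) ha
  · exact ⟨Multiplicative.ofAdd a, rfl⟩
  · exfalso
    have : (-1 : ℤˣ) = 1 := ha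
    exact absurd this (by decide)

/-- A finite simple group whose order is not a prime is not solvable. -/
theorem not_isSolvable_of_simple {G : Type*} [Group G] [Finite G] [IsSimpleGroup G]
    (h : ¬ (Nat.card G).Prime) : ¬ Group.IsSolvable G := by
  intro hs
  have hc := IsSimpleGroup.comm_iff_isSolvable.mpr hs
  let _ : CommGroup G := { (inferInstance : Group G) with mul_comm := hc }
  exact h (CommGroup.is_simple_iff_prime_card.mp inferInstance)

section

variable (F : Type*) [Field F]

/-- The Borel subgroup of `SL(2, F)`. -/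
def borel : Subgroup (Matrix.SpecialLinearGroup (Fin 2) F) :=
  Subgroup.normalizer (upperUnipSL F : Set (Matrix.SpecialLinearGroup (Fin 2) F))

variable {F}

theorem mem_borel_iff {c : Matrix.SpecialLinearGroup (Fin 2) F} : c ∈ borel F ↔ c 1 0 = 0 :=
  mem_normalizer_upperUnipSL_iff

theorem isSolvable_borel : Group.IsSolvable (borel F) := by
  have hdet : ∀ c : borel F, (c : Matrix.SpecialLinearGroup (Fin 2) F) 0 0 *
      (c : Matrix.SpecialLinearGroup (Fin 2) F) 1 1 = 1 := by
    intro c
    have h1 : (c : Matrix.SpecialLinearGroup (Fin 2) F) 0 0 * (c : Matrix.SpecialLinearGroup (Fin 2) F) 1 1 -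
      (c : Matrix.SpecialLinearGroup (Fin 2) F) 0 1 * (c : Matrix.SpecialLinearGroup (Fin 2) F) 1 0 = 1 := by
      rw [← Matrix.det_fin_two, Matrix.SpecialLinearGroup.det_coe]
    rw [mem_borel_iff.mp c.2, mul_zero, sub_zero] at h1
    exact h1
  let f : Multiplicative F →* borel F :=
    { toFun := fun x => ⟨u x.toAdd, by rw [mem_borel_iff, coe_u]; simp⟩
      map_one' := by
        apply Subtype.ext
        exact u_zero
      map_mul' := fun a b => by
        apply Subtype.ext
        exact u_add _ _ }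
  let g : borel F →* Fˣ :=
    { toFun := fun c => ⟨(c : Matrix.SpecialLinearGroup (Fin 2) F) 0 0,
        (c : Matrix.SpecialLinearGroup (Fin 2) F) 1 1, hdet c, by rw [mul_comm]; exact hdet c⟩
      map_one' := by
        apply Units.ext
        simp
      map_mul' := fun a b => by
        apply Units.ext
        have hb := mem_borel_iff.mp b.2
        change ((a : Matrix.SpecialLinearGroup (Fin 2) F) * (b : Matrix.SpecialLinearGroup (Fin 2) F)) 0 0 = _
        rw [Matrix.SpecialLinearGroup.coe_mul, Matrix.mul_apply, Fin.sum_univ_two, hb, mul_zero, add_zero]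
        rfl }
  refine Group.isSolvable_of_ker_le_range f g ?_
  intro c hc
  have h1 : (c : Matrix.SpecialLinearGroup (Fin 2) F) 0 0 = 1 := congrArg Units.val hc
  have h2 := hdet c
  rw [h1, one_mul] at h2
  have h3 := mem_borel_iff.mp c.2
  have h4 : (c : Matrix.SpecialLinearGroup (Fin 2) F) ∈ upperUnipSL F :=
    mem_upperUnipSL_iff.mpr ⟨h1, h3, h2⟩
  refine ⟨Multiplicative.ofAdd ((c : Matrix.SpecialLinearGroup (Fin 2) F) 0 1), ?_⟩
  apply Subtype.ext
  exact (eq_u_of_mem_upperUnipSL h4).symm

/-- The normaliser of a Sylow subgroup of `PSL(2, q)` in the defining characteristic is conjugate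
to the image of the Borel subgroup. -/
theorem exists_le_map_borel [Fintype F] (p : ℕ) [Fact p.Prime] [CharP F p]
    (P : Sylow p (Matrix.ProjectiveSpecialLinearGroup (Fin 2) F)) :
    ∃ g : Matrix.ProjectiveSpecialLinearGroup (Fin 2) F,
      Subgroup.normalizer ((P : Subgroup (Matrix.ProjectiveSpecialLinearGroup (Fin 2) F)) :
        Set (Matrix.ProjectiveSpecialLinearGroup (Fin 2) F)) ≤
      ((borel F).map (QuotientGroup.mk' (Subgroup.center (Matrix.SpecialLinearGroup (Fin 2) F)))).map
        (MulAut.conj g).toMonoidHom := by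
  set π := QuotientGroup.mk' (Subgroup.center (Matrix.SpecialLinearGroup (Fin 2) F)) with hπ
  have hsurj : Function.Surjective π := QuotientGroup.mk'_surjective _
  obtain ⟨g, hg⟩ := MulAction.exists_smul_eq (Matrix.ProjectiveSpecialLinearGroup (Fin 2) F)
    ((upperUnipSylowSL F p).mapSurjective hsurj) P
  refine ⟨g, ?_⟩
  intro x hx
  obtain ⟨c, hc⟩ := hsurj (g⁻¹ * x * g)
  have hPmem : ∀ y : Matrix.ProjectiveSpecialLinearGroup (Fin 2) F,
      y ∈ (P : Subgroup (Matrix.ProjectiveSpecialLinearGroup (Fin 2) F)) ↔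
      g⁻¹ * y * g ∈ (upperUnipSL F).map π := by
    intro y
    rw [← hg, Sylow.coe_subgroup_smul, Sylow.coe_mapSurjective,
      Subgroup.mem_pointwise_smul_iff_inv_smul_mem]
    have : (MulAut.conj g)⁻¹ • y = g⁻¹ * y * g := by
      rw [← map_inv, MulAut.smul_def, MulAut.conj_apply, inv_inv]
    rw [this]
    rfl
  have h1 : g * π (u 1) * g⁻¹ ∈ (P : Subgroup (Matrix.ProjectiveSpecialLinearGroup (Fin 2) F)) := by
    rw [hPmem]
    refine ⟨u 1, u_mem_upperUnipSL 1, ?_⟩
    group
  have h2 := (Subgroup.mem_normalizer_iff.mp hx _).mp h1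
  rw [hPmem] at h2
  obtain ⟨v, hv, hv'⟩ := h2
  have h3 : π v = π (c * u 1 * c⁻¹) := by
    rw [hv', map_mul, map_mul, map_inv, hc]
    group
  have h4 : v⁻¹ * (c * u 1 * c⁻¹) ∈ Subgroup.center (Matrix.SpecialLinearGroup (Fin 2) F) := by
    rw [← QuotientGroup.eq]
    exact h3
  have h5 : c * u 1 * c⁻¹ = v ∨ c * u 1 * c⁻¹ = -v := by
    rcases mem_center_SL2_iff.mp h4 with h | h
    · left
      exact (inv_mul_eq_one.mp h).symm
    · right
      rw [inv_mul_eq_iff_eq_mul] at h
      rw [h]
      simp
  have h6 : v 1 0 = 0 := (mem_upperUnipSL_iff.mp hv).2.1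
  have h7 : ((c * u 1 * c⁻¹ : Matrix.SpecialLinearGroup (Fin 2) F) : Matrix (Fin 2) (Fin 2) F) 1 0
      = 0 := by
    rcases h5 with h | h
    · rw [h, h6]
    · rw [h]
      simp [h6]
  have h8 : ((c * u 1 * c⁻¹ : Matrix.SpecialLinearGroup (Fin 2) F) : Matrix (Fin 2) (Fin 2) F) 1 0
      = -(c 1 0) ^ 2 := by
    rw [Matrix.SpecialLinearGroup.coe_mul, Matrix.SpecialLinearGroup.coe_mul, Matrix.SpecialLinearGroup.coe_inv, coe_u,
      Matrix.adjugate_fin_two, Matrix.mul_apply, Fin.sum_univ_two, Matrix.mul_apply,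
      Matrix.mul_apply, Fin.sum_univ_two, Fin.sum_univ_two]
    simp
    ring
  rw [h8] at h7
  have h9 : c 1 0 = 0 := by
    rw [neg_eq_zero, sq_eq_zero_iff] at h7
    exact h7
  refine ⟨π c, ⟨c, mem_borel_iff.mpr h9, rfl⟩, ?_⟩
  change g * π c * g⁻¹ = x
  rw [hc]
  group

/-- Subgroups of the normaliser of a Sylow subgroup in the defining characteristic are solvable. -/
theorem isSolvable_of_le_normalizer [Fintype F] (p : ℕ) [Fact p.Prime] [CharP F p]
    (P : Sylow p (Matrix.ProjectiveSpecialLinearGroup (Fin 2) F))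
    (K : Subgroup (Matrix.ProjectiveSpecialLinearGroup (Fin 2) F))
    (hK : K ≤ Subgroup.normalizer ((P : Subgroup (Matrix.ProjectiveSpecialLinearGroup (Fin 2) F)) :
        Set (Matrix.ProjectiveSpecialLinearGroup (Fin 2) F))) : Group.IsSolvable K := by
  obtain ⟨g, hg⟩ := exists_le_map_borel p P
  have hle := hK.trans hg
  have h0 : Group.IsSolvable (borel F) := isSolvable_borel
  have h1 : Group.IsSolvable ((borel F).map
      (QuotientGroup.mk' (Subgroup.center (Matrix.SpecialLinearGroup (Fin 2) F)))) :=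
    Group.isSolvable_of_surjective (MonoidHom.subgroupMap_surjective _ _)
  have h2 : Group.IsSolvable (((borel F).map
      (QuotientGroup.mk' (Subgroup.center (Matrix.SpecialLinearGroup (Fin 2) F)))).map
        (MulAut.conj g).toMonoidHom) :=
    Group.isSolvable_of_surjective (MonoidHom.subgroupMap_surjective _ _)
  exact Group.isSolvable_of_isSolvable_injective (Subgroup.inclusion_injective hle)

end

/-- The order of `PSL(2, q)` is not a prime. -/
theorem not_prime_card (F : Type*) [Field F] [Fintype F] (h : 4 ≤ Fintype.card F) :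
    ¬ (Nat.card (Matrix.ProjectiveSpecialLinearGroup (Fin 2) F)).Prime := by
  obtain ⟨k, hk⟩ : ∃ k, Fintype.card F = k + 4 := ⟨Fintype.card F - 4, by omega⟩
  have h0 : (k + 4) ^ 2 - 1 = (k + 3) * (k + 5) := by
    apply Nat.sub_eq_of_eq_add
    ring
  rcases Nat.even_or_odd (Fintype.card F) with he | ho
  · rw [card_PSL2_even F he, hk, h0]
    apply Nat.not_prime_mul (by omega)
    intro h
    nlinarith
  · have h1 := card_PSL2_odd F ho
    rw [hk] at ho h1
    obtain ⟨j, hj⟩ := ho
    obtain ⟨i, rfl⟩ : ∃ i, k = 2 * i + 1 := ⟨j - 2, by omega⟩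
    have h2 : Nat.card (Matrix.ProjectiveSpecialLinearGroup (Fin 2) F) =
        (2 * i + 1 + 4) * ((i + 2) * (2 * i + 6)) := by
      apply Nat.eq_of_mul_eq_mul_right (show 0 < 2 by norm_num)
      rw [h1, h0]
      ring
    rw [h2]
    apply Nat.not_prime_mul (by omega)
    intro h
    nlinarith

theorem not_isSolvable_psl (F : Type*) [Field F] [Fintype F] (h : 4 ≤ Fintype.card F) :
    ¬ Group.IsSolvable (Matrix.ProjectiveSpecialLinearGroup (Fin 2) F) := by
  have : IsSimpleGroup (Matrix.ProjectiveSpecialLinearGroup (Fin 2) F) :=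
    Matrix.ProjectiveSpecialLinearGroup.rank_two_simple (by rwa [Nat.card_eq_fintype_card])
  exact not_isSolvable_of_simple (not_prime_card F h)

theorem not_isSolvable_alternating_five : ¬ Group.IsSolvable (alternatingGroup (Fin 5)) := by
  apply not_isSolvable_of_simple
  have : Nat.card (alternatingGroup (Fin 5)) = 60 := by
    rw [Nat.card_eq_fintype_card]
    decide +kernel
  rw [this]
  norm_num

end Cfsg.Agent.ClassicalGeometry.PSL2Solvable
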