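import Mathlib

/-!
# Counting with a trivial intersection subgroup

`C ≤ H ≤ G` with `|H : C| = 2` and `C ∩ g C g⁻¹ = 1` for `g ∉ H`.  Then `|G : H| ≡ 1` modulo
`|C| / gcd (2, |C|)`, and the same for every overgroup `M` of `H`.
-/

set_option autoImplicit false

namespace Cfsg.Agent.ClassicalGeometry.TICount

open MulAction

variable {G : Type*} [Group G]

theorem card_stabilizer_dvd_two [Finite G] (C H : Subgroup G)
    (h2 : C.relIndex H = 2) (hTI : ∀ g : G, g ∉ H → ∀ x ∈ C, g⁻¹ * x * g ∈ C → x = 1)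
    (g : G) (hg : g ∉ H) : Nat.card (stabilizer C (g : G ⧸ H)) ∣ 2 := by
  have hnorm : (C.subgroupOf H).Normal := Subgroup.normal_of_index_eq_two h2
  have hmem : ∀ c : C, c ∈ stabilizer C (g : G ⧸ H) → g⁻¹ * (c : G) * g ∈ H := by
    intro c hc
    rw [mem_stabilizer_iff] at hc
    have h1 : ((g : G) : G ⧸ H) = (((c : G) * g : G) : G ⧸ H) := hc.symm
    rw [QuotientGroup.eq] at h1
    simpa [mul_assoc] using h1
  let φ : stabilizer C (g : G ⧸ H) →* H :=
    { toFun := fun c => ⟨g⁻¹ * ((c : C) : G) * g, hmem c.1 c.2⟩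
      map_one' := by
        apply Subtype.ext
        simp
      map_mul' := by
        intro a b
        apply Subtype.ext
        simp [mul_assoc] }
  let ψ := (QuotientGroup.mk' (C.subgroupOf H)).comp φ
  have hinj : Function.Injective ψ := by
    rw [injective_iff_map_eq_one]
    intro c hc
    have h3 : φ c ∈ C.subgroupOf H := by
      have : ((φ c : H) : H ⧸ C.subgroupOf H) = 1 := hc
      rwa [QuotientGroup.eq_one_iff] at this
    have h4 : g⁻¹ * ((c : C) : G) * g ∈ C := h3
    have h5 := hTI g hg _ (c : C).2 h4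
    apply Subtype.ext
    apply Subtype.ext
    exact h5
  have := Subgroup.card_dvd_of_injective ψ hinj
  have h6 : Nat.card (H ⧸ C.subgroupOf H) = 2 := h2
  rwa [h6] at this

theorem dvd_card_orbit [Finite G] (C H : Subgroup G)
    (h2 : C.relIndex H = 2) (hTI : ∀ g : G, g ∉ H → ∀ x ∈ C, g⁻¹ * x * g ∈ C → x = 1)
    (n : ℕ) (hn : Nat.card C = n * Nat.gcd 2 (Nat.card C))
    (g : G) (hg : g ∉ H) : n ∣ Nat.card (orbit C (g : G ⧸ H)) := by
  have h1 := card_stabilizer_dvd_two C H h2 hTI g hg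
  have h3 : Nat.card (stabilizer C (g : G ⧸ H)) ∣ Nat.card C := Subgroup.card_subgroup_dvd_card _
  obtain ⟨m, hm⟩ := Nat.dvd_gcd h1 h3
  have h4 : (stabilizer C (g : G ⧸ H)).index = Nat.card (orbit C (g : G ⧸ H)) := by
    rw [index_stabilizer, Nat.card_coe_set_eq]
  have h5 := Subgroup.card_mul_index (stabilizer C (g : G ⧸ H))
  rw [h4] at h5
  have hpos : 0 < Nat.card (stabilizer C (g : G ⧸ H)) := Nat.card_pos
  refine ⟨m, ?_⟩
  apply Nat.eq_of_mul_eq_mul_left hpos
  rw [h5, hn, hm]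
  ring

theorem index_modEq_one [Finite G] (C H : Subgroup G) (hCH : C ≤ H)
    (h2 : C.relIndex H = 2) (hTI : ∀ g : G, g ∉ H → ∀ x ∈ C, g⁻¹ * x * g ∈ C → x = 1)
    (n : ℕ) (hn : Nat.card C = n * Nat.gcd 2 (Nat.card C)) : H.index ≡ 1 [MOD n] := by
  classical
  have : Fintype (Quotient (orbitRel C (G ⧸ H))) := Fintype.ofFinite _
  have e := selfEquivSigmaOrbits C (G ⧸ H)
  have hcard : H.index = ∑ ω : Quotient (orbitRel C (G ⧸ H)), Nat.card (orbit C ω.out) := by
    rw [← Nat.card_sigma]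
    exact Nat.card_congr e
  set ω₀ : Quotient (orbitRel C (G ⧸ H)) := Quotient.mk _ ((1 : G) : G ⧸ H) with hω₀
  have horb1 : orbit C (((1 : G) : G ⧸ H)) = {((1 : G) : G ⧸ H)} := by
    ext x
    constructor
    · rintro ⟨c, rfl⟩
      rw [Set.mem_singleton_iff]
      change (((c : G) * 1 : G) : G ⧸ H) = ((1 : G) : G ⧸ H)
      rw [QuotientGroup.eq]
      simpa using hCH c.2
    · intro hx
      rw [Set.mem_singleton_iff] at hx
      rw [hx]
      exact mem_orbit_self _
  have key : ∀ ω : Quotient (orbitRel C (G ⧸ H)),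
      ((Nat.card (orbit C ω.out) : ℕ) : ZMod n) = if ω = ω₀ then 1 else 0 := by
    intro ω
    split_ifs with h
    · have h3 : ω.out ∈ orbit C (((1 : G) : G ⧸ H)) := by
        have : (Quotient.mk _ ω.out : Quotient (orbitRel C (G ⧸ H))) =
            Quotient.mk _ ((1 : G) : G ⧸ H) := by
          rw [Quotient.out_eq, h]
        exact Quotient.exact this
      have h4 : orbit C ω.out = orbit C (((1 : G) : G ⧸ H)) := orbit_eq_iff.mpr h3
      rw [h4, horb1]
      simp
    · obtain ⟨g, hg⟩ := QuotientGroup.mk_surjective ω.out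
      have hgH : g ∉ H := by
        intro hgH
        apply h
        have h5 : ω.out = ((1 : G) : G ⧸ H) := by
          rw [← hg]
          apply QuotientGroup.eq.mpr
          simpa using hgH
        rw [hω₀, ← h5, Quotient.out_eq]
      rw [← hg, ZMod.natCast_eq_zero_iff]
      exact dvd_card_orbit C H h2 hTI n hn g hgH
  rw [← ZMod.natCast_eq_natCast_iff, hcard]
  push_cast
  rw [Finset.sum_congr rfl (fun ω _ => key ω), Finset.sum_ite_eq' Finset.univ ω₀]
  simp

/-- The index of `H` in every overgroup `M` is `1` modulo `|C| / gcd (2, |C|)`. -/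
theorem relIndex_modEq_one [Finite G] (C H : Subgroup G) (hCH : C ≤ H)
    (h2 : C.relIndex H = 2) (hTI : ∀ g : G, g ∉ H → ∀ x ∈ C, g⁻¹ * x * g ∈ C → x = 1)
    (n : ℕ) (hn : Nat.card C = n * Nat.gcd 2 (Nat.card C)) (M : Subgroup G) (hHM : H ≤ M) :
    H.relIndex M ≡ 1 [MOD n] := by
  have hCM : C ≤ M := hCH.trans hHM
  have hc : Nat.card (C.subgroupOf M) = Nat.card C :=
    Nat.card_congr (Subgroup.subgroupOfEquivOfLe hCM).toEquiv
  refine index_modEq_one (G := M) (C.subgroupOf M) (H.subgroupOf M) ?_ ?_ ?_ n ?_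
  · intro x hx
    exact hCH hx
  · rw [Subgroup.relIndex_subgroupOf hHM]
    exact h2
  · intro g hg x hx hx'
    apply Subtype.ext
    exact hTI g (fun h => hg h) x hx hx'
  · rw [hc]
    exact hn

end Cfsg.Agent.ClassicalGeometry.TICount
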