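import Cfsg.Agent.ClassicalGeometry.SL2Order
import Cfsg.Agent.ClassicalGeometry.PSLTorus
import Cfsg.Agent.ClassicalGeometry.PSL2Solvable

/-!
# Element orders in `PSL(2, q)`, and subgroups with a normal Sylow subgroup

* `orderOf_dvd`: the order of a `p'`-element divides `(q + 1) / d` or `(q - 1) / d`.
* `le_normalizer_of_normal`: a subgroup with a nontrivial normal `p`-subgroup lies in the
  normaliser of a Sylow `p`-subgroup (`p` the characteristic).
-/

set_option autoImplicit false

namespace Cfsg.Agent.ClassicalGeometry.PSL2ElemOrder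

open scoped MatrixGroups
open Cfsg.Agent.ClassicalGeometry.PSLTorus Cfsg.Agent.ClassicalGeometry.PSL2Basic
  Cfsg.Agent.ClassicalGeometry.PSL2Solvable Cfsg.Agent.LieClassical.SLTwoUnipotent

/-- In odd characteristic the only square roots of `1` in `SL₂` are `1` and `-1`. -/
theorem eq_one_or_of_sq {F : Type*} [Field F] (h2 : (2 : F) ≠ 0) (X : SL(2, F)) (h : X * X = 1) :
    X = 1 ∨ X = -1 := by
  have h1 : X = X⁻¹ := eq_inv_of_mul_eq_one_left h
  have h3 : (X : Matrix (Fin 2) (Fin 2) F) = !![X 1 1, -X 0 1; -X 1 0, X 0 0] := by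
    conv_lhs => rw [h1]
    rw [Matrix.SpecialLinearGroup.coe_inv, Matrix.adjugate_fin_two]
  have e01 : X 0 1 = -X 0 1 := by
    have := congrFun (congrFun h3 0) 1
    simpa using this
  have e10 : X 1 0 = -X 1 0 := by
    have := congrFun (congrFun h3 1) 0
    simpa using this
  have e00 : X 0 0 = X 1 1 := by
    have := congrFun (congrFun h3 0) 0
    simpa using this
  have h01 : X 0 1 = 0 := by
    have : (2 : F) * X 0 1 = 0 := by linear_combination e01
    exact (mul_eq_zero.mp this).resolve_left h2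
  have h10 : X 1 0 = 0 := by
    have : (2 : F) * X 1 0 = 0 := by linear_combination e10
    exact (mul_eq_zero.mp this).resolve_left h2
  have hdet : X 0 0 * X 1 1 - X 0 1 * X 1 0 = 1 := by
    have := X.2
    rwa [Matrix.det_fin_two] at this
  rw [h01, zero_mul, sub_zero, ← e00] at hdet
  rcases mul_self_eq_one_iff.mp hdet with h | h
  · left
    apply Subtype.ext
    ext i j
    fin_cases i <;> fin_cases j <;> simp [h, h01, h10, ← e00]
  · right
    apply Subtype.ext
    ext i j
    fin_cases i <;> fin_cases j <;> simp [h, h01, h10, ← e00]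

theorem orderOf_dvd {F : Type*} [Field F] [Fintype F] {q : ℕ} (hF : Fintype.card F = q) (p : ℕ)
    [Fact p.Prime] [CharP F p] (g : Matrix.ProjectiveSpecialLinearGroup (Fin 2) F)
    (hg : ¬ p ∣ orderOf g) :
    orderOf g ∣ (q + 1) / Nat.gcd 2 (q - 1) ∨ orderOf g ∣ (q - 1) / Nat.gcd 2 (q - 1) := by
  subst hF
  have hp : p.Prime := Fact.out
  have hq : 1 < Fintype.card F := Fintype.one_lt_card
  obtain ⟨A, rfl⟩ := pr_surjective F g
  have hcop : Nat.Coprime (orderOf (pr F A)) p := by
    rw [Nat.coprime_comm]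
    exact (Nat.Prime.coprime_iff_not_dvd hp).mpr hg
  by_cases h2 : (2 : F) = 0
  · have hodd : ¬ Odd (Fintype.card F) :=
      fun h => ((PSLTorus.two_ne_zero_iff_odd F).mpr h) h2
    rw [Nat.not_odd_iff_even, Nat.even_iff] at hodd
    have hgcd : Nat.gcd 2 (Fintype.card F - 1) = 1 := by
      rw [← Nat.coprime_iff_gcd_eq_one, Nat.coprime_two_left, Nat.odd_iff]
      omega
    have hp2 : p = 2 := by
      have h5 : ((2 : ℕ) : F) = 0 := by exact_mod_cast h2
      have h3 := (CharP.cast_eq_zero_iff F p 2).mp h5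
      exact (Nat.prime_dvd_prime_iff_eq hp Nat.prime_two).mp h3
    rw [hgcd, Nat.div_one, Nat.div_one]
    rcases Cfsg.Agent.ClassicalGeometry.SL2Order.pow_cases rfl p A with h | h | h
    · right
      apply orderOf_dvd_of_pow_eq_one
      rw [← map_pow, h, map_one]
    · left
      apply orderOf_dvd_of_pow_eq_one
      rw [← map_pow, h, map_one]
    · left
      have h1 : orderOf (pr F A) ∣ 2 * p := by
        apply orderOf_dvd_of_pow_eq_one
        rw [← map_pow, h, map_one]
      have h3 : orderOf (pr F A) ∣ 2 := hcop.dvd_of_dvd_mul_right h1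
      rw [hp2] at hcop
      have h4 : orderOf (pr F A) = 1 := by
        have := Nat.dvd_gcd (dvd_refl _) h3
        rw [hcop] at this
        exact Nat.dvd_one.mp this
      rw [h4]
      exact one_dvd _
  · have hodd : Odd (Fintype.card F) := (PSLTorus.two_ne_zero_iff_odd F).mp h2
    have hodd' := Nat.odd_iff.mp hodd
    have hgcd : Nat.gcd 2 (Fintype.card F - 1) = 2 := by
      apply Nat.gcd_eq_left
      omega
    rw [hgcd]
    rcases Cfsg.Agent.ClassicalGeometry.SL2Order.pow_cases rfl p A with h | h | h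
    · right
      apply orderOf_dvd_of_pow_eq_one
      rw [← map_pow, pr_eq_one_iff]
      apply eq_one_or_of_sq h2
      rw [← pow_add, ← h]
      congr 1
      omega
    · left
      apply orderOf_dvd_of_pow_eq_one
      rw [← map_pow, pr_eq_one_iff]
      apply eq_one_or_of_sq h2
      rw [← pow_add, ← h]
      congr 1
      omega
    · left
      have h1 : orderOf (pr F A) ∣ p := by
        apply orderOf_dvd_of_pow_eq_one
        rw [← map_pow, pr_eq_one_iff]
        apply eq_one_or_of_sq h2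
        rw [← pow_add, ← h]
        congr 1
        omega
      have h4 : orderOf (pr F A) = 1 := by
        have := Nat.dvd_gcd (dvd_refl _) h1
        rw [hcop] at this
        exact Nat.dvd_one.mp this
      rw [h4]
      exact one_dvd _

section Borel

variable {F : Type*} [Field F] [Fintype F]

/-- Distinct Sylow subgroups of `PSL(2, q)` in the defining characteristic intersect trivially. -/
theorem sylow_eq_of_mem (p : ℕ) [Fact p.Prime] [CharP F p]
    (P Q : Sylow p (Matrix.ProjectiveSpecialLinearGroup (Fin 2) F))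
    (x : Matrix.ProjectiveSpecialLinearGroup (Fin 2) F) (hx : x ≠ 1)
    (hP : x ∈ (P : Subgroup (Matrix.ProjectiveSpecialLinearGroup (Fin 2) F)))
    (hQ : x ∈ (Q : Subgroup (Matrix.ProjectiveSpecialLinearGroup (Fin 2) F))) : P = Q := by
  set π := QuotientGroup.mk' (Subgroup.center (Matrix.SpecialLinearGroup (Fin 2) F)) with hπ
  have hsurj : Function.Surjective π := QuotientGroup.mk'_surjective _
  set P₀ := (upperUnipSylowSL F p).mapSurjective hsurj with hP₀
  obtain ⟨g, hg⟩ := MulAction.exists_smul_eq (Matrix.ProjectiveSpecialLinearGroup (Fin 2) F) P₀ P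
  obtain ⟨h, hh⟩ := MulAction.exists_smul_eq (Matrix.ProjectiveSpecialLinearGroup (Fin 2) F) P₀ Q
  have hmem : ∀ (R : Sylow p (Matrix.ProjectiveSpecialLinearGroup (Fin 2) F))
      (k y : Matrix.ProjectiveSpecialLinearGroup (Fin 2) F), k • P₀ = R →
      (y ∈ (R : Subgroup (Matrix.ProjectiveSpecialLinearGroup (Fin 2) F)) ↔
        k⁻¹ * y * k ∈ (upperUnipSL F).map π) := by
    intro R k y hk
    rw [← hk, Sylow.coe_subgroup_smul, hP₀, Sylow.coe_mapSurjective,
      Subgroup.mem_pointwise_smul_iff_inv_smul_mem]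
    have : (MulAut.conj k)⁻¹ • y = k⁻¹ * y * k := by
      rw [← map_inv, MulAut.smul_def, MulAut.conj_apply, inv_inv]
    rw [this]
    rfl
  obtain ⟨v, hv, hv'⟩ := (hmem P g x hg).mp hP
  obtain ⟨w, hw, hw'⟩ := (hmem Q h x hh).mp hQ
  -- `h⁻¹ g` conjugates `π v` to `π w`
  obtain ⟨c, hc⟩ := hsurj (h⁻¹ * g)
  have h1 : π (c * v * c⁻¹) = π w := by
    rw [map_mul, map_mul, map_inv, hc, hv', hw']
    group
  have h4 : w⁻¹ * (c * v * c⁻¹) ∈ Subgroup.center (Matrix.SpecialLinearGroup (Fin 2) F) := by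
    rw [← QuotientGroup.eq]
    exact h1.symm
  have h6 : w 1 0 = 0 := (mem_upperUnipSL_iff.mp hw).2.1
  have h7 : ((c * v * c⁻¹ : Matrix.SpecialLinearGroup (Fin 2) F) : Matrix (Fin 2) (Fin 2) F) 1 0
      = 0 := by
    rcases mem_center_SL2_iff.mp h4 with h | h
    · rw [← inv_mul_eq_one.mp h, h6]
    · rw [inv_mul_eq_iff_eq_mul] at h
      rw [h]
      simp [h6]
  have hvu := eq_u_of_mem_upperUnipSL hv
  have hv0 : v 0 1 ≠ 0 := by
    intro h0
    rw [h0, u_zero] at hvu
    apply hx
    rw [hvu, map_one] at hv'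
    have := hv'.symm
    rw [mul_assoc, inv_mul_eq_one] at this
    have h9 : 1 * g = x * g := by rw [one_mul]; exact this
    exact (mul_right_cancel h9).symm
  have h8 : ((c * v * c⁻¹ : Matrix.SpecialLinearGroup (Fin 2) F) : Matrix (Fin 2) (Fin 2) F) 1 0
      = -(v 0 1) * (c 1 0) ^ 2 := by
    rw [hvu, Matrix.SpecialLinearGroup.coe_mul, Matrix.SpecialLinearGroup.coe_mul,
      Matrix.SpecialLinearGroup.coe_inv, coe_u,
      Matrix.adjugate_fin_two, Matrix.mul_apply, Fin.sum_univ_two, Matrix.mul_apply,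
      Matrix.mul_apply, Fin.sum_univ_two, Fin.sum_univ_two]
    simp
    ring
  rw [h8] at h7
  have h9 : c 1 0 = 0 := by
    have := (mul_eq_zero.mp h7).resolve_left (neg_ne_zero.mpr hv0)
    exact sq_eq_zero_iff.mp this
  -- so `h⁻¹ g` normalises `P₀`
  have h10 : c ∈ Subgroup.normalizer (upperUnipSL F : Set (Matrix.SpecialLinearGroup (Fin 2) F)) :=
    mem_normalizer_upperUnipSL_iff.mpr h9
  have h11 : (h⁻¹ * g) • P₀ = P₀ := by
    rw [Sylow.smul_eq_iff_mem_normalizer, ← hc]
    exact Subgroup.le_normalizer_map π ⟨c, h10, rfl⟩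
  rw [← hg, ← hh]
  have h13 : g • P₀ = h • ((h⁻¹ * g) • P₀) := by
    rw [smul_smul, mul_inv_cancel_left]
  rw [h13, h11]

/-- A subgroup with a nontrivial normal `p`-subgroup lies in the normaliser of a Sylow
`p`-subgroup. -/
theorem le_normalizer_of_normal (p : ℕ) [Fact p.Prime] [CharP F p]
    (H Q : Subgroup (Matrix.ProjectiveSpecialLinearGroup (Fin 2) F)) (hQ : IsPGroup p Q)
    (hQ1 : Q ≠ ⊥)
    (hH : H ≤ Subgroup.normalizer (Q : Set (Matrix.ProjectiveSpecialLinearGroup (Fin 2) F))) :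
    ∃ P : Sylow p (Matrix.ProjectiveSpecialLinearGroup (Fin 2) F),
      Q ≤ (P : Subgroup (Matrix.ProjectiveSpecialLinearGroup (Fin 2) F)) ∧
      H ≤ Subgroup.normalizer ((P : Subgroup (Matrix.ProjectiveSpecialLinearGroup (Fin 2) F)) :
        Set (Matrix.ProjectiveSpecialLinearGroup (Fin 2) F)) := by
  obtain ⟨P, hP⟩ := hQ.exists_le_sylow
  refine ⟨P, hP, ?_⟩
  intro h hh
  obtain ⟨x, hxQ, hx1⟩ := Q.bot_or_exists_ne_one.resolve_left hQ1
  have h1 : h * x * h⁻¹ ∈ Q := (Subgroup.mem_normalizer_iff.mp (hH hh) x).mp hxQ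
  suffices hs : h • P = P from Sylow.smul_eq_iff_mem_normalizer.mp hs
  apply sylow_eq_of_mem p (h • P) P (h * x * h⁻¹) ?_ ?_ (hP h1)
  · intro h2
    apply hx1
    have : h * x * h⁻¹ = h * 1 * h⁻¹ := by rw [h2]; simp
    exact mul_left_cancel (mul_right_cancel this)
  · rw [Sylow.coe_subgroup_smul, Subgroup.mem_pointwise_smul_iff_inv_smul_mem, ← map_inv,
      MulAut.smul_def, MulAut.conj_apply, inv_inv]
    have : h⁻¹ * (h * x * h⁻¹) * h = x := by group
    rw [this]
    exact hP hxQ

/-- The version with a normal Sylow `p`-subgroup of `H`. -/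
theorem exists_le_normalizer_of_sylow_normal (p : ℕ) [Fact p.Prime] [CharP F p]
    (H : Subgroup (Matrix.ProjectiveSpecialLinearGroup (Fin 2) F)) (Q : Sylow p H)
    (hQ : (Q : Subgroup H).Normal) (hp : p ∣ Nat.card H) :
    ∃ P : Sylow p (Matrix.ProjectiveSpecialLinearGroup (Fin 2) F),
      H ≤ Subgroup.normalizer ((P : Subgroup (Matrix.ProjectiveSpecialLinearGroup (Fin 2) F)) :
        Set (Matrix.ProjectiveSpecialLinearGroup (Fin 2) F)) := by
  have h1 : IsPGroup p ((Q : Subgroup H).map H.subtype) := Q.2.map _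
  have h2 : (Q : Subgroup H).map H.subtype ≠ ⊥ := by
    intro h
    rw [Subgroup.map_eq_bot_iff_of_injective _ H.subtype_injective] at h
    exact Q.ne_bot_of_dvd_card hp h
  have h3 : H ≤ Subgroup.normalizer (((Q : Subgroup H).map H.subtype :
      Subgroup (Matrix.ProjectiveSpecialLinearGroup (Fin 2) F)) :
        Set (Matrix.ProjectiveSpecialLinearGroup (Fin 2) F)) := by
    intro h hh
    rw [Subgroup.mem_normalizer_iff]
    intro x
    constructor
    · rintro ⟨y, hy, rfl⟩
      exact ⟨⟨h, hh⟩ * y * ⟨h, hh⟩⁻¹, hQ.conj_mem y hy ⟨h, hh⟩, rfl⟩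
    · rintro ⟨y, hy, hy'⟩
      refine ⟨⟨h, hh⟩⁻¹ * y * ⟨h, hh⟩, ?_, ?_⟩
      · have h5 := hQ.conj_mem y hy (⟨h, hh⟩ : H)⁻¹
        rw [inv_inv] at h5
        exact h5
      · have hy' : (y : Matrix.ProjectiveSpecialLinearGroup (Fin 2) F) = h * x * h⁻¹ := hy'
        change h⁻¹ * (y : Matrix.ProjectiveSpecialLinearGroup (Fin 2) F) * h = x
        rw [hy']
        group
  obtain ⟨P, -, hP⟩ := le_normalizer_of_normal p H _ h1 h2 h3
  exact ⟨P, hP⟩

end Borel

end Cfsg.Agent.ClassicalGeometry.PSL2ElemOrder
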