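import Mathlib
import Cfsg.Agent.ClassicalGeometry.SplitTorus

/-!
# The subfield case of Dickson's theorem

* `exists_subfield`: a subgroup of `GL₂(F)`, `F` finite, containing `up 1` and `lo c`, and such that
  the orbit of `∞` is `A ∪ {∞}`, `A = {a | up a ∈ 𝒢}`: then `A` is a subfield `k` and
  `SL₂(k) ≤ 𝒢 ≤ Fˣ GL₂(k)`.
* `final`: such a group is, modulo scalars, isomorphic to `PSL₂(k)` or `PGL₂(k)`.
-/

set_option autoImplicit false

open Matrix Matrix.SpecialLinearGroup

namespace Cfsg.Agent.ClassicalGeometry.DicksonSubfield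

open Cfsg.Agent.ClassicalGeometry.SplitTorus

section field

variable {F : Type*} [Field F]

/-- An additive subgroup of a finite field containing `1` and closed under `a ↦ c / a` is a
subfield. -/
theorem exists_subfield_of_addSubgroup [Finite F] (A : AddSubgroup F) (h1 : (1 : F) ∈ A) (c : F)
    (hc : c ≠ 0) (hA : ∀ a ∈ A, a ≠ 0 → c / a ∈ A) : ∃ k : Subfield F, ∀ a, a ∈ k ↔ a ∈ A := by
  have hcA : c ∈ A := by simpa using hA 1 h1 one_ne_zero
  have H1 : ∀ a ∈ A, ∀ b ∈ A, a ^ 2 * b / c ∈ A := by
    intro a ha b hb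
    by_cases ha0 : a = 0
    · simp [ha0, A.zero_mem]
    by_cases hb0 : b = 0
    · simp [hb0, A.zero_mem]
    by_cases hab : c - a * b = 0
    · have : a ^ 2 * b / c = a := by
        have hc' : c = a * b := by linear_combination hab
        rw [hc']
        field_simp
      rw [this]
      exact ha
    · have e1 : c / b - a = (c - a * b) / b := by field_simp
      have m1 : c / b - a ∈ A := A.sub_mem (hA b hb hb0) ha
      have n1 : c / b - a ≠ 0 := by rw [e1]; exact div_ne_zero hab hb0
      have m2 : c / (c / b - a) ∈ A := hA _ m1 n1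
      have m3 : c / a + c / (c / b - a) ∈ A := A.add_mem (hA a ha ha0) m2
      have e3 : c / a + c / (c / b - a) = c ^ 2 / (a * (c - a * b)) := by
        rw [e1]
        field_simp
        ring
      have n3 : c / a + c / (c / b - a) ≠ 0 := by
        rw [e3]
        exact div_ne_zero (pow_ne_zero 2 hc) (mul_ne_zero ha0 hab)
      have m4 := A.sub_mem ha (hA _ m3 n3)
      have e4 : a - c / (c / a + c / (c / b - a)) = a ^ 2 * b / c := by
        rw [e3]
        field_simp
        ring
      rwa [e4] at m4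
  have H2 : ∀ b ∈ A, b / c ∈ A := by
    intro b hb
    have := H1 1 h1 b hb
    simpa using this
  have H2' : ∀ b ∈ A, c * b ∈ A := by
    intro b hb
    -- division by `c` is injective on the finite set `A`, hence surjective
    let f : A → A := fun x => ⟨x.1 / c, H2 x.1 x.2⟩
    have hf : Function.Injective f := by
      intro x y hxy
      have h2 : x.1 / c = y.1 / c := congrArg Subtype.val hxy
      apply Subtype.ext
      field_simp at h2
      exact h2
    have hs := Finite.surjective_of_injective hf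
    obtain ⟨x, hx⟩ := hs ⟨b, hb⟩
    have h2 : x.1 / c = b := congrArg Subtype.val hx
    have h3 : c * b = x.1 := by
      rw [← h2]
      field_simp
    rw [h3]
    exact x.2
  have H3 : ∀ a ∈ A, a⁻¹ ∈ A := by
    intro a ha
    by_cases ha0 : a = 0
    · simp [ha0, A.zero_mem]
    have := H2 _ (hA a ha ha0)
    have e : c / a / c = a⁻¹ := by field_simp
    rwa [e] at this
  have H1' : ∀ a ∈ A, ∀ b ∈ A, a ^ 2 * b ∈ A := by
    intro a ha b hb
    have h2 := H2' _ (H1 a ha b hb)
    have h3 : c * (a ^ 2 * b / c) = a ^ 2 * b := by field_simp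
    rwa [h3] at h2
  have H5 : ∀ a ∈ A, ∀ b ∈ A, a * b ∈ A := by
    intro a ha b hb
    by_cases h2 : (2 : F) = 0
    · -- squaring is injective on `A`
      let f : A → A := fun x => ⟨x.1 ^ 2 * 1, H1' x.1 x.2 1 h1⟩
      have hf : Function.Injective f := by
        intro x y hxy
        have h3 : x.1 ^ 2 * 1 = y.1 ^ 2 * 1 := congrArg Subtype.val hxy
        apply Subtype.ext
        have h4 : (x.1 - y.1) ^ 2 = 0 := by
          linear_combination h3 - (x.1 * y.1 - y.1 ^ 2) * h2
        exact sub_eq_zero.mp (pow_eq_zero_iff (two_ne_zero) |>.mp h4)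
      have hs := Finite.surjective_of_injective hf
      obtain ⟨x, hx⟩ := hs ⟨a, ha⟩
      have h3 : x.1 ^ 2 * 1 = a := congrArg Subtype.val hx
      rw [← h3, mul_one]
      exact H1' x.1 x.2 b hb
    · -- `4 a b = (a + b)² - (a - b)²`, and multiplication by `4` is injective on `A`
      let f : A → A := fun x => ⟨x.1 + x.1, A.add_mem x.2 x.2⟩
      have hf : Function.Injective f := by
        intro x y hxy
        have h3 : x.1 + x.1 = y.1 + y.1 := congrArg Subtype.val hxy
        apply Subtype.ext
        apply mul_left_cancel₀ h2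
        linear_combination h3
      have hs := Finite.surjective_of_injective hf
      have h3 : (a + b) ^ 2 * 1 - a ^ 2 * 1 - b ^ 2 * 1 ∈ A :=
        A.sub_mem (A.sub_mem (H1' _ (A.add_mem ha hb) 1 h1) (H1' a ha 1 h1)) (H1' b hb 1 h1)
      obtain ⟨x, hx⟩ := hs ⟨_, h3⟩
      have h4 : x.1 + x.1 = (a + b) ^ 2 * 1 - a ^ 2 * 1 - b ^ 2 * 1 := congrArg Subtype.val hx
      have h5 : a * b = x.1 := by
        apply mul_left_cancel₀ h2
        linear_combination (-1 : F) * h4
      rw [h5]
      exact x.2
  refine ⟨{ carrier := A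
            mul_mem' := fun {a b} ha hb => H5 a ha b hb
            one_mem' := h1
            add_mem' := fun {a b} ha hb => A.add_mem ha hb
            zero_mem' := A.zero_mem
            neg_mem' := fun {a} ha => A.neg_mem ha
            inv_mem' := H3 }, fun a => Iff.rfl⟩

end field

section group

variable {F : Type*} [Field F]

theorem gl_mul00 (A B : GL (Fin 2) F) : (A * B) 0 0 = A 0 0 * B 0 0 + A 0 1 * B 1 0 := by
  rw [GeneralLinearGroup.coe_mul, Matrix.mul_apply, Fin.sum_univ_two]

theorem gl_mul01 (A B : GL (Fin 2) F) : (A * B) 0 1 = A 0 0 * B 0 1 + A 0 1 * B 1 1 := by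
  rw [GeneralLinearGroup.coe_mul, Matrix.mul_apply, Fin.sum_univ_two]

theorem gl_mul10 (A B : GL (Fin 2) F) : (A * B) 1 0 = A 1 0 * B 0 0 + A 1 1 * B 1 0 := by
  rw [GeneralLinearGroup.coe_mul, Matrix.mul_apply, Fin.sum_univ_two]

theorem gl_mul11 (A B : GL (Fin 2) F) : (A * B) 1 1 = A 1 0 * B 0 1 + A 1 1 * B 1 1 := by
  rw [GeneralLinearGroup.coe_mul, Matrix.mul_apply, Fin.sum_univ_two]

theorem toGL_apply (A : SpecialLinearGroup (Fin 2) F) (i j : Fin 2) :
    (toGL A : GL (Fin 2) F) i j = A i j := rfl

theorem gl_det_ne (A : GL (Fin 2) F) : A 0 0 * A 1 1 - A 0 1 * A 1 0 ≠ 0 := by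
  have h := A.det_ne_zero
  rwa [det_fin_two] at h

/-- The subfield of a subgroup of `GL₂(F)` with orbit of `∞` equal to `A ∪ {∞}`. -/
theorem exists_subfield [Finite F] (G : Subgroup (GL (Fin 2) F)) (h1 : toGL (up (1 : F)) ∈ G)
    (c : F) (hc : c ≠ 0) (hl : toGL (lo c) ∈ G)
    (horb : ∀ g ∈ G, g 1 0 ≠ 0 → toGL (up (g 0 0 / g 1 0)) ∈ G) :
    ∃ k : Subfield F, (∀ a ∈ k, toGL (up a) ∈ G) ∧ (∀ a ∈ k, toGL (lo a) ∈ G) ∧
      (∀ g ∈ G, ∃ s : F, s ≠ 0 ∧ ∀ i j, s * g i j ∈ k) := by
  -- the additive group of parameters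
  let A : AddSubgroup F :=
    { carrier := {a | toGL (up a) ∈ G}
      add_mem' := fun {a b} ha hb => by
        change toGL (up (a + b)) ∈ G
        rw [up_add, map_mul]
        exact mul_mem ha hb
      zero_mem' := by
        change toGL (up (0 : F)) ∈ G
        rw [up_zero, map_one]
        exact one_mem G
      neg_mem' := fun {a} ha => by
        change toGL (up (-a)) ∈ G
        rw [up_neg, map_inv]
        exact inv_mem ha }
  have hmemA : ∀ a, a ∈ A ↔ toGL (up a) ∈ G := fun _ => Iff.rfl
  have hc1 : 1 / c ∈ A := by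
    have := horb _ hl (by rw [toGL_apply, lo10]; exact hc)
    rwa [toGL_apply, toGL_apply, lo00, lo10] at this
  -- the Weyl element
  obtain ⟨w, hw⟩ : ∃ w : GL (Fin 2) F,
      w = toGL (up (-(1 / c))) * toGL (lo c) * toGL (up (-(1 / c))) := ⟨_, rfl⟩
  have hwG : w ∈ G := by
    rw [hw]
    exact mul_mem (mul_mem (A.neg_mem hc1) hl) (A.neg_mem hc1)
  have hw00 : w 0 0 = 0 := by
    rw [hw, gl_mul00, gl_mul00, gl_mul01]
    simp only [toGL_apply, up00, up01, up10, up11, lo00, lo01, lo10, lo11]
    field_simp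
    ring
  have hw01 : w 0 1 = - (1 / c) := by
    rw [hw, gl_mul01, gl_mul00, gl_mul01]
    simp only [toGL_apply, up00, up01, up10, up11, lo00, lo01, lo10, lo11]
    field_simp
    ring
  have hw10 : w 1 0 = c := by
    rw [hw, gl_mul10, gl_mul10, gl_mul11]
    simp only [toGL_apply, up00, up01, up10, up11, lo00, lo01, lo10, lo11]
    ring
  have hw11 : w 1 1 = 0 := by
    rw [hw, gl_mul11, gl_mul10, gl_mul11]
    simp only [toGL_apply, up00, up01, up10, up11, lo00, lo01, lo10, lo11]
    field_simp
    ring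
  -- closure under `a ↦ c' / a`
  have hc2 : -(1 / c ^ 2) ≠ 0 := neg_ne_zero.mpr (one_div_ne_zero (pow_ne_zero 2 hc))
  have hinv : ∀ a ∈ A, a ≠ 0 → -(1 / c ^ 2) / a ∈ A := by
    intro a ha ha0
    have hm : w * toGL (up a) * w ∈ G := mul_mem (mul_mem hwG ha) hwG
    have e10 : (w * toGL (up a) * w) 1 0 = c ^ 2 * a := by
      rw [gl_mul10, gl_mul10, gl_mul11, hw10, hw11, hw00]
      simp only [toGL_apply, up00, up01, up10, up11]
      ring
    have e00 : (w * toGL (up a) * w) 0 0 = -1 := by
      rw [gl_mul00, gl_mul00, gl_mul01, hw10, hw00, hw01]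
      simp only [toGL_apply, up00, up01, up10, up11]
      field_simp
      ring
    have h2 := horb _ hm (by rw [e10]; exact mul_ne_zero (pow_ne_zero 2 hc) ha0)
    rw [e10, e00] at h2
    have h3 : -(1 / c ^ 2) / a = -1 / (c ^ 2 * a) := by field_simp
    rw [h3]
    exact h2
  obtain ⟨k, hk⟩ := exists_subfield_of_addSubgroup A h1 _ hc2 hinv
  have hkup : ∀ a ∈ k, toGL (up a) ∈ G := fun a ha => (hmemA a).mp ((hk a).mp ha)
  have hck : c ∈ k := by
    have h2 : 1 / c ∈ k := (hk _).mpr hc1
    have h3 := k.inv_mem h2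
    rwa [one_div, inv_inv] at h3
  refine ⟨k, hkup, ?_, ?_⟩
  · intro a ha
    have h2 : -(a / c ^ 2) ∈ k := k.neg_mem (k.div_mem ha (k.pow_mem hck 2))
    have h3 : toGL (lo a) = w * toGL (up (-(a / c ^ 2))) * w⁻¹ := by
      rw [eq_mul_inv_iff_mul_eq]
      apply GeneralLinearGroup.ext
      intro i j
      fin_cases i <;> fin_cases j
      · show (toGL (lo a) * w) 0 0 = (w * toGL (up (-(a / c ^ 2)))) 0 0
        rw [gl_mul00, gl_mul00, hw00, hw10]
        simp only [toGL_apply, lo00, lo01, up00, up10]
        ring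
      · show (toGL (lo a) * w) 0 1 = (w * toGL (up (-(a / c ^ 2)))) 0 1
        rw [gl_mul01, gl_mul01, hw00, hw01, hw11]
        simp only [toGL_apply, lo00, lo01, up01, up11]
        ring
      · show (toGL (lo a) * w) 1 0 = (w * toGL (up (-(a / c ^ 2)))) 1 0
        rw [gl_mul10, gl_mul10, hw00, hw10, hw11]
        simp only [toGL_apply, lo10, lo11, up00, up10]
        ring
      · show (toGL (lo a) * w) 1 1 = (w * toGL (up (-(a / c ^ 2)))) 1 1
        rw [gl_mul11, gl_mul11, hw01, hw10, hw11]
        simp only [toGL_apply, lo10, lo11, up01, up11]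
        field_simp
    rw [h3]
    exact mul_mem (mul_mem hwG (hkup _ h2)) (inv_mem hwG)
  · intro g hg
    -- the images of `∞`, `0`, `1`
    have hA : g 1 0 ≠ 0 → g 0 0 / g 1 0 ∈ k := fun h => (hk _).mpr (horb g hg h)
    have hB : g 1 1 ≠ 0 → g 0 1 / g 1 1 ∈ k := by
      intro h
      have e10 : (g * w) 1 0 = g 1 1 * c := by
        rw [gl_mul10, hw00, hw10]; ring
      have e00 : (g * w) 0 0 = g 0 1 * c := by
        rw [gl_mul00, hw00, hw10]; ring
      have h2 := horb _ (mul_mem hg hwG) (by rw [e10]; exact mul_ne_zero h hc)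
      rw [e10, e00] at h2
      have h3 : g 0 1 / g 1 1 = g 0 1 * c / (g 1 1 * c) := by field_simp
      rw [h3]
      exact (hk _).mpr h2
    have hC : g 1 0 + g 1 1 ≠ 0 → (g 0 0 + g 0 1) / (g 1 0 + g 1 1) ∈ k := by
      intro h
      have e10 : (g * toGL (up (1 : F)) * w) 1 0 = (g 1 0 + g 1 1) * c := by
        rw [gl_mul10, gl_mul10, gl_mul11, hw00, hw10]
        simp only [toGL_apply, up00, up01, up10, up11]
        ring
      have e00 : (g * toGL (up (1 : F)) * w) 0 0 = (g 0 0 + g 0 1) * c := by
        rw [gl_mul00, gl_mul00, gl_mul01, hw00, hw10]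
        simp only [toGL_apply, up00, up01, up10, up11]
        ring
      have h2 := horb _ (mul_mem (mul_mem hg h1) hwG) (by rw [e10]; exact mul_ne_zero h hc)
      rw [e10, e00] at h2
      have h3 : (g 0 0 + g 0 1) / (g 1 0 + g 1 1) =
          (g 0 0 + g 0 1) * c / ((g 1 0 + g 1 1) * c) := by field_simp
      rw [h3]
      exact (hk _).mpr h2
    have hdet := gl_det_ne g
    have hfin : ∀ s : F, s ≠ 0 → s * g 0 0 ∈ k → s * g 0 1 ∈ k → s * g 1 0 ∈ k →
        s * g 1 1 ∈ k → ∃ s : F, s ≠ 0 ∧ ∀ i j, s * g i j ∈ k := by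
      intro s hs h00 h01 h10 h11
      refine ⟨s, hs, fun i j => ?_⟩
      fin_cases i <;> fin_cases j
      · exact h00
      · exact h01
      · exact h10
      · exact h11
    by_cases h10 : g 1 0 = 0
    · have h11 : g 1 1 ≠ 0 := by
        intro h
        rw [h, h10] at hdet
        simp at hdet
      have hB' := hB h11
      have hC' := hC (by rw [h10, zero_add]; exact h11)
      rw [h10, zero_add] at hC'
      refine hfin (1 / g 1 1) (one_div_ne_zero h11) ?_ ?_ ?_ ?_
      · have h2 := k.sub_mem hC' hB'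
        have h3 : 1 / g 1 1 * g 0 0 = (g 0 0 + g 0 1) / g 1 1 - g 0 1 / g 1 1 := by
          field_simp
          ring
        rw [h3]
        exact h2
      · rw [one_div, inv_mul_eq_div]
        exact hB'
      · rw [h10, mul_zero]
        exact k.zero_mem
      · rw [one_div, inv_mul_cancel₀ h11]
        exact k.one_mem
    · have hA' := hA h10
      have hs : (1 / g 1 0) ≠ 0 := one_div_ne_zero h10
      have e00 : 1 / g 1 0 * g 0 0 ∈ k := by
        rw [one_div, inv_mul_eq_div]; exact hA'
      have e10 : 1 / g 1 0 * g 1 0 ∈ k := by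
        rw [one_div, inv_mul_cancel₀ h10]; exact k.one_mem
      by_cases h11 : g 1 1 = 0
      · have hC' := hC (by rw [h11, add_zero]; exact h10)
        rw [h11, add_zero] at hC'
        refine hfin _ hs e00 ?_ e10 ?_
        · have h2 := k.sub_mem hC' hA'
          have h3 : 1 / g 1 0 * g 0 1 = (g 0 0 + g 0 1) / g 1 0 - g 0 0 / g 1 0 := by
            field_simp
            ring
          rw [h3]
          exact h2
        · rw [h11, mul_zero]; exact k.zero_mem
      · have hB' := hB h11
        by_cases h1011 : g 1 0 + g 1 1 = 0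
        · have h2 : g 1 1 = - g 1 0 := by linear_combination h1011
          refine hfin _ hs e00 ?_ e10 ?_
          · have h3 : 1 / g 1 0 * g 0 1 = - (g 0 1 / g 1 1) := by
              rw [h2]
              field_simp
            rw [h3]
            exact k.neg_mem hB'
          · have h3 : 1 / g 1 0 * g 1 1 = -1 := by
              rw [h2]
              field_simp
            rw [h3]
            exact k.neg_mem k.one_mem
        · have hC' := hC h1011
          set m := (g 0 0 + g 0 1) / (g 1 0 + g 1 1) with hm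
          set m1 := g 0 0 / g 1 0 with hm1
          set m2 := g 0 1 / g 1 1 with hm2
          have q0 : g 0 0 + g 0 1 = m * (g 1 0 + g 1 1) := by rw [hm]; field_simp
          have q1 : g 0 0 = m1 * g 1 0 := by rw [hm1]; field_simp
          have q2 : g 0 1 = m2 * g 1 1 := by rw [hm2]; field_simp
          have q3 : (m1 - m) * g 1 0 = (m - m2) * g 1 1 := by
            linear_combination q0 - q1 - q2
          have hmm : m - m2 ≠ 0 := by
            intro h0
            rw [h0, zero_mul] at q3
            have h3 : m1 - m = 0 := (mul_eq_zero.mp q3).resolve_right h10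
            apply hdet
            rw [q1, q2]
            linear_combination (g 1 0 * g 1 1) * (h3 + h0)
          have hd : g 1 1 / g 1 0 ∈ k := by
            have h3 : g 1 1 / g 1 0 = (m1 - m) / (m - m2) := by
              field_simp
              linear_combination (-1 : F) * q3
            rw [h3]
            exact k.div_mem (k.sub_mem hA' hC') (k.sub_mem hC' hB')
          refine hfin _ hs e00 ?_ e10 ?_
          · have h3 : 1 / g 1 0 * g 0 1 = m2 * (g 1 1 / g 1 0) := by
              rw [q2]
              field_simp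
            rw [h3]
            exact k.mul_mem hB' hd
          · rw [one_div, inv_mul_eq_div]
            exact hd

end group

section final

variable {F K : Type*} [Field F] [Field K]

/-- In a finite field the product of two non-squares is a square. -/
theorem isSquare_mul_of_not [Finite K] {a b : K} (ha : ¬ IsSquare a) (hb : ¬ IsSquare b) :
    IsSquare (a * b) := by
  classical
  letI := Fintype.ofFinite K
  by_cases h0 : a * b = 0
  · rw [h0]
    exact IsSquare.zero
  · rw [← quadraticChar_neg_one_iff_not_isSquare] at ha hb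
    rw [← quadraticChar_one_iff_isSquare h0, map_mul, ha, hb]
    norm_num

theorem map_mem_center_iff (f : K →+* F) (g : GL (Fin 2) K) :
    GeneralLinearGroup.map f g ∈ Subgroup.center (GL (Fin 2) F) ↔
      g ∈ Subgroup.center (GL (Fin 2) K) := by
  rw [GeneralLinearGroup.mem_center_iff_val_mem_range_scalar,
    GeneralLinearGroup.mem_center_iff_val_mem_range_scalar]
  constructor
  · rintro ⟨r, hr⟩
    have h00 : r = f (g 0 0) := by
      have := congrFun (congrFun hr 0) 0
      simpa using this
    have h01 : f (g 0 1) = 0 := by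
      have := congrFun (congrFun hr 0) 1
      simpa using this.symm
    have h10 : f (g 1 0) = 0 := by
      have := congrFun (congrFun hr 1) 0
      simpa using this.symm
    have h11 : r = f (g 1 1) := by
      have := congrFun (congrFun hr 1) 1
      simpa using this
    rw [map_eq_zero] at h01 h10
    have h : g 0 0 = g 1 1 := f.injective (h00.symm.trans h11)
    refine ⟨g 0 0, ?_⟩
    ext i j
    fin_cases i <;> fin_cases j
    · simp
    · simp [h01]
    · simp [h10]
    · simp [h]
  · rintro ⟨r, hr⟩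
    refine ⟨f r, ?_⟩
    ext i j
    have h1 : (GeneralLinearGroup.map f g : Matrix (Fin 2) (Fin 2) F) i j = f (g i j) := rfl
    rw [h1, ← hr]
    by_cases hij : i = j
    · subst hij
      simp
    · simp [hij]

/-- An element of `GL₂(K)` with square determinant is a scalar times an element of `SL₂(K)`. -/
theorem exists_sl_of_isSquare (g : GL (Fin 2) K)
    (hg : IsSquare ((g : Matrix (Fin 2) (Fin 2) K).det)) :
    ∃ (t : Kˣ) (A : SpecialLinearGroup (Fin 2) K), g = GeneralLinearGroup.scalar (Fin 2) t *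
      toGL A := by
  obtain ⟨t, ht⟩ := hg
  have hdet : (g : Matrix (Fin 2) (Fin 2) K).det ≠ 0 := g.det_ne_zero
  have ht0 : t ≠ 0 := by
    rintro rfl
    rw [mul_zero] at ht
    exact hdet ht
  refine ⟨Units.mk0 t ht0, ⟨t⁻¹ • (g : Matrix (Fin 2) (Fin 2) K), ?_⟩, ?_⟩
  · rw [det_smul, Fintype.card_fin, ht]
    field_simp
  · apply Units.ext
    rw [Units.val_mul, GeneralLinearGroup.coe_scalar]
    show (g : Matrix (Fin 2) (Fin 2) K) = Matrix.scalar (Fin 2) t * (t⁻¹ • (g : Matrix _ _ K))
    rw [Matrix.mul_smul, Matrix.scalar_apply, ← Matrix.smul_eq_diagonal_mul, smul_smul,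
      inv_mul_cancel₀ ht0, one_smul]

/-- A subgroup of a quotient of `GL₂(F)` by its centre lying between the images of `SL₂(K)` and
`GL₂(K)`, `K` finite, is isomorphic to `PSL₂(K)` or `PGL₂(K)`. -/
theorem final [Finite K] (f : K →+* F) {P : Type*} [Group P] (ψ : GL (Fin 2) F →* P)
    (hψ : ψ.ker = Subgroup.center (GL (Fin 2) F)) (H : Subgroup P)
    (h1 : ∀ A : SpecialLinearGroup (Fin 2) K, ψ (GeneralLinearGroup.map f (toGL A)) ∈ H)
    (h2 : ∀ x ∈ H, ∃ g : GL (Fin 2) F, ψ g = x ∧ ∃ s : F, s ≠ 0 ∧
      ∀ i j, ∃ m : K, f m = s * g i j) :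
    Nonempty (H ≃* ProjectiveSpecialLinearGroup (Fin 2) K) ∨
      Nonempty (H ≃* ProjGenLinGroup (Fin 2) K) := by
  set φ₂ : GL (Fin 2) K →* P := ψ.comp (GeneralLinearGroup.map f) with hφ₂
  set φ₁ : SpecialLinearGroup (Fin 2) K →* P := φ₂.comp toGL with hφ₁
  have hker2 : φ₂.ker = Subgroup.center (GL (Fin 2) K) := by
    ext g
    rw [MonoidHom.mem_ker, hφ₂, MonoidHom.comp_apply, ← MonoidHom.mem_ker, hψ,
      map_mem_center_iff]
  have hker1 : φ₁.ker = Subgroup.center (SpecialLinearGroup (Fin 2) K) := by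
    ext g
    rw [MonoidHom.mem_ker, hφ₁, MonoidHom.comp_apply, ← MonoidHom.mem_ker, hker2,
      SpecialLinearGroup.toGL_mem_center_iff]
  -- every element of `H` is in the range of `φ₂`
  have hrange2 : H ≤ φ₂.range := by
    intro x hx
    obtain ⟨g, rfl, s, hs, hm⟩ := h2 x hx
    choose m hm using hm
    have hdet : (Matrix.of m : Matrix (Fin 2) (Fin 2) K).det ≠ 0 := by
      intro h0
      have h3 : f ((Matrix.of m : Matrix (Fin 2) (Fin 2) K).det) = 0 := by rw [h0, map_zero]
      rw [det_fin_two, map_sub, map_mul, map_mul] at h3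
      simp only [Matrix.of_apply, hm] at h3
      have h4 := g.det_ne_zero
      rw [det_fin_two] at h4
      apply h4
      have h5 : s ^ 2 * (g 0 0 * g 1 1 - g 0 1 * g 1 0) = 0 := by linear_combination h3
      exact (mul_eq_zero.mp h5).resolve_left (pow_ne_zero 2 hs)
    refine ⟨GeneralLinearGroup.mkOfDetNeZero (Matrix.of m) hdet, ?_⟩
    rw [hφ₂, MonoidHom.comp_apply]
    have h6 : GeneralLinearGroup.map f (GeneralLinearGroup.mkOfDetNeZero (Matrix.of m) hdet) =
        GeneralLinearGroup.scalar (Fin 2) (Units.mk0 s hs) * g := by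
      apply Units.ext
      rw [Units.val_mul, GeneralLinearGroup.coe_scalar]
      ext i j
      rw [Matrix.scalar_apply, ← Matrix.smul_eq_diagonal_mul]
      exact hm i j
    rw [h6, map_mul]
    have h7 : ψ (GeneralLinearGroup.scalar (Fin 2) (Units.mk0 s hs)) = 1 := by
      rw [← MonoidHom.mem_ker, hψ, GeneralLinearGroup.center_eq_range_scalar]
      exact ⟨_, rfl⟩
    rw [h7, one_mul]
  have hrange1 : φ₁.range ≤ H := by
    rintro _ ⟨A, rfl⟩
    exact h1 A
  have hsq : ∀ g : GL (Fin 2) K, IsSquare ((g : Matrix (Fin 2) (Fin 2) K).det) → φ₂ g ∈ H := by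
    intro g hg
    obtain ⟨t, A, rfl⟩ := exists_sl_of_isSquare g hg
    rw [map_mul]
    have h7 : φ₂ (GeneralLinearGroup.scalar (Fin 2) t) = 1 := by
      rw [← MonoidHom.mem_ker, hker2, GeneralLinearGroup.center_eq_range_scalar]
      exact ⟨_, rfl⟩
    rw [h7, one_mul]
    exact h1 A
  by_cases hcase : H ≤ φ₁.range
  · left
    have heq : H = φ₁.range := le_antisymm hcase hrange1
    exact ⟨(MulEquiv.subgroupCongr heq).trans ((QuotientGroup.quotientKerEquivRange φ₁).symm.trans
      (QuotientGroup.quotientMulEquivOfEq hker1))⟩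
  · right
    obtain ⟨x, hxH, hx1⟩ := SetLike.not_le_iff_exists.mp hcase
    obtain ⟨g, rfl⟩ := hrange2 hxH
    have hg : ¬ IsSquare ((g : Matrix (Fin 2) (Fin 2) K).det) := by
      intro hg
      apply hx1
      obtain ⟨t, A, rfl⟩ := exists_sl_of_isSquare g hg
      rw [map_mul]
      have h7 : φ₂ (GeneralLinearGroup.scalar (Fin 2) t) = 1 := by
        rw [← MonoidHom.mem_ker, hker2, GeneralLinearGroup.center_eq_range_scalar]
        exact ⟨_, rfl⟩
      rw [h7, one_mul]
      exact ⟨A, rfl⟩
    have heq : H = φ₂.range := by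
      apply le_antisymm hrange2
      rintro _ ⟨k, rfl⟩
      by_cases hk : IsSquare ((k : Matrix (Fin 2) (Fin 2) K).det)
      · exact hsq k hk
      · have h3 : φ₂ (g * k) ∈ H := by
          apply hsq
          rw [Units.val_mul, det_mul]
          exact isSquare_mul_of_not hg hk
        rw [map_mul] at h3
        have h4 := mul_mem (inv_mem hxH) h3
        rwa [inv_mul_cancel_left] at h4
    exact ⟨(MulEquiv.subgroupCongr heq).trans ((QuotientGroup.quotientKerEquivRange φ₂).symm.trans
      (QuotientGroup.quotientMulEquivOfEq hker2))⟩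

end final

end Cfsg.Agent.ClassicalGeometry.DicksonSubfield
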