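import Mathlib

set_option autoImplicit false

/-!
Orders of elements of `SL_2(q)`: `g ^ (q-1) = 1` or `g ^ (q+1) = 1` or `g ^ (2p) = 1`.
-/

namespace Cfsg.Agent.ClassicalGeometry.SL2Order

open Matrix Polynomial

theorem pow_cases {F : Type*} [Field F] [Fintype F] {q : ℕ} (hF : Fintype.card F = q) (p : ℕ)
    [Fact p.Prime] [CharP F p] (g : Matrix.SpecialLinearGroup (Fin 2) F) :
    g ^ (q - 1) = 1 ∨ g ^ (q + 1) = 1 ∨ g ^ (2 * p) = 1 := by
  classical
  set k := AlgebraicClosure F with hk
  have hp : p.Prime := Fact.out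
  have : CharP k p := charP_of_injective_algebraMap (algebraMap F k).injective p
  set A : Matrix (Fin 2) (Fin 2) F := (g : Matrix (Fin 2) (Fin 2) F) with hA
  set t : F := A.trace with ht
  set f : F →+* k := algebraMap F k with hf
  have hfinj : Function.Injective f := f.injective
  -- root of the characteristic polynomial
  obtain ⟨l, hl⟩ : ∃ l : k, l ^ 2 - f t * l + 1 = 0 := by
    have hdeg : (X ^ 2 - C (f t) * X + C 1 : k[X]).degree ≠ 0 := by
      have : (X ^ 2 - C (f t) * X + C 1 : k[X]) = C 1 * X ^ 2 + C (-(f t)) * X + C 1 := by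
        simp only [map_one, one_mul, map_neg, neg_mul]; ring
      rw [this, degree_quadratic one_ne_zero]
      decide
    obtain ⟨l, hl⟩ := IsAlgClosed.exists_root _ hdeg
    exact ⟨l, by simpa using hl⟩
  set m : k := f t - l with hm
  have hlm : l * m = 1 := by rw [hm]; linear_combination -hl
  have hlm' : l + m = f t := by rw [hm]; ring
  have hl0 : l ≠ 0 := left_ne_zero_of_mul_eq_one hlm
  have hm0 : m ≠ 0 := right_ne_zero_of_mul_eq_one hlm
  have hq1 : 1 < q := hF ▸ Fintype.one_lt_card
  -- Frobenius
  have hfrob : ∀ x y : k, (x + y) ^ q = x ^ q + y ^ q := by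
    intro x y
    obtain ⟨n, -, hn⟩ := FiniteField.card F p
    rw [← hF, hn]
    exact add_pow_char_pow x y p _
  have htq : f t ^ q = f t := by
    rw [← map_pow, ← hF, FiniteField.pow_card]
  have hsum : l ^ q + m ^ q = f t := by rw [← hfrob, hlm', htq]
  have hprod : l ^ q * m ^ q = 1 := by rw [← mul_pow, hlm, one_pow]
  have hroot : (l ^ q - l) * (l ^ q - m) = 0 := by
    have h1 : m ^ q = f t - l ^ q := by rw [← hsum]; ring
    rw [h1] at hprod
    have : (l ^ q - l) * (l ^ q - m) = l ^ q * l ^ q - l ^ q * (l + m) + l * m := by ring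
    rw [this, hlm, hlm']
    linear_combination -hprod
  -- the matrix over k
  set B : Matrix (Fin 2) (Fin 2) k := A.map f with hB
  have hdetA : A.det = 1 := g.2
  have hCH : (B - algebraMap k _ l) * (B - algebraMap k _ m) = 0 := by
    have h0 : B * B - (f t) • B + 1 = 0 := by
      have h1 := Matrix.aeval_self_charpoly B
      rw [Matrix.charpoly_fin_two] at h1
      have h2 : B.trace = f t := by
        rw [hB, ht]
        exact (AddMonoidHom.map_trace f.toAddMonoidHom A).symm
      have h3 : B.det = 1 := by
        rw [hB]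
        have := (RingHom.map_det f A).symm
        rw [hdetA, map_one] at this
        exact this
      rw [h2, h3] at h1
      simpa [pow_two, Algebra.smul_def] using h1
    have h4 : (B - algebraMap k _ l) * (B - algebraMap k _ m)
        = B * B - (l + m) • B + (l * m) • 1 := by
      rw [sub_mul, mul_sub, mul_sub, ← Algebra.commutes, ← map_mul, add_smul,
        Algebra.smul_def, Algebra.smul_def, Algebra.smul_def, mul_one]
      abel
    rw [h4, hlm, hlm', one_smul]
    exact h0
  have hpow_inj : ∀ n : ℕ, B ^ n = 1 → g ^ n = 1 := by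
    intro n hn
    apply Subtype.ext
    rw [Matrix.SpecialLinearGroup.coe_pow, Matrix.SpecialLinearGroup.coe_one]
    have h1 : (A ^ n).map f = (1 : Matrix (Fin 2) (Fin 2) F).map f := by
      have h2 : (A ^ n).map f = B ^ n := by
        have := map_pow (RingHom.mapMatrix (m := Fin 2) f) A n
        simpa [RingHom.mapMatrix_apply] using this
      rw [h2, hn, Matrix.map_one _ (map_zero f) (map_one f)]
    exact Matrix.map_injective hfinj h1
  by_cases hne : l = m
  · -- repeated eigenvalue
    right; right
    apply hpow_inj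
    rw [← hne] at hCH hlm
    have h1 : (B - algebraMap k _ l) ^ p = 0 := by
      obtain ⟨r, hr⟩ := Nat.exists_eq_add_of_le hp.two_le
      rw [hr, pow_add, pow_two, hCH, zero_mul]
    have : CharP (Matrix (Fin 2) (Fin 2) k) p := inferInstance
    have h2 : B ^ p = algebraMap k _ (l ^ p) := by
      have hc : Commute B (algebraMap k (Matrix (Fin 2) (Fin 2) k) l) :=
        (Algebra.commutes l B).symm
      rw [sub_pow_char_of_commute p hc] at h1
      rw [map_pow]
      exact sub_eq_zero.1 h1
    rw [mul_comm, pow_mul, h2, ← map_pow, ← pow_mul, mul_comm, pow_mul, pow_two, hlm, one_pow,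
      map_one]
  · -- distinct eigenvalues
    have hcop : IsCoprime (X - C l : k[X]) (X - C m) :=
      Polynomial.isCoprime_X_sub_C_of_isUnit_sub (isUnit_iff_ne_zero.2 (sub_ne_zero.2 hne))
    have key : ∀ n : ℕ, l ^ n = 1 → m ^ n = 1 → B ^ n = 1 := by
      intro n h1 h2
      have d1 : (X - C l : k[X]) ∣ X ^ n - 1 := by
        rw [dvd_iff_isRoot]; simp [h1]
      have d2 : (X - C m : k[X]) ∣ X ^ n - 1 := by
        rw [dvd_iff_isRoot]; simp [h2]
      obtain ⟨c, hc⟩ := hcop.mul_dvd d1 d2
      have h3 := congrArg (aeval B) hc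
      have h4 : (aeval B) ((X - C l) * (X - C m) * c : k[X]) = 0 := by
        rw [map_mul, map_mul]
        have : (aeval B) (X - C l : k[X]) * (aeval B) (X - C m : k[X]) = 0 := by
          simpa using hCH
        rw [this, zero_mul]
      rw [h4] at h3
      have h5 : B ^ n - 1 = 0 := by simpa using h3
      exact sub_eq_zero.1 h5
    rcases mul_eq_zero.1 hroot with h | h
    · left
      apply hpow_inj
      have e1 : l ^ (q - 1) = 1 := by
        have : l ^ (q - 1) * l = 1 * l := by
          rw [← pow_succ, Nat.sub_add_cancel hq1.le, one_mul]; exact sub_eq_zero.1 h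
        exact mul_right_cancel₀ hl0 this
      have e2 : m ^ (q - 1) = 1 := by
        have : l ^ (q - 1) * m ^ (q - 1) = 1 := by rw [← mul_pow, hlm, one_pow]
        rwa [e1, one_mul] at this
      exact key _ e1 e2
    · right; left
      apply hpow_inj
      have e1 : l ^ (q + 1) = 1 := by
        rw [pow_succ, sub_eq_zero.1 h, mul_comm, hlm]
      have e2 : m ^ (q + 1) = 1 := by
        have : l ^ (q + 1) * m ^ (q + 1) = 1 := by rw [← mul_pow, hlm, one_pow]
        rwa [e1, one_mul] at this
      exact key _ e1 e2

end Cfsg.Agent.ClassicalGeometry.SL2Order
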