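import Mathlib
import Cfsg.Prelude.Def_ClassicalGeometry
import Cfsg.Agent.ClassicalGeometry.Reflection

/-!
Involutions of `PΩ_{2m+1}(q)`, `q` odd: at least `m` conjugacy classes.
-/

set_option autoImplicit false
set_option linter.unusedSectionVars false

namespace Cfsg.Agent.ClassicalGeometry.OddInvolutions

open Cfsg Matrix
open Cfsg.Agent.ClassicalGeometry.Reflection
open scoped Matrix

/-! ### Transport -/

/-- The commutator subgroups modulo centres of isomorphic groups are isomorphic. -/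
theorem commutator_quot_center_congr {G H : Type*} [Group G] [Group H] (e : G ≃* H) :
    Nonempty ((commutator G ⧸ Subgroup.center (commutator G)) ≃*
      (commutator H ⧸ Subgroup.center (commutator H))) := by
  have h1 : (commutator G).map (e : G →* H) = commutator H := by
    rw [_root_.commutator_def, _root_.commutator_def, Subgroup.map_commutator]
    rw [Subgroup.map_top_of_surjective _ e.surjective]
  let E : commutator G ≃* commutator H := (e.subgroupMap (commutator G)).trans
    (MulEquiv.subgroupCongr h1)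
  refine ⟨QuotientGroup.congr _ _ E ?_⟩
  ext x
  rw [Subgroup.mem_map]
  constructor
  · rintro ⟨y, hy, rfl⟩
    rw [Subgroup.mem_center_iff] at hy ⊢
    intro g
    obtain ⟨g', rfl⟩ := E.surjective g
    have := congrArg E (hy g')
    simpa using this
  · intro hx
    obtain ⟨y, rfl⟩ := E.surjective x
    refine ⟨y, ?_, rfl⟩
    rw [Subgroup.mem_center_iff] at hx ⊢
    intro g
    have := hx (E g)
    rw [← map_mul, ← map_mul] at this
    exact E.injective this

section Transport

variable {ι : Type} [Fintype ι] [DecidableEq ι] {F : Type*} [Field F]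

theorem isometryGroup_map (Q : (ι → F) → F) (P : Matrix.GeneralLinearGroup ι F) :
    (isometryGroup F (fun v => Q ((P : Matrix ι ι F) *ᵥ v))).map
      ((MulAut.conj P : Matrix.GeneralLinearGroup ι F ≃* Matrix.GeneralLinearGroup ι F) :
        Matrix.GeneralLinearGroup ι F →* Matrix.GeneralLinearGroup ι F) = isometryGroup F Q := by
  have hPP : ∀ x : ι → F, (P : Matrix ι ι F) *ᵥ (((P⁻¹ : Matrix.GeneralLinearGroup ι F) : Matrix ι ι F) *ᵥ x) = x := by
    intro x
    rw [Matrix.mulVec_mulVec, ← Units.val_mul, mul_inv_cancel, Units.val_one, Matrix.one_mulVec]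
  have hPP' : ∀ x : ι → F, ((P⁻¹ : Matrix.GeneralLinearGroup ι F) : Matrix ι ι F) *ᵥ ((P : Matrix ι ι F) *ᵥ x) = x := by
    intro x
    rw [Matrix.mulVec_mulVec, ← Units.val_mul, inv_mul_cancel, Units.val_one, Matrix.one_mulVec]
  ext g
  rw [Subgroup.mem_map]
  constructor
  · rintro ⟨h, hh, rfl⟩
    rw [mem_isometryGroup_iff] at hh ⊢
    intro x
    show Q (((P * h * P⁻¹ : Matrix.GeneralLinearGroup ι F) : Matrix ι ι F) *ᵥ x) = Q x
    rw [Units.val_mul, Units.val_mul, ← Matrix.mulVec_mulVec, ← Matrix.mulVec_mulVec]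
    have := hh (((P⁻¹ : Matrix.GeneralLinearGroup ι F) : Matrix ι ι F) *ᵥ x)
    rw [this, hPP]
  · intro hg
    rw [mem_isometryGroup_iff] at hg
    refine ⟨P⁻¹ * g * P, ?_, ?_⟩
    · rw [mem_isometryGroup_iff]
      intro x
      show Q ((P : Matrix ι ι F) *ᵥ (((P⁻¹ * g * P : Matrix.GeneralLinearGroup ι F) : Matrix ι ι F) *ᵥ x)) =
        Q ((P : Matrix ι ι F) *ᵥ x)
      rw [Units.val_mul, Units.val_mul, ← Matrix.mulVec_mulVec, ← Matrix.mulVec_mulVec, hPP, hg]
    · show P * (P⁻¹ * g * P) * P⁻¹ = g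
      group

/-- `PΩ` of a form and of the form in other coordinates are isomorphic. -/
theorem pomega_congr (Q : (ι → F) → F) (P : Matrix.GeneralLinearGroup ι F) :
    Nonempty (POmega F (fun v => Q ((P : Matrix ι ι F) *ᵥ v)) ≃* POmega F Q) := by
  let E : isometryGroup F (fun v => Q ((P : Matrix ι ι F) *ᵥ v)) ≃* isometryGroup F Q :=
    ((MulAut.conj P : Matrix.GeneralLinearGroup ι F ≃* Matrix.GeneralLinearGroup ι F).subgroupMap _).trans
      (MulEquiv.subgroupCongr (isometryGroup_map Q P))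
  exact commutator_quot_center_congr E

end Transport

/-! ### Diagonal forms -/

section Diag

variable {ι : Type} [Fintype ι] [DecidableEq ι] {F : Type*} [Field F]

/-- The diagonal form. -/
abbrev DQ (c : ι → F) : QuadraticForm F (ι → F) := QuadraticMap.weightedSumSquares F c

theorem DQ_apply (c : ι → F) (v : ι → F) : DQ c v = ∑ i, c i * (v i * v i) := by
  rw [DQ, QuadraticMap.weightedSumSquares_apply]
  rfl

theorem polar_DQ (c : ι → F) (u v : ι → F) :
    QuadraticMap.polar (⇑(DQ c)) u v = ∑ i, 2 * (c i * (u i * v i)) := by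
  rw [QuadraticMap.polar, DQ_apply, DQ_apply, DQ_apply, ← Finset.sum_sub_distrib,
    ← Finset.sum_sub_distrib]
  refine Finset.sum_congr rfl fun i _ => ?_
  simp only [Pi.add_apply]
  ring

/-- Diagonal matrices with entries of square one as isometries. -/
def dg (c : ι → F) (d : ι → F) (hd : ∀ i, d i * d i = 1) : isometryGroup F (⇑(DQ c)) :=
  ⟨⟨Matrix.diagonal d, Matrix.diagonal d,
    by rw [Matrix.diagonal_mul_diagonal]; simp only [hd]; exact Matrix.diagonal_one,
    by rw [Matrix.diagonal_mul_diagonal]; simp only [hd]; exact Matrix.diagonal_one⟩, by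
    rw [mem_isometryGroup_iff]
    intro x
    rw [DQ_apply, DQ_apply]
    refine Finset.sum_congr rfl fun i _ => ?_
    show c i * ((Matrix.diagonal d *ᵥ x) i * (Matrix.diagonal d *ᵥ x) i) = c i * (x i * x i)
    rw [Matrix.mulVec_diagonal]
    linear_combination (c i * x i * x i) * hd i⟩

theorem dg_mulVec (c : ι → F) (d : ι → F) (hd : ∀ i, d i * d i = 1) (x : ι → F) (i : ι) :
    ((((dg c d hd : Matrix.GeneralLinearGroup ι F) : Matrix ι ι F)) *ᵥ x) i = d i * x i := by
  show (Matrix.diagonal d *ᵥ x) i = _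
  rw [Matrix.mulVec_diagonal]

/-- Involutive permutations preserving the coefficients as isometries. -/
def pm (c : ι → F) (τ : Equiv.Perm ι) (hτ : ∀ i, τ (τ i) = i) (hc : ∀ i, c (τ i) = c i) :
    isometryGroup F (⇑(DQ c)) :=
  ⟨⟨τ.toPEquiv.toMatrix, τ.toPEquiv.toMatrix,
    by
      apply Matrix.mulVec_injective
      funext x
      rw [← Matrix.mulVec_mulVec, Matrix.one_mulVec, PEquiv.toMatrix_toPEquiv_mulVec,
        PEquiv.toMatrix_toPEquiv_mulVec]
      funext i
      simp [hτ],
    by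
      apply Matrix.mulVec_injective
      funext x
      rw [← Matrix.mulVec_mulVec, Matrix.one_mulVec, PEquiv.toMatrix_toPEquiv_mulVec,
        PEquiv.toMatrix_toPEquiv_mulVec]
      funext i
      simp [hτ]⟩, by
    rw [mem_isometryGroup_iff]
    intro x
    rw [DQ_apply, DQ_apply]
    show ∑ i, c i * ((τ.toPEquiv.toMatrix *ᵥ x) i * (τ.toPEquiv.toMatrix *ᵥ x) i) = _
    rw [PEquiv.toMatrix_toPEquiv_mulVec]
    rw [← Equiv.sum_comp τ (fun i => c i * (x i * x i))]
    refine Finset.sum_congr rfl fun i _ => ?_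
    rw [hc]
    rfl⟩

theorem pm_mulVec (c : ι → F) (τ : Equiv.Perm ι) (hτ : ∀ i, τ (τ i) = i)
    (hc : ∀ i, c (τ i) = c i) (x : ι → F) (i : ι) :
    ((((pm c τ hτ hc : Matrix.GeneralLinearGroup ι F) : Matrix ι ι F)) *ᵥ x) i = x (τ i) := by
  show (τ.toPEquiv.toMatrix *ᵥ x) i = _
  rw [PEquiv.toMatrix_toPEquiv_mulVec]
  rfl

theorem dg_inv (c : ι → F) (d : ι → F) (hd : ∀ i, d i * d i = 1) :
    (dg c d hd)⁻¹ = dg c d hd := by
  rw [inv_eq_iff_mul_eq_one]
  apply isometryGroup_ext
  intro x
  rw [coe_mul_mulVec]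
  funext i
  rw [dg_mulVec, dg_mulVec, ← mul_assoc, hd, one_mul]
  simp

theorem pm_inv (c : ι → F) (τ : Equiv.Perm ι) (hτ : ∀ i, τ (τ i) = i)
    (hc : ∀ i, c (τ i) = c i) : (pm c τ hτ hc)⁻¹ = pm c τ hτ hc := by
  rw [inv_eq_iff_mul_eq_one]
  apply isometryGroup_ext
  intro x
  rw [coe_mul_mulVec]
  funext i
  rw [pm_mulVec, pm_mulVec, hτ]
  simp

/-- The sign vector of a finite set. -/
def sg (F : Type*) [Field F] (S : Finset ι) (i : ι) : F := if i ∈ S then -1 else 1

theorem sg_mul_self (S : Finset ι) (i : ι) : sg F S i * sg F S i = 1 := by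
  unfold sg
  split_ifs <;> simp

/-- `-1` on the coordinates in `S`. -/
def ds (c : ι → F) (S : Finset ι) : isometryGroup F (⇑(DQ c)) := dg c (sg F S) (sg_mul_self S)

theorem ds_mulVec (c : ι → F) (S : Finset ι) (x : ι → F) (i : ι) :
    ((((ds c S : Matrix.GeneralLinearGroup ι F) : Matrix ι ι F)) *ᵥ x) i = sg F S i * x i :=
  dg_mulVec _ _ _ _ _

theorem ds_mul_of_disjoint (c : ι → F) {S T : Finset ι} (h : Disjoint S T) :
    ds c (S ∪ T) = ds c S * ds c T := by
  apply isometryGroup_ext
  intro x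
  rw [coe_mul_mulVec]
  funext i
  rw [ds_mulVec, ds_mulVec, ds_mulVec, ← mul_assoc]
  congr 1
  unfold sg
  by_cases hS : i ∈ S
  · have hT : i ∉ T := Finset.disjoint_left.mp h hS
    simp [hS, hT]
  · by_cases hT : i ∈ T <;> simp [hS, hT]

theorem ds_empty (c : ι → F) : ds c (∅ : Finset ι) = 1 := by
  apply isometryGroup_ext
  intro x
  funext i
  rw [ds_mulVec]
  simp [sg]

/-- `-1` on two coordinates with equal coefficients lies in `Ω`. -/
theorem ds_pair_mem (c : ι → F) {a b : ι} (hab : a ≠ b) (hc : c a = c b) :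
    ds c {a, b} ∈ Omega F (⇑(DQ c)) := by
  have hτ : ∀ i, Equiv.swap a b (Equiv.swap a b i) = i := Equiv.swap_apply_self a b
  have hcτ : ∀ i, c (Equiv.swap a b i) = c i := by
    intro i
    by_cases hia : i = a
    · subst hia; rw [Equiv.swap_apply_left, hc]
    · by_cases hib : i = b
      · subst hib; rw [Equiv.swap_apply_right, hc]
      · rw [Equiv.swap_apply_of_ne_of_ne hia hib]
  have : ds c {a, b} = pm c (Equiv.swap a b) hτ hcτ * ds c {a} * (pm c (Equiv.swap a b) hτ hcτ)⁻¹ *
      (ds c {a})⁻¹ := by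
    rw [pm_inv, ds, ds, dg_inv]
    apply isometryGroup_ext
    intro x
    rw [coe_mul_mulVec, coe_mul_mulVec, coe_mul_mulVec]
    funext i
    rw [dg_mulVec, pm_mulVec, dg_mulVec, pm_mulVec, dg_mulVec, hτ, ← mul_assoc]
    congr 1
    unfold sg
    by_cases hia : i = a
    · subst hia; simp [hab.symm]
    · by_cases hib : i = b
      · subst hib; simp [hia]
      · rw [Equiv.swap_apply_of_ne_of_ne hia hib]
        simp [hia, hib]
  rw [this]
  exact Subgroup.commutator_mem_commutator (Subgroup.mem_top _) (Subgroup.mem_top _)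

/-- `-1` on an even set of coordinates with equal coefficients lies in `Ω`. -/
theorem ds_even_mem (c : ι → F) (n : ℕ) (S : Finset ι) (hS : S.card = 2 * n)
    (hc : ∀ a ∈ S, ∀ b ∈ S, c a = c b) : ds c S ∈ Omega F (⇑(DQ c)) := by
  induction n generalizing S with
  | zero =>
    have : S = ∅ := Finset.card_eq_zero.mp (by simpa using hS)
    subst this
    rw [ds_empty]
    exact Subgroup.one_mem _
  | succ n ih =>
    obtain ⟨a, b, ha, hb, hab⟩ : ∃ a b, a ∈ S ∧ b ∈ S ∧ a ≠ b := by
      have : 1 < S.card := by omega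
      obtain ⟨a, ha, b, hb, hab⟩ := Finset.one_lt_card.mp this
      exact ⟨a, b, ha, hb, hab⟩
    have hsub : ({a, b} : Finset ι) ⊆ S := by
      intro x hx
      simp only [Finset.mem_insert, Finset.mem_singleton] at hx
      rcases hx with rfl | rfl <;> assumption
    have hcard : (S \ {a, b}).card = 2 * n := by
      rw [Finset.card_sdiff_of_subset hsub, Finset.card_pair hab]
      omega
    have hdis : Disjoint ({a, b} : Finset ι) (S \ {a, b}) := Finset.disjoint_sdiff
    have := ds_mul_of_disjoint c hdis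
    rw [Finset.union_sdiff_of_subset hsub] at this
    rw [this]
    refine Subgroup.mul_mem _ (ds_pair_mem c hab (hc a ha b hb)) (ih _ hcard ?_)
    intro x hx y hy
    exact hc x (Finset.sdiff_subset hx) y (Finset.sdiff_subset hy)

/-! ### The centre of `Ω` is trivial -/

theorem omega_det (c : ι → F) (g : isometryGroup F (⇑(DQ c))) (hg : g ∈ Omega F (⇑(DQ c))) :
    ((g : Matrix.GeneralLinearGroup ι F) : Matrix ι ι F).det = 1 := by
  have h := Abelianization.commutator_subset_ker
    ((Matrix.GeneralLinearGroup.det (n := ι) (R := F)).comp (isometryGroup F (⇑(DQ c))).subtype) hg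
  rw [MonoidHom.mem_ker] at h
  have := congrArg (fun u : Fˣ => (u : F)) h
  simpa using this

/-- Matrices of commuting elements commute. -/
theorem mat_comm (c : ι → F) (g h : isometryGroup F (⇑(DQ c))) (hgh : g * h = h * g) :
    ((g : Matrix.GeneralLinearGroup ι F) : Matrix ι ι F) * ((h : Matrix.GeneralLinearGroup ι F) : Matrix ι ι F) =
    ((h : Matrix.GeneralLinearGroup ι F) : Matrix ι ι F) * ((g : Matrix.GeneralLinearGroup ι F) : Matrix ι ι F) := by
  have := congrArg (fun x : isometryGroup F (⇑(DQ c)) =>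
    ((x : Matrix.GeneralLinearGroup ι F) : Matrix ι ι F)) hgh
  exact this

/-- The vector `e_a + e_b + e_f`. -/
def triv (F : Type*) [Field F] (a b f : ι) : ι → F :=
  Pi.single a 1 + Pi.single b 1 + Pi.single f 1

theorem polar_triv (c : ι → F) {a b f : ι} (x : ι → F) :
    QuadraticMap.polar (⇑(DQ c)) (triv F a b f) x = 2 * (c a * x a + c b * x b + c f * x f) := by
  rw [polar_DQ, ← Finset.mul_sum, triv]
  congr 1
  have : ∀ i, c i * ((Pi.single a (1 : F) + Pi.single b 1 + Pi.single f 1 : ι → F) i * x i) =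
      c i * (Pi.single a (1 : F) : ι → F) i * x i + c i * (Pi.single b (1 : F) : ι → F) i * x i +
        c i * (Pi.single f (1 : F) : ι → F) i * x i := by
    intro i
    simp only [Pi.add_apply]
    ring
  simp only [this, Finset.sum_add_distrib]
  congr 1
  · congr 1 <;>
    · rw [Finset.sum_eq_single_of_mem _ (Finset.mem_univ _) (fun j _ hj => by
        rw [Pi.single_eq_of_ne hj]; ring)]
      simp
  · rw [Finset.sum_eq_single_of_mem _ (Finset.mem_univ _) (fun j _ hj => by
        rw [Pi.single_eq_of_ne hj]; ring)]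
    simp

theorem DQ_triv (c : ι → F) {a b f : ι} (hab : a ≠ b) (haf : a ≠ f) (hbf : b ≠ f) :
    DQ c (triv F a b f) = c a + c b + c f := by
  rw [DQ_apply, triv]
  have : ∀ i, c i * ((Pi.single a (1 : F) + Pi.single b 1 + Pi.single f 1 : ι → F) i *
      (Pi.single a (1 : F) + Pi.single b 1 + Pi.single f 1 : ι → F) i) =
      c i * (Pi.single a (1 : F) : ι → F) i + c i * (Pi.single b (1 : F) : ι → F) i +
        c i * (Pi.single f (1 : F) : ι → F) i := by
    intro i
    simp only [Pi.add_apply, Pi.single_apply]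
    by_cases h1 : i = a
    · subst h1; simp [hab, haf]
    · by_cases h2 : i = b
      · subst h2; simp [h1, hbf]
      · by_cases h3 : i = f
        · subst h3; simp [h1, h2]
        · simp [h1, h2, h3]
  simp only [this, Finset.sum_add_distrib]
  congr 1
  · congr 1 <;>
    · rw [Finset.sum_eq_single_of_mem _ (Finset.mem_univ _) (fun j _ hj => by
        rw [Pi.single_eq_of_ne hj]; ring)]
      simp
  · rw [Finset.sum_eq_single_of_mem _ (Finset.mem_univ _) (fun j _ hj => by
        rw [Pi.single_eq_of_ne hj]; ring)]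
    simp

/-- The centre of `Ω` is trivial for the form with at least four `1`s and at least three `-1`s, in odd
dimension. -/
theorem center_trivial (c : ι → F) (h2 : (2 : F) ≠ 0) (hc : ∀ i, c i = 1 ∨ c i = -1)
    (E E' : Finset ι) (hE : ∀ i, i ∈ E ↔ c i = 1) (hE' : ∀ i, i ∈ E' ↔ c i = -1)
    (h4 : 4 ≤ E.card) (h3 : 3 ≤ E'.card)
    (hodd : Odd (Fintype.card ι)) (z : Omega F (⇑(DQ c)))
    (hz : z ∈ Subgroup.center (Omega F (⇑(DQ c)))) : z = 1 := by
  set Z : Matrix ι ι F := (((z : isometryGroup F (⇑(DQ c))) : Matrix.GeneralLinearGroup ι F) : Matrix ι ι F)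
    with hZ
  -- commuting with elements of Ω
  have hcomm : ∀ g : isometryGroup F (⇑(DQ c)), g ∈ Omega F (⇑(DQ c)) →
      Z * ((g : Matrix.GeneralLinearGroup ι F) : Matrix ι ι F) =
        ((g : Matrix.GeneralLinearGroup ι F) : Matrix ι ι F) * Z := by
    intro g hg
    have := Subgroup.mem_center_iff.mp hz ⟨g, hg⟩
    exact (mat_comm c _ _ (congrArg Subtype.val this)).symm
  have hclass : ∀ x : ι, ∃ S : Finset ι, (∀ i, i ∈ S ↔ c i = c x) ∧ 3 ≤ S.card := by
    intro x
    rcases hc x with h | h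
    · exact ⟨E, by simpa [h] using hE, by omega⟩
    · exact ⟨E', by simpa [h] using hE', h3⟩
  -- off-diagonal entries vanish
  have hoff : ∀ x y, x ≠ y → Z x y = 0 := by
    intro x y hxy
    obtain ⟨b, hb, hbx, hby⟩ : ∃ b, c b = c x ∧ b ≠ x ∧ b ≠ y := by
      obtain ⟨S, hS, h7⟩ := hclass x
      have : (S \ {x, y}).Nonempty := by
        rw [← Finset.card_pos]
        have h5 := Finset.le_card_sdiff ({x, y} : Finset ι) S
        have h6 : ({x, y} : Finset ι).card ≤ 2 := Finset.card_le_two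
        omega
      obtain ⟨b, hb⟩ := this
      rw [Finset.mem_sdiff, hS] at hb
      simp only [Finset.mem_insert, Finset.mem_singleton, not_or] at hb
      exact ⟨b, hb.1, hb.2.1, hb.2.2⟩
    have h := hcomm _ (ds_pair_mem c hbx.symm hb.symm)
    have h' := congrFun (congrFun h x) y
    have hm : (((ds c {x, b} : isometryGroup F (⇑(DQ c))) : Matrix.GeneralLinearGroup ι F) : Matrix ι ι F) =
        Matrix.diagonal (sg F {x, b}) := rfl
    rw [hm, Matrix.mul_diagonal, Matrix.diagonal_mul] at h'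
    have e1 : sg F {x, b} y = 1 := by
      unfold sg
      rw [if_neg]
      simp [hxy.symm, hby.symm]
    have e2 : sg F {x, b} x = -1 := by
      unfold sg
      rw [if_pos]
      simp
    rw [e1, e2] at h'
    have : 2 * Z x y = 0 := by linear_combination h'
    exact (mul_eq_zero.mp this).resolve_left h2
  -- equality of diagonal entries
  have hdiag : ∀ a f, c a = 1 → c f = -1 → Z a a = Z f f := by
    intro a f ha hf
    have haf : a ≠ f := by
      rintro rfl
      rw [ha] at hf
      apply h2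
      linear_combination hf
    obtain ⟨b, hb, hba⟩ : ∃ b, c b = 1 ∧ b ≠ a := by
      have : (E \ {a}).Nonempty := by
        rw [← Finset.card_pos]
        have h5 := Finset.le_card_sdiff ({a} : Finset ι) E
        rw [Finset.card_singleton] at h5
        omega
      obtain ⟨b, hb⟩ := this
      rw [Finset.mem_sdiff, hE, Finset.mem_singleton] at hb
      exact ⟨b, hb.1, hb.2⟩
    obtain ⟨j, hj, hja, hjb⟩ : ∃ j, c j = 1 ∧ j ≠ a ∧ j ≠ b := by
      have : (E \ {a, b}).Nonempty := by
        rw [← Finset.card_pos]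
        have h5 := Finset.le_card_sdiff ({a, b} : Finset ι) E
        have h6 : ({a, b} : Finset ι).card ≤ 2 := Finset.card_le_two
        omega
      obtain ⟨j, hj⟩ := this
      rw [Finset.mem_sdiff, hE] at hj
      simp only [Finset.mem_insert, Finset.mem_singleton, not_or] at hj
      exact ⟨j, hj.1, hj.2.1, hj.2.2⟩
    have hbf : b ≠ f := by
      rintro rfl
      rw [hb] at hf
      apply h2
      linear_combination hf
    have hjf : j ≠ f := by
      rintro rfl
      rw [hj] at hf
      apply h2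
      linear_combination hf
    have hQu : DQ c (triv F a b f) = 1 := by
      rw [DQ_triv c hba.symm haf hbf, ha, hb, hf]; ring
    have hQu' : DQ c (triv F a b f) ≠ 0 := by rw [hQu]; exact one_ne_zero
    set r := reflIso (DQ c) (triv F a b f) hQu' with hr
    have hrx : ∀ x : ι → F, ((r : Matrix.GeneralLinearGroup ι F) : Matrix ι ι F) *ᵥ x =
        x - (2 * (x a + x b - x f)) • triv F a b f := by
      intro x
      rw [hr, coe_reflIso, reflectionMatrix_mulVec, hQu, inv_one, one_mul, polar_triv, ha, hb, hf]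
      congr 2
      ring
    have hmem : r * ds c {a, j} * r⁻¹ ∈ Omega F (⇑(DQ c)) :=
      (inferInstance : (commutator (isometryGroup F (⇑(DQ c)))).Normal).conj_mem _
        (ds_pair_mem c hja.symm (ha.trans hj.symm)) r
    have hrinv : r⁻¹ = r := reflIso_inv _ _ _
    rw [hrinv] at hmem
    have h := hcomm _ hmem
    set G : Matrix ι ι F := (((r * ds c {a, j} * r : isometryGroup F (⇑(DQ c))) :
      Matrix.GeneralLinearGroup ι F) : Matrix ι ι F) with hG
    -- entry (a, f) of G
    have ta : triv F a b f a = 1 := by simp [triv, hba.symm, haf]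
    have tb : triv F a b f b = 1 := by simp [triv, hba, hbf]
    have tf : triv F a b f f = 1 := by simp [triv, haf.symm, hbf.symm]
    have hGaf : G a f = 4 := by
      have h1 : G a f = (G *ᵥ Pi.single f 1) a := by
        rw [Matrix.mulVec_single_one]; rfl
      rw [h1, hG, coe_mul_mulVec, coe_mul_mulVec, hrx]
      simp only [Pi.sub_apply, Pi.smul_apply, smul_eq_mul, ds_mulVec, hrx, ta, tb, tf]
      have s1 : sg F {a, j} a = -1 := by simp [sg]
      have s2 : sg F {a, j} b = 1 := by simp [sg, hba, hjb.symm]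
      have s3 : sg F {a, j} f = 1 := by simp [sg, haf.symm, hjf.symm]
      have p1 : (Pi.single f (1 : F) : ι → F) a = 0 := Pi.single_eq_of_ne haf _
      have p2 : (Pi.single f (1 : F) : ι → F) b = 0 := Pi.single_eq_of_ne hbf _
      have p3 : (Pi.single f (1 : F) : ι → F) f = 1 := Pi.single_eq_same _ _
      rw [s1, s2, s3, p1, p2, p3]
      ring
    have h' := congrFun (congrFun h a) f
    have e1 : (Z * G) a f = Z a a * G a f := by
      rw [Matrix.mul_apply]
      exact Finset.sum_eq_single_of_mem _ (Finset.mem_univ _) (fun j _ hj => by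
        rw [hoff a j hj.symm, zero_mul])
    have e2 : (G * Z) a f = G a f * Z f f := by
      rw [Matrix.mul_apply]
      exact Finset.sum_eq_single_of_mem _ (Finset.mem_univ _) (fun j _ hj => by
        rw [hoff j f hj, mul_zero])
    rw [e1, e2, hGaf] at h'
    have h44 : (4 : F) ≠ 0 := by
      have : (4 : F) = 2 * 2 := by norm_num
      rw [this]
      exact mul_ne_zero h2 h2
    apply mul_left_cancel₀ h44
    linear_combination h'
  -- Z is scalar
  obtain ⟨a0, ha0⟩ : ∃ a, c a = 1 := by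
    have : E.Nonempty := by
      rw [← Finset.card_pos]; omega
    obtain ⟨a, ha⟩ := this
    exact ⟨a, (hE a).1 ha⟩
  obtain ⟨f0, hf0⟩ : ∃ a, c a = -1 := by
    have : E'.Nonempty := by
      rw [← Finset.card_pos]; omega
    obtain ⟨a, ha⟩ := this
    exact ⟨a, (hE' a).1 ha⟩
  have hall : ∀ x, Z x x = Z a0 a0 := by
    intro x
    rcases hc x with h | h
    · rw [hdiag x f0 h hf0, hdiag a0 f0 ha0 hf0]
    · rw [hdiag a0 x ha0 h]
  have hscal : Z = Matrix.diagonal (fun _ => Z a0 a0) := by
    ext x y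
    by_cases hxy : x = y
    · subst hxy
      rw [Matrix.diagonal_apply_eq, hall]
    · rw [hoff x y hxy, Matrix.diagonal_apply_ne _ hxy]
  have hdet : (Z a0 a0) ^ (Fintype.card ι) = 1 := by
    have h1 := omega_det c z.1 z.2
    rw [← hZ, hscal, Matrix.det_diagonal, Finset.prod_const, Finset.card_univ] at h1
    exact h1
  have hsq : (Z a0 a0) * (Z a0 a0) = 1 := by
    have h1 := (mem_isometryGroup_iff _ _).1 (z : isometryGroup F (⇑(DQ c))).2 (Pi.single a0 1)
    rw [← hZ, hscal, DQ_apply, DQ_apply] at h1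
    rw [Finset.sum_eq_single_of_mem _ (Finset.mem_univ a0) (fun j _ hj => by
      rw [Matrix.mulVec_diagonal, Pi.single_eq_of_ne hj]; ring),
      Finset.sum_eq_single_of_mem _ (Finset.mem_univ a0) (fun j _ hj => by
      rw [Pi.single_eq_of_ne hj]; ring), Matrix.mulVec_diagonal, Pi.single_eq_same, ha0] at h1
    linear_combination h1
  have hone : Z a0 a0 = 1 := by
    obtain ⟨k, hk⟩ := hodd
    rw [hk, pow_succ, pow_mul, pow_two, hsq, one_pow, one_mul] at hdet
    exact hdet
  apply Subtype.ext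
  apply Subtype.ext
  apply Units.ext
  show Z = 1
  rw [hscal, hone]
  exact Matrix.diagonal_one

/-- If `ds c S` and `ds c T` are conjugate then `S` and `T` have the same number of elements. -/
theorem card_eq_of_conj (c : ι → F) (h2 : (2 : F) ≠ 0) (S T : Finset ι) (g : isometryGroup F (⇑(DQ c)))
    (h : g * ds c S * g⁻¹ = ds c T) : S.card = T.card := by
  have h1 : ((g : Matrix.GeneralLinearGroup ι F) : Matrix ι ι F) * Matrix.diagonal (sg F S) =
      Matrix.diagonal (sg F T) * ((g : Matrix.GeneralLinearGroup ι F) : Matrix ι ι F) := by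
    have := congrArg (fun x : isometryGroup F (⇑(DQ c)) =>
      ((x : Matrix.GeneralLinearGroup ι F) : Matrix ι ι F)) (mul_inv_eq_iff_eq_mul.mp h)
    exact this
  have hdet : IsUnit (((g : Matrix.GeneralLinearGroup ι F) : Matrix ι ι F).det) := by
    rw [← Matrix.isUnit_iff_isUnit_det]
    exact Units.isUnit _
  have h3 : ((g : Matrix.GeneralLinearGroup ι F) : Matrix ι ι F) *
      Matrix.diagonal (fun i => sg F S i - 1) =
      Matrix.diagonal (fun i => sg F T i - 1) * ((g : Matrix.GeneralLinearGroup ι F) : Matrix ι ι F) := by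
    have e : ∀ S : Finset ι, Matrix.diagonal (fun i => sg F S i - 1) =
        Matrix.diagonal (sg F S) - (1 : Matrix ι ι F) := by
      intro S
      rw [← Matrix.diagonal_one, Matrix.diagonal_sub]
    rw [e, e, mul_sub, sub_mul, h1, mul_one, one_mul]
  have h4 := congrArg Matrix.rank h3
  rw [Matrix.rank_mul_eq_right_of_isUnit_det _ _ hdet, Matrix.rank_mul_eq_left_of_isUnit_det _ _ hdet] at h4
  have h5 : ∀ S : Finset ι, (Matrix.diagonal (fun i => sg F S i - 1)).rank = S.card := by
    classical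
    intro S
    rw [Matrix.rank_diagonal, ← Fintype.card_coe]
    apply Fintype.card_congr
    refine Equiv.subtypeEquivRight fun i => ?_
    unfold sg
    split_ifs with hi
    · refine iff_of_true ?_ hi
      intro h
      apply h2
      linear_combination -h
    · simp [hi]
  rw [h5, h5] at h4
  exact h4

/-- **At least `m` classes of involutions.** -/
theorem exists_nonconj (c : ι → F) (h2 : (2 : F) ≠ 0) (hc : ∀ i, c i = 1 ∨ c i = -1)
    (E E' : Finset ι) (hE : ∀ i, i ∈ E ↔ c i = 1) (hE' : ∀ i, i ∈ E' ↔ c i = -1) (m : ℕ)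
    (hm : 3 ≤ m) (h4 : E.card = m + 1) (h3 : E'.card = m) :
    ∃ s : Fin m → POmega F (⇑(DQ c)), (∀ i, orderOf (s i) = 2) ∧
      ∀ i j, IsConj (s i) (s j) → i = j := by
  have hdisj : Disjoint E E' := by
    rw [Finset.disjoint_left]
    intro x hx hx'
    rw [hE] at hx
    rw [hE', hx] at hx'
    apply h2
    linear_combination hx'
  have hcard : Fintype.card ι = 2 * m + 1 := by
    have : (Finset.univ : Finset ι) = E ∪ E' := by
      ext x
      simp only [Finset.mem_univ, Finset.mem_union, true_iff, hE, hE']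
      exact hc x
    rw [← Finset.card_univ, this, Finset.card_union_of_disjoint hdisj, h4, h3]
    ring
  have hctr : ∀ z : Omega F (⇑(DQ c)), z ∈ Subgroup.center (Omega F (⇑(DQ c))) → z = 1 := fun z hz =>
    center_trivial c h2 hc E E' hE hE' (by omega) (by omega) ⟨m, hcard⟩ z hz
  -- the sets
  have hS : ∀ k : Fin m, ∃ S : Finset ι, S.card = 2 * ((k : ℕ) + 1) ∧ ds c S ∈ Omega F (⇑(DQ c)) := by
    intro k
    have hk := k.2
    obtain ⟨a, b, hab, ha, hb⟩ : ∃ a b, a + b = (k : ℕ) + 1 ∧ 2 * a ≤ m + 1 ∧ 2 * b ≤ m :=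
      ⟨min ((k : ℕ) + 1) ((m + 1) / 2), (k : ℕ) + 1 - min ((k : ℕ) + 1) ((m + 1) / 2),
        by omega, by omega, by omega⟩
    obtain ⟨A, hA, hA'⟩ := Finset.exists_subset_card_eq (s := E) (n := 2 * a) (by omega)
    obtain ⟨B, hB, hB'⟩ := Finset.exists_subset_card_eq (s := E') (n := 2 * b) (by omega)
    have hAB : Disjoint A B := Finset.disjoint_of_subset_left hA (Finset.disjoint_of_subset_right hB hdisj)
    refine ⟨A ∪ B, ?_, ?_⟩
    · rw [Finset.card_union_of_disjoint hAB, hA', hB']
      omega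
    · rw [ds_mul_of_disjoint c hAB]
      refine Subgroup.mul_mem _ (ds_even_mem c a A hA' ?_) (ds_even_mem c b B hB' ?_)
      · intro x hx y hy
        rw [(hE x).1 (hA hx), (hE y).1 (hA hy)]
      · intro x hx y hy
        rw [(hE' x).1 (hB hx), (hE' y).1 (hB hy)]
  choose S hScard hSmem using hS
  have hmk : ∀ x y : Omega F (⇑(DQ c)),
      (QuotientGroup.mk x : POmega F (⇑(DQ c))) = QuotientGroup.mk y → x = y := by
    intro x y hxy
    rw [QuotientGroup.eq] at hxy
    have := hctr _ hxy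
    exact (inv_mul_eq_one.mp this)
  refine ⟨fun k => QuotientGroup.mk (⟨ds c (S k), hSmem k⟩ : Omega F (⇑(DQ c))), ?_, ?_⟩
  · intro k
    apply orderOf_eq_prime
    · rw [← QuotientGroup.mk_pow]
      have : (⟨ds c (S k), hSmem k⟩ : Omega F (⇑(DQ c))) ^ 2 = 1 := by
        apply Subtype.ext
        show (ds c (S k)) ^ 2 = 1
        rw [pow_two, ← inv_eq_iff_mul_eq_one]
        exact dg_inv _ _ _
      rw [this]
      rfl
    · intro h
      have h1 := hmk _ 1 h
      have h5 : ds c (S k) = ds c (∅ : Finset ι) := by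
        rw [ds_empty]
        exact congrArg Subtype.val h1
      have h6 := card_eq_of_conj c h2 (S k) ∅ 1 (by rw [h5]; simp)
      rw [hScard, Finset.card_empty] at h6
      omega
  · intro i j hij
    rw [isConj_iff] at hij
    obtain ⟨g, hg⟩ := hij
    induction g using QuotientGroup.induction_on with
    | H g =>
      have h1 : g * (⟨ds c (S i), hSmem i⟩ : Omega F (⇑(DQ c))) * g⁻¹ = ⟨ds c (S j), hSmem j⟩ :=
        hmk _ _ hg
      have h5 := card_eq_of_conj c h2 (S i) (S j) (g : isometryGroup F (⇑(DQ c)))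
        (congrArg Subtype.val h1)
      rw [hScard, hScard] at h5
      apply Fin.ext
      omega

end Diag

/-! ### The form `x₀² + Σ x_i y_i` -/

section Odd

variable {F : Type*} [Field F] {m : ℕ}

theorem hh_sq : (Matrix.fromBlocks 1 1 1 (-1) : Matrix (Fin m ⊕ Fin m) (Fin m ⊕ Fin m) F) *
    Matrix.fromBlocks 1 1 1 (-1) = (2 : F) • 1 := by
  rw [Matrix.fromBlocks_multiply, ← Matrix.fromBlocks_one, Matrix.fromBlocks_smul]
  simp [two_smul]

theorem hh_sq' (h2 : (2 : F) ≠ 0) :
    (Matrix.fromBlocks 1 1 1 (-1) : Matrix (Fin m ⊕ Fin m) (Fin m ⊕ Fin m) F) *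
      ((2 : F)⁻¹ • Matrix.fromBlocks 1 1 1 (-1)) = 1 := by
  rw [Matrix.mul_smul, hh_sq, smul_smul, inv_mul_cancel₀ h2, one_smul]

theorem hh_sq'' (h2 : (2 : F) ≠ 0) :
    ((2 : F)⁻¹ • (Matrix.fromBlocks 1 1 1 (-1) : Matrix (Fin m ⊕ Fin m) (Fin m ⊕ Fin m) F)) *
      (Matrix.fromBlocks 1 1 1 (-1)) = 1 := by
  rw [Matrix.smul_mul, hh_sq, smul_smul, inv_mul_cancel₀ h2, one_smul]

/-- Change of coordinates. -/
def chg (m : ℕ) (F : Type*) [Field F] (h2 : (2 : F) ≠ 0) :
    Matrix.GeneralLinearGroup (Unit ⊕ (Fin m ⊕ Fin m)) F :=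
  ⟨Matrix.fromBlocks 1 0 0 (Matrix.fromBlocks 1 1 1 (-1)),
   Matrix.fromBlocks 1 0 0 ((2 : F)⁻¹ • Matrix.fromBlocks 1 1 1 (-1)), by
    rw [Matrix.fromBlocks_multiply, hh_sq' h2]
    simp only [mul_one, Matrix.mul_zero, add_zero, zero_add, Matrix.zero_mul]
    exact Matrix.fromBlocks_one, by
    rw [Matrix.fromBlocks_multiply, hh_sq'' h2]
    simp only [mul_one, Matrix.mul_zero, add_zero, zero_add, Matrix.zero_mul]
    exact Matrix.fromBlocks_one⟩

/-- The coefficients of the diagonal form. -/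
def cc (m : ℕ) (F : Type*) [Field F] : Unit ⊕ (Fin m ⊕ Fin m) → F :=
  Sum.elim (fun _ => 1) (Sum.elim (fun _ => 1) (fun _ => -1))

theorem quadFormOdd_chg (h2 : (2 : F) ≠ 0) :
    (fun v : Unit ⊕ (Fin m ⊕ Fin m) → F => quadFormOdd m F
      ((chg m F h2 : Matrix (Unit ⊕ (Fin m ⊕ Fin m)) (Unit ⊕ (Fin m ⊕ Fin m)) F) *ᵥ v)) =
    ⇑(DQ (cc m F)) := by
  funext v
  rw [DQ_apply, Fintype.sum_sum_type, Fintype.sum_sum_type]
  have h0 : ((chg m F h2 : Matrix (Unit ⊕ (Fin m ⊕ Fin m)) (Unit ⊕ (Fin m ⊕ Fin m)) F) *ᵥ v) (Sum.inl ()) =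
      v (Sum.inl ()) := by
    show (Matrix.fromBlocks 1 0 0 (Matrix.fromBlocks 1 1 1 (-1)) *ᵥ v) (Sum.inl ()) = _
    rw [Matrix.fromBlocks_mulVec]
    simp
  have h1 : ∀ i, ((chg m F h2 : Matrix (Unit ⊕ (Fin m ⊕ Fin m)) (Unit ⊕ (Fin m ⊕ Fin m)) F) *ᵥ v)
      (Sum.inr (Sum.inl i)) = v (Sum.inr (Sum.inl i)) + v (Sum.inr (Sum.inr i)) := by
    intro i
    show (Matrix.fromBlocks 1 0 0 (Matrix.fromBlocks 1 1 1 (-1)) *ᵥ v) (Sum.inr (Sum.inl i)) = _
    rw [Matrix.fromBlocks_mulVec, Matrix.fromBlocks_mulVec]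
    simp
  have h3 : ∀ i, ((chg m F h2 : Matrix (Unit ⊕ (Fin m ⊕ Fin m)) (Unit ⊕ (Fin m ⊕ Fin m)) F) *ᵥ v)
      (Sum.inr (Sum.inr i)) = v (Sum.inr (Sum.inl i)) - v (Sum.inr (Sum.inr i)) := by
    intro i
    show (Matrix.fromBlocks 1 0 0 (Matrix.fromBlocks 1 1 1 (-1)) *ᵥ v) (Sum.inr (Sum.inr i)) = _
    rw [Matrix.fromBlocks_mulVec, Matrix.fromBlocks_mulVec]
    simp [Matrix.neg_mulVec, sub_eq_add_neg]
  rw [quadFormOdd, h0]
  simp only [h1, h3, cc, Sum.elim_inl, Sum.elim_inr, Finset.univ_unique, Finset.sum_singleton,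
    one_mul]
  rw [← Finset.sum_add_distrib]
  congr 1
  · exact pow_two _
  · refine Finset.sum_congr rfl fun i _ => ?_
    ring

/-- `m` pairwise non-conjugate involutions of `PΩ_{2m+1}(F)`. -/
theorem exists_nonconj_odd (h2 : (2 : F) ≠ 0) (hm : 3 ≤ m) :
    ∃ s : Fin m → POmega F (quadFormOdd m F), (∀ i, orderOf (s i) = 2) ∧
      ∀ i j, IsConj (s i) (s j) → i = j := by
  have hc : ∀ i, cc m F i = 1 ∨ cc m F i = -1 := by
    rintro (i | i | i)
    · left; rfl
    · left; rfl
    · right; rfl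
  have h1 : (1 : F) ≠ -1 := by
    intro h
    apply h2
    linear_combination h
  obtain ⟨s, hs1, hs2⟩ := exists_nonconj (cc m F) h2 hc
    (Finset.univ.image (Sum.elim (fun _ => Sum.inl ()) (fun i => Sum.inr (Sum.inl i)) :
      Unit ⊕ Fin m → Unit ⊕ (Fin m ⊕ Fin m)))
    (Finset.univ.image (fun i : Fin m => (Sum.inr (Sum.inr i) : Unit ⊕ (Fin m ⊕ Fin m))))
    (by
      rintro (i | i | i)
      · simp [cc]
      · simp [cc]
      · simp [cc, h1.symm])
    (by
      rintro (i | i | i)
      · simp [cc, h1]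
      · simp [cc, h1]
      · simp [cc])
    m hm
    (by
      rw [Finset.card_image_of_injective]
      · simp [add_comm]
      · rintro (x | x) (y | y) h <;> simp_all)
    (by
      rw [Finset.card_image_of_injective]
      · simp
      · intro x y h
        simpa using h)
  have hP := pomega_congr (quadFormOdd m F) (chg m F h2)
  rw [quadFormOdd_chg h2] at hP
  obtain ⟨φ⟩ := hP
  refine ⟨fun i => φ (s i), fun i => ?_, fun i j hij => hs2 i j ?_⟩
  · rw [← hs1 i]
    exact orderOf_injective φ.toMonoidHom φ.injective (s i)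
  · rw [isConj_iff] at hij ⊢
    obtain ⟨g, hg⟩ := hij
    refine ⟨φ.symm g, ?_⟩
    apply φ.injective
    simpa using hg

end Odd

end Cfsg.Agent.ClassicalGeometry.OddInvolutions
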