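import Mathlib

set_option autoImplicit false

namespace Cfsg.Agent.ClassicalGeometry.DiagNormal

open Polynomial

/-- Over a finite field of odd order, `a x² + b y² = 1` is solvable when `a, b ≠ 0`. -/
theorem exists_mul_sq_add_mul_sq_eq {F : Type*} [Field F] [Finite F] (h2 : (2 : F) ≠ 0) {a b : F}
    (ha : a ≠ 0) (hb : b ≠ 0) (c : F) : ∃ x y : F, a * x ^ 2 + b * y ^ 2 = c := by
  have := Fintype.ofFinite F
  have hcard : Fintype.card F % 2 = 1 := by
    apply FiniteField.odd_card_of_char_ne_two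
    intro h
    exact h2 (by have h3 := ringChar.Nat.cast_ringChar (R := F); rw [h] at h3; exact_mod_cast h3)
  have hf : (C a * X ^ 2 : F[X]).degree = 2 := by
    rw [degree_C_mul ha, degree_X_pow]; rfl
  have hg : (C b * X ^ 2 - C c : F[X]).degree = 2 := by
    rw [degree_sub_eq_left_of_degree_lt]
    · rw [degree_C_mul hb, degree_X_pow]; rfl
    · rw [degree_C_mul hb, degree_X_pow]
      exact lt_of_le_of_lt degree_C_le (by norm_num)
  obtain ⟨x, y, hxy⟩ := FiniteField.exists_root_sum_quadratic hf hg hcard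
  refine ⟨x, y, ?_⟩
  simp only [eval_mul, eval_C, eval_pow, eval_X, eval_sub] at hxy
  linear_combination hxy

/-- The plane step: `a s² + b t²` is isometric to `s² + a b t²`, by an explicit linear map. -/
theorem exists_plane {F : Type*} [Field F] [Finite F] (h2 : (2 : F) ≠ 0) {a b : F}
    (ha : a ≠ 0) (hb : b ≠ 0) : ∃ x y : F, (∀ s t : F,
      a * (x * s - b * y * t) ^ 2 + b * (y * s + a * x * t) ^ 2 = s ^ 2 + a * b * t ^ 2) ∧
      a * x ^ 2 + b * y ^ 2 = 1 := by
  obtain ⟨x, y, hxy⟩ := exists_mul_sq_add_mul_sq_eq h2 ha hb 1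
  refine ⟨x, y, fun s t => ?_, hxy⟩
  linear_combination (s ^ 2 + a * b * t ^ 2) * hxy

/-- The linear equivalence of `F^(n+2)` acting on coordinates `0, 1` by the matrix `[[p, q], [r, s]]`
(of determinant one) and trivially on the others. -/
def planeEquiv {F : Type*} [Field F] (n : ℕ) (p q r s : F) (hdet : p * s - q * r = 1) :
    (Fin (n + 2) → F) ≃ₗ[F] (Fin (n + 2) → F) where
  toFun v := Fin.cons (p * v 0 + q * v 1) (Fin.cons (r * v 0 + s * v 1) (fun i => v i.succ.succ))
  invFun v := Fin.cons (s * v 0 - q * v 1) (Fin.cons (- r * v 0 + p * v 1) (fun i => v i.succ.succ))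
  map_add' u v := by
    funext i
    refine Fin.cases ?_ (fun i => ?_) i
    · simp only [Fin.cons_zero, Pi.add_apply]; ring
    · refine Fin.cases ?_ (fun i => ?_) i
      · simp only [Fin.cons_zero, Fin.cons_succ, Pi.add_apply]; ring
      · simp only [Fin.cons_succ, Pi.add_apply]
  map_smul' c v := by
    funext i
    refine Fin.cases ?_ (fun i => ?_) i
    · simp only [Fin.cons_zero, Pi.smul_apply, smul_eq_mul, RingHom.id_apply]; ring
    · refine Fin.cases ?_ (fun i => ?_) i
      · simp only [Fin.cons_zero, Fin.cons_succ, Pi.smul_apply, smul_eq_mul, RingHom.id_apply]; ring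
      · simp only [Fin.cons_succ, Pi.smul_apply, smul_eq_mul, RingHom.id_apply]
  left_inv v := by
    funext i
    refine Fin.cases ?_ (fun i => ?_) i
    · show s * (p * v 0 + q * v 1) - q * (r * v 0 + s * v 1) = v 0
      linear_combination (v 0) * hdet
    · refine Fin.cases ?_ (fun i => ?_) i
      · show -r * (p * v 0 + q * v 1) + p * (r * v 0 + s * v 1) = v 1
        linear_combination (v 1) * hdet
      · rfl
  right_inv v := by
    funext i
    refine Fin.cases ?_ (fun i => ?_) i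
    · show p * (s * v 0 - q * v 1) + q * (- r * v 0 + p * v 1) = v 0
      linear_combination (v 0) * hdet
    · refine Fin.cases ?_ (fun i => ?_) i
      · show r * (s * v 0 - q * v 1) + s * (- r * v 0 + p * v 1) = v 1
        linear_combination (v 1) * hdet
      · rfl

theorem planeEquiv_zero {F : Type*} [Field F] (n : ℕ) (p q r s : F) (hdet : p * s - q * r = 1)
    (v : Fin (n + 2) → F) : planeEquiv n p q r s hdet v 0 = p * v 0 + q * v 1 := rfl

theorem planeEquiv_one {F : Type*} [Field F] (n : ℕ) (p q r s : F) (hdet : p * s - q * r = 1)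
    (v : Fin (n + 2) → F) : planeEquiv n p q r s hdet v 1 = r * v 0 + s * v 1 := rfl

theorem planeEquiv_succ_succ {F : Type*} [Field F] (n : ℕ) (p q r s : F) (hdet : p * s - q * r = 1)
    (v : Fin (n + 2) → F) (i : Fin n) :
    planeEquiv n p q r s hdet v i.succ.succ = v i.succ.succ := rfl

/-- Extend a linear equivalence of `F^n` to `F^(n+1)`, trivial on the coordinate `0`. -/
def consEquiv {F : Type*} [Field F] {n : ℕ} (g : (Fin n → F) ≃ₗ[F] (Fin n → F)) :
    (Fin (n + 1) → F) ≃ₗ[F] (Fin (n + 1) → F) where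
  toFun v := Fin.cons (v 0) (g (fun i => v i.succ))
  invFun v := Fin.cons (v 0) (g.symm (fun i => v i.succ))
  map_add' u v := by
    have h : (fun i => (u + v) i.succ : Fin n → F) = (fun i => u i.succ) + (fun i => v i.succ) := rfl
    funext i
    refine Fin.cases ?_ (fun i => ?_) i
    · rfl
    · simp only [Fin.cons_succ, Pi.add_apply]
      rw [← Pi.add_apply, ← map_add]
      rfl
  map_smul' c v := by
    funext i
    refine Fin.cases ?_ (fun i => ?_) i
    · rfl
    · simp only [Fin.cons_succ, Pi.smul_apply, RingHom.id_apply]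
      rw [← Pi.smul_apply, ← map_smul]
      rfl
  left_inv v := by
    funext i
    refine Fin.cases ?_ (fun i => ?_) i
    · rfl
    · simp only [Fin.cons_succ, Fin.cons_zero]
      rw [LinearEquiv.symm_apply_apply]
  right_inv v := by
    funext i
    refine Fin.cases ?_ (fun i => ?_) i
    · rfl
    · simp only [Fin.cons_succ, Fin.cons_zero]
      rw [LinearEquiv.apply_symm_apply]

theorem consEquiv_zero {F : Type*} [Field F] {n : ℕ} (g : (Fin n → F) ≃ₗ[F] (Fin n → F))
    (v : Fin (n + 1) → F) : consEquiv g v 0 = v 0 := rfl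

theorem consEquiv_succ {F : Type*} [Field F] {n : ℕ} (g : (Fin n → F) ≃ₗ[F] (Fin n → F))
    (v : Fin (n + 1) → F) (i : Fin n) : consEquiv g v i.succ = g (fun j => v j.succ) i := rfl

/-- A diagonal form with non-zero coefficients over a finite field of odd order is isometric to
`diag(∏ w, 1, …, 1)`. -/
theorem exists_equiv_diag {F : Type*} [Field F] [Finite F] (h2 : (2 : F) ≠ 0) (n : ℕ)
    (w : Fin (n + 1) → F) (hw : ∀ i, w i ≠ 0) :
    ∃ g : (Fin (n + 1) → F) ≃ₗ[F] (Fin (n + 1) → F), ∀ v,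
      ∑ i, w i * (g v i) ^ 2 = (∏ i, w i) * (v 0) ^ 2 + ∑ i : Fin n, (v i.succ) ^ 2 := by
  induction n with
  | zero =>
    refine ⟨LinearEquiv.refl F _, fun v => ?_⟩
    simp
  | succ n ih =>
    obtain ⟨g, hg⟩ := ih (fun i => w i.succ) (fun i => hw _)
    have hP : (∏ i : Fin (n + 1), w i.succ) ≠ 0 := Finset.prod_ne_zero_iff.2 fun i _ => hw _
    have hprod : (∏ i : Fin (n + 2), w i) = w 0 * ∏ i : Fin (n + 1), w i.succ := Fin.prod_univ_succ _
    rw [hprod]
    generalize (∏ i : Fin (n + 1), w i.succ) = P at hg hP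
    obtain ⟨x, y, hxy, h1⟩ := exists_plane h2 hP (hw 0)
    have hdet : (P * x) * x - y * (- (w 0 * y)) = 1 := by
      linear_combination h1
    refine ⟨(planeEquiv n (P * x) y (- (w 0 * y)) x hdet).trans (consEquiv g), fun v => ?_⟩
    rw [Fin.sum_univ_succ]
    simp only [LinearEquiv.trans_apply, consEquiv_zero, consEquiv_succ]
    rw [hg, Fin.sum_univ_succ (n := n)]
    have e1 : planeEquiv n (P * x) y (- (w 0 * y)) x hdet v 0 = P * x * v 0 + y * v 1 := rfl
    have e2 : planeEquiv n (P * x) y (- (w 0 * y)) x hdet v (Fin.succ 0) = (- (w 0 * y)) * v 0 + x * v 1 := rfl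
    have e3 : ∀ i : Fin n, planeEquiv n (P * x) y (- (w 0 * y)) x hdet v i.succ.succ = v i.succ.succ :=
      fun i => rfl
    have e4 : v (Fin.succ 0) = v 1 := rfl
    simp only [e1, e2, e3, e4]
    linear_combination hxy (v 1) (v 0)

/-- A quadratic form with non-degenerate polar form over a field with `2 ≠ 0` is diagonalisable with
non-zero coefficients. -/
theorem exists_diagonal {F : Type*} [Field F] (h2 : (2 : F) ≠ 0) {n : ℕ}
    (Q : QuadraticForm F (Fin n → F)) (hQ : (QuadraticMap.polarBilin Q).Nondegenerate) :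
    ∃ (g : (Fin n → F) ≃ₗ[F] (Fin n → F)) (w : Fin n → F), (∀ i, w i ≠ 0) ∧
      ∀ v, Q (g v) = ∑ i, w i * (v i) ^ 2 := by
  have : Invertible (2 : F) := invertibleOfNonzero h2
  have hsep : (QuadraticMap.associated (R := F) Q).SeparatingLeft := by
    intro x hx
    refine hQ.1 x fun y => ?_
    have h1 := hx y
    rw [← QuadraticMap.two_nsmul_associated F Q, LinearMap.smul_apply, LinearMap.smul_apply]
    exact (congrArg _ h1).trans (smul_zero _)
  obtain ⟨w, ⟨e⟩⟩ := QuadraticForm.equivalent_weightedSumSquares_units_of_nondegenerate' Q hsep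
  have hn : Module.finrank F (Fin n → F) = n := by simp
  generalize Module.finrank F (Fin n → F) = k at hn w e
  subst hn
  refine ⟨e.toLinearEquiv.symm, fun i => (w i : F), fun i => (w i).ne_zero, fun v => ?_⟩
  have h1 := e.map_app (e.toLinearEquiv.symm v)
  have h4 : e (e.toLinearEquiv.symm v) = v := e.toLinearEquiv.apply_symm_apply v
  rw [h4, QuadraticMap.weightedSumSquares_apply] at h1
  rw [← h1]
  refine Finset.sum_congr rfl fun i _ => ?_
  rw [Units.smul_def, smul_eq_mul, sq]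

/-- Over a finite field of odd order every non-degenerate form is isometric to `diag(d, 1, …, 1)`. -/
theorem exists_normal_form {F : Type*} [Field F] [Finite F] (h2 : (2 : F) ≠ 0) {n : ℕ}
    (Q : QuadraticForm F (Fin (n + 1) → F)) (hQ : (QuadraticMap.polarBilin Q).Nondegenerate) :
    ∃ (g : (Fin (n + 1) → F) ≃ₗ[F] (Fin (n + 1) → F)) (d : F), d ≠ 0 ∧
      ∀ v, Q (g v) = d * (v 0) ^ 2 + ∑ i : Fin n, (v i.succ) ^ 2 := by
  obtain ⟨g, w, hw, hg⟩ := exists_diagonal h2 Q hQ
  obtain ⟨k, hk⟩ := exists_equiv_diag h2 n w hw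
  refine ⟨k.trans g, ∏ i, w i, Finset.prod_ne_zero_iff.2 fun i _ => hw i, fun v => ?_⟩
  rw [LinearEquiv.trans_apply, hg, hk]

/-- Scaling the coordinate `0`. -/
theorem exists_scale {F : Type*} [Field F] {n : ℕ} {e : F} (he : e ≠ 0) (d : F) :
    ∃ g : (Fin (n + 1) → F) ≃ₗ[F] (Fin (n + 1) → F), ∀ v,
      d * (g v 0) ^ 2 + ∑ i : Fin n, (g v i.succ) ^ 2 =
        (d * e ^ 2) * (v 0) ^ 2 + ∑ i : Fin n, (v i.succ) ^ 2 := by
  refine ⟨LinearEquiv.piCongrRight fun i =>
    LinearEquiv.smulOfUnit ((Fin.cons (Units.mk0 e he) (fun _ => 1) : Fin (n + 1) → Fˣ) i),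
    fun v => ?_⟩
  have h0 : (LinearEquiv.piCongrRight fun i =>
    LinearEquiv.smulOfUnit (R := F) (M := F) ((Fin.cons (Units.mk0 e he) (fun _ => 1) : Fin (n + 1) → Fˣ) i)) v 0
      = e * v 0 := rfl
  have h1 : ∀ j : Fin n, (LinearEquiv.piCongrRight fun i =>
    LinearEquiv.smulOfUnit (R := F) (M := F) ((Fin.cons (Units.mk0 e he) (fun _ => 1) : Fin (n + 1) → Fˣ) i)) v j.succ
      = v j.succ := fun j => one_mul _
  rw [h0]
  simp only [h1]
  ring

/-- Over a finite field of odd order, non-degenerate forms in odd dimension are similar. -/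
theorem exists_similar {F : Type*} [Field F] [Finite F] (h2 : (2 : F) ≠ 0) {n : ℕ} (hn : Odd n)
    (Q₁ Q₂ : QuadraticForm F (Fin n → F)) (h₁ : (QuadraticMap.polarBilin Q₁).Nondegenerate)
    (h₂ : (QuadraticMap.polarBilin Q₂).Nondegenerate) :
    ∃ (g : (Fin n → F) ≃ₗ[F] (Fin n → F)) (c : F), c ≠ 0 ∧ ∀ v, Q₂ (g v) = c * Q₁ v := by
  obtain ⟨k, rfl⟩ := hn
  obtain ⟨g₁, w, hw, hg₁⟩ := exists_diagonal h2 Q₁ h₁
  obtain ⟨g₂, d₂, hd₂, hg₂⟩ := exists_normal_form h2 Q₂ h₂
  have hd₁ : (∏ i, w i) ≠ 0 := Finset.prod_ne_zero_iff.2 fun i _ => hw i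
  have hc : (∏ i, w i) * d₂ ≠ 0 := mul_ne_zero hd₁ hd₂
  obtain ⟨g₃, hg₃⟩ := exists_equiv_diag h2 (2 * k) (fun i => ((∏ i, w i) * d₂) * w i)
    (fun i => mul_ne_zero hc (hw i))
  have he : (∏ i, w i) * ((∏ i, w i) * d₂) ^ k ≠ 0 := mul_ne_zero hd₁ (pow_ne_zero _ hc)
  obtain ⟨g₄, hg₄⟩ := exists_scale (n := 2 * k) he d₂
  refine ⟨g₁.symm.trans (g₃.symm.trans (g₄.trans g₂)), _, hc, fun v => ?_⟩
  simp only [LinearEquiv.trans_apply]
  rw [hg₂, hg₄]
  have h5 := hg₃ (g₃.symm (g₁.symm v))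
  rw [LinearEquiv.apply_symm_apply] at h5
  have h6 : Q₁ v = ∑ i, w i * (g₁.symm v i) ^ 2 := by
    rw [← hg₁, LinearEquiv.apply_symm_apply]
  have h7 : ∏ i : Fin (2 * k + 1), ((∏ i, w i) * d₂) * w i =
      d₂ * ((∏ i, w i) * ((∏ i, w i) * d₂) ^ k) ^ 2 := by
    rw [Finset.prod_mul_distrib, Finset.prod_const, Finset.card_univ, Fintype.card_fin]
    ring
  rw [h7] at h5
  rw [← h5, h6, Finset.mul_sum]
  refine Finset.sum_congr rfl fun i _ => ?_
  ring

end Cfsg.Agent.ClassicalGeometry.DiagNormal
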