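import Mathlib

set_option autoImplicit false

/-!
# Dickson's theorem: the group-theoretic part

A finite group `G` acting on a set `X` like a finite group of Moebius transformations acts on the projective
line over an algebraically closed field of characteristic `p`.
-/

namespace Cfsg.Agent.ClassicalGeometry.DicksonAbstract

open MulAction

/-- The group `G` acts on `X` like a group of Moebius transformations of the projective line over an
algebraically closed field `k` of characteristic `p > 0`. -/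
structure MobiusLike (k : Type*) [Field k] (p : ℕ) (G X : Type*) [Group G] [MulAction G X] : Prop where
  exists_fixed : ∀ g : G, ∃ x : X, g • x = x
  eq_one : ∀ (g : G) (x y z : X), x ≠ y → x ≠ z → y ≠ z → g • x = x → g • y = y → g • z = z → g = 1
  sq_eq_one : ∀ (g : G) (x y : X), x ≠ y → g • x = y → g • y = x → g * g = 1
  char : ∀ x : X, ∃ χ : stabilizer G x →* kˣ,
    ∀ g : stabilizer G x, χ g = 1 ↔ ((g : G) = 1 ∨ ∀ y, (g : G) • y = y → y = x)
  pow_eq_one : ∀ (g : G) (x : X), (∀ y, g • y = y → y = x) → g ^ p = 1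

namespace MobiusLike

variable {k : Type*} [Field k] {p : ℕ} {G X : Type*} [Group G] [MulAction G X]

theorem subgroup (h : MobiusLike k p G X) (H : Subgroup G) : MobiusLike k p H X where
  exists_fixed g := h.exists_fixed g
  eq_one g x y z h1 h2 h3 h4 h5 h6 := Subtype.ext (h.eq_one g x y z h1 h2 h3 h4 h5 h6)
  sq_eq_one g x y h1 h2 h3 := Subtype.ext (h.sq_eq_one g x y h1 h2 h3)
  char x := by
    obtain ⟨χ, hχ⟩ := h.char x
    let ι : stabilizer H x →* stabilizer G x :=
      { toFun := fun g => ⟨((g : H) : G), g.2⟩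
        map_one' := rfl
        map_mul' := fun _ _ => rfl }
    refine ⟨χ.comp ι, fun g => ?_⟩
    rw [MonoidHom.comp_apply, hχ]
    constructor
    · rintro (h1 | h1)
      · left; exact Subtype.ext h1
      · right; exact h1
    · rintro (h1 | h1)
      · left; exact congrArg Subtype.val h1
      · right; exact h1
  pow_eq_one g x h1 := Subtype.ext (h.pow_eq_one g x h1)

/-- The group of parabolic elements at `x`. -/
noncomputable def Q (h : MobiusLike k p G X) (x : X) : Subgroup G :=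
  (Classical.choose (h.char x)).ker.map (stabilizer G x).subtype

theorem mem_Q (h : MobiusLike k p G X) (x : X) (g : G) :
    g ∈ h.Q x ↔ g = 1 ∨ ∀ y, g • y = y → y = x := by
  have hχ := Classical.choose_spec (h.char x)
  constructor
  · rintro ⟨g', hg', rfl⟩
    exact (hχ g').1 hg'
  · intro hg
    have hgx : g • x = x := by
      rcases hg with rfl | hg
      · exact one_smul _ _
      · obtain ⟨y, hy⟩ := h.exists_fixed g
        have := hg y hy
        rwa [this] at hy
    exact ⟨⟨g, hgx⟩, (hχ ⟨g, hgx⟩).2 hg, rfl⟩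

theorem Q_le (h : MobiusLike k p G X) (x : X) : h.Q x ≤ stabilizer G x := by
  rintro _ ⟨g', -, rfl⟩
  exact g'.2

theorem fix_iff_of_mem_Q (h : MobiusLike k p G X) {x : X} {g : G} (hg : g ∈ h.Q x) (h1 : g ≠ 1)
    (y : X) : g • y = y ↔ y = x := by
  constructor
  · exact ((h.mem_Q x g).1 hg).resolve_left h1 y
  · rintro rfl
    exact h.Q_le y hg

/-- The number of fixed points of a nontrivial element: one or two. -/
theorem fixed (h : MobiusLike k p G X) {g : G} (hg : g ≠ 1) :
    (∃ x : X, g ∈ h.Q x ∧ ∀ y : X, g • y = y ↔ y = x) ∨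
    (∃ x y : X, x ≠ y ∧ ∀ z : X, g • z = z ↔ z = x ∨ z = y) := by
  obtain ⟨x, hx⟩ := h.exists_fixed g
  by_cases h1 : ∀ y, g • y = y → y = x
  · left
    refine ⟨x, (h.mem_Q x g).2 (Or.inr h1), fun y => ⟨h1 y, ?_⟩⟩
    rintro rfl; exact hx
  · right
    push Not at h1
    obtain ⟨y, hy, hyx⟩ := h1
    refine ⟨x, y, hyx.symm, fun z => ⟨fun hz => ?_, ?_⟩⟩
    · by_contra hne
      push Not at hne
      exact hg (h.eq_one g x y z hyx.symm (Ne.symm hne.1) (Ne.symm hne.2) hx hy hz)
    · rintro (rfl | rfl) <;> assumption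

variable [hp : Fact p.Prime] [CharP k p]

omit [MulAction G X] in
theorem units_eq_one {u : kˣ} (hu : u ^ p = 1) : u = 1 := by
  have h1 : ((u : k) - 1) ^ p = 0 := by
    rw [sub_pow_char, one_pow, ← Units.val_pow_eq_pow_val, hu, Units.val_one, sub_self]
  have h2 := pow_eq_zero_iff (hp.out.ne_zero) |>.1 h1
  exact Units.ext (sub_eq_zero.1 h2)

theorem eq_one_of_two (h : MobiusLike k p G X) {g : G} {x y : X} (hxy : x ≠ y) (hx : g • x = x)
    (hy : g • y = y) (hgp : g ^ p = 1) : g = 1 := by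
  obtain ⟨χ, hχ⟩ := h.char x
  have h1 : χ ⟨g, hx⟩ ^ p = 1 := by
    rw [← map_pow]
    have : (⟨g, hx⟩ : stabilizer G x) ^ p = 1 := Subtype.ext hgp
    rw [this, map_one]
  have h2 := (hχ ⟨g, hx⟩).1 (units_eq_one h1)
  rcases h2 with h2 | h2
  · exact h2
  · exact absurd (h2 y hy).symm hxy

theorem coprime_of_two (h : MobiusLike k p G X) {g : G} {x y : X} (hxy : x ≠ y) (hx : g • x = x)
    (hy : g • y = y) (hfin : orderOf g ≠ 0) : Nat.Coprime (orderOf g) p := by
  by_contra hc
  have hdvd : p ∣ orderOf g := by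
    rw [Nat.coprime_comm, hp.out.coprime_iff_not_dvd, not_not] at hc
    exact hc
  have hx' : g ∈ stabilizer G x := hx
  have hy' : g ∈ stabilizer G y := hy
  have h1 : g ^ (orderOf g / p) = 1 := by
    apply h.eq_one_of_two hxy ((stabilizer G x).pow_mem hx' _) ((stabilizer G y).pow_mem hy' _)
    rw [← pow_mul, Nat.div_mul_cancel hdvd, pow_orderOf_eq_one]
  have h2 := orderOf_dvd_of_pow_eq_one h1
  have h3 : orderOf g / p < orderOf g := Nat.div_lt_self (Nat.pos_of_ne_zero hfin) hp.out.one_lt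
  have h4 : 0 < orderOf g / p := Nat.div_pos (Nat.le_of_dvd (Nat.pos_of_ne_zero hfin) hdvd)
    hp.out.pos
  exact absurd (Nat.le_of_dvd h4 h2) (not_le.2 h3)

omit hp [CharP k p] in
theorem eq_of_mem_Q (h : MobiusLike k p G X) {g : G} {x y : X} (h1 : g ≠ 1) (hx : g ∈ h.Q x)
    (hy : g ∈ h.Q y) : x = y :=
  ((h.fix_iff_of_mem_Q hy h1 x).1 ((h.fix_iff_of_mem_Q hx h1 x).2 rfl))

omit hp [CharP k p] in
theorem pow_of_mem_Q (h : MobiusLike k p G X) {g : G} {x : X} (hx : g ∈ h.Q x) : g ^ p = 1 := by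
  rcases (h.mem_Q x g).1 hx with rfl | h1
  · exact one_pow _
  · exact h.pow_eq_one g x h1

omit hp [CharP k p] in
theorem isPGroup_Q (h : MobiusLike k p G X) (x : X) : IsPGroup p (h.Q x) := by
  intro g
  refine ⟨1, ?_⟩
  rw [pow_one]
  exact Subtype.ext (h.pow_of_mem_Q g.2)

/-- A nontrivial element of `p`-power order is parabolic. -/
theorem exists_mem_Q (h : MobiusLike k p G X) {g : G} (h1 : g ≠ 1) {n : ℕ} (hg : g ^ p ^ n = 1) :
    ∃ x, g ∈ h.Q x := by
  rcases h.fixed h1 with ⟨x, hx, -⟩ | ⟨x, y, hxy, hf⟩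
  · exact ⟨x, hx⟩
  · exfalso
    have hd := orderOf_dvd_of_pow_eq_one hg
    have h0 : orderOf g ≠ 0 := by
      intro h0
      rw [h0, zero_dvd_iff] at hd
      exact (pow_ne_zero n hp.out.ne_zero) hd
    have hc := h.coprime_of_two hxy ((hf x).2 (Or.inl rfl)) ((hf y).2 (Or.inr rfl)) h0
    have hc' : Nat.Coprime (orderOf g) (p ^ n) := Nat.Coprime.pow_right n hc
    have := Nat.eq_one_of_dvd_coprimes hc' (dvd_refl _) hd
    exact h1 (orderOf_eq_one_iff.1 this)

theorem le_Q_of_isPGroup [Finite G] (h : MobiusLike k p G X) {P : Subgroup G} (hP : IsPGroup p P)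
    {x : X} {u : G} (huP : u ∈ P) (hu : u ≠ 1) (hux : u ∈ h.Q x) : P ≤ h.Q x := by
  have hnt : Nontrivial P := ⟨⟨⟨u, huP⟩, 1, fun hc => hu (congrArg Subtype.val hc)⟩⟩
  have hcn := hP.center_nontrivial
  obtain ⟨z, hz⟩ := exists_ne (1 : Subgroup.center P)
  have hz1 : ((z : P) : G) ≠ 1 := by
    intro hc
    exact hz (Subtype.ext (Subtype.ext hc))
  obtain ⟨n, hn⟩ := hP (z : P)
  obtain ⟨y, hy⟩ := h.exists_mem_Q hz1 (n := n) (by
    have := congrArg Subtype.val hn
    simpa using this)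
  have hPy : P ≤ stabilizer G y := by
    intro g hg
    have hcomm : ((z : P) : G) * g = g * ((z : P) : G) := by
      have := Subgroup.mem_center_iff.1 z.2 ⟨g, hg⟩
      exact (congrArg Subtype.val this).symm
    have : ((z : P) : G) • (g • y) = g • y := by
      rw [← mul_smul, hcomm, mul_smul, (h.fix_iff_of_mem_Q hy hz1 y).2 rfl]
    exact (h.fix_iff_of_mem_Q hy hz1 _).1 this
  have hPQ : P ≤ h.Q y := by
    intro g hg
    by_cases hg1 : g = 1
    · rw [hg1]; exact one_mem _
    · obtain ⟨m, hm⟩ := hP ⟨g, hg⟩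
      obtain ⟨w, hw⟩ := h.exists_mem_Q hg1 (n := m) (by
        have := congrArg Subtype.val hm
        simpa using this)
      have : y = w := (h.fix_iff_of_mem_Q hw hg1 y).1 (hPy hg)
      rwa [this]
  have : x = y := h.eq_of_mem_Q hu hux (hPQ huP)
  rwa [this]

omit hp [CharP k p] in
theorem mem_Q_smul (h : MobiusLike k p G X) (g : G) (x : X) (u : G) :
    u ∈ h.Q x ↔ g * u * g⁻¹ ∈ h.Q (g • x) := by
  rw [h.mem_Q, h.mem_Q]
  constructor
  · rintro (rfl | h1)
    · left; group
    · right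
      intro y hy
      have : u • (g⁻¹ • y) = g⁻¹ • y := by
        rw [← mul_smul, ← smul_left_cancel_iff g, ← mul_smul, smul_inv_smul, ← mul_assoc]
        exact hy
      rw [← h1 _ this, smul_inv_smul]
  · rintro (h1 | h1)
    · left
      have : u = g⁻¹ * (g * u * g⁻¹) * g := by group
      rw [this, h1]; group
    · right
      intro y hy
      have : (g * u * g⁻¹) • (g • y) = g • y := by
        rw [mul_smul, mul_smul, inv_smul_smul, hy]
      have := h1 _ this
      exact smul_left_cancel g this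

omit hp [CharP k p] in
theorem card_Q_smul (h : MobiusLike k p G X) (g : G) (x : X) :
    Nat.card (h.Q (g • x)) = Nat.card (h.Q x) := by
  symm
  have : h.Q (g • x) = (h.Q x).map (MulAut.conj g).toMonoidHom := by
    ext u
    constructor
    · intro hu
      refine ⟨g⁻¹ * u * g, ?_, ?_⟩
      · have := (h.mem_Q_smul g x (g⁻¹ * u * g)).2 (by
          have : g * (g⁻¹ * u * g) * g⁻¹ = u := by group
          rwa [this])
        exact this
      · simp [mul_assoc]
    · rintro ⟨v, hv, rfl⟩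
      exact (h.mem_Q_smul g x v).1 hv
  rw [this]
  exact (Subgroup.card_map_of_injective (MulAut.conj g).injective).symm

/-- Two points with nontrivial parabolic groups are in one orbit. -/
theorem exists_smul_eq [Finite G] (h : MobiusLike k p G X) {x y : X} (hx : h.Q x ≠ ⊥)
    (hy : h.Q y ≠ ⊥) : ∃ g : G, g • x = y := by
  obtain ⟨P, hP⟩ := (h.isPGroup_Q x).exists_le_sylow
  obtain ⟨P', hP'⟩ := (h.isPGroup_Q y).exists_le_sylow
  obtain ⟨u, hu, hu1⟩ := (h.Q x).bot_or_exists_ne_one.resolve_left hx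
  obtain ⟨v, hv, hv1⟩ := (h.Q y).bot_or_exists_ne_one.resolve_left hy
  have hPx : (P : Subgroup G) = h.Q x := le_antisymm (h.le_Q_of_isPGroup P.2 (hP hu) hu1 hu) hP
  have hPy : (P' : Subgroup G) = h.Q y := le_antisymm (h.le_Q_of_isPGroup P'.2 (hP' hv) hv1 hv) hP'
  obtain ⟨g, hg⟩ := MulAction.exists_smul_eq G P P'
  refine ⟨g, ?_⟩
  have h1 : g * (u : G) * g⁻¹ ∈ h.Q (g • x) := (h.mem_Q_smul g x u).1 hu
  have h2 : g * (u : G) * g⁻¹ ∈ (P' : Subgroup G) := by
    rw [← hg]
    exact ⟨u, hP hu, rfl⟩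
  rw [hPy] at h2
  refine h.eq_of_mem_Q ?_ h1 h2
  intro hc
  apply hu1
  have : (u : G) = g⁻¹ * (g * (u : G) * g⁻¹) * g := by group
  rw [this, hc]; group

end MobiusLike

end Cfsg.Agent.ClassicalGeometry.DicksonAbstract
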