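import Cfsg.Agent.ClassicalGeometry.DicksonAbstract

set_option autoImplicit false

/-!
# Dickson's theorem: counting fixed points
-/

namespace Cfsg.Agent.ClassicalGeometry.DicksonCount

open MulAction Cfsg.Agent.ClassicalGeometry.DicksonAbstract

section General

variable {G X : Type*} [Group G] [MulAction G X]

/-- Representatives of the orbits on a finite invariant set, with the sum over the set in terms of the sum over
the representatives. -/
theorem exists_reps [Finite G] (S : Finset X) (hS : ∀ (g : G) (x : X), x ∈ S → g • x ∈ S) :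
    ∃ R : Finset X, R ⊆ S ∧ (∀ x ∈ S, ∃ r ∈ R, x ∈ orbit G r) ∧
      (∀ r ∈ R, ∀ r' ∈ R, r' ∈ orbit G r → r' = r) ∧
      ∀ f : X → ℕ, (∀ (g : G) (x : X), f (g • x) = f x) →
        ∑ x ∈ S, f x = ∑ r ∈ R, Nat.card (orbit G r) * f r := by
  classical
  let rep : X → X := fun x => (Quotient.mk (orbitRel G X) x).out
  have hrep : ∀ x, x ∈ orbit G (rep x) := by
    intro x
    have h1 : (orbitRel G X) (rep x) x := Quotient.exact (Quotient.out_eq _)
    have h2 : (orbitRel G X) x (rep x) := (orbitRel G X).symm h1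
    rwa [orbitRel_apply] at h2
  have hrep' : ∀ x, rep x ∈ orbit G x := fun x => by
    have h1 : (orbitRel G X) (rep x) x := Quotient.exact (Quotient.out_eq _)
    rwa [orbitRel_apply] at h1
  have hcongr : ∀ x y, x ∈ orbit G y → rep x = rep y := by
    intro x y hxy
    have : Quotient.mk (orbitRel G X) x = Quotient.mk (orbitRel G X) y :=
      Quotient.sound ((orbitRel_apply).2 hxy)
    simp only [rep, this]
  have hrr : ∀ x, rep (rep x) = rep x := fun x => hcongr _ _ (hrep' x)
  refine ⟨S.image rep, ?_, ?_, ?_, ?_⟩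
  · intro r hr
    obtain ⟨x, hx, rfl⟩ := Finset.mem_image.1 hr
    obtain ⟨g, hg⟩ := hrep' x
    change g • x = rep x at hg
    rw [← hg]
    exact hS g x hx
  · intro x hx
    exact ⟨rep x, Finset.mem_image_of_mem _ hx, hrep x⟩
  · intro r hr r' hr' h
    obtain ⟨x, hx, rfl⟩ := Finset.mem_image.1 hr
    obtain ⟨x', hx', rfl⟩ := Finset.mem_image.1 hr'
    have := hcongr _ _ h
    rw [hrr, hrr] at this
    exact this
  · intro f hf
    rw [← Finset.sum_fiberwise_of_maps_to (s := S) (t := S.image rep) (g := rep)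
      (fun x hx => Finset.mem_image_of_mem _ hx)]
    apply Finset.sum_congr rfl
    intro r hr
    obtain ⟨x₀, hx₀, rfl⟩ := Finset.mem_image.1 hr
    have h1 : ∀ x ∈ S.filter (fun x => rep x = rep x₀), f x = f (rep x₀) := by
      intro x hx
      have h2 := (Finset.mem_filter.1 hx).2
      obtain ⟨g, hg⟩ := hrep x
      change g • rep x = x at hg
      rw [← hg, hf, h2]
    rw [Finset.sum_congr rfl h1, Finset.sum_const, smul_eq_mul]
    congr 1
    have h2 : (orbit G (rep x₀)) = ((S.filter (fun x => rep x = rep x₀) : Finset X) : Set X) := by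
      ext x
      rw [Finset.coe_filter, Set.mem_ofPred_eq]
      constructor
      · intro hx
        refine ⟨?_, ?_⟩
        · obtain ⟨g, rfl⟩ := hx
          obtain ⟨g', hg'⟩ := hrep' x₀
          change g' • x₀ = rep x₀ at hg'
          rw [← hg']
          exact hS _ _ (hS _ _ hx₀)
        · rw [hcongr _ _ hx, hrr]
      · rintro ⟨-, hx⟩
        rw [← hx]
        exact hrep x
    rw [h2]
    simp

theorem card_orbit_mul (x : X) :
    Nat.card (orbit G x) * Nat.card (stabilizer G x) = Nat.card G := by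
  rw [← Nat.card_prod]
  exact Nat.card_congr (orbitProdStabilizerEquivGroup G x)

theorem card_dvd_of_free [Finite G] (S : Finset X) (hS : ∀ (g : G) (x : X), x ∈ S → g • x ∈ S)
    (hfree : ∀ x ∈ S, ∀ g : G, g • x = x → g = 1) : Nat.card G ∣ S.card := by
  obtain ⟨R, hRS, -, -, hf⟩ := exists_reps (G := G) S hS
  have h1 := hf (fun _ => 1) (fun _ _ => rfl)
  rw [Finset.sum_const, smul_eq_mul, mul_one] at h1
  rw [h1]
  apply Finset.dvd_sum
  intro r hr
  rw [mul_one]
  have h4 := card_orbit_mul (G := G) r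
  have h3 : stabilizer G r = ⊥ := by
    rw [eq_bot_iff]
    intro g hg
    exact hfree r (hRS hr) g hg
  rw [h3, Subgroup.card_bot, mul_one] at h4
  exact dvd_of_eq h4.symm

end General

section Arithmetic

/-- The arithmetic of the wild case. -/
theorem wild_arith {q s t e : ℕ} (hq : 3 ≤ q) (hs : 1 ≤ s) (ht : 1 ≤ t) (htq : t ∣ q - 1)
    (h : (1 + q * s) * q * t = (2 + (1 + q * s) * (q - 2)) * e) :
    (s = 1 ∧ (t = q - 1 ∨ 2 * t = q - 1)) ∨ (q = 3 ∧ s = 3 ∧ t = 2 ∧ e = 5) := by
  obtain ⟨r, rfl⟩ : ∃ r, q = r + 3 := ⟨q - 3, by omega⟩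
  have e1 : r + 3 - 2 = r + 1 := by omega
  have e2 : r + 3 - 1 = r + 2 := by omega
  rw [e1] at h
  rw [e2] at htq ⊢
  have h1 : (1 + (r + 3) * s) * t = (1 + s * (r + 1)) * e := by
    have : (r + 3) * ((1 + (r + 3) * s) * t) = (r + 3) * ((1 + s * (r + 1)) * e) := by
      nlinarith [h]
    exact Nat.eq_of_mul_eq_mul_left (by omega) this
  have h2 : (1 + s * (r + 1)) ∣ s * (2 * t) := by
    have : (1 + (r + 3) * s) * t = (1 + s * (r + 1)) * t + s * (2 * t) := by ring
    rw [this] at h1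
    exact (Nat.dvd_add_right (dvd_mul_right _ _)).1 (h1 ▸ dvd_mul_right _ _)
  have h3 : Nat.Coprime (1 + s * (r + 1)) s := by
    rw [Nat.coprime_add_mul_left_left]
    exact Nat.coprime_one_left s
  have h4 : (1 + s * (r + 1)) ∣ 2 * t := h3.dvd_of_dvd_mul_left h2
  have htle : t ≤ r + 2 := Nat.le_of_dvd (by omega) htq
  obtain ⟨c, hc⟩ := h4
  have hc1 : 1 ≤ c := by
    rcases Nat.eq_zero_or_pos c with rfl | hc0
    · omega
    · exact hc0
  have hs3 : s ≤ 3 := by
    by_contra hcon
    push Not at hcon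
    have : (1 + 4 * (r + 1)) * 1 ≤ (1 + s * (r + 1)) * c :=
      Nat.mul_le_mul (by nlinarith) hc1
    omega
  interval_cases s
  · left
    refine ⟨rfl, ?_⟩
    have hc2 : c ≤ 2 := by
      by_contra hcon
      push Not at hcon
      have : (1 + 1 * (r + 1)) * 3 ≤ (1 + 1 * (r + 1)) * c := Nat.mul_le_mul le_rfl hcon
      omega
    interval_cases c
    · right; omega
    · left; omega
  · exfalso
    have hc2 : c ≤ 1 := by
      by_contra hcon
      push Not at hcon
      have : (1 + 2 * (r + 1)) * 2 ≤ (1 + 2 * (r + 1)) * c := Nat.mul_le_mul le_rfl hcon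
      omega
    interval_cases c
    omega
  · right
    have hr : r = 0 := by
      have : (1 + 3 * (r + 1)) * 1 ≤ (1 + 3 * (r + 1)) * c := Nat.mul_le_mul le_rfl hc1
      omega
    subst hr
    have hc2 : c ≤ 1 := by
      by_contra hcon
      push Not at hcon
      have : (1 + 3 * (0 + 1)) * 2 ≤ (1 + 3 * (0 + 1)) * c := Nat.mul_le_mul le_rfl hcon
      omega
    interval_cases c
    omega

/-- The arithmetic of the tame case, sorted. -/
theorem tame_arith {N a b c x y z : ℕ} (hN : 1 ≤ N) (ha : a * x = N) (hb : b * y = N) (hc : c * z = N)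
    (hx : 2 ≤ x) (hxy : x ≤ y) (hyz : y ≤ z) (h : N + 2 = a + b + c) :
    c = 2 ∨ (N = 12 ∧ x = 2 ∧ y = 3 ∧ z = 3) ∨ (N = 24 ∧ x = 2 ∧ y = 3 ∧ z = 4) ∨
      (N = 60 ∧ x = 2 ∧ y = 3 ∧ z = 5) := by
  have ha0 : 0 < a := Nat.pos_of_ne_zero (by rintro rfl; omega)
  have hb0 : 0 < b := Nat.pos_of_ne_zero (by rintro rfl; omega)
  have hc0 : 0 < c := Nat.pos_of_ne_zero (by rintro rfl; omega)
  have hx2 : x = 2 := by
    by_contra hne
    have hx3 : 3 ≤ x := by omega
    have h1 : a * 3 ≤ a * x := Nat.mul_le_mul le_rfl hx3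
    have h2 : b * 3 ≤ b * y := Nat.mul_le_mul le_rfl (hx3.trans hxy)
    have h3 : c * 3 ≤ c * z := Nat.mul_le_mul le_rfl ((hx3.trans hxy).trans hyz)
    omega
  subst hx2
  have hy3 : y ≤ 3 := by
    by_contra hne
    have hy4 : 4 ≤ y := by omega
    have h2 : b * 4 ≤ b * y := Nat.mul_le_mul le_rfl hy4
    have h3 : c * 4 ≤ c * z := Nat.mul_le_mul le_rfl (hy4.trans hyz)
    omega
  interval_cases y
  · left; omega
  · right
    have hz5 : z ≤ 5 := by
      by_contra hne
      have hz6 : 6 ≤ z := by omega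
      have h3 : c * 6 ≤ c * z := Nat.mul_le_mul le_rfl hz6
      omega
    interval_cases z <;> omega

end Arithmetic

section Count

variable {k : Type*} [Field k] {p : ℕ} {G X : Type*} [Group G] [MulAction G X]

theorem sum_formula [Finite G] (h : MobiusLike k p G X) (S : Finset X)
    (hS : ∀ x : X, (∃ g : G, g ≠ 1 ∧ g • x = x) → x ∈ S) :
    ∑ x ∈ S, (Nat.card (stabilizer G x) + Nat.card (h.Q x)) + 2 = 2 * Nat.card G + 2 * S.card := by
  classical
  have := Fintype.ofFinite G
  have e1 : ∀ x : X, Nat.card (stabilizer G x) = ∑ g : G, if g • x = x then 1 else 0 := by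
    intro x
    rw [Finset.sum_boole, Nat.cast_id, Nat.card_eq_fintype_card, Fintype.card_subtype]
    rfl
  have e2 : ∀ x : X, Nat.card (h.Q x) = ∑ g : G, if g ∈ h.Q x then 1 else 0 := by
    intro x
    rw [Finset.sum_boole, Nat.cast_id, Nat.card_eq_fintype_card, Fintype.card_subtype]
  have e3 : ∀ g : G, g ≠ 1 →
      ∑ x ∈ S, ((if g • x = x then 1 else 0) + (if g ∈ h.Q x then 1 else 0)) = 2 := by
    intro g hg
    rw [Finset.sum_add_distrib]
    rcases h.fixed hg with ⟨x, hx, hf⟩ | ⟨x, y, hxy, hf⟩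
    · have hxS : x ∈ S := hS x ⟨g, hg, (hf x).2 rfl⟩
      have h1 : ∀ z ∈ S, (if g • z = z then 1 else 0) = if z = x then 1 else 0 := by
        intro z _
        simp only [hf]
      have h2 : ∀ z ∈ S, (if g ∈ h.Q z then 1 else 0) = if z = x then 1 else 0 := by
        intro z _
        congr 1
        apply propext
        constructor
        · intro hz
          exact h.eq_of_mem_Q hg hz hx
        · rintro rfl; exact hx
      rw [Finset.sum_congr rfl h1, Finset.sum_congr rfl h2, Finset.sum_ite_eq' S x, if_pos hxS]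
    · have hxS : x ∈ S := hS x ⟨g, hg, (hf x).2 (Or.inl rfl)⟩
      have hyS : y ∈ S := hS y ⟨g, hg, (hf y).2 (Or.inr rfl)⟩
      have h1 : ∀ z ∈ S, (if g • z = z then 1 else 0) =
          (if z = x then 1 else 0) + (if z = y then 1 else 0) := by
        intro z _
        simp only [hf]
        by_cases hzx : z = x
        · subst hzx; simp [hxy]
        · simp [hzx]
      have h2 : ∀ z ∈ S, (if g ∈ h.Q z then 1 else 0) = 0 := by
        intro z _
        rw [if_neg]
        intro hz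
        have hzx := (h.fix_iff_of_mem_Q hz hg x).1 ((hf x).2 (Or.inl rfl))
        have hzy := (h.fix_iff_of_mem_Q hz hg y).1 ((hf y).2 (Or.inr rfl))
        exact hxy (hzx.trans hzy.symm)
      rw [Finset.sum_congr rfl h1, Finset.sum_congr rfl h2, Finset.sum_add_distrib,
        Finset.sum_ite_eq' S x, Finset.sum_ite_eq' S y, if_pos hxS, if_pos hyS]
      simp
  have e4 : ∑ x ∈ S, (Nat.card (stabilizer G x) + Nat.card (h.Q x)) =
      ∑ g : G, ∑ x ∈ S, ((if g • x = x then 1 else 0) + (if g ∈ h.Q x then 1 else 0)) := by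
    rw [Finset.sum_comm]
    apply Finset.sum_congr rfl
    intro x _
    rw [e1, e2, Finset.sum_add_distrib]
  rw [e4, ← Finset.add_sum_erase Finset.univ _ (Finset.mem_univ (1 : G))]
  have e5 : ∀ g ∈ Finset.univ.erase (1 : G),
      ∑ x ∈ S, ((if g • x = x then 1 else 0) + (if g ∈ h.Q x then 1 else 0)) = 2 :=
    fun g hg => e3 g (Finset.ne_of_mem_erase hg)
  rw [Finset.sum_congr rfl e5, Finset.sum_const, Finset.card_erase_of_mem (Finset.mem_univ _)]
  have e6 : ∑ x ∈ S, ((if (1 : G) • x = x then 1 else 0) + (if (1 : G) ∈ h.Q x then 1 else 0)) =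
      2 * S.card := by
    have : ∀ x ∈ S, ((if (1 : G) • x = x then 1 else 0) + (if (1 : G) ∈ h.Q x then 1 else 0)) = 2 := by
      intro x _
      rw [if_pos (one_smul _ _), if_pos (one_mem _)]
    rw [Finset.sum_congr rfl this, Finset.sum_const, smul_eq_mul, mul_comm]
  rw [e6, Finset.card_univ, ← Nat.card_eq_fintype_card, smul_eq_mul]
  have : 0 < Nat.card G := Nat.card_pos
  omega

theorem exists_finset [Finite G] (h : MobiusLike k p G X) :
    ∃ S : Finset X, ∀ x : X, x ∈ S ↔ ∃ g : G, g ≠ 1 ∧ g • x = x := by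
  classical
  have hfin : Set.Finite {x : X | ∃ g : G, g ≠ 1 ∧ g • x = x} := by
    have : {x : X | ∃ g : G, g ≠ 1 ∧ g • x = x} = ⋃ g : {g : G // g ≠ 1}, {x : X | (g : G) • x = x} := by
      ext x
      simp
    rw [this]
    apply Set.finite_iUnion
    rintro ⟨g, hg⟩
    rcases h.fixed hg with ⟨x, -, hf⟩ | ⟨x, y, -, hf⟩
    · apply (Set.finite_singleton x).subset
      intro z hz
      exact (hf z).1 hz
    · apply (Set.toFinite {x, y}).subset
      intro z hz
      exact (hf z).1 hz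
  exact ⟨hfin.toFinset, fun x => by rw [Set.Finite.mem_toFinset]; rfl⟩

/-- The parabolic group at `x` acts freely outside `x`. -/
theorem card_Q_dvd [Finite G] (h : MobiusLike k p G X) (x : X) :
    Nat.card (h.Q x) ∣ Nat.card (orbit G x) - 1 := by
  classical
  have hfin : (orbit G x).Finite := Set.finite_range _
  have h1 : (hfin.toFinset.erase x).card = Nat.card (orbit G x) - 1 := by
    rw [Finset.card_erase_of_mem (hfin.mem_toFinset.2 (mem_orbit_self x)), Nat.card_eq_card_finite_toFinset hfin]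
  rw [← h1]
  apply card_dvd_of_free (G := h.Q x)
  · intro g y hy
    rw [Finset.mem_erase, hfin.mem_toFinset] at hy ⊢
    refine ⟨?_, ?_⟩
    · intro hc
      apply hy.1
      have h2 : (g : G) • y = (g : G) • x := by
        have : (g : G) • x = x := h.Q_le x g.2
        rw [this]; exact hc
      exact smul_left_cancel _ h2
    · obtain ⟨a, ha⟩ := hy.2
      exact ⟨(g : G) * a, by simp only [mul_smul]; rw [← ha]; rfl⟩
  · intro y hy g hg
    rw [Finset.mem_erase] at hy
    by_contra h1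
    have h2 : (g : G) ≠ 1 := fun hc => h1 (Subtype.ext hc)
    exact hy.1 ((h.fix_iff_of_mem_Q g.2 h2 y).1 hg)

/-- The stabiliser of two points acts freely on the nontrivial parabolic elements of the first. -/
theorem card_two_stab_dvd [Finite G] (h : MobiusLike k p G X) {x y : X} (hxy : x ≠ y) :
    Nat.card (stabilizer G x ⊓ stabilizer G y : Subgroup G) ∣ Nat.card (h.Q x) - 1 := by
  classical
  have hfin : (orbit (h.Q x) y).Finite := Set.finite_range _
  have hcard : Nat.card (orbit (h.Q x) y) = Nat.card (h.Q x) := by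
    have h2 := card_orbit_mul (G := h.Q x) y
    have h3 : stabilizer (h.Q x) y = ⊥ := by
      rw [eq_bot_iff]
      intro g hg
      by_contra h1
      have h2 : (g : G) ≠ 1 := fun hc => h1 (Subtype.ext hc)
      exact hxy ((h.fix_iff_of_mem_Q g.2 h2 y).1 hg).symm
    rwa [h3, Subgroup.card_bot, mul_one] at h2
  have h1 : (hfin.toFinset.erase y).card = Nat.card (h.Q x) - 1 := by
    rw [Finset.card_erase_of_mem (hfin.mem_toFinset.2 (mem_orbit_self y)), ← hcard,
      Nat.card_eq_card_finite_toFinset hfin]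
  rw [← h1]
  apply card_dvd_of_free (G := (stabilizer G x ⊓ stabilizer G y : Subgroup G))
  · intro g z hz
    rw [Finset.mem_erase, hfin.mem_toFinset] at hz ⊢
    have hgx : (g : G) • x = x := g.2.1
    have hgy : (g : G) • y = y := g.2.2
    refine ⟨?_, ?_⟩
    · intro hc
      apply hz.1
      have h2 : (g : G) • z = (g : G) • y := by
        rw [hgy]; exact hc
      exact smul_left_cancel _ h2
    · obtain ⟨a, ha⟩ := hz.2
      have h2 : (g : G) * (a : G) * (g : G)⁻¹ ∈ h.Q x := by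
        have := (h.mem_Q_smul (g : G) x (a : G)).1 a.2
        rwa [hgx] at this
      refine ⟨⟨_, h2⟩, ?_⟩
      change ((g : G) * (a : G) * (g : G)⁻¹) • y = (g : G) • z
      have h3 : (g : G)⁻¹ • y = y := by rw [inv_smul_eq_iff, hgy]
      rw [mul_smul, mul_smul, h3, ← ha]
      rfl
  · intro z hz g hg
    rw [Finset.mem_erase, hfin.mem_toFinset] at hz
    have hgx : (g : G) • x = x := g.2.1
    have hgy : (g : G) • y = y := g.2.2
    have hgz : (g : G) • z = z := hg
    have hxz : x ≠ z := by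
      rintro rfl
      obtain ⟨a, ha⟩ := hz.2
      have h4 : (a : G) • x = x := h.Q_le x a.2
      have h5 : (a : G) • y = (a : G) • x := by rw [h4]; exact ha
      exact hxy (smul_left_cancel _ h5).symm
    exact Subtype.ext (h.eq_one _ x y z hxy hxz (Ne.symm hz.1) hgx hgy hgz)

/-- Structure of the point stabilisers. -/
theorem card_stab [Finite G] (h : MobiusLike k p G X) (x : X) :
    ∃ t, Nat.card (stabilizer G x) = Nat.card (h.Q x) * t ∧ t ∣ Nat.card (h.Q x) - 1 ∧
      (t = 1 ∨ ∃ y, x ≠ y ∧ Nat.card (stabilizer G x ⊓ stabilizer G y : Subgroup G) = t) := by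
  classical
  obtain ⟨χ, hχ⟩ := h.char x
  have hker : Nat.card (h.Q x) = Nat.card χ.ker := by
    have : h.Q x = χ.ker.map (stabilizer G x).subtype := by
      ext g
      rw [h.mem_Q]
      constructor
      · intro hg
        have hgx : g • x = x := h.Q_le x ((h.mem_Q x g).2 hg)
        exact ⟨⟨g, hgx⟩, (hχ ⟨g, hgx⟩).2 hg, rfl⟩
      · rintro ⟨g', hg', rfl⟩
        exact (hχ g').1 hg'
    rw [this]
    exact Subgroup.card_map_of_injective (stabilizer G x).subtype_injective
  have hcard : Nat.card (stabilizer G x) = Nat.card (h.Q x) * Nat.card χ.range := by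
    rw [hker, Subgroup.card_eq_card_quotient_mul_card_subgroup χ.ker, mul_comm,
      Nat.card_congr (QuotientGroup.quotientKerEquivRange χ).toEquiv]
  have hcyc : IsCyclic χ.range := by
    have : Finite χ.range := Finite.of_surjective χ.rangeRestrict χ.rangeRestrict_surjective
    infer_instance
  obtain ⟨⟨_, g, rfl⟩, hg⟩ := hcyc.exists_generator
  by_cases hgQ : (g : G) ∈ h.Q x
  · refine ⟨1, ?_, one_dvd _, Or.inl rfl⟩
    rw [hcard]
    have hg1 : χ g = 1 := (hχ g).2 ((h.mem_Q x g).1 hgQ)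
    have : Nat.card χ.range = 1 := by
      rw [Nat.card_eq_one_iff_unique]
      refine ⟨⟨fun a b => ?_⟩, ⟨1⟩⟩
      have key : ∀ c : χ.range, c = 1 := by
        intro c
        obtain ⟨n, hn⟩ := Subgroup.mem_zpowers_iff.1 (hg c)
        rw [← hn]
        have : (⟨χ g, ⟨g, rfl⟩⟩ : χ.range) = 1 := Subtype.ext hg1
        rw [this, one_zpow]
      rw [key a, key b]
    rw [this]
  · rw [h.mem_Q] at hgQ
    push Not at hgQ
    obtain ⟨hg1, y, hy, hyx⟩ := hgQ
    have hT : Nat.card (stabilizer G x ⊓ stabilizer G y : Subgroup G) = Nat.card χ.range := by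
      let f : (stabilizer G x ⊓ stabilizer G y : Subgroup G) → χ.range :=
        fun a => ⟨χ ⟨a, a.2.1⟩, ⟨_, rfl⟩⟩
      apply Nat.card_eq_of_bijective f
      constructor
      · intro a b hab
        have h1 : χ ⟨a, a.2.1⟩ = χ ⟨b, b.2.1⟩ := congrArg Subtype.val hab
        have h2 : χ (⟨a, a.2.1⟩ * ⟨b, b.2.1⟩⁻¹) = 1 := by
          rw [map_mul, map_inv, h1, mul_inv_cancel]
        rcases (hχ _).1 h2 with h3 | h3
        · have h4 : (a : G) * (b : G)⁻¹ = 1 := h3
          exact Subtype.ext (mul_inv_eq_one.1 h4)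
        · exfalso
          apply hyx
          apply h3 y
          have ha : (a : G) ∈ stabilizer G y := a.2.2
          have hb : (b : G) ∈ stabilizer G y := b.2.2
          exact (stabilizer G y).mul_mem ha ((stabilizer G y).inv_mem hb)
      · rintro ⟨_, a, rfl⟩
        obtain ⟨n, hn⟩ := Subgroup.mem_zpowers_iff.1 (hg ⟨χ a, ⟨a, rfl⟩⟩)
        have hgy : (g : G) ∈ (stabilizer G x ⊓ stabilizer G y : Subgroup G) := ⟨g.2, hy⟩
        refine ⟨⟨(g : G) ^ n, Subgroup.zpow_mem _ hgy n⟩, ?_⟩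
        apply Subtype.ext
        have h5 := congrArg Subtype.val hn
        change χ _ = χ a
        have h6 : (χ g) ^ n = χ a := by simpa using h5
        rw [← h6, ← map_zpow]
        rfl
    refine ⟨Nat.card χ.range, hcard, ?_, Or.inr ⟨y, hyx.symm, hT⟩⟩
    rw [← hT]
    exact card_two_stab_dvd h hyx.symm

end Count

section Cases

variable {k : Type*} [Field k] {p : ℕ} {G X : Type*} [Group G] [MulAction G X]

/-- `S` is the set of points with a nontrivial stabiliser, `R` a set of representatives of the orbits on `S`. -/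
structure Reps (G : Type*) {X : Type*} [Group G] [MulAction G X] (S R : Finset X) : Prop where
  mem : ∀ x : X, x ∈ S ↔ ∃ g : G, g ≠ 1 ∧ g • x = x
  sub : R ⊆ S
  cover : ∀ x ∈ S, ∃ r ∈ R, x ∈ orbit G r
  uniq : ∀ r ∈ R, ∀ r' ∈ R, r' ∈ orbit G r → r' = r
  sum : ∀ f : X → ℕ, (∀ (g : G) (x : X), f (g • x) = f x) →
    ∑ x ∈ S, f x = ∑ r ∈ R, Nat.card (orbit G r) * f r

theorem exists_Reps [Finite G] (h : MobiusLike k p G X) : ∃ S R : Finset X, Reps G S R := by
  obtain ⟨S, hS⟩ := exists_finset h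
  have hinv : ∀ (g : G) (x : X), x ∈ S → g • x ∈ S := by
    intro g x hx
    rw [hS] at hx ⊢
    obtain ⟨u, hu, hux⟩ := hx
    refine ⟨g * u * g⁻¹, ?_, ?_⟩
    · intro hc
      apply hu
      have : u = g⁻¹ * (g * u * g⁻¹) * g := by group
      rw [this, hc]; group
    · rw [mul_smul, mul_smul, inv_smul_smul, hux]
  obtain ⟨R, h1, h2, h3, h4⟩ := exists_reps (G := G) S hinv
  exact ⟨S, R, ⟨hS, h1, h2, h3, h4⟩⟩

theorem card_stab_smul (g : G) (x : X) :
    Nat.card (stabilizer G (g • x)) = Nat.card (stabilizer G x) := by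
  rw [MulAction.stabilizer_smul_eq_stabilizer_map_conj]
  exact Subgroup.card_map_of_injective (MulAut.conj g).injective

theorem sum_R [Finite G] (h : MobiusLike k p G X) {S R : Finset X} (hSR : Reps G S R) :
    ∑ r ∈ R, Nat.card (orbit G r) * (Nat.card (stabilizer G r) + Nat.card (h.Q r)) + 2 =
      2 * Nat.card G + 2 * ∑ r ∈ R, Nat.card (orbit G r) := by
  have h1 := sum_formula h S (fun x hx => (hSR.mem x).2 hx)
  rw [hSR.sum (fun x => Nat.card (stabilizer G x) + Nat.card (h.Q x))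
    (fun g x => by rw [card_stab_smul, h.card_Q_smul])] at h1
  have h2 := hSR.sum (fun _ => 1) (fun _ _ => rfl)
  simp only [Finset.sum_const, smul_eq_mul, mul_one] at h2
  rw [h1, h2]

theorem three_arith {N a b c x y z u v w : ℕ} (ha : a * x = N) (hb : b * y = N) (hc : c * z = N)
    (hN : 1 ≤ N) (hx : 2 ≤ x) (hy : 2 ≤ y) (hz : 2 ≤ z) (hu : 1 ≤ u) (hv : 1 ≤ v) (hw : 1 ≤ w)
    (huv : u = 1 ∨ v = 1) (huw : u = 1 ∨ w = 1) (hvw : v = 1 ∨ w = 1)
    (h : a * (x + u) + (b * (y + v) + c * (z + w)) + 2 = 2 * N + 2 * (a + (b + c))) :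
    (u = 1 ∧ v = 1 ∧ w = 1) ∧ N + 2 = a + b + c := by
  have ha0 : 0 < a := Nat.pos_of_ne_zero (by rintro rfl; omega)
  have hb0 : 0 < b := Nat.pos_of_ne_zero (by rintro rfl; omega)
  have hc0 : 0 < c := Nat.pos_of_ne_zero (by rintro rfl; omega)
  have h1 : a * 2 ≤ a * x := Nat.mul_le_mul le_rfl hx
  have h2 : b * 2 ≤ b * y := Nat.mul_le_mul le_rfl hy
  have h3 : c * 2 ≤ c * z := Nat.mul_le_mul le_rfl hz
  rw [mul_add, mul_add, mul_add, ha, hb, hc] at h
  have key : u = 1 ∧ v = 1 ∧ w = 1 := by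
    rcases huv with rfl | rfl
    · rcases hvw with rfl | rfl
      · refine ⟨rfl, rfl, ?_⟩
        by_contra hne
        have : c * 2 ≤ c * w := Nat.mul_le_mul le_rfl (by omega)
        omega
      · refine ⟨rfl, ?_, rfl⟩
        by_contra hne
        have : b * 2 ≤ b * v := Nat.mul_le_mul le_rfl (by omega)
        omega
    · rcases huw with rfl | rfl
      · refine ⟨rfl, rfl, ?_⟩
        by_contra hne
        have : c * 2 ≤ c * w := Nat.mul_le_mul le_rfl (by omega)
        omega
      · refine ⟨?_, rfl, rfl⟩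
        by_contra hne
        have : a * 2 ≤ a * u := Nat.mul_le_mul le_rfl (by omega)
        omega
  obtain ⟨rfl, rfl, rfl⟩ := key
  refine ⟨⟨rfl, rfl, rfl⟩, ?_⟩
  omega

theorem exists_sorted {X : Type*} {R : Finset X} (hR : R.card = 3) (f : X → ℕ) :
    ∃ x y z, x ≠ y ∧ x ≠ z ∧ y ≠ z ∧ (∀ w, w ∈ R ↔ w = x ∨ w = y ∨ w = z) ∧ f x ≤ f y ∧ f y ≤ f z := by
  classical
  obtain ⟨a, b, c, hab, hac, hbc, rfl⟩ := Finset.card_eq_three.1 hR
  rcases le_total (f a) (f b) with h1 | h1 <;> rcases le_total (f b) (f c) with h2 | h2 <;>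
    rcases le_total (f a) (f c) with h3 | h3
  · exact ⟨a, b, c, hab, hac, hbc, by simp, h1, h2⟩
  · exact ⟨a, b, c, hab, hac, hbc, by simp, h1, h2⟩
  · exact ⟨a, c, b, hac, hab, hbc.symm, by simp; tauto, h3, h2⟩
  · exact ⟨c, a, b, hac.symm, hbc.symm, hab, by simp; tauto, h3, h1⟩
  · exact ⟨b, a, c, hab.symm, hbc, hac, by simp; tauto, h1, h3⟩
  · exact ⟨b, c, a, hbc, hab.symm, hac.symm, by simp; tauto, h2, h3⟩
  · exact ⟨c, b, a, hbc.symm, hac.symm, hab.symm, by simp; tauto, h2, h1⟩
  · exact ⟨c, b, a, hbc.symm, hac.symm, hab.symm, by simp; tauto, h2, h1⟩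

theorem cases [Finite G] [Nontrivial G] [Fact p.Prime] [CharP k p] (h : MobiusLike k p G X)
    {S R : Finset X} (hSR : Reps G S R) :
    (∃ x : X, ∀ g : G, g • x = x) ∨
    (∃ x : X, Nat.card (orbit G x) = 2) ∨
    (∃ x y z : X, x ≠ y ∧ x ≠ z ∧ y ≠ z ∧ (∀ w, w ∈ R ↔ w = x ∨ w = y ∨ w = z) ∧
      Nat.card (h.Q x) = 1 ∧ Nat.card (h.Q y) = 1 ∧ Nat.card (h.Q z) = 1 ∧
      Nat.card (stabilizer G x) = 2 ∧ Nat.card (stabilizer G y) = 3 ∧
      ((Nat.card G = 12 ∧ Nat.card (stabilizer G z) = 3) ∨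
       (Nat.card G = 24 ∧ Nat.card (stabilizer G z) = 4) ∨
       (Nat.card G = 60 ∧ Nat.card (stabilizer G z) = 5))) ∨
    (∃ x y : X, x ≠ y ∧ (∀ w, w ∈ R ↔ w = x ∨ w = y) ∧ Nat.card (h.Q x) = 3 ∧
      Nat.card (h.Q y) = 1 ∧ Nat.card G = 60 ∧ Nat.card (stabilizer G x) = 6 ∧
      Nat.card (stabilizer G y) = 5) ∨
    (∃ x : X, 3 ≤ Nat.card (h.Q x) ∧ Nat.card (orbit G x) = Nat.card (h.Q x) + 1 ∧
      ∃ t, Nat.card (stabilizer G x) = Nat.card (h.Q x) * t ∧
        (t = Nat.card (h.Q x) - 1 ∨ 2 * t = Nat.card (h.Q x) - 1)) := by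
  classical
  set N := Nat.card G with hN
  have hN2 : 2 ≤ N := Finite.one_lt_card
  have hne : ∀ r, Nat.card (orbit G r) * Nat.card (stabilizer G r) = N := fun r : X => card_orbit_mul r
  have he : ∀ r ∈ R, 2 ≤ Nat.card (stabilizer G r) := by
    intro r hr
    obtain ⟨g, hg, hgr⟩ := (hSR.mem r).1 (hSR.sub hr)
    have : Nontrivial (stabilizer G r) :=
      ⟨⟨⟨g, hgr⟩, 1, fun hc => hg (congrArg Subtype.val hc)⟩⟩
    exact Finite.one_lt_card
  have hq : ∀ r, 1 ≤ Nat.card (h.Q r) := fun r => Nat.card_pos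
  have hqq : ∀ r ∈ R, ∀ r' ∈ R, r ≠ r' → Nat.card (h.Q r) = 1 ∨ Nat.card (h.Q r') = 1 := by
    intro r hr r' hr' hrr
    by_contra hcon
    push Not at hcon
    obtain ⟨h1, h2⟩ := hcon
    have h3 : h.Q r ≠ ⊥ := fun hc => h1 (by rw [hc]; exact Subgroup.card_bot)
    have h4 : h.Q r' ≠ ⊥ := fun hc => h2 (by rw [hc]; exact Subgroup.card_bot)
    obtain ⟨g, hg⟩ := h.exists_smul_eq h3 h4
    exact hrr (hSR.uniq r hr r' hr' ⟨g, hg⟩).symm
  have hsum := sum_R h hSR
  rw [← hN] at hsum
  have hR3 : R.card ≤ 3 := by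
    have h1 : ∑ r ∈ R, (N + 4 * Nat.card (orbit G r)) ≤
        ∑ r ∈ R, 2 * (Nat.card (orbit G r) * (Nat.card (stabilizer G r) + Nat.card (h.Q r))) := by
      apply Finset.sum_le_sum
      intro r hr
      have h2 := hne r
      have h3 : Nat.card (orbit G r) * 2 ≤ Nat.card (orbit G r) * Nat.card (stabilizer G r) :=
        Nat.mul_le_mul le_rfl (he r hr)
      have h4 : Nat.card (orbit G r) * 1 ≤ Nat.card (orbit G r) * Nat.card (h.Q r) :=
        Nat.mul_le_mul le_rfl (hq r)
      rw [mul_add, h2]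
      omega
    rw [← Finset.mul_sum, Finset.sum_add_distrib, ← Finset.mul_sum, Finset.sum_const,
      smul_eq_mul] at h1
    by_contra hcon
    push Not at hcon
    have h5 : 4 * N ≤ R.card * N := Nat.mul_le_mul (by omega) le_rfl
    omega
  have hfixcase : ∀ x : X, Nat.card (orbit G x) = 1 → ∀ g : G, g • x = x := by
    intro x hx g
    rw [Nat.card_eq_one_iff_unique] at hx
    have := hx.1
    have h1 : (⟨g • x, mem_orbit _ _⟩ : orbit G x) = ⟨x, mem_orbit_self x⟩ := Subsingleton.elim _ _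
    exact congrArg Subtype.val h1
  interval_cases hRc : R.card
  · -- no orbits
    exfalso
    rw [Finset.card_eq_zero] at hRc
    subst hRc
    simp at hsum
    omega
  · -- one orbit
    left
    obtain ⟨x, rfl⟩ := Finset.card_eq_one.1 hRc
    refine ⟨x, hfixcase x ?_⟩
    rw [Finset.sum_singleton, Finset.sum_singleton, mul_add, hne x] at hsum
    obtain ⟨t, ht, -, -⟩ := card_stab h x
    have h1 := hne x
    rw [ht] at h1
    have h2 := he x (Finset.mem_singleton_self x)
    have h3 := hq x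
    rw [ht] at h2
    generalize Nat.card (orbit G x) = n at *
    generalize Nat.card (h.Q x) = q at *
    -- n * q + 2 = N + 2 * n, n * (q * t) = N
    have ht0 : t ≠ 0 := by rintro rfl; omega
    have h4 : n * q + 2 = n * (q * t) + 2 * n := by omega
    have h5 : n * q * 1 ≤ n * q * t := Nat.mul_le_mul le_rfl (Nat.pos_of_ne_zero ht0)
    have h6 : n * q * t = n * (q * t) := mul_assoc _ _ _
    have hn0 : n ≠ 0 := by rintro rfl; omega
    omega
  · -- two orbits
    obtain ⟨x', y', hxy', rfl⟩ := Finset.card_eq_two.1 hRc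
    -- choose `x` with possibly nontrivial parabolic group
    obtain ⟨x, y, hxy, hR, hqy⟩ : ∃ x y : X, x ≠ y ∧ ({x', y'} : Finset X) = {x, y} ∧
        Nat.card (h.Q y) = 1 := by
      rcases hqq x' (by simp) y' (by simp) hxy' with h1 | h1
      · exact ⟨y', x', hxy'.symm, Finset.pair_comm _ _, h1⟩
      · exact ⟨x', y', hxy', rfl, h1⟩
    rw [hR] at hsum he hqq ⊢
    rw [Finset.sum_pair hxy, Finset.sum_pair hxy, mul_add, mul_add, hne x, hne y, hqy] at hsum
    have hy2 := he y (by simp)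
    have hx2 := he x (by simp)
    have h1 := hne x
    have h2 := hne y
    obtain ⟨t, ht, htq, -⟩ := card_stab h x
    have hdvd := card_Q_dvd h x
    have hnx : 0 < Nat.card (orbit G x) := by
      apply Nat.pos_of_ne_zero
      intro h0
      rw [h0] at h1
      omega
    have hny : 0 < Nat.card (orbit G y) := by
      apply Nat.pos_of_ne_zero
      intro h0
      rw [h0] at h2
      omega
    have heq : Nat.card (orbit G x) * Nat.card (h.Q x) + 2 =
        2 * Nat.card (orbit G x) + Nat.card (orbit G y) := by omega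
    by_cases hq1 : Nat.card (h.Q x) = 1
    · -- tame
      left
      rw [hq1] at heq
      refine ⟨x, hfixcase x ?_⟩
      omega
    by_cases hq2 : Nat.card (h.Q x) = 2
    · right; left
      refine ⟨y, ?_⟩
      rw [hq2] at heq
      omega
    have hq3 : 3 ≤ Nat.card (h.Q x) := by have := hq x; omega
    by_cases hn1 : Nat.card (orbit G x) = 1
    · left
      exact ⟨x, hfixcase x hn1⟩
    obtain ⟨s, hs⟩ := hdvd
    have hns : Nat.card (orbit G x) = 1 + Nat.card (h.Q x) * s := by omega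
    have hs1 : 1 ≤ s := by
      apply Nat.pos_of_ne_zero
      rintro rfl
      omega
    have ht1 : 1 ≤ t := by
      apply Nat.pos_of_ne_zero
      rintro rfl
      omega
    have hmain : (1 + Nat.card (h.Q x) * s) * Nat.card (h.Q x) * t =
        (2 + (1 + Nat.card (h.Q x) * s) * (Nat.card (h.Q x) - 2)) * Nat.card (stabilizer G y) := by
      have h3 : Nat.card (orbit G y) = 2 + Nat.card (orbit G x) * (Nat.card (h.Q x) - 2) := by
        rw [Nat.mul_sub]
        have h4 : Nat.card (orbit G x) * 3 ≤ Nat.card (orbit G x) * Nat.card (h.Q x) :=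
          Nat.mul_le_mul le_rfl hq3
        omega
      rw [← hns, ← h3, h2, ← h1, ht, mul_assoc]
    rcases wild_arith hq3 hs1 ht1 htq hmain with ⟨rfl, h5⟩ | ⟨h5, rfl, rfl, h6⟩
    · right; right; right; right
      refine ⟨x, hq3, by omega, t, ht, h5⟩
    · right; right; right; left
      refine ⟨x, y, hxy, by simp, h5, hqy, ?_, ?_, h6⟩
      · rw [← h1, hns, ht, h5]
      · rw [ht, h5]
  · -- three orbits
    obtain ⟨x, y, z, hxy, hxz, hyz, hR, hle1, hle2⟩ :=
      exists_sorted hRc (fun r => Nat.card (stabilizer G r))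
    have hR' : R = {x, y, z} := by
      ext w; rw [hR]; simp
    rw [hR', Finset.sum_insert (by simp [hxy, hxz]), Finset.sum_insert (by simp [hyz]),
      Finset.sum_singleton, Finset.sum_insert (by simp [hxy, hxz]),
      Finset.sum_insert (by simp [hyz]), Finset.sum_singleton] at hsum
    have hx := (hR x).2 (Or.inl rfl)
    have hy := (hR y).2 (Or.inr (Or.inl rfl))
    have hz := (hR z).2 (Or.inr (Or.inr rfl))
    obtain ⟨⟨hq1, hq2, hq3⟩, hsum'⟩ := three_arith (hne x) (hne y) (hne z) (by omega) (he x hx)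
      (he y hy) (he z hz) (hq x) (hq y) (hq z) (hqq x hx y hy hxy) (hqq x hx z hz hxz)
      (hqq y hy z hz hyz) hsum
    rcases tame_arith (by omega) (hne x) (hne y) (hne z) (he x hx) hle1 hle2 hsum' with
      h1 | ⟨h1, h2, h3, h4⟩ | ⟨h1, h2, h3, h4⟩ | ⟨h1, h2, h3, h4⟩
    · right; left
      exact ⟨z, h1⟩
    · right; right; left
      exact ⟨x, y, z, hxy, hxz, hyz, hR, hq1, hq2, hq3, h2, h3, Or.inl ⟨h1, h4⟩⟩
    · right; right; left
      exact ⟨x, y, z, hxy, hxz, hyz, hR, hq1, hq2, hq3, h2, h3, Or.inr (Or.inl ⟨h1, h4⟩)⟩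
    · right; right; left
      exact ⟨x, y, z, hxy, hxz, hyz, hR, hq1, hq2, hq3, h2, h3, Or.inr (Or.inr ⟨h1, h4⟩)⟩

end Cases

end Cfsg.Agent.ClassicalGeometry.DicksonCount
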