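import Cfsg.Agent.LieClassical.SLTwoUnipotent

/-!
# Powers of elements of `SL₂` in terms of the trace

`tr g = g 0 0 + g 1 1`; small powers of `g` are `1` or `-1` for special traces, and conversely.
Centre of `SL₂`.
-/

set_option autoImplicit false

namespace Cfsg.Agent.ClassicalGeometry.SLTwoTrace

open Matrix
open Cfsg.Agent.LieClassical.SLTwoUnipotent

variable {F : Type*} [Field F]

/-- The trace of an element of `SL₂`. -/
def tr (g : SpecialLinearGroup (Fin 2) F) : F := g 0 0 + g 1 1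

theorem tr_def (g : SpecialLinearGroup (Fin 2) F) : tr g = g 0 0 + g 1 1 := rfl

theorem det_eq (g : SpecialLinearGroup (Fin 2) F) : g 0 0 * g 1 1 - g 0 1 * g 1 0 = 1 := by
  rw [← Matrix.det_fin_two, g.det_coe]

theorem coe_neg' (g : SpecialLinearGroup (Fin 2) F) :
    ((-g : SpecialLinearGroup (Fin 2) F) : Matrix (Fin 2) (Fin 2) F) =
      -(g : Matrix (Fin 2) (Fin 2) F) := Matrix.SpecialLinearGroup.coe_neg g

theorem coe_one' : ((1 : SpecialLinearGroup (Fin 2) F) : Matrix (Fin 2) (Fin 2) F) = 1 :=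
  Matrix.SpecialLinearGroup.coe_one

theorem coe_pow' (g : SpecialLinearGroup (Fin 2) F) (n : ℕ) :
    ((g ^ n : SpecialLinearGroup (Fin 2) F) : Matrix (Fin 2) (Fin 2) F) =
      (g : Matrix (Fin 2) (Fin 2) F) ^ n := Matrix.SpecialLinearGroup.coe_pow g n

/-- Cayley-Hamilton. -/
theorem sq_eq (g : SpecialLinearGroup (Fin 2) F) :
    (g : Matrix (Fin 2) (Fin 2) F) ^ 2 =
      tr g • (g : Matrix (Fin 2) (Fin 2) F) - (1 : F) • (1 : Matrix (Fin 2) (Fin 2) F) := by
  have hdet := det_eq g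
  have hg := Matrix.eta_fin_two (g : Matrix (Fin 2) (Fin 2) F)
  rw [tr_def, pow_two]
  set a := g 0 0
  set b := g 0 1
  set c := g 1 0
  set d := g 1 1
  rw [hg, Matrix.mul_fin_two]
  ext i j
  fin_cases i <;> fin_cases j
  · simp
    linear_combination -hdet
  · simp
    ring
  · simp
    ring
  · simp
    linear_combination -hdet

theorem pow_succ_eq (g : SpecialLinearGroup (Fin 2) F) (n : ℕ) (x y : F)
    (h : (g : Matrix (Fin 2) (Fin 2) F) ^ n =
      x • (g : Matrix (Fin 2) (Fin 2) F) - y • (1 : Matrix (Fin 2) (Fin 2) F)) :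
    (g : Matrix (Fin 2) (Fin 2) F) ^ (n + 1) =
      (x * tr g - y) • (g : Matrix (Fin 2) (Fin 2) F) - x • (1 : Matrix (Fin 2) (Fin 2) F) := by
  rw [pow_succ, h, sub_mul, smul_mul_assoc, smul_mul_assoc, one_mul, ← pow_two, sq_eq]
  rw [smul_sub, smul_smul, smul_smul, mul_one, sub_smul]
  abel

theorem pow_three_eq (g : SpecialLinearGroup (Fin 2) F) :
    (g : Matrix (Fin 2) (Fin 2) F) ^ 3 =
      (tr g ^ 2 - 1) • (g : Matrix (Fin 2) (Fin 2) F) -
        (tr g) • (1 : Matrix (Fin 2) (Fin 2) F) := by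
  have := pow_succ_eq g 2 _ _ (sq_eq g)
  rw [this]
  congr 2
  ring

theorem pow_four_eq (g : SpecialLinearGroup (Fin 2) F) :
    (g : Matrix (Fin 2) (Fin 2) F) ^ 4 =
      (tr g ^ 3 - 2 * tr g) • (g : Matrix (Fin 2) (Fin 2) F) -
        (tr g ^ 2 - 1) • (1 : Matrix (Fin 2) (Fin 2) F) := by
  have := pow_succ_eq g 3 _ _ (pow_three_eq g)
  rw [this]
  congr 2
  ring

theorem pow_five_eq (g : SpecialLinearGroup (Fin 2) F) :
    (g : Matrix (Fin 2) (Fin 2) F) ^ 5 =
      (tr g ^ 4 - 3 * tr g ^ 2 + 1) • (g : Matrix (Fin 2) (Fin 2) F) -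
        (tr g ^ 3 - 2 * tr g) • (1 : Matrix (Fin 2) (Fin 2) F) := by
  have := pow_succ_eq g 4 _ _ (pow_four_eq g)
  rw [this]
  congr 2
  ring

theorem sq_eq_neg_one {g : SpecialLinearGroup (Fin 2) F} (h : tr g = 0) : g ^ 2 = -1 := by
  apply ext_coe
  rw [coe_pow', sq_eq, h, coe_neg', coe_one']
  simp

theorem cube_eq_neg_one {g : SpecialLinearGroup (Fin 2) F} (h : tr g = 1) : g ^ 3 = -1 := by
  apply ext_coe
  rw [coe_pow', pow_three_eq, h, coe_neg', coe_one']
  simp

theorem cube_eq_one {g : SpecialLinearGroup (Fin 2) F} (h : tr g = -1) : g ^ 3 = 1 := by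
  apply ext_coe
  rw [coe_pow', pow_three_eq, h, coe_one']
  simp

theorem pow_five_eq_one {g : SpecialLinearGroup (Fin 2) F} (h : tr g ^ 2 + tr g - 1 = 0) :
    g ^ 5 = 1 := by
  apply ext_coe
  have h1 : tr g ^ 4 - 3 * tr g ^ 2 + 1 = 0 := by
    linear_combination (tr g ^ 2 - tr g - 1) * h
  have h2 : tr g ^ 3 - 2 * tr g = -1 := by
    linear_combination (tr g - 1) * h
  rw [coe_pow', pow_five_eq, h1, h2, coe_one']
  simp

theorem pow_five_eq_neg_one {g : SpecialLinearGroup (Fin 2) F} (h : tr g ^ 2 - tr g - 1 = 0) :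
    g ^ 5 = -1 := by
  apply ext_coe
  have h1 : tr g ^ 4 - 3 * tr g ^ 2 + 1 = 0 := by
    linear_combination (tr g ^ 2 + tr g - 1) * h
  have h2 : tr g ^ 3 - 2 * tr g = 1 := by
    linear_combination (tr g + 1) * h
  rw [coe_pow', pow_five_eq, h1, h2, coe_neg', coe_one']
  simp

/-- A scalar matrix in `SL₂` is `1` or `-1`. -/
theorem eq_one_or_eq_neg_one {g : SpecialLinearGroup (Fin 2) F} (h01 : g 0 1 = 0) (h10 : g 1 0 = 0)
    (e : g 0 0 = g 1 1) : g = 1 ∨ g = -1 := by
  have hdet := det_eq g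
  rw [h01, h10, ← e] at hdet
  have h3 : (g 0 0 - 1) * (g 0 0 + 1) = 0 := by linear_combination hdet
  rcases mul_eq_zero.1 h3 with h3 | h3
  · left
    apply ext_coe
    rw [coe_one]
    have h4 : g 0 0 = 1 := by linear_combination h3
    have h5 : g 1 1 = 1 := by rw [← e]; exact h4
    ext i j
    fin_cases i <;> fin_cases j <;> simp [h01, h10, h4, h5]
  · right
    apply ext_coe
    rw [coe_neg', coe_one]
    have h4 : g 0 0 = -1 := by linear_combination h3
    have h5 : g 1 1 = -1 := by rw [← e]; exact h4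
    ext i j
    fin_cases i <;> fin_cases j <;> simp [h01, h10, h4, h5]

/-- If a linear combination `x g + y 1` is scalar, then `g = 1`, `g = -1` or `x = 0`. -/
theorem eq_zero_of_smul_sub_smul {g : SpecialLinearGroup (Fin 2) F} (h1 : g ≠ 1) (h2 : g ≠ -1)
    {x y z : F} (h : x • (g : Matrix (Fin 2) (Fin 2) F) - y • (1 : Matrix (Fin 2) (Fin 2) F) =
      z • (1 : Matrix (Fin 2) (Fin 2) F)) : x = 0 ∧ y = -z := by
  have e00 := congrFun (congrFun h 0) 0
  have e01 := congrFun (congrFun h 0) 1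
  have e10 := congrFun (congrFun h 1) 0
  have e11 := congrFun (congrFun h 1) 1
  simp at e00 e01 e10 e11
  have hx : x = 0 := by
    by_contra hx
    have e01' := e01.resolve_left hx
    have e10' := e10.resolve_left hx
    have e : g 0 0 = g 1 1 := mul_left_cancel₀ hx (by linear_combination e00 - e11)
    rcases eq_one_or_eq_neg_one e01' e10' e with h3 | h3
    · exact h1 h3
    · exact h2 h3
  refine ⟨hx, ?_⟩
  rw [hx] at e00
  linear_combination -e00

/-- The only square roots of `1` in `SL₂` are `1, -1`. -/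
theorem eq_one_or_of_sq {g : SpecialLinearGroup (Fin 2) F} (hF : (2 : F) ≠ 0) (h : g ^ 2 = 1) :
    g = 1 ∨ g = -1 := by
  by_contra hc
  push Not at hc
  have h1 := congrArg (fun x : SpecialLinearGroup (Fin 2) F => (x : Matrix (Fin 2) (Fin 2) F)) h
  simp only [coe_pow', sq_eq, coe_one'] at h1
  obtain ⟨-, h3⟩ := eq_zero_of_smul_sub_smul hc.1 hc.2
    (x := tr g) (y := 1) (z := 1) (by rw [h1, one_smul])
  apply hF
  linear_combination h3

/-- Elements with `g ^ 4 = 1`: `g = 1`, `g = -1` or trace zero. -/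
theorem tr_eq_zero_of_pow_four {g : SpecialLinearGroup (Fin 2) F} (hF : (2 : F) ≠ 0)
    (h : g ^ 4 = 1) : g = 1 ∨ g = -1 ∨ tr g = 0 := by
  by_cases h1 : g = 1
  · exact Or.inl h1
  by_cases h2 : g = -1
  · exact Or.inr (Or.inl h2)
  right; right
  have h3 : (g ^ 2) ^ 2 = 1 := by rw [← pow_mul]; exact h
  rcases eq_one_or_of_sq hF h3 with h4 | h4
  · rcases eq_one_or_of_sq hF h4 with h5 | h5
    · exact absurd h5 h1
    · exact absurd h5 h2
  · have h5 := congrArg (fun x : SpecialLinearGroup (Fin 2) F => (x : Matrix (Fin 2) (Fin 2) F)) h4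
    simp only [coe_pow', sq_eq, coe_one', coe_neg'] at h5
    exact (eq_zero_of_smul_sub_smul h1 h2 (x := tr g) (y := 1) (z := -1)
      (by rw [h5, neg_smul, one_smul])).1

/-- Elements with `g ^ 10 = 1`: `g = 1`, `g = -1` or `tr g` is a root of `x^4 - 3 x^2 + 1`. -/
theorem tr_of_pow_ten {g : SpecialLinearGroup (Fin 2) F} (hF : (2 : F) ≠ 0)
    (h : g ^ 10 = 1) : g = 1 ∨ g = -1 ∨ tr g ^ 4 - 3 * tr g ^ 2 + 1 = 0 := by
  by_cases h1 : g = 1
  · exact Or.inl h1
  by_cases h2 : g = -1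
  · exact Or.inr (Or.inl h2)
  right; right
  have h3 : (g ^ 5) ^ 2 = 1 := by rw [← pow_mul]; exact h
  rcases eq_one_or_of_sq hF h3 with h4 | h4
  · have h5 := congrArg (fun x : SpecialLinearGroup (Fin 2) F => (x : Matrix (Fin 2) (Fin 2) F)) h4
    simp only [coe_pow', pow_five_eq, coe_one'] at h5
    exact (eq_zero_of_smul_sub_smul h1 h2 (z := 1) (by rw [h5, one_smul])).1
  · have h5 := congrArg (fun x : SpecialLinearGroup (Fin 2) F => (x : Matrix (Fin 2) (Fin 2) F)) h4
    simp only [coe_pow', pow_five_eq, coe_one', coe_neg'] at h5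
    exact (eq_zero_of_smul_sub_smul h1 h2 (z := -1) (by rw [h5, neg_smul, one_smul])).1

/-- The centre of `SL₂` over a field is `{1, -1}`. -/
theorem mem_center_iff {x : SpecialLinearGroup (Fin 2) F} :
    x ∈ Subgroup.center (SpecialLinearGroup (Fin 2) F) ↔ x = 1 ∨ x = -1 := by
  constructor
  · intro hx
    rw [Subgroup.mem_center_iff] at hx
    have h1 := congrArg (fun x : SpecialLinearGroup (Fin 2) F => (x : Matrix (Fin 2) (Fin 2) F))
      (hx (u 1))
    have h2 := congrArg (fun x : SpecialLinearGroup (Fin 2) F => (x : Matrix (Fin 2) (Fin 2) F))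
      (hx (l 1))
    simp only [coe_mul, coe_u, coe_l] at h1 h2
    have e1 := congrFun (congrFun h1 0) 0
    have e2 := congrFun (congrFun h1 0) 1
    have e3 := congrFun (congrFun h2 0) 0
    simp [Matrix.mul_apply, Fin.sum_univ_two] at e1 e2 e3
    apply eq_one_or_eq_neg_one
    · exact e3
    · exact e1
    · linear_combination -e2
  · rintro (rfl | rfl)
    · exact Subgroup.one_mem _
    · rw [Subgroup.mem_center_iff]
      intro g
      simp

end Cfsg.Agent.ClassicalGeometry.SLTwoTrace
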