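import Cfsg.Agent.Lib.VonDyck
import Cfsg.Agent.ClassicalGeometry.SLTwoTrace

/-!
# The exceptional case of Dickson's generation theorem

In characteristic three with `lam ^ 2 = -1`, the matrices `l 1` and `u lam` generate a subgroup
of `SL₂` of order `120`.
-/

set_option autoImplicit false

namespace Cfsg.Agent.ClassicalGeometry.DicksonNine

open Matrix
open Cfsg.Agent.LieClassical.SLTwoUnipotent
open Cfsg.Agent.ClassicalGeometry.SLTwoTrace

variable {F : Type*} [Field F]

/-- If `L` contains `-1` and `-1 ≠ 1` then `L` has twice the order of its image in `PSL₂`. -/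
theorem card_eq_two_mul (hF : (2 : F) ≠ 0) (L : Subgroup (SpecialLinearGroup (Fin 2) F))
    (hL : -1 ∈ L) :
    Nat.card L = 2 * Nat.card (L.map (QuotientGroup.mk' (Subgroup.center
      (SpecialLinearGroup (Fin 2) F)))) := by
  set π := QuotientGroup.mk' (Subgroup.center (SpecialLinearGroup (Fin 2) F)) with hπ
  have h1 : (-1 : SpecialLinearGroup (Fin 2) F) ≠ 1 := by
    intro h
    have h2 := congrArg (fun x : SpecialLinearGroup (Fin 2) F => x 0 0) h
    simp only [coe_neg', coe_one] at h2
    simp at h2
    apply hF
    linear_combination -h2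
  have hk : Nat.card (π.comp L.subtype).ker = 2 := by
    rw [Nat.card_eq_two_iff]
    have hm : (⟨-1, hL⟩ : L) ∈ (π.comp L.subtype).ker := by
      rw [MonoidHom.mem_ker]
      exact (QuotientGroup.eq_one_iff (-1 : SpecialLinearGroup (Fin 2) F)).2
        (mem_center_iff.2 (Or.inr rfl))
    refine ⟨1, ⟨⟨-1, hL⟩, hm⟩, ?_, ?_⟩
    · intro h
      apply h1
      exact (congrArg (fun x : (π.comp L.subtype).ker =>
        ((x : L) : SpecialLinearGroup (Fin 2) F)) h).symm
    · rw [Set.eq_univ_iff_forall]
      rintro ⟨⟨x, hx⟩, hxk⟩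
      rw [MonoidHom.mem_ker] at hxk
      have h3 : x ∈ Subgroup.center (SpecialLinearGroup (Fin 2) F) :=
        (QuotientGroup.eq_one_iff x).1 hxk
      rcases mem_center_iff.1 h3 with h4 | h4
      · left
        apply Subtype.ext
        apply Subtype.ext
        exact h4
      · right
        apply Subtype.ext
        apply Subtype.ext
        exact h4
  rw [← Subgroup.card_mul_index (π.comp L.subtype).ker, hk, Subgroup.index_ker]
  congr 2
  rw [MonoidHom.range_comp, Subgroup.range_subtype]

/-- In characteristic three with `lam ^ 2 = -1`, the matrices `l 1` and `u lam` generate a subgroup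
of order `120`. -/
theorem card_closure (h3 : (3 : F) = 0) (lam : F) (hlam : lam ^ 2 = -1) :
    Nat.card (Subgroup.closure ({l 1, u lam} : Set (SpecialLinearGroup (Fin 2) F))) = 120 := by
  have hF : (2 : F) ≠ 0 := by
    intro h
    exact one_ne_zero (α := F) (by linear_combination h3 - h)
  set X : SpecialLinearGroup (Fin 2) F := l 1 with hX
  set Y : SpecialLinearGroup (Fin 2) F := u lam with hY
  set a : SpecialLinearGroup (Fin 2) F := X * Y * X * Y⁻¹ with ha
  have hYi : Y⁻¹ = u (-lam) := by rw [hY, u_neg]
  have hac : (a : Matrix (Fin 2) (Fin 2) F) = !![1 + lam, 1; lam - 1, -1 - lam] := by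
    rw [ha, hYi, hX, hY, coe_mul, coe_mul, coe_mul, coe_l, coe_u, coe_u]
    rw [Matrix.mul_fin_two, Matrix.mul_fin_two, Matrix.mul_fin_two]
    ext i j
    fin_cases i <;> fin_cases j
    · simp
    · simp
      linear_combination -hlam
    · simp
      linear_combination h3
    · simp
      linear_combination -hlam + h3
  have hXYX : ((a * Y : SpecialLinearGroup (Fin 2) F) : Matrix (Fin 2) (Fin 2) F) =
      !![1 + lam, lam; 2 + lam, 1 + lam] := by
    have : a * Y = X * Y * X := by rw [ha]; simp
    rw [this, hX, hY, coe_mul, coe_mul, coe_l, coe_u]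
    rw [Matrix.mul_fin_two, Matrix.mul_fin_two]
    ext i j
    fin_cases i <;> fin_cases j
    · simp
    · simp
    · simp
      ring
    · simp
      ring
  have ha2 : a ^ 2 = -1 := by
    apply sq_eq_neg_one
    rw [tr_def, hac]
    simp
  have hY3 : Y ^ 3 = 1 := by
    rw [hY, pow_succ, pow_two, ← u_add, ← u_add, ← u_zero]
    congr 1
    linear_combination lam * h3
  have hab : (a * Y) ^ 5 = -1 := by
    apply pow_five_eq_neg_one
    rw [tr_def, hXYX]
    simp
    linear_combination 4 * hlam + (2 * lam - 1) * h3
  have hYa : ((Y * a : SpecialLinearGroup (Fin 2) F) : Matrix (Fin 2) (Fin 2) F) =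
      !![0, -1 - lam; lam - 1, -1 - lam] := by
    rw [coe_mul, hac, hY, coe_u, Matrix.mul_fin_two]
    ext i j
    fin_cases i <;> fin_cases j
    · simp
      linear_combination hlam
    · simp
      linear_combination -hlam + h3
    · simp
    · simp
  have hYaYa : (Y * a) * (Y * a) = -(X * Y) := by
    apply ext_coe
    rw [coe_mul, hYa, coe_neg', coe_mul, hX, hY, coe_l, coe_u, Matrix.mul_fin_two,
      Matrix.mul_fin_two]
    ext i j
    fin_cases i <;> fin_cases j
    · simp
      linear_combination -hlam + h3
    · simp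
      linear_combination hlam + lam * h3
    · simp
      linear_combination -hlam + h3
    · simp
      linear_combination h3 + lam * h3
  have hXw : X = -(Y * a * Y * a * Y * Y) := by
    have e : Y * a * Y * a * Y * Y = (Y * a) * (Y * a) * (Y * Y) := by
      simp only [mul_assoc]
    have e3 : Y * (Y * Y) = 1 := by
      rw [← hY3, pow_succ, pow_two, mul_assoc]
    rw [e, hYaYa, neg_mul, neg_neg, mul_assoc, e3, mul_one]
  set π := QuotientGroup.mk' (Subgroup.center (SpecialLinearGroup (Fin 2) F)) with hπ
  have hπ1 : ∀ x : SpecialLinearGroup (Fin 2) F, x = -1 → π x = 1 := fun x hx =>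
    (QuotientGroup.eq_one_iff x).2 (mem_center_iff.2 (Or.inr hx))
  have hcl : Subgroup.closure ({X, Y} : Set (SpecialLinearGroup (Fin 2) F)) =
      Subgroup.closure {a, Y} := by
    apply le_antisymm
    · rw [Subgroup.closure_le]
      have hYm : Y ∈ Subgroup.closure ({a, Y} : Set (SpecialLinearGroup (Fin 2) F)) :=
        Subgroup.subset_closure (by simp)
      have ham : a ∈ Subgroup.closure ({a, Y} : Set (SpecialLinearGroup (Fin 2) F)) :=
        Subgroup.subset_closure (by simp)
      rintro x (rfl | rfl)
      · have e : X = a ^ 2 * (Y * a * Y * a * Y * Y) := by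
          rw [ha2]
          simpa using hXw
        have hmm := Subgroup.mul_mem _ (Subgroup.pow_mem _ ham 2) (Subgroup.mul_mem _
          (Subgroup.mul_mem _ (Subgroup.mul_mem _ (Subgroup.mul_mem _ (Subgroup.mul_mem _
            hYm ham) hYm) ham) hYm) hYm)
        rw [← e] at hmm
        exact hmm
      · exact hYm
    · rw [Subgroup.closure_le]
      have hYm : Y ∈ Subgroup.closure ({X, Y} : Set (SpecialLinearGroup (Fin 2) F)) :=
        Subgroup.subset_closure (by simp)
      have hXm : X ∈ Subgroup.closure ({X, Y} : Set (SpecialLinearGroup (Fin 2) F)) :=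
        Subgroup.subset_closure (by simp)
      rintro x (rfl | rfl)
      · exact Subgroup.mul_mem _ (Subgroup.mul_mem _ (Subgroup.mul_mem _ hXm hYm) hXm)
          (Subgroup.inv_mem _ hYm)
      · exact hYm
  have ha1 : π a ≠ 1 := by
    intro h
    have h4 : a ∈ Subgroup.center (SpecialLinearGroup (Fin 2) F) :=
      (QuotientGroup.eq_one_iff a).1 h
    rcases mem_center_iff.1 h4 with h5 | h5
    · have h6 := congrArg (fun x : SpecialLinearGroup (Fin 2) F => x 0 1) h5
      simp only [hac, coe_one] at h6
      simp at h6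
    · have h6 := congrArg (fun x : SpecialLinearGroup (Fin 2) F => x 0 1) h5
      simp only [hac, coe_neg', coe_one] at h6
      simp at h6
  obtain ⟨e⟩ := Cfsg.Agent.Lib.VonDyck.closure_equiv_alternatingFive (a := π a) (b := π Y)
    (by rw [← map_pow]; exact hπ1 _ ha2)
    (by rw [← map_pow, hY3, map_one])
    (by rw [← map_mul, ← map_pow]; exact hπ1 _ hab)
    (Or.inl ha1)
  have hcard : Nat.card (Subgroup.closure ({π a, π Y} : Set _)) = 60 := by
    rw [Nat.card_congr e.toEquiv, Cfsg.Agent.Lib.VonDyck.card_alternating5]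
  have hmap : (Subgroup.closure ({a, Y} : Set (SpecialLinearGroup (Fin 2) F))).map π =
      Subgroup.closure {π a, π Y} := by
    rw [MonoidHom.map_closure, Set.image_pair]
  rw [hcl, card_eq_two_mul hF, hmap, hcard]
  rw [← ha2]
  exact Subgroup.pow_mem _ (Subgroup.subset_closure (by simp)) 2

end Cfsg.Agent.ClassicalGeometry.DicksonNine
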