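import Cfsg.Agent.ClassicalGeometry.HuaSubfield
import Cfsg.Agent.ClassicalGeometry.DicksonNine

/-!
# Dickson's generation theorem, deduced from the partition count
-/

set_option autoImplicit false

namespace Cfsg.Agent.ClassicalGeometry.DicksonGen

open Matrix
open Cfsg.Agent.LieClassical.SLTwoUnipotent
open Cfsg.Agent.ClassicalGeometry.SLTwoTrace
open Cfsg.Agent.ClassicalGeometry.HuaSubfield
open Cfsg.Agent.ClassicalGeometry.DicksonNine

variable {F : Type*} [Field F]

/-- The Weyl element `!![0, -1; 1, 0]`. -/
def w0 : SpecialLinearGroup (Fin 2) F := ⟨!![0, -1; 1, 0], by simp⟩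

theorem coe_w0 : ((w0 : SpecialLinearGroup (Fin 2) F) : Matrix (Fin 2) (Fin 2) F) =
    !![0, -1; 1, 0] := rfl

theorem w0_mul_u (x : F) : w0 * u x = l (-x) * w0 := by
  apply ext_coe
  rw [coe_mul, coe_mul, coe_w0, coe_u, coe_l, Matrix.mul_fin_two, Matrix.mul_fin_two]
  ext i j
  fin_cases i <;> fin_cases j <;> simp

theorem w0_mul_l (x : F) : w0 * l x = u (-x) * w0 := by
  apply ext_coe
  rw [coe_mul, coe_mul, coe_w0, coe_u, coe_l, Matrix.mul_fin_two, Matrix.mul_fin_two]
  ext i j
  fin_cases i <;> fin_cases j <;> simp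

/-- Conjugating by `w0` swaps the two kinds of generators. -/
theorem map_closure_conj (x y : F) :
    (Subgroup.closure ({l x, u y} : Set (SpecialLinearGroup (Fin 2) F))).map
      (MulAut.conj w0).toMonoidHom = Subgroup.closure {u x, l y} := by
  rw [MonoidHom.map_closure, Set.image_pair]
  have e1 : (MulAut.conj w0).toMonoidHom (l x) = (u x)⁻¹ := by
    rw [MulEquiv.coe_toMonoidHom, MulAut.conj_apply, w0_mul_l, mul_inv_cancel_right, u_neg]
  have e2 : (MulAut.conj w0).toMonoidHom (u y) = (l y)⁻¹ := by
    rw [MulEquiv.coe_toMonoidHom, MulAut.conj_apply, w0_mul_u, mul_inv_cancel_right, l_neg]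
  rw [e1, e2]
  apply le_antisymm
  · rw [Subgroup.closure_le]
    rintro z (rfl | rfl)
    · exact Subgroup.inv_mem _ (Subgroup.subset_closure (by simp))
    · exact Subgroup.inv_mem _ (Subgroup.subset_closure (by simp))
  · rw [Subgroup.closure_le]
    rintro z (rfl | rfl)
    · have := Subgroup.inv_mem _ (Subgroup.subset_closure
        (show (u x)⁻¹ ∈ ({(u x)⁻¹, (l y)⁻¹} : Set (SpecialLinearGroup (Fin 2) F)) by simp))
      simpa using this
    · have := Subgroup.inv_mem _ (Subgroup.subset_closure
        (show (l y)⁻¹ ∈ ({(u x)⁻¹, (l y)⁻¹} : Set (SpecialLinearGroup (Fin 2) F)) by simp))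
      simpa using this

theorem closure_eq_top_of_conj (x y : F)
    (h : Subgroup.closure ({u x, l y} : Set (SpecialLinearGroup (Fin 2) F)) = ⊤) :
    Subgroup.closure ({l x, u y} : Set (SpecialLinearGroup (Fin 2) F)) = ⊤ := by
  rw [← map_closure_conj] at h
  rw [eq_top_iff]
  intro g _
  have hg : (MulAut.conj w0).toMonoidHom g ∈
      (Subgroup.closure ({l x, u y} : Set (SpecialLinearGroup (Fin 2) F))).map
        (MulAut.conj w0).toMonoidHom := h ▸ Subgroup.mem_top _
  obtain ⟨g', hg', e⟩ := hg
  have : g' = g := (MulAut.conj (w0 : SpecialLinearGroup (Fin 2) F)).injective e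
  rwa [← this]

/-- The possible traces of elements whose fourth, sixth or tenth power is `1` (in
characteristic three). -/
theorem tr_cases (h3 : (3 : F) = 0) {g : SpecialLinearGroup (Fin 2) F}
    (hg : g ^ 4 = 1 ∨ g ^ 6 = 1 ∨ g ^ 10 = 1) :
    tr g = 0 ∨ tr g ^ 2 = 1 ∨ tr g ^ 4 = -1 := by
  have hF : (2 : F) ≠ 0 := by
    intro h
    exact one_ne_zero (α := F) (by linear_combination h3 - h)
  have hone : g = 1 → tr g ^ 2 = 1 := by
    rintro rfl
    rw [tr_def, coe_one]
    simp
    linear_combination h3
  have hneg : g = -1 → tr g ^ 2 = 1 := by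
    rintro rfl
    have e : tr (-1 : SpecialLinearGroup (Fin 2) F) = -2 := by
      rw [tr_def, coe_neg', coe_one]
      simp
      ring
    rw [e]
    linear_combination h3
  rcases hg with h | h | h
  · rcases tr_eq_zero_of_pow_four hF h with h | h | h
    · exact Or.inr (Or.inl (hone h))
    · exact Or.inr (Or.inl (hneg h))
    · exact Or.inl h
  · by_cases h1 : g = 1
    · exact Or.inr (Or.inl (hone h1))
    by_cases h2 : g = -1
    · exact Or.inr (Or.inl (hneg h2))
    right; left
    have h4 : (g ^ 3) ^ 2 = 1 := by rw [← pow_mul]; exact h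
    rcases eq_one_or_of_sq hF h4 with h5 | h5
    · have h6 := congrArg (fun x : SpecialLinearGroup (Fin 2) F =>
        (x : Matrix (Fin 2) (Fin 2) F)) h5
      simp only [coe_pow', pow_three_eq, coe_one'] at h6
      have := (eq_zero_of_smul_sub_smul h1 h2 (z := 1) (by rw [h6, one_smul])).1
      linear_combination this
    · have h6 := congrArg (fun x : SpecialLinearGroup (Fin 2) F =>
        (x : Matrix (Fin 2) (Fin 2) F)) h5
      simp only [coe_pow', pow_three_eq, coe_one', coe_neg'] at h6
      have := (eq_zero_of_smul_sub_smul h1 h2 (z := -1) (by rw [h6, neg_smul, one_smul])).1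
      linear_combination this
  · rcases tr_of_pow_ten hF h with h | h | h
    · exact Or.inr (Or.inl (hone h))
    · exact Or.inr (Or.inl (hneg h))
    · right; right
      linear_combination h + (tr g) ^ 2 * h3

/-- In characteristic three, the trace restrictions force `lam ^ 2 = 1` or `lam ^ 2 = -1`. -/
theorem lam_sq (h3 : (3 : F) = 0) (lam : F) (hlam : lam ≠ 0)
    (L : Subgroup (SpecialLinearGroup (Fin 2) F)) (h1 : u 1 ∈ L) (hl : l lam ∈ L)
    (hL : ∀ g ∈ L, g ^ 4 = 1 ∨ g ^ 6 = 1 ∨ g ^ 10 = 1) : lam ^ 2 = 1 ∨ lam ^ 2 = -1 := by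
  have hF : (2 : F) ≠ 0 := by
    intro h
    exact one_ne_zero (α := F) (by linear_combination h3 - h)
  have t1 : tr (u 1 * l lam) = lam - 1 := by
    rw [tr_def, coe_mul, coe_u, coe_l, Matrix.mul_fin_two]
    simp
    linear_combination h3
  have t2 : tr (u 1 * l (-lam)) = -(lam + 1) := by
    rw [tr_def, coe_mul, coe_u, coe_l, Matrix.mul_fin_two]
    simp
    linear_combination h3
  have c1 := tr_cases h3 (hL _ (L.mul_mem h1 hl))
  have hl' : l (-lam) ∈ L := by
    rw [l_neg]
    exact L.inv_mem hl
  have c2 := tr_cases h3 (hL _ (L.mul_mem h1 hl'))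
  rw [t1] at c1
  rw [t2] at c2
  rcases c1 with h | h | h
  · left
    linear_combination (lam + 1) * h
  · -- `(lam - 1)^2 = 1`, so `lam = 0` or `lam = 2 = -1`
    left
    have : lam * (lam - 2) = 0 := by linear_combination h
    have h4 := (mul_eq_zero.1 this).resolve_left hlam
    linear_combination (lam + 2) * h4 + h3
  · rcases c2 with h' | h' | h'
    · left
      linear_combination (1 - lam) * h'
    · left
      have : lam * (lam + 2) = 0 := by linear_combination h'
      have h4 := (mul_eq_zero.1 this).resolve_left hlam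
      linear_combination (lam - 2) * h4 + h3
    · -- `(lam - 1)^4 = -1 = (lam + 1)^4`, hence `8 lam^3 + 8 lam = 0`
      right
      have : (8 * lam) * (lam ^ 2 + 1) = 0 := by linear_combination h' - h
      have h8 : (8 : F) ≠ 0 := by
        have : (8 : F) = 2 ^ 3 := by norm_num
        rw [this]
        exact pow_ne_zero 3 hF
      have h4 := (mul_eq_zero.1 this).resolve_left (mul_ne_zero h8 hlam)
      linear_combination h4

/-- If `lam ^ 2 = -1` generates the finite field `F` of characteristic three then `|F| = 9`. -/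
theorem card_eq_nine [Fintype F] (h3 : (3 : F) = 0) (lam : F) (hlam : lam ^ 2 = -1)
    (hgen : Subfield.closure ({lam} : Set F) = ⊤) : Fintype.card F = 9 := by
  have hF : (2 : F) ≠ 0 := by
    intro h
    exact one_ne_zero (α := F) (by linear_combination h3 - h)
  have h3p : Nat.Prime 3 := Nat.prime_three
  haveI : Fact (Nat.Prime 3) := ⟨h3p⟩
  haveI : CharP F 3 := (CharP.charP_iff_prime_eq_zero h3p).2 (by exact_mod_cast h3)
  have hlam9 : lam ^ 9 = lam := by
    have : lam ^ 9 = (lam ^ 2) ^ 4 * lam := by ring
    rw [this, hlam]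
    ring
  have hall : ∀ x : F, x ^ 9 = x := by
    have hle : Subfield.closure ({lam} : Set F) ≤
        (iterateFrobenius F 3 2).eqLocusField (RingHom.id F) := by
      rw [Subfield.closure_le]
      rintro x rfl
      change iterateFrobenius F 3 2 x = RingHom.id F x
      rw [iterateFrobenius_def]
      exact hlam9
    intro x
    have hx : x ∈ (iterateFrobenius F 3 2).eqLocusField (RingHom.id F) :=
      hle (hgen ▸ Subfield.mem_top x)
    have hx' : iterateFrobenius F 3 2 x = RingHom.id F x := hx
    rw [iterateFrobenius_def] at hx'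
    exact hx'
  obtain ⟨n, -, hn⟩ := FiniteField.card F 3
  have hdvd : Fintype.card F - 1 ∣ 8 := by
    classical
    rw [← Fintype.card_units, ← Nat.card_eq_fintype_card, ← IsCyclic.exponent_eq_card]
    apply Monoid.exponent_dvd_of_forall_pow_eq_one
    intro y
    ext
    have hy := hall (y : F)
    have hy0 : (y : F) ≠ 0 := y.ne_zero
    rw [Units.val_pow_eq_pow_val, Units.val_one]
    apply mul_right_cancel₀ hy0
    rw [← pow_succ, one_mul]
    exact hy
  have hne : Fintype.card F ≠ 3 := by
    intro h
    have hl0 : lam ≠ 0 := by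
      rintro rfl
      norm_num at hlam
    have := FiniteField.pow_card_sub_one_eq_one lam hl0
    rw [h] at this
    apply hF
    have h5 : lam ^ 2 = 1 := this
    linear_combination hlam - h5
  have hle : Fintype.card F - 1 ≤ 8 := Nat.le_of_dvd (by norm_num) hdvd
  have hn3 : (n : ℕ) < 3 := by
    by_contra hc
    push Not at hc
    have : 3 ^ 3 ≤ 3 ^ (n : ℕ) := Nat.pow_le_pow_right (by norm_num) hc
    omega
  have hn0 : 0 < (n : ℕ) := n.pos
  interval_cases hnn : (n : ℕ)
  · exact absurd (by simpa using hn) hne
  · simpa using hn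

/-- **Dickson's generation theorem**, deduced from the alternative produced by the count. -/
theorem generation [Fintype F] (h2 : (2 : F) ≠ 0) (lam : F) (hlam : lam ≠ 0)
    (hgen : Subfield.closure ({lam} : Set F) = ⊤)
    (hcount : (∀ g ∈ Subgroup.closure ({u 1, l lam} : Set (SpecialLinearGroup (Fin 2) F)),
        g 1 0 ≠ 0 → u (g 0 0 / g 1 0) ∈ Subgroup.closure ({u 1, l lam} :
          Set (SpecialLinearGroup (Fin 2) F))) ∨
      ((3 : F) = 0 ∧ ∀ g ∈ Subgroup.closure ({u 1, l lam} : Set (SpecialLinearGroup (Fin 2) F)),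
        g ^ 4 = 1 ∨ g ^ 6 = 1 ∨ g ^ 10 = 1)) :
    (Subgroup.closure ({l 1, u lam} : Set (SpecialLinearGroup (Fin 2) F)) = ⊤ ∧
      ¬ (Fintype.card F = 9 ∧ lam ^ 2 = -1)) ∨
    (Fintype.card F = 9 ∧ lam ^ 2 = -1 ∧
      Nat.card (Subgroup.closure ({l 1, u lam} : Set (SpecialLinearGroup (Fin 2) F))) = 120) := by
  set L := Subgroup.closure ({u 1, l lam} : Set (SpecialLinearGroup (Fin 2) F)) with hL
  have hu1 : u 1 ∈ L := Subgroup.subset_closure (by simp)
  have hll : l lam ∈ L := Subgroup.subset_closure (by simp)
  have key : (∃ k : Subfield F, (∀ a, a ∈ k → u a ∈ L) ∧ (∀ a, a ∈ k → l a ∈ L) ∧ lam ∈ k) →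
      L = ⊤ := by
    rintro ⟨k, hk1, hk2, hk3⟩
    have hk : k = ⊤ := by
      rw [eq_top_iff, ← hgen, Subfield.closure_le]
      rintro x rfl
      exact hk3
    exact eq_top_of_u_mem_of_l_mem L (fun x => hk1 x (hk ▸ Subfield.mem_top x))
      (fun x => hk2 x (hk ▸ Subfield.mem_top x))
  by_cases h9 : Fintype.card F = 9 ∧ lam ^ 2 = -1
  · right
    refine ⟨h9.1, h9.2, ?_⟩
    apply card_closure _ lam h9.2
    have : ((Fintype.card F : ℕ) : F) = 0 := Nat.cast_card_eq_zero F
    rw [h9.1] at this
    have h33 : (3 : F) * 3 = 0 := by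
      rw [← this]
      norm_num
    rcases mul_eq_zero.1 h33 with h | h <;> exact h
  · left
    refine ⟨?_, h9⟩
    apply closure_eq_top_of_conj
    rcases hcount with h | ⟨h3, h⟩
    · apply key
      obtain ⟨p, hp⟩ := CharP.exists F
      haveI := hp
      have hpp : p.Prime := CharP.char_is_prime F p
      haveI : Fact p.Prime := ⟨hpp⟩
      have hodd : Odd p := by
        rcases hpp.eq_two_or_odd' with h | h
        · exfalso
          apply h2
          subst h
          exact_mod_cast CharP.cast_eq_zero F 2
        · exact h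
      obtain ⟨k, hk1, hk2⟩ := exists_subfield L (by
        intro a ha
        obtain ⟨m, hm⟩ := hodd
        have h4 : ∀ n : ℕ, u ((n : F) * (2 * a)) ∈ L := by
          intro n
          induction n with
          | zero => simp [u_zero, L.one_mem]
          | succ n ih =>
            rw [Nat.cast_succ, add_mul, one_mul, u_add]
            exact L.mul_mem ih ha
        have h5 := h4 (m + 1)
        have h6 : ((m + 1 : ℕ) : F) * (2 * a) = a := by
          have h7 : ((p : ℕ) : F) = 0 := CharP.cast_eq_zero F p
          rw [hm] at h7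
          push_cast at h7 ⊢
          linear_combination a * h7
        rwa [h6] at h5) hu1 lam hlam hll h
      exact ⟨k, fun a ha => (hk1 a).2 ha, fun a ha => (hk2 a).2 ha, (hk2 lam).1 hll⟩
    · rcases lam_sq h3 lam hlam L hu1 hll h with h4 | h4
      · -- `lam = ±1` lies in the prime field
        apply key
        have hcl : ∀ x : F, x ^ 3 = x := by
          have h3p : Nat.Prime 3 := Nat.prime_three
          haveI : Fact (Nat.Prime 3) := ⟨h3p⟩
          haveI : CharP F 3 := (CharP.charP_iff_prime_eq_zero h3p).2 (by exact_mod_cast h3)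
          have hle : Subfield.closure ({lam} : Set F) ≤
              (frobenius F 3).eqLocusField (RingHom.id F) := by
            rw [Subfield.closure_le]
            rintro x rfl
            change frobenius F 3 x = RingHom.id F x
            rw [frobenius_def, pow_succ, h4, one_mul]
            rfl
          intro x
          have hx : x ∈ (frobenius F 3).eqLocusField (RingHom.id F) :=
            hle (hgen ▸ Subfield.mem_top x)
          have hx' : frobenius F 3 x = RingHom.id F x := hx
          rw [frobenius_def] at hx'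
          exact hx'
        have hcases : ∀ x : F, x = 0 ∨ x = 1 ∨ x = -1 := by
          intro x
          have : x * ((x - 1) * (x + 1)) = 0 := by linear_combination hcl x
          rcases mul_eq_zero.1 this with h | h
          · exact Or.inl h
          rcases mul_eq_zero.1 h with h | h
          · right; left; linear_combination h
          · right; right; linear_combination h
        have hl1 : l 1 ∈ L := by
          rcases hcases lam with h5 | h5 | h5
          · exact absurd h5 hlam
          · rwa [← h5]
          · have := L.inv_mem hll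
            rw [← l_neg, h5, neg_neg] at this
            exact this
        refine ⟨⊤, ?_, ?_, Subfield.mem_top _⟩
        · intro a _
          rcases hcases a with h5 | h5 | h5
          · rw [h5, u_zero]; exact L.one_mem
          · rw [h5]; exact hu1
          · rw [h5, u_neg]; exact L.inv_mem hu1
        · intro a _
          rcases hcases a with h5 | h5 | h5
          · rw [h5, l_zero]; exact L.one_mem
          · rw [h5]; exact hl1
          · rw [h5, l_neg]; exact L.inv_mem hl1
      · exact absurd ⟨card_eq_nine h3 lam h4 hgen, h4⟩ h9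

end Cfsg.Agent.ClassicalGeometry.DicksonGen
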