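import Cfsg.Agent.ClassicalGeometry.DicksonCount
import Cfsg.Agent.Lib.DihedralRecog
import Cfsg.Agent.LieClassical.PSLTwoAlt
import Cfsg.Agent.S0494

set_option autoImplicit false

/-!
# Dickson's theorem: identification of the dihedral groups, `A_4`, `S_4`, `A_5`
-/

namespace Cfsg.Agent.ClassicalGeometry.DicksonSmall

open MulAction Cfsg.Agent.ClassicalGeometry.DicksonAbstract Cfsg.Agent.ClassicalGeometry.DicksonCount

variable {k : Type*} [Field k] {p : ℕ} {G X : Type*} [Group G] [MulAction G X]

/-- A stabiliser all of whose elements fix a second point is cyclic. -/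
theorem isCyclic_of_two [Finite G] (h : MobiusLike k p G X) {x y : X} (hxy : x ≠ y)
    (hT : ∀ g ∈ stabilizer G x, g • y = y) : IsCyclic (stabilizer G x) := by
  obtain ⟨χ, hχ⟩ := h.char x
  have hinj : Function.Injective χ := by
    rw [injective_iff_map_eq_one]
    intro g hg
    rcases (hχ g).1 hg with h1 | h1
    · exact Subtype.ext h1
    · exact absurd (h1 y (hT g g.2)).symm hxy
  exact isCyclic_of_injective_ringHom ((Units.coeHom k).comp χ) (Units.val_injective.comp hinj)

/-- An orbit of length two: the group is dihedral. -/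
theorem dihedral_of_orbit_two [Finite G] [Fact p.Prime] [CharP k p] (h : MobiusLike k p G X) (x : X)
    (hx : Nat.card (orbit G x) = 2) :
    ∃ m, m ≠ 0 ∧ Nat.card G = 2 * m ∧ (∃ r : G, orderOf r = m) ∧ Nat.Coprime m p ∧
      Nonempty (G ≃* DihedralGroup m) := by
  classical
  have hfin : (orbit G x).Finite := Set.finite_range _
  obtain ⟨y, hyo, hyx, hall⟩ : ∃ y ∈ orbit G x, y ≠ x ∧ ∀ z ∈ orbit G x, z = x ∨ z = y := by
    have h1 : (orbit G x).ncard = 2 := hx
    obtain ⟨a, b, hab, hEq⟩ := Set.ncard_eq_two.1 h1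
    have hxmem : x ∈ orbit G x := mem_orbit_self x
    rw [hEq] at hxmem
    rcases hxmem with h2 | h2
    · subst h2
      exact ⟨b, by rw [hEq]; simp, hab.symm, fun z hz => by rw [hEq] at hz; simpa using hz⟩
    · have h2' : x = b := h2
      subst h2'
      refine ⟨a, by rw [hEq]; simp, hab, fun z hz => ?_⟩
      rw [hEq] at hz
      rcases hz with h3 | h3
      · right; exact h3
      · left; exact h3
  obtain ⟨s, hs⟩ := hyo
  change s • x = y at hs
  have hmem : ∀ (g : G) (z : X), z ∈ orbit G x → g • z ∈ orbit G x := by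
    rintro g _ ⟨a, rfl⟩
    exact ⟨g * a, mul_smul _ _ _⟩
  have hyo : y ∈ orbit G x := ⟨s, hs⟩
  have hsy : s • y = x := by
    rcases hall _ (hmem s y hyo) with h1 | h1
    · exact h1
    · exfalso
      rw [← hs] at h1
      exact hyx (by rw [← hs]; exact smul_left_cancel s h1)
  have hTy : ∀ g ∈ stabilizer G x, g • y = y := by
    intro g hg
    rcases hall _ (hmem g y hyo) with h1 | h1
    · exfalso
      have h2 : g • y = g • x := by rw [h1]; exact hg.symm
      exact hyx (smul_left_cancel g h2)
    · exact h1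
  have hcyc := isCyclic_of_two h hyx.symm hTy
  obtain ⟨r, hr⟩ := hcyc.exists_generator
  have hcard := card_orbit_mul (G := G) x
  rw [hx] at hcard
  have hord : orderOf (r : G) = Nat.card (stabilizer G x) := by
    rw [Subgroup.orderOf_coe]
    exact orderOf_eq_card_of_forall_mem_zpowers hr
  have hrx : (r : G) • x = x := r.2
  have hry : (r : G) • y = y := hTy r r.2
  have hss : s * s = 1 := h.sq_eq_one s x y hyx.symm hs hsy
  have hsr : (s * r) * (s * r) = 1 :=
    h.sq_eq_one (s * r) x y hyx.symm (by rw [mul_smul, hrx, hs]) (by rw [mul_smul, hry, hsy])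
  have hinv : s * (r : G) * s⁻¹ = (r : G)⁻¹ := by
    have h1 : s⁻¹ = s := inv_eq_of_mul_eq_one_left hss
    rw [h1]
    apply eq_inv_of_mul_eq_one_left
    rw [mul_assoc (s * r)]
    exact hsr
  have hns : s ∉ Subgroup.zpowers (r : G) := by
    intro hc
    have h1 : Subgroup.zpowers (r : G) ≤ stabilizer G x := by
      rw [Subgroup.zpowers_le]; exact r.2
    have h2 : s • x = x := h1 hc
    exact hyx (hs.symm.trans h2)
  have hm0 : Nat.card (stabilizer G x) ≠ 0 := Nat.card_pos.ne'
  refine ⟨Nat.card (stabilizer G x), hm0, hcard.symm, ⟨r, hord⟩, ?_, ?_⟩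
  · rw [← hord]
    exact h.coprime_of_two hyx.symm hrx hry (by rw [hord]; exact hm0)
  · exact Cfsg.Agent.Lib.DihedralRecog.dihedral_of_generators hm0 (r : G) s hord hss hinv hns hcard.symm

/-- The action on an orbit of length at least three is faithful. -/
theorem orbit_injective [Finite G] (h : MobiusLike k p G X) (x : X)
    (hx : 3 ≤ Nat.card (orbit G x)) : Function.Injective (MulAction.toPermHom G (orbit G x)) := by
  classical
  rw [injective_iff_map_eq_one]
  intro g hg
  have h1 : 2 < (orbit G x).ncard := hx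
  obtain ⟨a, b, c, ha, hb, hc, hab, hac, hbc⟩ :=
    (Set.two_lt_ncard_iff (Set.finite_range _)).1 h1
  have key : ∀ z : X, z ∈ orbit G x → g • z = z := by
    intro z hz
    have h2 := congrArg (fun σ : Equiv.Perm (orbit G x) => ((σ ⟨z, hz⟩ : orbit G x) : X)) hg
    exact h2
  exact h.eq_one g a b c hab hac hbc (key a ha) (key b hb) (key c hc)

theorem alt_four [Finite G] (h : MobiusLike k p G X) (hG : Nat.card G = 12) (x : X)
    (hx : Nat.card (orbit G x) = 4) : Nonempty (G ≃* alternatingGroup (Fin 4)) := by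
  have hf : Finite (orbit G x) := Nat.finite_of_card_ne_zero (by rw [hx]; norm_num)
  exact Cfsg.Agent.LieClassical.PSLTwoAlt.equiv_alternating_of_injective hx
    (MulAction.toPermHom G (orbit G x)) (orbit_injective h x (by omega)) (by rw [hG]; rfl)

/-- The case of order 24. -/
theorem sym_four [Finite G] (h : MobiusLike k p G X) (hG : Nat.card G = 24) (y : X)
    (hy : Nat.card (stabilizer G y) = 3) (hQy : Nat.card (h.Q y) = 1) :
    Nonempty (G ≃* Equiv.Perm (Fin 4)) := by
  classical
  have : Fact (Nat.Prime 3) := ⟨Nat.prime_three⟩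
  have hfin : (orbit G y).Finite := Set.finite_range _
  have horb : Nat.card (orbit G y) = 8 := by
    have h1 := card_orbit_mul (G := G) y
    rw [hy, hG] at h1
    omega
  have hst : ∀ w ∈ orbit G y, Nat.card (stabilizer G w) = 3 := by
    rintro _ ⟨g, rfl⟩
    change Nat.card (stabilizer G (g • y)) = 3
    rw [card_stab_smul, hy]
  have hQ : ∀ w ∈ orbit G y, Nat.card (h.Q w) = 1 := by
    rintro _ ⟨g, rfl⟩
    change Nat.card (h.Q (g • y)) = 1
    rw [h.card_Q_smul, hQy]
  have hcube : ∀ w ∈ orbit G y, ∀ c ∈ stabilizer G w, c ^ 3 = 1 := by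
    intro w hw c hc
    have h1 : (⟨c, hc⟩ : stabilizer G w) ^ Nat.card (stabilizer G w) = 1 := pow_card_eq_one'
    rw [hst w hw] at h1
    exact congrArg Subtype.val h1
  -- second fixed point
  have hsecond : ∀ w ∈ orbit G y, ∃ w', w ≠ w' ∧ ∀ c ∈ stabilizer G w, c ≠ 1 →
      ∀ z, c • z = z ↔ z = w ∨ z = w' := by
    intro w hw
    obtain ⟨t, ht, -, ht2⟩ := card_stab h w
    rw [hst w hw, hQ w hw, one_mul] at ht
    subst ht
    obtain ⟨w', hww', hT⟩ := ht2.resolve_left (by norm_num)
    have hle : (stabilizer G w ⊓ stabilizer G w' : Subgroup G) = stabilizer G w :=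
      Subgroup.eq_of_le_of_card_ge inf_le_left (by rw [hT, hst w hw])
    refine ⟨w', hww', ?_⟩
    intro c hc hc1 z
    have hcw' : c • w' = w' := by
      rw [← hle] at hc
      exact hc.2
    constructor
    · intro hz
      by_contra hne
      push Not at hne
      exact hc1 (h.eq_one c w w' z hww' (Ne.symm hne.1) (Ne.symm hne.2) hc hcw' hz)
    · rintro (rfl | rfl)
      · exact hc
      · exact hcw'
  -- stabilisers as Sylow subgroups
  have hP : ∀ w ∈ orbit G y, ∃ P : Sylow 3 G, (P : Subgroup G) = stabilizer G w := by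
    intro w hw
    have h1 : IsPGroup 3 (stabilizer G w) := IsPGroup.of_card (n := 1) (by rw [hst w hw]; norm_num)
    have h2 : ¬ 3 ∣ (stabilizer G w).index := by
      have h3 := (stabilizer G w).card_mul_index
      rw [hst w hw, hG] at h3
      have h4 : (stabilizer G w).index = 8 := by omega
      rw [h4]
      norm_num
    exact ⟨h1.toSylow h2, rfl⟩
  -- a pair of points of the orbit with different fixed point pairs
  have hexists : ∀ w ∈ orbit G y, ∀ w', ∃ v ∈ orbit G y, v ≠ w ∧ v ≠ w' := by
    intro w hw w'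
    by_contra hcon
    push Not at hcon
    have hsub : orbit G y ⊆ {w, w'} := by
      intro v hv
      by_cases hvw : v = w
      · left; exact hvw
      · right; exact hcon v hv hvw
    have h1 := Set.ncard_le_ncard hsub (Set.toFinite _)
    have h2 : (orbit G y).ncard = 8 := horb
    have h3 : ({w, w'} : Set X).ncard ≤ 2 := by
      have := Set.ncard_insert_le w {w'}
      rw [Set.ncard_singleton] at this
      exact this
    omega
  have hex1 : ∀ w ∈ orbit G y, ∃ c ∈ stabilizer G w, c ≠ 1 := by
    intro w hw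
    have hnt : Nontrivial (stabilizer G w) := by
      apply Finite.one_lt_card_iff_nontrivial.1
      rw [hst w hw]; norm_num
    obtain ⟨c, hc⟩ := exists_ne (1 : stabilizer G w)
    exact ⟨c, c.2, fun h1 => hc (Subtype.ext h1)⟩
  have hcardSyl : Nat.card (Sylow 3 G) = 4 := by
    obtain ⟨P, hPy⟩ := hP y (mem_orbit_self y)
    have h1 := card_sylow_modEq_one 3 G
    have h2 := P.card_dvd_index
    have h3 := (P : Subgroup G).card_mul_index
    rw [hPy, hy, hG] at h3
    have h4 : (P : Subgroup G).index = 8 := by rw [hPy]; omega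
    rw [h4] at h2
    have h5 : Nat.card (Sylow 3 G) ≤ 8 := Nat.le_of_dvd (by norm_num) h2
    have h6 : Nat.card (Sylow 3 G) ≠ 1 := by
      intro h7
      have h8 : Subsingleton (Sylow 3 G) := (Nat.card_eq_one_iff_unique.1 h7).1
      obtain ⟨y', -, hy'⟩ := hsecond y (mem_orbit_self y)
      obtain ⟨c, hc, hc1⟩ := hex1 y (mem_orbit_self y)
      obtain ⟨v, hv, hvy, hvy'⟩ := hexists y (mem_orbit_self y) y'
      obtain ⟨P', hP'⟩ := hP v hv
      have h9 : c ∈ stabilizer G v := by
        rw [← hP', Subsingleton.elim P' P, hPy]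
        exact hc
      rcases (hy' c hc hc1 v).1 h9 with h10 | h10
      · exact hvy h10
      · exact hvy' h10
    generalize Nat.card (Sylow 3 G) = n at h1 h2 h5 h6
    interval_cases n <;> first | rfl | (exfalso; revert h1; decide) | (exfalso; revert h2; decide) | omega
  have hinj : Function.Injective (MulAction.toPermHom G (Sylow 3 G)) := by
    rw [injective_iff_map_eq_one]
    intro g hg
    -- every element of the kernel normalises every stabiliser
    have hnorm : ∀ g' : G, MulAction.toPermHom G (Sylow 3 G) g' = 1 → ∀ w ∈ orbit G y,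
        ∀ c ∈ stabilizer G w, g' * c * g'⁻¹ ∈ stabilizer G w := by
      intro g' hg' w hw c hc
      obtain ⟨P, hPw⟩ := hP w hw
      have h1 : g' • P = P := by
        have := congrArg (fun σ : Equiv.Perm (Sylow 3 G) => σ P) hg'
        exact this
      rw [← hPw] at hc ⊢
      rw [← h1]
      exact ⟨c, hc, rfl⟩
    -- action on the orbit
    have hact : ∀ g' : G, MulAction.toPermHom G (Sylow 3 G) g' = 1 → ∀ w ∈ orbit G y,
        ∀ w', w ≠ w' → (∀ c ∈ stabilizer G w, c ≠ 1 → ∀ z, c • z = z ↔ z = w ∨ z = w') →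
        (g' • w = w ∧ g' • w' = w') ∨ (g' • w = w' ∧ g' • w' = w) := by
      intro g' hg' w hw w' hww' hf
      obtain ⟨c, hc, hc1⟩ := hex1 w hw
      have h1 := hnorm g' hg' w hw c hc
      have h2 : g' * c * g'⁻¹ ≠ 1 := by
        intro h3
        apply hc1
        have : c = g'⁻¹ * (g' * c * g'⁻¹) * g' := by group
        rw [this, h3]; group
      have h3 : ∀ z : X, c • z = z → (g' * c * g'⁻¹) • (g' • z) = g' • z := by
        intro z hz
        rw [mul_smul, mul_smul, inv_smul_smul, hz]
      have h4 := (hf _ h1 h2 _).1 (h3 w hc)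
      have h5 := (hf _ h1 h2 _).1 (h3 w' ((hf c hc hc1 w').2 (Or.inr rfl)))
      have h6 : g' • w ≠ g' • w' := fun h7 => hww' (smul_left_cancel g' h7)
      rcases h4 with h4 | h4 <;> rcases h5 with h5 | h5
      · exact absurd (h4.trans h5.symm) h6
      · exact Or.inl ⟨h4, h5⟩
      · exact Or.inr ⟨h4, h5⟩
      · exact absurd (h4.trans h5.symm) h6
    -- kernel elements fixing a point of the orbit are trivial
    have htriv : ∀ g' : G, MulAction.toPermHom G (Sylow 3 G) g' = 1 → ∀ w ∈ orbit G y,
        g' • w = w → g' = 1 := by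
      intro g' hg' w hw hgw
      obtain ⟨w', hww', hf⟩ := hsecond w hw
      obtain ⟨v, hv, hvw, hvw'⟩ := hexists w hw w'
      obtain ⟨v', hvv', hf'⟩ := hsecond v hv
      have hgw' : g' • w' = w' := by
        rcases hact g' hg' w hw w' hww' hf with h1 | h1
        · exact h1.2
        · exact absurd (hgw.symm.trans h1.1) hww'
      rcases hact g' hg' v hv v' hvv' hf' with h1 | h1
      · exact h.eq_one g' w w' v hww' hvw.symm hvw'.symm hgw hgw' h1.1
      · have h2 : g' * g' = 1 := h.sq_eq_one g' v v' hvv' h1.1 h1.2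
        have h3 := hcube w hw g' hgw
        rw [pow_succ, pow_two, h2, one_mul] at h3
        exact h3
    by_contra hg1
    obtain ⟨w', hww', hf⟩ := hsecond y (mem_orbit_self y)
    obtain ⟨c, hc, hc1⟩ := hex1 y (mem_orbit_self y)
    have hcw' : c • w' = w' := (hf c hc hc1 w').2 (Or.inr rfl)
    have hcy : c • y = y := hc
    rcases hact g hg y (mem_orbit_self y) w' hww' hf with h1 | h1
    · exact hg1 (htriv g hg y (mem_orbit_self y) h1.1)
    · -- the commutator of `g` and `c` is in the kernel and fixes `y`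
      have h2 : MulAction.toPermHom G (Sylow 3 G) (g * (c * g⁻¹ * c⁻¹)) = 1 := by
        rw [map_mul, map_mul, map_mul, map_inv, map_inv, hg]
        simp
      have h3 : (g * (c * g⁻¹ * c⁻¹)) • y = y := by
        have e1 : c⁻¹ • y = y := by rw [inv_smul_eq_iff, hcy]
        have e2 : g⁻¹ • y = w' := by rw [inv_smul_eq_iff, h1.2]
        rw [mul_smul, mul_smul, mul_smul, e1, e2, hcw', h1.2]
      have h4 := htriv _ h2 y (mem_orbit_self y) h3
      have h5 : g * c = c * g := by
        have : g * c = (g * (c * g⁻¹ * c⁻¹)) * (c * g) := by group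
        rw [this, h4, one_mul]
      have h6 : g * g = 1 := h.sq_eq_one g y w' hww' h1.1 h1.2
      have h7 : (g * c) * (g * c) = 1 :=
        h.sq_eq_one (g * c) y w' hww' (by rw [mul_smul, hcy, h1.1]) (by rw [mul_smul, hcw', h1.2])
      have h8 : c * c = 1 := by
        have : (g * c) * (g * c) = (g * g) * (c * c) := by
          calc (g * c) * (g * c) = g * (c * g) * c := by group
            _ = g * (g * c) * c := by rw [h5]
            _ = (g * g) * (c * c) := by group
        rw [this, h6, one_mul] at h7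
        exact h7
      have h9 := hcube y (mem_orbit_self y) c hc
      rw [pow_succ, pow_two, h8, one_mul] at h9
      exact hc1 h9
  have hfS : Finite (Sylow 3 G) := inferInstance
  obtain ⟨e⟩ : Nonempty (Sylow 3 G ≃ Fin 4) :=
    ⟨Nat.equivFinOfCardPos (by rw [hcardSyl]; norm_num) |>.trans (finCongr hcardSyl)⟩
  let f : G →* Equiv.Perm (Fin 4) :=
    (e.permCongrHom.toMonoidHom).comp (MulAction.toPermHom G (Sylow 3 G))
  have hf : Function.Bijective f := by
    rw [Nat.bijective_iff_injective_and_card]
    refine ⟨(e.permCongrHom.injective).comp hinj, ?_⟩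
    rw [hG, Nat.card_eq_fintype_card, Fintype.card_perm, Fintype.card_fin]
    rfl
  exact ⟨MulEquiv.ofBijective f hf⟩

/-- The sum formula for a normal subgroup, over the orbit representatives of the whole group. -/
theorem sum_normal [Finite G] (h : MobiusLike k p G X) {S R : Finset X} (hSR : Reps G S R)
    (H : Subgroup G) (hH : H.Normal) :
    ∑ r ∈ R, Nat.card (orbit G r) *
        (Nat.card (stabilizer H r) + Nat.card ((h.subgroup H).Q r)) + 2 =
      2 * Nat.card H + 2 * ∑ r ∈ R, Nat.card (orbit G r) := by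
  classical
  have hconjmem : ∀ (g u : G), u ∈ H ↔ g * u * g⁻¹ ∈ H := by
    intro g u
    constructor
    · intro hu; exact hH.conj_mem u hu g
    · intro hu
      have := hH.conj_mem _ hu g⁻¹
      have e : g⁻¹ * (g * u * g⁻¹) * g⁻¹⁻¹ = u := by group
      rwa [e] at this
  have e1 : ∀ x : X, Nat.card (stabilizer H x) = Nat.card {u : G // u ∈ H ∧ u • x = x} := by
    intro x
    apply Nat.card_congr
    exact { toFun := fun u => ⟨u, u.1.2, u.2⟩
            invFun := fun u => ⟨⟨u, u.2.1⟩, u.2.2⟩
            left_inv := fun _ => rfl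
            right_inv := fun _ => rfl }
  have e2 : ∀ x : X, Nat.card ((h.subgroup H).Q x) = Nat.card {u : G // u ∈ H ∧ u ∈ h.Q x} := by
    intro x
    have hiff : ∀ u : H, u ∈ (h.subgroup H).Q x ↔ (u : G) ∈ h.Q x := by
      intro u
      rw [(h.subgroup H).mem_Q, h.mem_Q]
      constructor
      · rintro (h1 | h1)
        · left; rw [h1]; rfl
        · right; exact h1
      · rintro (h1 | h1)
        · left; exact Subtype.ext h1
        · right; exact h1
    apply Nat.card_congr
    exact { toFun := fun u => ⟨u, u.1.2, (hiff u).1 u.2⟩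
            invFun := fun u => ⟨⟨u, u.2.1⟩, (hiff _).2 u.2.2⟩
            left_inv := fun _ => rfl
            right_inv := fun _ => rfl }
  have hinv1 : ∀ (g : G) (x : X), Nat.card (stabilizer H (g • x)) = Nat.card (stabilizer H x) := by
    intro g x
    rw [e1, e1]
    symm
    apply Nat.card_congr
    refine { toFun := fun u => ⟨g * u * g⁻¹, (hconjmem g u).1 u.2.1, ?_⟩
             invFun := fun u => ⟨g⁻¹ * u * g, ?_, ?_⟩
             left_inv := fun u => Subtype.ext (by simp [mul_assoc])
             right_inv := fun u => Subtype.ext (by simp [mul_assoc]) }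
    · rw [mul_smul, mul_smul, inv_smul_smul, u.2.2]
    · have := (hconjmem g⁻¹ u).1 u.2.1
      rwa [inv_inv] at this
    · rw [mul_smul, mul_smul, u.2.2, inv_smul_smul]
  have hinv2 : ∀ (g : G) (x : X), Nat.card ((h.subgroup H).Q (g • x)) =
      Nat.card ((h.subgroup H).Q x) := by
    intro g x
    rw [e2, e2]
    symm
    apply Nat.card_congr
    refine { toFun := fun u => ⟨g * u * g⁻¹, (hconjmem g u).1 u.2.1, ?_⟩
             invFun := fun u => ⟨g⁻¹ * u * g, ?_, ?_⟩
             left_inv := fun u => Subtype.ext (by simp [mul_assoc])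
             right_inv := fun u => Subtype.ext (by simp [mul_assoc]) }
    · exact (h.mem_Q_smul g x u).1 u.2.2
    · have := (hconjmem g⁻¹ u).1 u.2.1
      rwa [inv_inv] at this
    · rw [h.mem_Q_smul g x]
      have e : g * (g⁻¹ * (u : G) * g) * g⁻¹ = u := by group
      rw [e]
      exact u.2.2
  have h1 := sum_formula (h.subgroup H) S (fun x hx => (hSR.mem x).2 (by
    obtain ⟨u, hu, hux⟩ := hx
    exact ⟨u, fun hc => hu (Subtype.ext hc), hux⟩))
  rw [hSR.sum (fun x => Nat.card (stabilizer H x) + Nat.card ((h.subgroup H).Q x))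
    (fun g x => by rw [hinv1, hinv2])] at h1
  have h2 := hSR.sum (fun _ => 1) (fun _ _ => rfl)
  simp only [Finset.sum_const, smul_eq_mul, mul_one] at h2
  rw [h1, h2]

theorem card_stab_dvd [Finite G] (H : Subgroup G) (x : X) :
    Nat.card (stabilizer H x) ∣ Nat.card (stabilizer G x) := by
  let f : stabilizer H x →* stabilizer G x :=
    { toFun := fun u => ⟨u, u.2⟩
      map_one' := rfl
      map_mul' := fun _ _ => rfl }
  apply Subgroup.card_dvd_of_injective f
  intro a b hab
  exact Subtype.ext (Subtype.ext (congrArg (fun w : stabilizer G x => (w : G)) hab))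

theorem card_Q_subgroup_dvd [Finite G] (h : MobiusLike k p G X) (H : Subgroup G) (x : X) :
    Nat.card ((h.subgroup H).Q x) ∣ Nat.card (h.Q x) := by
  have hiff : ∀ u : H, u ∈ (h.subgroup H).Q x → (u : G) ∈ h.Q x := by
    intro u
    rw [(h.subgroup H).mem_Q, h.mem_Q]
    rintro (h1 | h1)
    · left; rw [h1]; rfl
    · right; exact h1
  let f : (h.subgroup H).Q x →* h.Q x :=
    { toFun := fun u => ⟨u, hiff u u.2⟩
      map_one' := rfl
      map_mul' := fun _ _ => rfl }
  apply Subgroup.card_dvd_of_injective f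
  intro a b hab
  exact Subtype.ext (Subtype.ext (congrArg (fun w : h.Q x => (w : G)) hab))

theorem isSimple_of_card {G : Type*} [Group G] [Finite G] [Nontrivial G]
    (hcard : ∀ H : Subgroup G, H.Normal → Nat.card H = 1 ∨ Nat.card H = Nat.card G) :
    IsSimpleGroup G where
  eq_bot_or_eq_top_of_normal H hH := by
    rcases hcard H hH with h1 | h1
    · left; exact Subgroup.card_eq_one.1 h1
    · right; exact Subgroup.eq_top_of_card_eq H h1

theorem div2 {a : ℕ} (h : a ∣ 2) : a = 1 ∨ a = 2 := by
  have := Nat.le_of_dvd (by norm_num) h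
  interval_cases a <;> simp_all

theorem div3 {a : ℕ} (h : a ∣ 3) : a = 1 ∨ a = 3 := by
  have := Nat.le_of_dvd (by norm_num) h
  interval_cases a <;> simp_all

theorem div5 {a : ℕ} (h : a ∣ 5) : a = 1 ∨ a = 5 := by
  have := Nat.le_of_dvd (by norm_num) h
  interval_cases a <;> simp_all

theorem div6 {a : ℕ} (h : a ∣ 6) : a = 1 ∨ a = 2 ∨ a = 3 ∨ a = 6 := by
  have := Nat.le_of_dvd (by norm_num) h
  interval_cases a <;> simp_all

/-- The tame case of order 60. -/
theorem alt_five_tame [Finite G] (h : MobiusLike k p G X) {S R : Finset X} (hSR : Reps G S R)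
    (hG : Nat.card G = 60) {x y z : X} (hxy : x ≠ y) (hxz : x ≠ z) (hyz : y ≠ z)
    (hR : ∀ w, w ∈ R ↔ w = x ∨ w = y ∨ w = z)
    (hQx : Nat.card (h.Q x) = 1) (hQy : Nat.card (h.Q y) = 1) (hQz : Nat.card (h.Q z) = 1)
    (hx : Nat.card (stabilizer G x) = 2) (hy : Nat.card (stabilizer G y) = 3)
    (hz : Nat.card (stabilizer G z) = 5) : Nonempty (G ≃* alternatingGroup (Fin 5)) := by
  classical
  have hnt : Nontrivial G := Finite.one_lt_card_iff_nontrivial.1 (by rw [hG]; norm_num)
  have hR' : R = {x, y, z} := by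
    ext w; rw [hR]; simp
  have h1 := card_orbit_mul (G := G) x
  have h2 := card_orbit_mul (G := G) y
  have h3 := card_orbit_mul (G := G) z
  rw [hx, hG] at h1
  rw [hy, hG] at h2
  rw [hz, hG] at h3
  have h1' : Nat.card (orbit G x) = 30 := by omega
  have h2' : Nat.card (orbit G y) = 20 := by omega
  have h3' : Nat.card (orbit G z) = 12 := by omega
  have hs : IsSimpleGroup G := by
    apply isSimple_of_card
    intro H hH
    have hsum := sum_normal h hSR H hH
    rw [hR', Finset.sum_insert (by simp [hxy, hxz]), Finset.sum_insert (by simp [hyz]),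
      Finset.sum_singleton, Finset.sum_insert (by simp [hxy, hxz]),
      Finset.sum_insert (by simp [hyz]), Finset.sum_singleton, h1', h2', h3'] at hsum
    have d1 := div2 (hx ▸ card_stab_dvd (X := X) H x)
    have d2 := div3 (hy ▸ card_stab_dvd (X := X) H y)
    have d3 := div5 (hz ▸ card_stab_dvd (X := X) H z)
    have q1 : Nat.card ((h.subgroup H).Q x) = 1 := Nat.dvd_one.1 (hQx ▸ card_Q_subgroup_dvd h H x)
    have q2 : Nat.card ((h.subgroup H).Q y) = 1 := Nat.dvd_one.1 (hQy ▸ card_Q_subgroup_dvd h H y)
    have q3 : Nat.card ((h.subgroup H).Q z) = 1 := Nat.dvd_one.1 (hQz ▸ card_Q_subgroup_dvd h H z)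
    rw [q1, q2, q3] at hsum
    have hdvd := H.card_subgroup_dvd_card
    rw [hG] at hdvd ⊢
    rcases d1 with d1 | d1 <;> rcases d2 with d2 | d2 <;> rcases d3 with d3 | d3 <;>
      rw [d1, d2, d3] at hsum
    · left; omega
    · exfalso
      have : Nat.card H = 25 := by omega
      rw [this] at hdvd; omega
    · exfalso
      have : Nat.card H = 21 := by omega
      rw [this] at hdvd; omega
    · exfalso
      have : Nat.card H = 45 := by omega
      rw [this] at hdvd; omega
    · exfalso
      have : Nat.card H = 16 := by omega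
      rw [this] at hdvd; omega
    · exfalso
      have : Nat.card H = 40 := by omega
      rw [this] at hdvd; omega
    · exfalso
      have : Nat.card H = 36 := by omega
      rw [this] at hdvd; omega
    · right; omega
  exact Cfsg.Agent.S0494.result hG

/-- The wild case of order 60 (characteristic 3). -/
theorem alt_five_wild [Finite G] (h : MobiusLike k p G X) {S R : Finset X} (hSR : Reps G S R)
    (hG : Nat.card G = 60) {x y : X} (hxy : x ≠ y) (hR : ∀ w, w ∈ R ↔ w = x ∨ w = y)
    (hQx : Nat.card (h.Q x) = 3) (hQy : Nat.card (h.Q y) = 1)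
    (hx : Nat.card (stabilizer G x) = 6) (hy : Nat.card (stabilizer G y) = 5) :
    Nonempty (G ≃* alternatingGroup (Fin 5)) := by
  classical
  have hnt : Nontrivial G := Finite.one_lt_card_iff_nontrivial.1 (by rw [hG]; norm_num)
  have hR' : R = {x, y} := by
    ext w; rw [hR]; simp
  have h1 := card_orbit_mul (G := G) x
  have h2 := card_orbit_mul (G := G) y
  rw [hx, hG] at h1
  rw [hy, hG] at h2
  have h1' : Nat.card (orbit G x) = 10 := by omega
  have h2' : Nat.card (orbit G y) = 12 := by omega
  have hs : IsSimpleGroup G := by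
    apply isSimple_of_card
    intro H hH
    have hsum := sum_normal h hSR H hH
    rw [hR', Finset.sum_pair hxy, Finset.sum_pair hxy, h1', h2'] at hsum
    have d1 := div6 (hx ▸ card_stab_dvd (X := X) H x)
    have d2 := div5 (hy ▸ card_stab_dvd (X := X) H y)
    have q1 := div3 (hQx ▸ card_Q_subgroup_dvd h H x)
    have q2 : Nat.card ((h.subgroup H).Q y) = 1 := Nat.dvd_one.1 (hQy ▸ card_Q_subgroup_dvd h H y)
    rw [q2] at hsum
    -- the exceptional possibility
    have hexc : ¬ (Nat.card (stabilizer H x) = 2 ∧ Nat.card ((h.subgroup H).Q x) = 1) := by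
      rintro ⟨c1, c2⟩
      have hQbot : (h.subgroup H).Q x = ⊥ := Subgroup.card_eq_one.1 c2
      have hnt2 : Nontrivial (stabilizer H x) := by
        apply Finite.one_lt_card_iff_nontrivial.1
        rw [c1]; norm_num
      obtain ⟨t, ht⟩ := exists_ne (1 : stabilizer H x)
      have hnt3 : Nontrivial (h.Q x) := by
        apply Finite.one_lt_card_iff_nontrivial.1
        rw [hQx]; norm_num
      obtain ⟨u, hu⟩ := exists_ne (1 : h.Q x)
      have hu1 : (u : G) ≠ 1 := fun hc => hu (Subtype.ext hc)
      have ht1 : ((t : H) : G) ≠ 1 := fun hc => ht (Subtype.ext (Subtype.ext hc))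
      have htx : ((t : H) : G) • x = x := t.2
      have hux : (u : G) • x = x := h.Q_le x u.2
      -- `u` centralises `t`
      have hcomm : (u : G) * ((t : H) : G) * (u : G)⁻¹ = ((t : H) : G) := by
        have hmem : (u : G) * ((t : H) : G) * (u : G)⁻¹ ∈ H := hH.conj_mem _ (t : H).2 _
        have hfix : ((u : G) * ((t : H) : G) * (u : G)⁻¹) • x = x := by
          have e : (u : G)⁻¹ • x = x := by rw [inv_smul_eq_iff, hux]
          rw [mul_smul, mul_smul, e, htx, hux]
        have := Fintype.ofFinite (stabilizer H x)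
        have hcard2 : Fintype.card (stabilizer H x) = 2 := by
          rw [← Nat.card_eq_fintype_card]; exact c1
        let v : stabilizer H x := ⟨⟨_, hmem⟩, hfix⟩
        have hv1 : v ≠ 1 := by
          intro hc
          apply ht1
          have h3 : (u : G) * ((t : H) : G) * (u : G)⁻¹ = 1 := congrArg (fun w : stabilizer H x => ((w : H) : G)) hc
          have : ((t : H) : G) = (u : G)⁻¹ * ((u : G) * ((t : H) : G) * (u : G)⁻¹) * (u : G) := by group
          rw [this, h3]; group
        have hvt : v = t := by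
          by_contra hne
          have h4 : 2 < Fintype.card (stabilizer H x) := by
            rw [Fintype.two_lt_card_iff]
            exact ⟨1, v, t, hv1.symm, ht.symm, hne⟩
          omega
        exact congrArg (fun w : stabilizer H x => ((w : H) : G)) hvt
      rcases h.fixed ht1 with ⟨w, hw, -⟩ | ⟨a, b, hab, hf⟩
      · have hwx : w = x := ((h.fix_iff_of_mem_Q hw ht1 x).1 htx).symm
        subst hwx
        have : (t : H) ∈ (h.subgroup H).Q w := by
          rw [(h.subgroup H).mem_Q]
          right
          exact ((h.mem_Q w _).1 hw).resolve_left ht1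
        rw [hQbot, Subgroup.mem_bot] at this
        exact ht (Subtype.ext this)
      · have hperm : ∀ z : X, ((t : H) : G) • z = z → ((t : H) : G) • ((u : G) • z) = (u : G) • z := by
          intro z hz
          have e : ((t : H) : G) * (u : G) = (u : G) * ((t : H) : G) := by
            conv_lhs => rw [← hcomm]
            group
          rw [← mul_smul, e, mul_smul, hz]
        -- a fixed point of `t` other than `x`
        obtain ⟨b', hb', hb'x, hfb⟩ : ∃ b' : X, ((t : H) : G) • b' = b' ∧ b' ≠ x ∧
            ∀ z : X, ((t : H) : G) • z = z → z = x ∨ z = b' := by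
          rcases (hf x).1 htx with h3 | h3
          · subst h3
            exact ⟨b, (hf b).2 (Or.inr rfl), hab.symm, fun z hz => (hf z).1 hz⟩
          · subst h3
            exact ⟨a, (hf a).2 (Or.inl rfl), hab, fun z hz => ((hf z).1 hz).symm⟩
        rcases hfb _ (hperm b' hb') with h3 | h3
        · apply hb'x
          have : (u : G) • b' = (u : G) • x := by rw [h3, hux]
          exact smul_left_cancel _ this
        · exact hb'x ((h.fix_iff_of_mem_Q u.2 hu1 b').1 h3)
    have hdvd := H.card_subgroup_dvd_card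
    rw [hG] at hdvd ⊢
    rcases d1 with d1 | d1 | d1 | d1 <;> rcases d2 with d2 | d2 <;> rcases q1 with q1 | q1 <;>
      rw [d1, d2, q1] at hsum <;>
      first
      | (left; omega)
      | (right; omega)
      | (exfalso; exact hexc ⟨d1, q1⟩)
      | (exfalso
         have h5 : Nat.card H = 25 ∨ Nat.card H = 11 ∨ Nat.card H = 35 ∨ Nat.card H = 26 ∨
            Nat.card H = 50 ∨ Nat.card H = 16 ∨ Nat.card H = 40 ∨ Nat.card H = 21 ∨
            Nat.card H = 45 ∨ Nat.card H = 36 := by omega
         rcases h5 with h5 | h5 | h5 | h5 | h5 | h5 | h5 | h5 | h5 | h5 <;> rw [h5] at hdvd <;> omega)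
  exact Cfsg.Agent.S0494.result hG

/-- Dickson's classification, group-theoretic form. -/
theorem classification [Finite G] [Fact p.Prime] [CharP k p] (h : MobiusLike k p G X) :
    (∃ x : X, ∀ g : G, g • x = x) ∨
    (∃ m, m ≠ 0 ∧ Nat.card G = 2 * m ∧ (∃ r : G, orderOf r = m) ∧ Nat.Coprime m p ∧
      Nonempty (G ≃* DihedralGroup m)) ∨
    Nonempty (G ≃* alternatingGroup (Fin 4)) ∨ Nonempty (G ≃* Equiv.Perm (Fin 4)) ∨
    Nonempty (G ≃* alternatingGroup (Fin 5)) ∨
    (∃ x : X, 3 ≤ Nat.card (h.Q x) ∧ Nat.card (orbit G x) = Nat.card (h.Q x) + 1 ∧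
      ∃ t, Nat.card (stabilizer G x) = Nat.card (h.Q x) * t ∧
        (t = Nat.card (h.Q x) - 1 ∨ 2 * t = Nat.card (h.Q x) - 1)) := by
  classical
  rcases subsingleton_or_nontrivial G with hs | hnt
  · left
    obtain ⟨x, hx⟩ := h.exists_fixed 1
    exact ⟨x, fun g => by rw [Subsingleton.elim g 1]; exact hx⟩
  obtain ⟨S, R, hSR⟩ := exists_Reps h
  rcases DicksonCount.cases h hSR with h1 | ⟨x, h1⟩ | ⟨x, y, z, hxy, hxz, hyz, hR, q1, q2, q3, ex, ey, h1⟩ |
    ⟨x, y, hxy, hR, q1, q2, hG, ex, ey⟩ | h1
  · left; exact h1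
  · right; left; exact dihedral_of_orbit_two h x h1
  · rcases h1 with ⟨hG, ez⟩ | ⟨hG, ez⟩ | ⟨hG, ez⟩
    · right; right; left
      refine alt_four h hG z ?_
      have := card_orbit_mul (G := G) z
      rw [ez, hG] at this
      omega
    · right; right; right; left
      exact sym_four h hG y ey q2
    · right; right; right; right; left
      exact alt_five_tame h hSR hG hxy hxz hyz hR q1 q2 q3 ex ey ez
  · right; right; right; right; left
    exact alt_five_wild h hSR hG hxy hR q1 q2 ex ey
  · right; right; right; right; right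
    exact h1

/-- If `p` does not divide the order and the group fixes a point, the group is cyclic. -/
theorem isCyclic_of_fixed [Finite G] [hp : Fact p.Prime] [CharP k p] (h : MobiusLike k p G X)
    (hpG : ¬ p ∣ Nat.card G) (x : X) (hx : ∀ g : G, g • x = x) : IsCyclic G := by
  obtain ⟨χ, hχ⟩ := h.char x
  let f : G →* kˣ := χ.comp
    { toFun := fun g => ⟨g, hx g⟩
      map_one' := rfl
      map_mul' := fun _ _ => rfl }
  have hinj : Function.Injective f := by
    rw [injective_iff_map_eq_one]
    intro g hg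
    rcases (hχ ⟨g, hx g⟩).1 hg with h1 | h1
    · exact h1
    · have h2 := h.pow_eq_one g x h1
      have h3 := orderOf_dvd_of_pow_eq_one h2
      rcases (Nat.dvd_prime hp.out).1 h3 with h4 | h4
      · exact orderOf_eq_one_iff.1 h4
      · exact absurd (h4 ▸ orderOf_dvd_natCard g) hpG
  exact isCyclic_of_injective_ringHom ((Units.coeHom k).comp f) (Units.val_injective.comp hinj)

/-- If `p` divides the order, there is a parabolic element. -/
theorem exists_parabolic [Finite G] [hp : Fact p.Prime] [CharP k p] (h : MobiusLike k p G X)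
    (hpG : p ∣ Nat.card G) : ∃ (g : G) (x : X), g ≠ 1 ∧ orderOf g = p ∧ g ∈ h.Q x := by
  obtain ⟨g, hg⟩ := exists_prime_orderOf_dvd_card' p hpG
  have hg1 : g ≠ 1 := by
    rintro rfl
    rw [orderOf_one] at hg
    exact hp.out.one_lt.ne hg
  obtain ⟨x, hx⟩ := h.exists_mem_Q hg1 (n := 1) (by rw [pow_one, ← hg, pow_orderOf_eq_one])
  exact ⟨g, x, hg1, hg, hx⟩

end Cfsg.Agent.ClassicalGeometry.DicksonSmall
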