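import Mathlib
import Cfsg.Agent.ClassicalGeometry.PoleBridge
import Cfsg.Agent.ClassicalGeometry.PoleCases
import Cfsg.Agent.ClassicalGeometry.DicksonSubfield

/-!
# The wild case of Dickson's theorem: subgroups of `PSL₂(F)` with transitive unipotents
-/

set_option autoImplicit false

open MulAction Matrix OnePoint Matrix.SpecialLinearGroup

namespace Cfsg.Agent.ClassicalGeometry.DicksonWild

open Cfsg.Agent.ClassicalGeometry.PoleCount Cfsg.Agent.ClassicalGeometry.PoleBridge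
open Cfsg.Agent.ClassicalGeometry.PSL2Basic Cfsg.Agent.Lib.Mobius
open Cfsg.Agent.ClassicalGeometry.SplitTorus
open Cfsg.Agent.ClassicalGeometry.DicksonSubfield

section norm

variable {F : Type*} [Field F] [DecidableEq F]

/-- The notation for the class of a matrix in `PSL₂(F)`. -/
abbrev cl (A : SpecialLinearGroup (Fin 2) F) : ProjectiveSpecialLinearGroup (Fin 2) F :=
  QuotientGroup.mk A

theorem cl_eq_of_mem_center {A B : SpecialLinearGroup (Fin 2) F}
    (h : A⁻¹ * B ∈ Subgroup.center (SpecialLinearGroup (Fin 2) F)) : cl A = cl B :=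
  QuotientGroup.eq.mpr h

variable (p : ℕ) [Fact p.Prime] [CharP F p]

/-- A unipotent element of `PSL₂(F)` fixing `∞`. -/
theorem exists_up (g : ProjectiveSpecialLinearGroup (Fin 2) F) (hp : g ^ p = 1)
    (hg : pslPerm F g ∞ = ∞) : ∃ a : F, g = cl (up a) := by
  obtain ⟨A, rfl⟩ := exists_rep g
  rw [pslPerm_mk, slHom_infty_iff] at hg
  rw [← QuotientGroup.mk_pow, QuotientGroup.eq_one_iff, pow_mem_center_iff p A hg] at hp
  have hdet := det_eq A
  rw [hg, mul_zero, sub_zero] at hdet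
  have h00 : A 0 0 ≠ 0 := by
    intro h0
    rw [h0, zero_mul] at hdet
    exact zero_ne_one hdet
  have h11 : A 1 1 = A 0 0 := by
    apply mul_left_cancel₀ h00
    rw [hdet, ← sq, hp]
  refine ⟨A 0 0 * A 0 1, cl_eq_of_mem_center ?_⟩
  apply mem_center_of_entries
  · rw [mul01, inv00, inv01]
    simp only [up01, up11]
    rw [h11]
    linear_combination (A 0 1) * hp
  · rw [mul10, inv10, inv11, hg]
    simp
  · rw [mul00, mul11, inv00, inv01, inv10, inv11, hg]
    simp only [up00, up01, up10, up11]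
    rw [h11]
    ring

theorem slHom_wl_infty : slHom F (wl F) ∞ = ((0 : F) : OnePoint F) := by
  rw [slHom_infty, wl10, wl00, if_neg (neg_ne_zero.mpr one_ne_zero), zero_div]

/-- A unipotent element of `PSL₂(F)` fixing `0`. -/
theorem exists_lo (g : ProjectiveSpecialLinearGroup (Fin 2) F) (hp : g ^ p = 1)
    (hg : pslPerm F g ((0 : F) : OnePoint F) = ((0 : F) : OnePoint F)) :
    ∃ c : F, g = cl (lo c) := by
  have hw : pslPerm F (cl (wl F)) ∞ = ((0 : F) : OnePoint F) := slHom_wl_infty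
  have h1 : ((cl (wl F))⁻¹ * g * cl (wl F)) ^ p = 1 := by
    have h2 := conj_pow (a := (cl (wl F))⁻¹) (b := g) (i := p)
    rw [inv_inv] at h2
    rw [h2, hp, mul_one, inv_mul_cancel]
  have h2 : pslPerm F ((cl (wl F))⁻¹ * g * cl (wl F)) ∞ = ∞ := by
    rw [map_mul, map_mul, map_inv, Equiv.Perm.mul_apply, Equiv.Perm.mul_apply, hw, hg, ← hw,
      pinv_apply]
  obtain ⟨a, ha⟩ := exists_up p _ h1 h2
  refine ⟨-a, ?_⟩
  have h3 : g = cl (wl F) * cl (up a) * (cl (wl F))⁻¹ := by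
    rw [← ha]; group
  rw [h3]
  have h4 := wl_mul_up (-a)
  rw [neg_neg] at h4
  rw [← h4]
  rfl

theorem pslPerm_up_zero (a : F) : pslPerm F (cl (up a)) ((0 : F) : OnePoint F) = (a : OnePoint F) := by
  rw [pslPerm_mk, slHom_coe]
  simp

/-- The points fixed by a nontrivial unipotent element of `H`. -/
def OpF (H : Subgroup (ProjectiveSpecialLinearGroup (Fin 2) F)) : Set (OnePoint F) :=
  {x | ∃ u ∈ H, u ≠ 1 ∧ u ^ p = 1 ∧ pslPerm F u x = x}

omit [Fact p.Prime] [CharP F p] in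
theorem smul_mem_OpF {H : Subgroup (ProjectiveSpecialLinearGroup (Fin 2) F)} {x : OnePoint F}
    (hx : x ∈ OpF p H) {g : ProjectiveSpecialLinearGroup (Fin 2) F} (hg : g ∈ H) :
    pslPerm F g x ∈ OpF p H := by
  obtain ⟨u, huH, hu1, hup, hux⟩ := hx
  refine ⟨g * u * g⁻¹, mul_mem (mul_mem hg huH) (inv_mem hg), ?_, ?_, ?_⟩
  · intro h
    exact hu1 (conj_eq_one_iff.mp h)
  · rw [conj_pow, hup, mul_one, mul_inv_cancel]
  · rw [map_mul, map_mul, map_inv, Equiv.Perm.mul_apply, Equiv.Perm.mul_apply, pinv_apply, hux]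

/-- Transitivity of the unipotent elements. -/
def Trans (H : Subgroup (ProjectiveSpecialLinearGroup (Fin 2) F)) : Prop :=
  ∀ x ∈ OpF p H, ∀ y ∈ OpF p H, ∀ z ∈ OpF p H, y ≠ x → z ≠ x →
    ∃ g ∈ H, g ^ p = 1 ∧ pslPerm F g x = x ∧ pslPerm F g y = z

/-- Conjugation by `diag(a, 1)` followed by projection to `PGL₂(F)`. -/
noncomputable def psi (a : Fˣ) : GL (Fin 2) F →* ProjGenLinGroup (Fin 2) F :=
  ProjGenLinGroup.mk.comp (MulAut.conj (GeneralLinearGroup.mkOfDetNeZero
    !![(a : F), 0; 0, 1] (by simp)) : MulAut (GL (Fin 2) F)).toMonoidHom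

omit [DecidableEq F] in
theorem psi_apply (a : Fˣ) (g : GL (Fin 2) F) : psi a g = ProjGenLinGroup.mk
    ((GeneralLinearGroup.mkOfDetNeZero !![(a : F), 0; 0, 1] (by simp)) * g *
    (GeneralLinearGroup.mkOfDetNeZero !![(a : F), 0; 0, 1] (by simp))⁻¹) := rfl

omit [DecidableEq F] in
theorem psi_ker (a : Fˣ) : (psi a).ker = Subgroup.center (GL (Fin 2) F) := by
  ext g
  rw [MonoidHom.mem_ker, psi_apply, ProjGenLinGroup.mk_eq_one]
  constructor
  · intro h
    have h1 := (inferInstance : (Subgroup.center (GL (Fin 2) F)).Normal).conj_mem _ h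
      (GeneralLinearGroup.mkOfDetNeZero !![(a : F), 0; 0, 1] (by simp))⁻¹
    have h2 : ∀ d : GL (Fin 2) F, d⁻¹ * (d * g * d⁻¹) * d⁻¹⁻¹ = g := by intro d; group
    rwa [h2] at h1
  · intro h
    exact (inferInstance : (Subgroup.center (GL (Fin 2) F)).Normal).conj_mem _ h _

omit [DecidableEq F] in
theorem psi_surjective (a : Fˣ) : Function.Surjective (psi a) := by
  intro x
  obtain ⟨g, rfl⟩ := ProjGenLinGroup.mk_surjective x
  refine ⟨(GeneralLinearGroup.mkOfDetNeZero !![(a : F), 0; 0, 1] (by simp))⁻¹ * g *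
    (GeneralLinearGroup.mkOfDetNeZero !![(a : F), 0; 0, 1] (by simp)), ?_⟩
  rw [psi_apply]
  congr 1
  group

omit [DecidableEq F] in
/-- `psi a g = mk h` as soon as `diag(a,1) g = h diag(a,1)`. -/
theorem psi_eq_of (a : Fˣ) (g h : GL (Fin 2) F)
    (e00 : a * g 0 0 = h 0 0 * a) (e01 : a * g 0 1 = h 0 1) (e10 : g 1 0 = h 1 0 * a)
    (e11 : g 1 1 = h 1 1) : psi a g = ProjGenLinGroup.mk h := by
  rw [psi_apply]
  congr 1
  rw [mul_inv_eq_iff_eq_mul]
  apply GeneralLinearGroup.ext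
  intro i j
  have d00 : (GeneralLinearGroup.mkOfDetNeZero !![(a : F), 0; 0, 1] (by simp)) 0 0 = (a : F) := rfl
  have d01 : (GeneralLinearGroup.mkOfDetNeZero !![(a : F), 0; 0, 1] (by simp)) 0 1 = (0 : F) := rfl
  have d10 : (GeneralLinearGroup.mkOfDetNeZero !![(a : F), 0; 0, 1] (by simp)) 1 0 = (0 : F) := rfl
  have d11 : (GeneralLinearGroup.mkOfDetNeZero !![(a : F), 0; 0, 1] (by simp)) 1 1 = (1 : F) := rfl
  fin_cases i <;> fin_cases j
  · show (_ * g) 0 0 = (h * _) 0 0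
    rw [gl_mul00, gl_mul00, d00, d01, d10, e00]; ring
  · show (_ * g) 0 1 = (h * _) 0 1
    rw [gl_mul01, gl_mul01, d00, d01, d11, ← e01]; ring
  · show (_ * g) 1 0 = (h * _) 1 0
    rw [gl_mul10, gl_mul10, d00, d10, d11, e10]; ring
  · show (_ * g) 1 1 = (h * _) 1 1
    rw [gl_mul11, gl_mul11, d10, d01, d11, e11]; ring

/-- The normalised case. -/
theorem normalised [Fintype F] (H : Subgroup (ProjectiveSpecialLinearGroup (Fin 2) F))
    (hinf : ∞ ∈ OpF p H) (hzero : ((0 : F) : OnePoint F) ∈ OpF p H) (htr : Trans p H) :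
    ∃ (K : Type) (_ : Field K) (_ : Fintype K) (m : ℕ), Fintype.card K ^ m = Fintype.card F ∧
      (Nonempty (H ≃* ProjectiveSpecialLinearGroup (Fin 2) K) ∨
        Nonempty (H ≃* ProjGenLinGroup (Fin 2) K)) := by
  obtain ⟨u, huH, hu1, hup, hux⟩ := id hinf
  obtain ⟨v, hvH, hv1, hvp, hvx⟩ := id hzero
  obtain ⟨a₀, rfl⟩ := exists_up p u hup hux
  obtain ⟨c₀, rfl⟩ := exists_lo p v hvp hvx
  have ha₀ : a₀ ≠ 0 := by
    rintro rfl
    rw [up_zero] at hu1
    exact hu1 rfl
  have hc₀ : c₀ ≠ 0 := by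
    rintro rfl
    apply hv1
    have h1 : lo (0 : F) = 1 := by apply ext2 <;> simp
    rw [h1]
    rfl
  set a : Fˣ := Units.mk0 a₀ ha₀ with hadef
  have hav : (a : F) = a₀ := rfl
  set H₁ : Subgroup (ProjGenLinGroup (Fin 2) F) := H.map ProjectiveSpecialLinearGroup.toPGL with hH₁
  set G : Subgroup (GL (Fin 2) F) := H₁.comap (psi a) with hG
  -- upper unipotents
  have hup' : ∀ b : F, cl (up (a₀ * b)) ∈ H → toGL (up b) ∈ G := by
    intro b hb
    rw [hG, Subgroup.mem_comap]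
    refine ⟨_, hb, ?_⟩
    rw [ProjectiveSpecialLinearGroup.toPGL_mk]
    refine (psi_eq_of a _ _ ?_ ?_ ?_ ?_).symm
    · simp only [toGL_apply, up00]; ring
    · simp only [toGL_apply, up01]; rw [hav]
    · simp only [toGL_apply, up10]; ring
    · simp only [toGL_apply, up11]
  have h1 : toGL (up (1 : F)) ∈ G := hup' 1 (by rw [mul_one]; exact huH)
  have hl : toGL (lo (c₀ * a₀)) ∈ G := by
    rw [hG, Subgroup.mem_comap]
    refine ⟨_, hvH, ?_⟩
    rw [ProjectiveSpecialLinearGroup.toPGL_mk]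
    refine (psi_eq_of a _ _ ?_ ?_ ?_ ?_).symm
    · simp only [toGL_apply, lo00]; ring
    · simp only [toGL_apply, lo01]; ring
    · simp only [toGL_apply, lo10]; rw [hav]
    · simp only [toGL_apply, lo11]
  have horb : ∀ g ∈ G, g 1 0 ≠ 0 → toGL (up (g 0 0 / g 1 0)) ∈ G := by
    intro g hg hg10
    rw [hG, Subgroup.mem_comap] at hg
    obtain ⟨h, hh, hhg⟩ := hg
    obtain ⟨A, rfl⟩ := exists_rep h
    rw [ProjectiveSpecialLinearGroup.toPGL_mk, psi_apply, ProjGenLinGroup.mk_eq_mk_iff] at hhg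
    obtain ⟨t, ht⟩ := hhg
    rw [eq_mul_inv_iff_mul_eq] at ht
    have d00 : (GeneralLinearGroup.mkOfDetNeZero !![(a : F), 0; 0, 1] (by simp)) 0 0 = (a : F) :=
      rfl
    have d01 : (GeneralLinearGroup.mkOfDetNeZero !![(a : F), 0; 0, 1] (by simp)) 0 1 = (0 : F) :=
      rfl
    have d10 : (GeneralLinearGroup.mkOfDetNeZero !![(a : F), 0; 0, 1] (by simp)) 1 0 = (0 : F) :=
      rfl
    have d11 : (GeneralLinearGroup.mkOfDetNeZero !![(a : F), 0; 0, 1] (by simp)) 1 1 = (1 : F) :=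
      rfl
    have s00 : (GeneralLinearGroup.scalar (Fin 2) t) 0 0 = (t : F) := by
      rw [GeneralLinearGroup.coe_scalar]; simp
    have s01 : (GeneralLinearGroup.scalar (Fin 2) t) 0 1 = (0 : F) := by
      rw [GeneralLinearGroup.coe_scalar]; simp
    have s10 : (GeneralLinearGroup.scalar (Fin 2) t) 1 0 = (0 : F) := by
      rw [GeneralLinearGroup.coe_scalar]; simp
    have s11 : (GeneralLinearGroup.scalar (Fin 2) t) 1 1 = (t : F) := by
      rw [GeneralLinearGroup.coe_scalar]; simp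
    have e00 := congrArg (fun M : GL (Fin 2) F => M 0 0) ht
    have e10 := congrArg (fun M : GL (Fin 2) F => M 1 0) ht
    simp only [gl_mul00, gl_mul10, gl_mul11, gl_mul01, d00, d01, d10, d11, s00, s01, s10, s11,
      toGL_apply] at e00 e10
    have ht0 : (t : F) ≠ 0 := t.ne_zero
    have e00' : A 0 0 * t = g 0 0 := by
      have h2 : (a : F) ≠ 0 := a.ne_zero
      apply mul_left_cancel₀ h2
      linear_combination e00
    have e10' : A 1 0 * t * a = g 1 0 := by linear_combination e10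
    have hA10 : A 1 0 ≠ 0 := by
      intro h0
      rw [h0, zero_mul, zero_mul] at e10'
      exact hg10 e10'.symm
    -- the image of `∞`
    have hz : pslPerm F (cl A) ∞ = ((A 0 0 / A 1 0 : F) : OnePoint F) := by
      rw [pslPerm_mk, slHom_infty, if_neg hA10]
    have hzmem : ((A 0 0 / A 1 0 : F) : OnePoint F) ∈ OpF p H := by
      rw [← hz]
      exact smul_mem_OpF p hinf hh
    obtain ⟨g', hg'H, hg'p, hg'x, hg'y⟩ := htr ∞ hinf _ hzero _ hzmem (coe_ne_infty _)
      (coe_ne_infty _)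
    obtain ⟨b, rfl⟩ := exists_up p g' hg'p hg'x
    rw [pslPerm_up_zero, coe_eq_coe] at hg'y
    apply hup'
    have h3 : a₀ * (g 0 0 / g 1 0) = b := by
      rw [hg'y, ← e00', ← e10', hav]
      field_simp
    rw [h3]
    exact hg'H
  obtain ⟨k, hk1, hk2, hk3⟩ := exists_subfield G h1 _ (mul_ne_zero hc₀ ha₀) hl horb
  -- transfer to `Type`
  haveI : Finite k := Subtype.finite
  let K : Type := Shrink.{0} k
  letI : Field K := inferInstanceAs (Field (Shrink.{0} k))
  let e : K ≃+* k := Shrink.ringEquiv.{0} k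
  haveI : Finite K := e.toEquiv.finite_iff.mpr inferInstance
  letI : Fintype K := Fintype.ofFinite K
  let f : K →+* F := k.subtype.comp e.toRingHom
  have hf : ∀ x : F, x ∈ k ↔ ∃ m : K, f m = x := by
    intro x
    constructor
    · intro hx
      refine ⟨e.symm ⟨x, hx⟩, ?_⟩
      show ((e (e.symm ⟨x, hx⟩) : k) : F) = x
      rw [RingEquiv.apply_symm_apply]
    · rintro ⟨m, rfl⟩
      exact (e m).2
  have hcard : ∃ m : ℕ, Fintype.card K ^ m = Fintype.card F := by
    letI := Fintype.ofFinite k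
    refine ⟨Module.finrank k F, ?_⟩
    rw [Fintype.card_congr e.toEquiv]
    exact (Module.card_eq_pow_finrank (K := k) (V := F)).symm
  obtain ⟨m, hm⟩ := hcard
  refine ⟨K, inferInstance, inferInstance, m, hm, ?_⟩
  have hfin := final f (psi a) (psi_ker a) H₁ ?_ ?_
  · have eH : H ≃* H₁ := H.equivMapOfInjective _ ProjectiveSpecialLinearGroup.toPGL_injective
    rcases hfin with ⟨⟨e1⟩⟩ | ⟨⟨e1⟩⟩
    · exact Or.inl ⟨eH.trans e1⟩
    · exact Or.inr ⟨eH.trans e1⟩
  · intro A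
    have h2 : A ∈ (G.comap (GeneralLinearGroup.map f)).comap toGL := by
      apply mem_of_up_lo
      · intro b
        rw [Subgroup.mem_comap, Subgroup.mem_comap]
        have h3 : GeneralLinearGroup.map f (toGL (up b)) = toGL (up (f b)) := by
          apply GeneralLinearGroup.ext
          intro i j
          fin_cases i <;> fin_cases j
          · exact map_one f
          · rfl
          · exact map_zero f
          · exact map_one f
        rw [h3]
        exact hk1 _ ((hf _).mpr ⟨b, rfl⟩)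
      · intro b
        rw [Subgroup.mem_comap, Subgroup.mem_comap]
        have h3 : GeneralLinearGroup.map f (toGL (lo b)) = toGL (lo (f b)) := by
          apply GeneralLinearGroup.ext
          intro i j
          fin_cases i <;> fin_cases j
          · exact map_one f
          · exact map_zero f
          · rfl
          · exact map_one f
        rw [h3]
        exact hk2 _ ((hf _).mpr ⟨b, rfl⟩)
    exact h2
  · intro x hx
    obtain ⟨g, rfl⟩ := psi_surjective a x
    obtain ⟨s, hs, hs'⟩ := hk3 g hx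
    exact ⟨g, rfl, s, hs, fun i j => (hf _).mp (hs' i j)⟩

/-- `PSL₂(F)` is doubly transitive on the projective line. -/
theorem exists_move (x y : OnePoint F) (hxy : x ≠ y) :
    ∃ g : ProjectiveSpecialLinearGroup (Fin 2) F, pslPerm F g x = ∞ ∧
      pslPerm F g y = ((0 : F) : OnePoint F) := by
  obtain ⟨b, hb⟩ := exists_pslPerm_infty (K := F) x
  have hbx : pslPerm F b⁻¹ x = ∞ := by rw [map_inv, ← hb, pinv_apply]
  have hby : pslPerm F b⁻¹ y ≠ ∞ := by
    intro h
    apply hxy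
    apply (pslPerm F b⁻¹).injective
    rw [hbx, h]
  obtain ⟨c, hc⟩ := OnePoint.ne_infty_iff_exists.mp hby
  refine ⟨cl (up (-c)) * b⁻¹, ?_, ?_⟩
  · rw [map_mul, Equiv.Perm.mul_apply, hbx, pslPerm_mk, slHom_infty_iff, up10]
  · rw [map_mul, Equiv.Perm.mul_apply, ← hc, pslPerm_mk, slHom_coe]
    simp

/-- The general case. -/
theorem main_trans [Fintype F] (H : Subgroup (ProjectiveSpecialLinearGroup (Fin 2) F))
    {x y : OnePoint F} (hx : x ∈ OpF p H) (hy : y ∈ OpF p H) (hxy : x ≠ y) (htr : Trans p H) :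
    ∃ (K : Type) (_ : Field K) (_ : Fintype K) (m : ℕ), Fintype.card K ^ m = Fintype.card F ∧
      (Nonempty (H ≃* ProjectiveSpecialLinearGroup (Fin 2) K) ∨
        Nonempty (H ≃* ProjGenLinGroup (Fin 2) K)) := by
  obtain ⟨b, hbx, hby⟩ := exists_move x y hxy
  set H' := H.map (MulAut.conj b).toMonoidHom with hH'
  have hmem : ∀ h ∈ H, b * h * b⁻¹ ∈ H' := fun h hh => ⟨h, hh, rfl⟩
  have hOp : ∀ z, z ∈ OpF p H → pslPerm F b z ∈ OpF p H' := by
    rintro z ⟨u, huH, hu1, hup, hux⟩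
    refine ⟨b * u * b⁻¹, hmem u huH, fun h => hu1 (conj_eq_one_iff.mp h), ?_, ?_⟩
    · rw [conj_pow, hup, mul_one, mul_inv_cancel]
    · rw [map_mul, map_mul, map_inv, Equiv.Perm.mul_apply, Equiv.Perm.mul_apply, pinv_apply, hux]
  have hOp' : ∀ z, z ∈ OpF p H' → ∃ w ∈ OpF p H, pslPerm F b w = z := by
    rintro z ⟨_, ⟨u, huH, rfl⟩, hu1, hup, hux⟩
    refine ⟨(pslPerm F b)⁻¹ z, ⟨u, huH, ?_, ?_, ?_⟩, papply_inv _ _⟩
    · rintro rfl
      exact hu1 (map_one _)
    · have h1 : (MulAut.conj b) (u ^ p) = 1 := by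
        rw [map_pow]; exact hup
      exact (MulEquiv.map_eq_one_iff _).mp h1
    · have h1 : pslPerm F (b * u * b⁻¹) z = z := hux
      rw [map_mul, map_mul, map_inv, Equiv.Perm.mul_apply, Equiv.Perm.mul_apply] at h1
      apply (pslPerm F b).injective
      rw [h1, papply_inv]
  have htr' : Trans p H' := by
    intro x1 hx1 y1 hy1 z1 hz1 hyx hzx
    obtain ⟨x2, hx2, rfl⟩ := hOp' x1 hx1
    obtain ⟨y2, hy2, rfl⟩ := hOp' y1 hy1
    obtain ⟨z2, hz2, rfl⟩ := hOp' z1 hz1
    obtain ⟨g, hgH, hgp, hgx, hgy⟩ := htr x2 hx2 y2 hy2 z2 hz2 (fun h => hyx (by rw [h]))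
      (fun h => hzx (by rw [h]))
    refine ⟨b * g * b⁻¹, hmem g hgH, ?_, ?_, ?_⟩
    · rw [conj_pow, hgp, mul_one, mul_inv_cancel]
    · rw [map_mul, map_mul, map_inv, Equiv.Perm.mul_apply, Equiv.Perm.mul_apply, pinv_apply, hgx]
    · rw [map_mul, map_mul, map_inv, Equiv.Perm.mul_apply, Equiv.Perm.mul_apply, pinv_apply, hgy]
  have h1 := hOp x hx
  have h2 := hOp y hy
  rw [hbx] at h1
  rw [hby] at h2
  obtain ⟨K, i1, i2, m, hm, h3⟩ := normalised p H' h1 h2 htr'
  have eH : H ≃* H' := H.equivMapOfInjective _ (MulAut.conj b).injective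
  refine ⟨K, i1, i2, m, hm, ?_⟩
  rcases h3 with ⟨⟨e1⟩⟩ | ⟨⟨e1⟩⟩
  · exact Or.inl ⟨eH.trans e1⟩
  · exact Or.inr ⟨eH.trans e1⟩

end norm

end Cfsg.Agent.ClassicalGeometry.DicksonWild
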