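import Mathlib

/-!
Gram determinants (discriminants) of bilinear forms.

* `det_toMatrix_change`: Gram determinants in two bases differ by a non-zero square.
* `exists_repr`: over a finite field with `2 ≠ 0`, for `a, b ≠ 0` every `c` is `a x² + b y²`.
* `exists_basis_diag`: over a finite field with `2 ≠ 0` a non-degenerate symmetric form has an orthogonal basis
  with any prescribed non-zero values whose product is the discriminant up to squares.
* `det_of_isotropic_half`: a form with a totally isotropic subspace of half dimension `m` has discriminant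
  `(-1)^m` up to squares.
* `exists_isotropic_half_of_det`: the converse over a finite field with `2 ≠ 0`.
* `det_tmul`, `nondegenerate_tmul`: Gram determinant of a tensor product.
-/

set_option autoImplicit false

namespace Cfsg.Agent.ClassicalGeometry.Discriminant

open Module

universe u v w

section general

variable {F : Type u} {V : Type v} [Field F] [AddCommGroup V] [Module F V]

/-- Gram determinants in two bases differ by a non-zero square. -/
theorem det_toMatrix_change {ι κ : Type*} [Fintype ι] [DecidableEq ι] [Fintype κ] [DecidableEq κ]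
    (b : Basis ι F V) (c : Basis κ F V) (B : LinearMap.BilinForm F V) :
    ∃ s : F, s ≠ 0 ∧ (LinearMap.BilinForm.toMatrix c B).det =
      s ^ 2 * (LinearMap.BilinForm.toMatrix b B).det := by
  let e : κ ≃ ι := c.indexEquiv b
  let c' : Basis ι F V := c.reindex e
  have h1 : LinearMap.BilinForm.toMatrix c B = (LinearMap.BilinForm.toMatrix c' B).submatrix e e := by
    ext i j
    simp [LinearMap.BilinForm.toMatrix_apply, c']
  refine ⟨(b.toMatrix c').det, ?_, ?_⟩
  · have h := congrArg Matrix.det (Basis.toMatrix_mul_toMatrix_flip b c')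
    rw [Matrix.det_mul, Matrix.det_one] at h
    exact left_ne_zero_of_mul_eq_one h
  · rw [h1, Matrix.det_submatrix_equiv_self, ← LinearMap.BilinForm.toMatrix_mul_basis_toMatrix b c' B,
      Matrix.det_mul, Matrix.det_mul, Matrix.det_transpose]
    ring

end general

section finiteField

variable {F : Type u} [Field F] [Finite F]

/-- Over a finite field with `2 ≠ 0`, `a x² + b y²` with `a, b ≠ 0` represents everything. -/
theorem exists_repr (h2 : (2 : F) ≠ 0) (a b c : F) (ha : a ≠ 0) (hb : b ≠ 0) :
    ∃ x y : F, a * x ^ 2 + b * y ^ 2 = c := by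
  have := Fintype.ofFinite F
  have hchar : ringChar F ≠ 2 := by
    intro h
    apply h2
    have := ringChar.spec F 2
    rw [h] at this
    exact_mod_cast this.2 dvd_rfl
  have hodd : Fintype.card F % 2 = 1 := FiniteField.odd_card_of_char_ne_two hchar
  obtain ⟨x, y, hxy⟩ := FiniteField.exists_root_sum_quadratic
    (f := Polynomial.C a * Polynomial.X ^ 2 + Polynomial.C 0 * Polynomial.X + Polynomial.C 0)
    (g := Polynomial.C b * Polynomial.X ^ 2 + Polynomial.C 0 * Polynomial.X + Polynomial.C (-c))
    (Polynomial.degree_quadratic ha) (Polynomial.degree_quadratic hb) hodd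
  refine ⟨x, y, ?_⟩
  simp only [Polynomial.eval_add, Polynomial.eval_mul, Polynomial.eval_C, Polynomial.eval_pow,
    Polynomial.eval_X] at hxy
  linear_combination hxy

end finiteField

section diag

variable {F : Type u} [Field F]

/-- Gram matrix determinant for a basis obtained by adding an orthogonal vector. -/
theorem det_cons {V : Type v} [AddCommGroup V] [Module F V] {n : ℕ} (B : LinearMap.BilinForm F V)
    {W : Submodule F V} (b : Basis (Fin (n + 1)) F V) (w : Basis (Fin n) F W) (x : V)
    (hb0 : b 0 = x) (hb : ∀ i : Fin n, b i.succ = w i) (horth : ∀ y ∈ W, B x y = 0) :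
    (LinearMap.BilinForm.toMatrix b B).det =
      B x x * (LinearMap.BilinForm.toMatrix w (B.restrict W)).det := by
  rw [Matrix.det_succ_row_zero, Fin.sum_univ_succ]
  have h0 : ∀ i : Fin n, LinearMap.BilinForm.toMatrix b B 0 i.succ = 0 := by
    intro i
    rw [LinearMap.BilinForm.toMatrix_apply, hb0, hb]
    exact horth _ (w i).2
  simp only [h0, mul_zero, zero_mul, Finset.sum_const_zero, add_zero, Fin.val_zero, pow_zero, one_mul]
  rw [LinearMap.BilinForm.toMatrix_apply, hb0]
  congr 2
  ext i j
  simp only [Matrix.submatrix_apply, Fin.zero_succAbove, LinearMap.BilinForm.toMatrix_apply, hb]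
  rfl

variable [Finite F]

/-- Over a finite field with `2 ≠ 0`, a non-degenerate symmetric form in dimension at least two takes every
value. -/
theorem exists_value (h2 : (2 : F) ≠ 0) {V : Type v} [AddCommGroup V] [Module F V] [FiniteDimensional F V]
    (B : LinearMap.BilinForm F V) (hS : B.IsSymm) (hB : B.Nondegenerate) (hd : 2 ≤ finrank F V) (c : F) :
    ∃ x : V, B x x = c := by
  have : Invertible (2 : F) := invertibleOfNonzero h2
  obtain ⟨v, hv⟩ := LinearMap.BilinForm.exists_orthogonal_basis (LinearMap.BilinForm.isSymm_iff.1 hS)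
  have hne : ∀ i, B (v i) (v i) ≠ 0 := by
    intro i hi
    exact LinearMap.BilinForm.iIsOrtho.not_isOrtho_basis_self_of_nondegenerate hv hB i hi
  let i0 : Fin (finrank F V) := ⟨0, by omega⟩
  let i1 : Fin (finrank F V) := ⟨1, by omega⟩
  have h01 : i0 ≠ i1 := by simp [i0, i1, Fin.ext_iff]
  obtain ⟨x, y, hxy⟩ := exists_repr h2 (B (v i0) (v i0)) (B (v i1) (v i1)) c (hne _) (hne _)
  refine ⟨x • v i0 + y • v i1, ?_⟩
  have e1 : B (v i0) (v i1) = 0 := hv h01
  have e2 : B (v i1) (v i0) = 0 := hv h01.symm
  simp only [map_add, LinearMap.add_apply, map_smul, LinearMap.smul_apply, smul_eq_mul, e1, e2]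
  linear_combination hxy

/-- Over a finite field with `2 ≠ 0`: a non-degenerate symmetric form has an orthogonal basis with any prescribed
non-zero values `c i` whose product is the discriminant up to a square (version for `Fin n`). -/
theorem exists_basis_diag_fin (h2 : (2 : F) ≠ 0) : ∀ (n : ℕ) {V : Type v} [AddCommGroup V] [Module F V]
    [FiniteDimensional F V] (B : LinearMap.BilinForm F V) (_ : B.IsSymm) (_ : B.Nondegenerate)
    (b : Basis (Fin n) F V) (c : Fin n → F) (_ : ∀ i, c i ≠ 0) (s : F)
    (_ : (LinearMap.BilinForm.toMatrix b B).det = s ^ 2 * ∏ i, c i),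
    ∃ v : Basis (Fin n) F V, ∀ i j, B (v i) (v j) = if i = j then c i else 0 := by
  intro n
  induction n with
  | zero => exact fun B _ _ b c _ s _ => ⟨b, fun i => i.elim0⟩
  | succ n ih =>
    intro V _ _ _ B hS hB b c hc s hdet
    have hdet0 : (LinearMap.BilinForm.toMatrix b B).det ≠ 0 :=
      (LinearMap.BilinForm.nondegenerate_iff_det_ne_zero b).1 hB
    have hs : s ≠ 0 := by
      rintro rfl
      apply hdet0
      rw [hdet]
      simp
    have hfr : finrank F V = n + 1 := by
      rw [finrank_eq_card_basis b, Fintype.card_fin]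
    -- a vector with value `c 0`
    obtain ⟨x, hx⟩ : ∃ x : V, B x x = c 0 := by
      rcases Nat.eq_zero_or_pos n with rfl | hn
      · refine ⟨s⁻¹ • b 0, ?_⟩
        have : B (b 0) (b 0) = s ^ 2 * c 0 := by
          have h : (LinearMap.BilinForm.toMatrix b B).det = (LinearMap.BilinForm.toMatrix b B) 0 0 :=
            Matrix.det_fin_one _
          have h' : ∏ i : Fin (0 + 1), c i = c 0 := Fin.prod_univ_one c
          rw [hdet, h', LinearMap.BilinForm.toMatrix_apply] at h
          exact h.symm
        simp only [map_smul, LinearMap.smul_apply, smul_eq_mul, this]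
        field_simp
      · exact exists_value h2 B hS hB (by omega) _
    have hx0 : B x x ≠ 0 := by rw [hx]; exact hc 0
    have hxne : x ≠ 0 := by
      rintro rfl
      simp at hx0
    set W : Submodule F V := B.orthogonal (F ∙ x) with hW
    have hcompl : IsCompl (F ∙ x) W := LinearMap.BilinForm.isCompl_span_singleton_orthogonal hx0
    have hWB : (B.restrict W).Nondegenerate :=
      LinearMap.BilinForm.restrict_nondegenerate_orthogonal_spanSingleton B hB hS.isRefl hx0
    have hWS : (B.restrict W).IsSymm := hS.restrict W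
    have hWfr : finrank F W = n := by
      have := Submodule.finrank_add_eq_of_isCompl hcompl
      rw [finrank_span_singleton hxne, hfr] at this
      omega
    have horth : ∀ y ∈ W, B x y = 0 := by
      intro y hy
      exact (LinearMap.BilinForm.mem_orthogonal_iff.1 hy) x (Submodule.mem_span_singleton_self x)
    have hli : ∀ (c : F), ∀ z ∈ W, c • x + z = 0 → c = 0 := by
      intro c z hz hcz
      have h1 : c • x ∈ W := by
        rw [eq_neg_of_add_eq_zero_left hcz]
        exact W.neg_mem hz
      have h2 : c • x ∈ F ∙ x := Submodule.smul_mem _ _ (Submodule.mem_span_singleton_self x)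
      have h3 : c • x = 0 := (Submodule.disjoint_def.1 hcompl.disjoint) _ h2 h1
      exact (smul_eq_zero.1 h3).resolve_right hxne
    have hsp : ∀ z : V, ∃ c : F, z + c • x ∈ W := by
      intro z
      have hz : z ∈ (F ∙ x) ⊔ W := by rw [hcompl.sup_eq_top]; trivial
      obtain ⟨y, hy, w, hw, rfl⟩ := Submodule.mem_sup.1 hz
      obtain ⟨a, rfl⟩ := Submodule.mem_span_singleton.1 hy
      refine ⟨-a, ?_⟩
      have : a • x + w + -a • x = w := by
        rw [neg_smul]; abel
      rw [this]; exact hw
    let w : Basis (Fin n) F W := finBasisOfFinrankEq F W hWfr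
    have key : ∀ w : Basis (Fin n) F W, ∃ v : Basis (Fin (n + 1)) F V, v 0 = x ∧
        ∀ i : Fin n, v i.succ = w i := by
      intro w
      refine ⟨Basis.mkFinCons x w hli hsp, ?_, ?_⟩
      · rw [Basis.coe_mkFinCons]; rfl
      · intro i
        rw [Basis.coe_mkFinCons]; rfl
    obtain ⟨v, hv0, hv⟩ := key w
    obtain ⟨t, ht, hbt⟩ := det_toMatrix_change b v B
    have hd := det_cons B v w x hv0 hv horth
    have hdw : (LinearMap.BilinForm.toMatrix w (B.restrict W)).det = (t * s) ^ 2 * ∏ i : Fin n, c i.succ := by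
      rw [hbt, hdet, Fin.prod_univ_succ, hx] at hd
      have hc0 := hc 0
      apply mul_left_cancel₀ hc0
      rw [← hd]
      ring
    obtain ⟨w', hw'⟩ := ih (B.restrict W) hWS hWB w (fun i => c i.succ) (fun i => hc _) (t * s) hdw
    obtain ⟨v', hv0', hv'⟩ := key w'
    refine ⟨v', ?_⟩
    intro i j
    refine Fin.cases ?_ (fun i => ?_) i <;> refine Fin.cases ?_ (fun j => ?_) j
    · simp [hv0', hx]
    · rw [hv0', hv', if_neg (Fin.succ_ne_zero j).symm]
      exact horth _ (w' j).2
    · rw [hv0', hv', if_neg (Fin.succ_ne_zero i), ← hS.eq x (w' i : V)]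
      exact horth _ (w' i).2
    · rw [hv', hv']
      have := hw' i j
      simp only [Fin.succ_inj]
      exact this

/-- Over a finite field with `2 ≠ 0`: a non-degenerate symmetric form has an orthogonal basis with any prescribed
non-zero values `c i` whose product is the discriminant up to a square. -/
theorem exists_basis_diag (h2 : (2 : F) ≠ 0) {V : Type v} [AddCommGroup V] [Module F V]
    [FiniteDimensional F V] (B : LinearMap.BilinForm F V) (hS : B.IsSymm) (hB : B.Nondegenerate)
    {ι κ : Type*} [Fintype ι] [DecidableEq ι] [Fintype κ] [DecidableEq κ]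
    (b : Basis κ F V) (c : ι → F) (hcard : Fintype.card ι = finrank F V) (hc : ∀ i, c i ≠ 0) (s : F)
    (hdet : (LinearMap.BilinForm.toMatrix b B).det = s ^ 2 * ∏ i, c i) :
    ∃ v : Basis ι F V, ∀ i j, B (v i) (v j) = if i = j then c i else 0 := by
  let e : ι ≃ Fin (finrank F V) := Fintype.equivFinOfCardEq hcard
  let b' : Basis (Fin (finrank F V)) F V := finBasis F V
  obtain ⟨t, ht, hbt⟩ := det_toMatrix_change b b' B
  have hprod : ∏ i, c (e.symm i) = ∏ i, c i := Equiv.prod_comp e.symm c
  obtain ⟨v, hv⟩ := exists_basis_diag_fin h2 (finrank F V) B hS hB b' (fun i => c (e.symm i))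
    (fun i => hc _) (t * s) (by rw [hbt, hdet, hprod]; ring)
  refine ⟨v.reindex e.symm, ?_⟩
  intro i j
  rw [Basis.reindex_apply, Basis.reindex_apply, Equiv.symm_symm, hv]
  simp

/-- Over a finite field with `2 ≠ 0`: a non-degenerate symmetric form of dimension `2m` whose discriminant is
`(-1)^m` up to a square has a totally isotropic subspace of dimension `m`. -/
theorem exists_isotropic_half_of_det (h2 : (2 : F) ≠ 0) {V : Type v} [AddCommGroup V] [Module F V]
    [FiniteDimensional F V] (B : LinearMap.BilinForm F V) (hS : B.IsSymm) (hB : B.Nondegenerate) (m : ℕ)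
    (hm : finrank F V = 2 * m) {κ : Type*} [Fintype κ] [DecidableEq κ] (b : Basis κ F V) (s : F)
    (hdet : (LinearMap.BilinForm.toMatrix b B).det = (-1) ^ m * s ^ 2) :
    ∃ X : Submodule F V, finrank F X = m ∧ ∀ x ∈ X, ∀ y ∈ X, B x y = 0 := by
  obtain ⟨v, hv⟩ := exists_basis_diag h2 B hS hB (ι := Fin m ⊕ Fin m) b
    (Sum.elim (fun _ => (1 : F)) (fun _ => (-1 : F))) (by simp [hm, two_mul])
    (by rintro (i | i) <;> simp) s (by
      rw [hdet, Fintype.prod_sum_type]
      simp [mul_comm])
  let φ : (Fin m → F) →ₗ[F] V :=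
    v.equivFun.symm.toLinearMap ∘ₗ (LinearMap.pi (fun i : Fin m ⊕ Fin m =>
      (LinearMap.proj (Sum.elim id id i) : (Fin m → F) →ₗ[F] F)))
  have hφ : ∀ f : Fin m → F, φ f = ∑ i, f i • (v (Sum.inl i) + v (Sum.inr i)) := by
    intro f
    simp only [φ, LinearMap.comp_apply, LinearEquiv.coe_coe, Basis.equivFun_symm_apply,
      Fintype.sum_sum_type, LinearMap.pi_apply, LinearMap.proj_apply, Sum.elim_inl, Sum.elim_inr, id,
      smul_add, Finset.sum_add_distrib]
  have hinj : Function.Injective φ := by
    intro f g hfg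
    have h1 := v.equivFun.symm.injective hfg
    funext i
    exact congrFun h1 (Sum.inl i)
  refine ⟨LinearMap.range φ, ?_, ?_⟩
  · rw [LinearMap.finrank_range_of_inj hinj]
    simp
  · rintro _ ⟨f, rfl⟩ _ ⟨g, rfl⟩
    rw [hφ, hφ]
    have hij : ∀ i j, B (v (Sum.inl i) + v (Sum.inr i)) (v (Sum.inl j) + v (Sum.inr j)) = 0 := by
      intro i j
      simp only [map_add, LinearMap.add_apply, hv]
      by_cases hij : i = j
      · subst hij; simp
      · simp [hij]
    rw [map_sum]
    apply Finset.sum_eq_zero
    intro j _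
    rw [map_sum, LinearMap.sum_apply]
    apply Finset.sum_eq_zero
    intro i _
    rw [map_smul, map_smul, LinearMap.smul_apply, hij, smul_zero, smul_zero]

end diag

section isotropic

variable {F : Type u} {V : Type v} [Field F] [AddCommGroup V] [Module F V] [FiniteDimensional F V]

/-- The determinant of the block matrix `[0 A; C D]` with square blocks of size `m` is
`(-1)^m det A det C`. -/
theorem det_fromBlocks_zero_left {m : ℕ} (A C D : Matrix (Fin m) (Fin m) F) :
    (Matrix.fromBlocks 0 A C D).det = (-1) ^ m * (A.det * C.det) := by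
  have h1 : Matrix.fromBlocks (0 : Matrix (Fin m) (Fin m) F) A C D *
      (Matrix.fromBlocks (1 : Matrix (Fin m) (Fin m) F) (-1) 0 1 *
        Matrix.fromBlocks (1 : Matrix (Fin m) (Fin m) F) 0 (1 : Matrix (Fin m) (Fin m) F) 1 *
        Matrix.fromBlocks (1 : Matrix (Fin m) (Fin m) F) (-1) 0 1) =
      Matrix.fromBlocks A 0 D (-C) := by
    simp [Matrix.fromBlocks_multiply]
  have h2 : (Matrix.fromBlocks (1 : Matrix (Fin m) (Fin m) F) (-1 : Matrix (Fin m) (Fin m) F) 0 1).det = 1 := by
    rw [Matrix.det_fromBlocks_zero₂₁]; simp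
  have h3 : (Matrix.fromBlocks (1 : Matrix (Fin m) (Fin m) F) 0 (1 : Matrix (Fin m) (Fin m) F) 1).det = 1 := by
    rw [Matrix.det_fromBlocks_zero₁₂]; simp
  have h4 := congrArg Matrix.det h1
  rw [Matrix.det_mul, Matrix.det_mul, Matrix.det_mul, h2, h3, Matrix.det_fromBlocks_zero₁₂,
    Matrix.det_neg, Fintype.card_fin] at h4
  rw [mul_one, mul_one, mul_one] at h4
  rw [h4]
  ring

/-- A symmetric form of dimension `2m` with a totally isotropic subspace of dimension `m` has discriminant
`(-1)^m` up to a square. -/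
theorem det_of_isotropic_half (B : LinearMap.BilinForm F V) (hS : B.IsSymm) (m : ℕ)
    (hm : finrank F V = 2 * m) {κ : Type*} [Fintype κ] [DecidableEq κ] (b : Basis κ F V)
    (X : Submodule F V) (hX : finrank F X = m) (hiso : ∀ x ∈ X, ∀ y ∈ X, B x y = 0) :
    ∃ s : F, (LinearMap.BilinForm.toMatrix b B).det = (-1) ^ m * s ^ 2 := by
  obtain ⟨Y, hXY⟩ := Submodule.exists_isCompl X
  have hY : finrank F Y = m := by
    have := Submodule.finrank_add_eq_of_isCompl hXY
    omega
  let bX : Basis (Fin m) F X := finBasisOfFinrankEq F X hX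
  let bY : Basis (Fin m) F Y := finBasisOfFinrankEq F Y hY
  let c : Basis (Fin m ⊕ Fin m) F V := (bX.prod bY).map (Submodule.prodEquivOfIsCompl X Y hXY)
  have hcl : ∀ i, c (Sum.inl i) = bX i := by
    intro i
    simp [c]
  have hcr : ∀ i, c (Sum.inr i) = bY i := by
    intro i
    simp [c]
  let A : Matrix (Fin m) (Fin m) F := Matrix.of fun i j => B (bX i) (bY j)
  let D : Matrix (Fin m) (Fin m) F := Matrix.of fun i j => B (bY i) (bY j)
  have hG : LinearMap.BilinForm.toMatrix c B = Matrix.fromBlocks 0 A A.transpose D := by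
    ext (i | i) (j | j)
    · rw [LinearMap.BilinForm.toMatrix_apply, hcl, hcl, Matrix.fromBlocks_apply₁₁]
      exact hiso _ (bX i).2 _ (bX j).2
    · rw [LinearMap.BilinForm.toMatrix_apply, hcl, hcr, Matrix.fromBlocks_apply₁₂]
      rfl
    · rw [LinearMap.BilinForm.toMatrix_apply, hcl, hcr, Matrix.fromBlocks_apply₂₁]
      exact (hS.eq _ _).symm
    · rw [LinearMap.BilinForm.toMatrix_apply, hcr, hcr, Matrix.fromBlocks_apply₂₂]
      rfl
  obtain ⟨t, ht, htd⟩ := det_toMatrix_change c b B
  refine ⟨t * A.det, ?_⟩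
  rw [htd, hG, det_fromBlocks_zero_left, Matrix.det_transpose]
  ring

end isotropic

section tensor

variable {F : Type u} {U : Type v} {W : Type w} [Field F] [AddCommGroup U] [Module F U]
  [AddCommGroup W] [Module F W]

/-- Gram matrix of a tensor product of forms. -/
theorem toMatrix_tmul {ι κ : Type*} [Fintype ι] [DecidableEq ι] [Fintype κ] [DecidableEq κ]
    (B₁ : LinearMap.BilinForm F U) (B₂ : LinearMap.BilinForm F W) (b₁ : Basis ι F U) (b₂ : Basis κ F W) :
    LinearMap.BilinForm.toMatrix (b₁.tensorProduct b₂) (B₁.tmul B₂) =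
      Matrix.kroneckerMap (fun x y => x * y) (LinearMap.BilinForm.toMatrix b₁ B₁)
        (LinearMap.BilinForm.toMatrix b₂ B₂) := by
  ext ⟨i, j⟩ ⟨i', j'⟩
  simp [LinearMap.BilinForm.toMatrix_apply, mul_comm]

/-- Gram determinant of a tensor product of forms. -/
theorem det_tmul {ι κ : Type*} [Fintype ι] [DecidableEq ι] [Fintype κ] [DecidableEq κ]
    (B₁ : LinearMap.BilinForm F U) (B₂ : LinearMap.BilinForm F W) (b₁ : Basis ι F U) (b₂ : Basis κ F W) :
    (LinearMap.BilinForm.toMatrix (b₁.tensorProduct b₂) (B₁.tmul B₂)).det =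
      (LinearMap.BilinForm.toMatrix b₁ B₁).det ^ Fintype.card κ *
        (LinearMap.BilinForm.toMatrix b₂ B₂).det ^ Fintype.card ι := by
  rw [toMatrix_tmul]
  exact Matrix.det_kronecker _ _

/-- The tensor product of non-degenerate forms is non-degenerate. -/
theorem nondegenerate_tmul [FiniteDimensional F U] [FiniteDimensional F W]
    (B₁ : LinearMap.BilinForm F U) (B₂ : LinearMap.BilinForm F W) (h₁ : B₁.Nondegenerate)
    (h₂ : B₂.Nondegenerate) : (B₁.tmul B₂).Nondegenerate := by
  refine (LinearMap.BilinForm.nondegenerate_iff_det_ne_zero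
    ((finBasis F U).tensorProduct (finBasis F W))).2 ?_
  rw [det_tmul]
  exact mul_ne_zero
    (pow_ne_zero _ ((LinearMap.BilinForm.nondegenerate_iff_det_ne_zero (finBasis F U)).1 h₁))
    (pow_ne_zero _ ((LinearMap.BilinForm.nondegenerate_iff_det_ne_zero (finBasis F W)).1 h₂))

end tensor

end Cfsg.Agent.ClassicalGeometry.Discriminant
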