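import Mathlib
import Cfsg.Prelude.Def_ClassicalGeometry
import Cfsg.Agent.ClassicalGeometry.Reflection

/-!
General Siegel (Eichler) transformations `E(u,w) : x ↦ x + f(u,x) w - f(w,x) u - Q(w) f(u,x) u` (`Q u = 0`,
`f(u,w) = 0`) of a quadratic form on `ι → F`, any field, any characteristic.
-/

set_option autoImplicit false
set_option linter.unusedSectionVars false

namespace Cfsg.Agent.ClassicalGeometry.Eichler

open QuadraticMap Matrix Cfsg.Agent.ClassicalGeometry.Reflection
open scoped commutatorElement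

variable {ι : Type} [Fintype ι] [DecidableEq ι] {F : Type*} [Field F]

/-- The matrix of `x ↦ x + f(u,x) w - f(w,x) u - Q(w) f(u,x) u`. -/
def eichlerMatrix (Q : QuadraticForm F (ι → F)) (u w : ι → F) : Matrix ι ι F :=
  1 + (Matrix.vecMulVec w (Cfsg.polarVec (⇑Q) u) - Matrix.vecMulVec u (Cfsg.polarVec (⇑Q) w)
    - Q w • Matrix.vecMulVec u (Cfsg.polarVec (⇑Q) u))

theorem eichlerMatrix_def (Q : QuadraticForm F (ι → F)) (u w : ι → F) :
    eichlerMatrix Q u w
      = 1 + (Matrix.vecMulVec w (Cfsg.polarVec (⇑Q) u) - Matrix.vecMulVec u (Cfsg.polarVec (⇑Q) w)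
    - Q w • Matrix.vecMulVec u (Cfsg.polarVec (⇑Q) u)) := rfl

theorem eichlerMatrix_mulVec (Q : QuadraticForm F (ι → F)) (u w x : ι → F) :
    eichlerMatrix Q u w *ᵥ x
      = x + (polar (⇑Q) u x • w - polar (⇑Q) w x • u - (Q w * polar (⇑Q) u x) • u) := by
  rw [eichlerMatrix_def, Matrix.add_mulVec, Matrix.one_mulVec, Matrix.sub_mulVec,
    Matrix.sub_mulVec, Matrix.smul_mulVec, Matrix.vecMulVec_mulVec, Matrix.vecMulVec_mulVec,
    Matrix.vecMulVec_mulVec, polarVec_dotProduct, polarVec_dotProduct]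
  simp [op_smul_eq_smul, smul_smul]

theorem eichlerMatrix_zero (Q : QuadraticForm F (ι → F)) (u : ι → F) :
    eichlerMatrix Q u 0 = 1 := by
  apply Matrix.mulVec_injective
  funext x
  rw [eichlerMatrix_mulVec]
  simp

/-- `E(u, w) E(u, w') = E(u, w + w')`. -/
theorem eichlerMatrix_mul (Q : QuadraticForm F (ι → F)) (u w w' : ι → F) (hu : Q u = 0)
    (huw : polar (⇑Q) u w = 0) (huw' : polar (⇑Q) u w' = 0) :
    eichlerMatrix Q u w * eichlerMatrix Q u w' = eichlerMatrix Q u (w + w') := by
  apply Matrix.mulVec_injective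
  funext x
  rw [← Matrix.mulVec_mulVec, eichlerMatrix_mulVec Q u w', eichlerMatrix_mulVec,
    eichlerMatrix_mulVec, map_add']
  have huu : polar (⇑Q) u u = 0 := by rw [polar_self', hu, mul_zero]
  have hwu : polar (⇑Q) w u = 0 := by rw [polar_comm]; exact huw
  simp only [QuadraticMap.polar_add_right, QuadraticMap.polar_sub_right,
    QuadraticMap.polar_smul_right, QuadraticMap.polar_add_left, huw', huu, hwu, smul_eq_mul,
    mul_zero, sub_zero, add_zero]
  ext i
  simp only [Pi.add_apply, Pi.sub_apply, Pi.smul_apply, smul_eq_mul]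
  ring

theorem eichlerMatrix_isometry (Q : QuadraticForm F (ι → F)) (u w : ι → F) (hu : Q u = 0)
    (huw : polar (⇑Q) u w = 0) (x : ι → F) : Q (eichlerMatrix Q u w *ᵥ x) = Q x := by
  rw [eichlerMatrix_mulVec]
  have huu : polar (⇑Q) u u = 0 := by rw [polar_self', hu, mul_zero]
  have hwu : polar (⇑Q) w u = 0 := by rw [polar_comm]; exact huw
  have e : polar (⇑Q) u x • w - polar (⇑Q) w x • u - (Q w * polar (⇑Q) u x) • u
      = polar (⇑Q) u x • w + (-(polar (⇑Q) w x + Q w * polar (⇑Q) u x)) • u := by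
    rw [neg_smul, add_smul]; abel
  rw [e, map_add', map_add', QuadraticMap.map_smul, QuadraticMap.map_smul, hu,
    QuadraticMap.polar_add_right, QuadraticMap.polar_smul_right, QuadraticMap.polar_smul_right,
    QuadraticMap.polar_smul_left, QuadraticMap.polar_smul_right, hwu, polar_comm (⇑Q) x w,
    polar_comm (⇑Q) x u]
  simp only [smul_eq_mul]
  ring

/-- `E(u, w)` as an element of `GL`. -/
def eichlerGL (Q : QuadraticForm F (ι → F)) (u w : ι → F) (hu : Q u = 0)
    (huw : polar (⇑Q) u w = 0) : Matrix.GeneralLinearGroup ι F :=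
  ⟨eichlerMatrix Q u w, eichlerMatrix Q u (-w),
    by rw [eichlerMatrix_mul Q u w (-w) hu huw (by rw [QuadraticMap.polar_neg_right, huw, neg_zero]),
      add_neg_cancel, eichlerMatrix_zero],
    by rw [eichlerMatrix_mul Q u (-w) w hu (by rw [QuadraticMap.polar_neg_right, huw, neg_zero]) huw,
      neg_add_cancel, eichlerMatrix_zero]⟩

/-- `E(u, w)` as an element of the isometry group. -/
def eichlerIso (Q : QuadraticForm F (ι → F)) (u w : ι → F) (hu : Q u = 0)
    (huw : polar (⇑Q) u w = 0) : Cfsg.isometryGroup F (⇑Q) :=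
  ⟨eichlerGL Q u w hu huw,
    (mem_isometryGroup_iff _ _).2 fun x => eichlerMatrix_isometry Q u w hu huw x⟩

@[simp] theorem coe_eichlerIso (Q : QuadraticForm F (ι → F)) (u w : ι → F) (hu : Q u = 0)
    (huw : polar (⇑Q) u w = 0) :
    ((eichlerIso Q u w hu huw : Matrix.GeneralLinearGroup ι F) : Matrix ι ι F)
      = eichlerMatrix Q u w := rfl

theorem eichlerIso_mul (Q : QuadraticForm F (ι → F)) (u w w' : ι → F) (hu : Q u = 0)
    (huw : polar (⇑Q) u w = 0) (huw' : polar (⇑Q) u w' = 0) :
    eichlerIso Q u w hu huw * eichlerIso Q u w' hu huw'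
      = eichlerIso Q u (w + w') hu (by rw [QuadraticMap.polar_add_right, huw, huw', add_zero]) := by
  apply Subtype.ext
  apply Units.ext
  exact eichlerMatrix_mul Q u w w' hu huw huw'

theorem eichlerIso_zero (Q : QuadraticForm F (ι → F)) (u : ι → F) (hu : Q u = 0) :
    eichlerIso Q u 0 hu (QuadraticMap.polar_zero_right _ _) = 1 := by
  apply Subtype.ext
  apply Units.ext
  exact eichlerMatrix_zero Q u

theorem eichlerIso_inv (Q : QuadraticForm F (ι → F)) (u w : ι → F) (hu : Q u = 0)
    (huw : polar (⇑Q) u w = 0) :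
    (eichlerIso Q u w hu huw)⁻¹
      = eichlerIso Q u (-w) hu (by rw [QuadraticMap.polar_neg_right, huw, neg_zero]) := by
  apply Subtype.ext
  apply Units.ext
  rfl

/-- `E(u, w) = E(u, w')` when `w' = w + a u`. -/
theorem eichlerMatrix_add_smul (Q : QuadraticForm F (ι → F)) (u w : ι → F) (a : F) (hu : Q u = 0)
    (huw : polar (⇑Q) u w = 0) : eichlerMatrix Q u (w + a • u) = eichlerMatrix Q u w := by
  apply Matrix.mulVec_injective
  funext x
  have hwu : polar (⇑Q) w u = 0 := by rw [polar_comm]; exact huw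
  rw [eichlerMatrix_mulVec, eichlerMatrix_mulVec, map_add', QuadraticMap.map_smul, hu,
    QuadraticMap.polar_add_left, QuadraticMap.polar_smul_left, QuadraticMap.polar_smul_right, hwu]
  ext i
  simp only [Pi.add_apply, Pi.sub_apply, Pi.smul_apply, smul_eq_mul]
  ring

/-- Siegel transformations of the Prelude are Eichler transformations. -/
theorem siegelMatrix_eq (Q : QuadraticForm F (ι → F)) (u v : ι → F) (c : F) (hv : Q v = 0) :
    Cfsg.siegelMatrix (⇑Q) u v c = eichlerMatrix Q u (c • v) := by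
  apply Matrix.mulVec_injective
  funext x
  rw [siegelMatrix_mulVec, eichlerMatrix_mulVec, QuadraticMap.map_smul, hv,
    QuadraticMap.polar_smul_left]
  ext i
  simp only [Pi.add_apply, Pi.sub_apply, Pi.smul_apply, smul_eq_mul]
  ring

/-- Conjugating an Eichler transformation by an isometry. -/
theorem conj_eichlerIso (Q : QuadraticForm F (ι → F)) (u w : ι → F) (hu : Q u = 0)
    (huw : polar (⇑Q) u w = 0) (g : Cfsg.isometryGroup F (⇑Q))
    (hu' : Q (((g : Matrix.GeneralLinearGroup ι F) : Matrix ι ι F) *ᵥ u) = 0)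
    (huw' : polar (⇑Q) (((g : Matrix.GeneralLinearGroup ι F) : Matrix ι ι F) *ᵥ u)
      (((g : Matrix.GeneralLinearGroup ι F) : Matrix ι ι F) *ᵥ w) = 0) :
    g * eichlerIso Q u w hu huw * g⁻¹
      = eichlerIso Q (((g : Matrix.GeneralLinearGroup ι F) : Matrix ι ι F) *ᵥ u)
        (((g : Matrix.GeneralLinearGroup ι F) : Matrix ι ι F) *ᵥ w) hu' huw' := by
  rw [mul_inv_eq_iff_eq_mul]
  have hg := (mem_isometryGroup_iff _ _).1 g.2
  apply isometryGroup_ext
  intro x
  rw [coe_mul_mulVec, coe_mul_mulVec, coe_eichlerIso, coe_eichlerIso, eichlerMatrix_mulVec,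
    eichlerMatrix_mulVec, Matrix.mulVec_add, Matrix.mulVec_sub, Matrix.mulVec_sub,
    Matrix.mulVec_smul, Matrix.mulVec_smul, Matrix.mulVec_smul,
    polar_mulVec_of_isometry Q _ hg, polar_mulVec_of_isometry Q _ hg, hg]

/-- The commutator of `E(u, w)` and `E(v, z)` for `w, z` orthogonal to `u, v` is the Siegel transformation
attached to `u, v` and the scalar `f(w, z)`. -/
theorem commutator_eichlerIso (Q : QuadraticForm F (ι → F)) (u v w z : ι → F) (hu : Q u = 0)
    (hv : Q v = 0) (huv : polar (⇑Q) u v = 0) (huw : polar (⇑Q) u w = 0)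
    (huz : polar (⇑Q) u z = 0) (hvw : polar (⇑Q) v w = 0) (hvz : polar (⇑Q) v z = 0) :
    ⁅eichlerIso Q u w hu huw, eichlerIso Q v z hv hvz⁆
      = eichlerIso Q u (polar (⇑Q) w z • v) hu
        (by rw [QuadraticMap.polar_smul_right, huv, smul_zero]) := by
  rw [commutatorElement_def, mul_assoc, mul_assoc, ← mul_assoc (eichlerIso Q v z hv hvz),
    eichlerIso_inv Q u w hu huw]
  have hvu : polar (⇑Q) v u = 0 := by rw [polar_comm]; exact huv
  have hzu : polar (⇑Q) z u = 0 := by rw [polar_comm]; exact huz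
  have e1 : eichlerMatrix Q v z *ᵥ u = u := by
    rw [eichlerMatrix_mulVec, hvu, hzu]; simp
  have e2 : eichlerMatrix Q v z *ᵥ (-w) = -w + polar (⇑Q) w z • v := by
    rw [eichlerMatrix_mulVec, QuadraticMap.polar_neg_right, hvw, QuadraticMap.polar_neg_right,
      polar_comm (⇑Q) z w]
    simp
  have e3 : polar (⇑Q) u (eichlerMatrix Q v z *ᵥ (-w)) = 0 := by
    rw [e2, QuadraticMap.polar_add_right, QuadraticMap.polar_neg_right, huw,
      QuadraticMap.polar_smul_right, huv, neg_zero, smul_zero, add_zero]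
  have e4 : eichlerIso Q v z hv hvz * eichlerIso Q u (-w) hu
      (by rw [QuadraticMap.polar_neg_right, huw, neg_zero]) * (eichlerIso Q v z hv hvz)⁻¹
      = eichlerIso Q u (eichlerMatrix Q v z *ᵥ (-w)) hu e3 := by
    rw [conj_eichlerIso Q u (-w) hu _ (eichlerIso Q v z hv hvz)
      (by rw [coe_eichlerIso, e1]; exact hu) (by rw [coe_eichlerIso, e1]; exact e3)]
    apply Subtype.ext
    apply Units.ext
    rw [coe_eichlerIso, coe_eichlerIso, coe_eichlerIso, e1]
  rw [e4, eichlerIso_mul]
  apply Subtype.ext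
  apply Units.ext
  rw [coe_eichlerIso, coe_eichlerIso, e2]
  congr 1
  abel

/-- In dimension at least 5 with non-degenerate polar form: for any two vectors `u, v` and any scalar `c` there are
`w, z` orthogonal to `u, v` with `f(w, z) = c`. -/
theorem exists_polar_eq (Q : QuadraticForm F (ι → F)) (hQ : (polarBilin Q).Nondegenerate)
    (hn : 5 ≤ Fintype.card ι) (u v : ι → F) (c : F) :
    ∃ w z : ι → F, polar (⇑Q) u w = 0 ∧ polar (⇑Q) u z = 0 ∧ polar (⇑Q) v w = 0 ∧
      polar (⇑Q) v z = 0 ∧ polar (⇑Q) w z = c := by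
  classical
  have key : ∃ w z : ι → F, polar (⇑Q) u w = 0 ∧ polar (⇑Q) u z = 0 ∧ polar (⇑Q) v w = 0 ∧
      polar (⇑Q) v z = 0 ∧ polar (⇑Q) w z ≠ 0 := by
    by_contra hcon
    push Not at hcon
    set L : Fin 2 → ((ι → F) →ₗ[F] F) := ![polarBilin Q u, polarBilin Q v] with hL
    set Φ : (ι → F) →ₗ[F] (Fin 2 → F) := LinearMap.pi L with hΦ
    have hmem : ∀ w : ι → F, w ∈ LinearMap.ker Φ ↔ polar (⇑Q) u w = 0 ∧ polar (⇑Q) v w = 0 := by
      intro w
      rw [LinearMap.mem_ker, funext_iff, Fin.forall_fin_two]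
      simp [hΦ, hL, LinearMap.pi_apply]
    have hrank : Fintype.card ι ≤ 2 + Module.finrank F (LinearMap.ker Φ) := by
      have h1 := LinearMap.finrank_range_add_finrank_ker Φ
      rw [Module.finrank_fintype_fun_eq_card] at h1
      have h2 : Module.finrank F (LinearMap.range Φ) ≤ 2 := by
        have := Submodule.finrank_le (LinearMap.range Φ)
        rwa [Module.finrank_fintype_fun_eq_card, Fintype.card_fin] at this
      omega
    -- the polar map sends the kernel into the span of two functionals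
    have hspan : ∀ w ∈ LinearMap.ker Φ, polarBilin Q w ∈ Submodule.span F (Set.range L) := by
      intro w hw
      apply mem_span_of_iInf_ker_le_ker
      intro z hz
      rw [Submodule.mem_iInf] at hz
      have hz' : z ∈ LinearMap.ker Φ := by
        rw [hmem]
        exact ⟨by simpa [hL] using hz 0, by simpa [hL] using hz 1⟩
      rw [hmem] at hw hz'
      rw [LinearMap.mem_ker]
      exact hcon w z hw.1 hz'.1 hw.2 hz'.2
    have hinj : Function.Injective (polarBilin Q) := by
      rw [← LinearMap.ker_eq_bot, ← LinearMap.separatingLeft_iff_ker_eq_bot]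
      exact hQ.1
    have hle : Submodule.map (polarBilin Q) (LinearMap.ker Φ) ≤ Submodule.span F (Set.range L) := by
      rintro _ ⟨w, hw, rfl⟩
      exact hspan w hw
    have h3 : Module.finrank F (LinearMap.ker Φ) ≤ 2 := by
      rw [← (Submodule.equivMapOfInjective _ hinj (LinearMap.ker Φ)).finrank_eq.symm]
      refine (Submodule.finrank_mono hle).trans ?_
      have := finrank_range_le_card (R := F) L
      rwa [Fintype.card_fin] at this
    omega
  obtain ⟨w, z, h1, h2, h3, h4, h5⟩ := key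
  refine ⟨(c / polar (⇑Q) w z) • w, z, ?_, h2, ?_, h4, ?_⟩
  · rw [QuadraticMap.polar_smul_right, h1, smul_zero]
  · rw [QuadraticMap.polar_smul_right, h3, smul_zero]
  · rw [QuadraticMap.polar_smul_left, smul_eq_mul, div_mul_cancel₀ _ h5]

/-- In dimension at least 5 every Siegel transformation of a non-degenerate form is a commutator of two isometries
(any field, any characteristic). -/
theorem siegel_mem_commutatorSet (Q : QuadraticForm F (ι → F)) (hQ : (polarBilin Q).Nondegenerate)
    (hn : 5 ≤ Fintype.card ι) (u v : ι → F) (hu : Q u = 0) (hv : Q v = 0)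
    (huv : polar (⇑Q) u v = 0) (c : F) (g : Cfsg.isometryGroup F (⇑Q))
    (hg : ((g : Matrix.GeneralLinearGroup ι F) : Matrix ι ι F) = Cfsg.siegelMatrix (⇑Q) u v c) :
    g ∈ commutatorSet (Cfsg.isometryGroup F (⇑Q)) := by
  obtain ⟨w, z, huw, huz, hvw, hvz, hwz⟩ := exists_polar_eq Q hQ hn u v c
  refine ⟨eichlerIso Q u w hu huw, eichlerIso Q v z hv hvz, ?_⟩
  rw [commutator_eichlerIso Q u v w z hu hv huv huw huz hvw hvz]
  apply Subtype.ext
  apply Units.ext
  rw [coe_eichlerIso, hg, siegelMatrix_eq Q u v c hv, hwz]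

end Cfsg.Agent.ClassicalGeometry.Eichler
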