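import Mathlib

/-!
# The fundamental theorem of projective geometry

A bijection between the point sets of two projective spaces of (linear) dimension at least three which
preserves the relation "`r` is on the line `pq`" is induced by a semilinear bijection, which is unique up to
scalars.
-/

set_option autoImplicit false

namespace Cfsg.Agent.ClassicalGeometry.FTPG

open scoped LinearAlgebra.Projectivization
open Projectivization

variable {F K V W : Type*} [Field F] [Field K] [AddCommGroup V] [Module F V] [AddCommGroup W] [Module K W]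

/-- Linear independence of a pair, unfolded. -/
def Ind2 (F : Type*) {V : Type*} [Field F] [AddCommGroup V] [Module F V] (x y : V) : Prop :=
  ∀ a b : F, a • x + b • y = 0 → a = 0 ∧ b = 0

/-- Linear independence of a triple, unfolded. -/
def Ind3 (F : Type*) {V : Type*} [Field F] [AddCommGroup V] [Module F V] (x y z : V) : Prop :=
  ∀ a b c : F, a • x + b • y + c • z = 0 → a = 0 ∧ b = 0 ∧ c = 0

theorem Ind2.symm {x y : V} (h : Ind2 F x y) : Ind2 F y x := fun a b hab => by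
  have := h b a (by rw [← hab]; abel)
  exact ⟨this.2, this.1⟩

theorem Ind2.ne_zero_left {x y : V} (h : Ind2 F x y) : x ≠ 0 := by
  rintro rfl
  exact one_ne_zero (h 1 0 (by simp)).1

theorem Ind2.ne_zero_right {x y : V} (h : Ind2 F x y) : y ≠ 0 := h.symm.ne_zero_left

theorem Ind3.ind2_12 {x y z : V} (h : Ind3 F x y z) : Ind2 F x y := fun a b hab => by
  have := h a b 0 (by rw [← hab]; simp)
  exact ⟨this.1, this.2.1⟩

theorem Ind3.ind2_13 {x y z : V} (h : Ind3 F x y z) : Ind2 F x z := fun a b hab => by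
  have := h a 0 b (by rw [← hab]; simp)
  exact ⟨this.1, this.2.2⟩

theorem Ind3.ind2_23 {x y z : V} (h : Ind3 F x y z) : Ind2 F y z := fun a b hab => by
  have := h 0 a b (by rw [← hab]; simp)
  exact ⟨this.2.1, this.2.2⟩

theorem ind2_of_not_mem {x y : V} (hx : x ≠ 0) (h : y ∉ Submodule.span F {x}) : Ind2 F x y := by
  intro a b hab
  have hb : b = 0 := by
    by_contra hb
    apply h
    rw [Submodule.mem_span_singleton]
    refine ⟨-(b⁻¹ * a), ?_⟩
    have h2 : b • y = -(a • x) := by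
      rw [eq_neg_iff_add_eq_zero, add_comm]; exact hab
    calc (-(b⁻¹ * a)) • x = b⁻¹ • (-(a • x)) := by rw [smul_neg, smul_smul, neg_smul]
      _ = y := by rw [← h2, smul_smul, inv_mul_cancel₀ hb, one_smul]
  subst hb
  rw [zero_smul, add_zero, smul_eq_zero] at hab
  exact ⟨hab.resolve_right hx, rfl⟩

theorem not_ind2_exists {x y : V} (hx : x ≠ 0) (h : ¬ Ind2 F x y) : ∃ t : F, y = t • x := by
  by_contra hcon
  apply h
  apply ind2_of_not_mem hx
  rw [Submodule.mem_span_singleton]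
  rintro ⟨t, ht⟩
  exact hcon ⟨t, ht.symm⟩

/-- A choice of representative vectors of a collineation. -/
structure Rep (F K : Type*) {V W : Type*} [Field F] [Field K] [AddCommGroup V] [Module F V] [AddCommGroup W]
    [Module K W] (φ : V → W) : Prop where
  ne_zero : ∀ v, v ≠ 0 → φ v ≠ 0
  span2 : ∀ v x y, v ≠ 0 → x ≠ 0 → y ≠ 0 →
    ((∃ a b : F, a • x + b • y = v) ↔ (∃ a b : K, a • φ x + b • φ y = φ v))
  surj : ∀ w : W, w ≠ 0 → ∃ v : V, v ≠ 0 ∧ ∃ c : K, w = c • φ v

namespace Rep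

variable {φ : V → W} (hφ : Rep F K φ)

include hφ

theorem span1 {v x : V} (hv : v ≠ 0) (hx : x ≠ 0) : (∃ a : F, a • x = v) ↔ (∃ a : K, a • φ x = φ v) := by
  have := hφ.span2 v x x hv hx hx
  constructor
  · rintro ⟨a, ha⟩
    obtain ⟨b, c, hbc⟩ := this.1 ⟨a, 0, by simpa using ha⟩
    exact ⟨b + c, by rw [add_smul]; exact hbc⟩
  · rintro ⟨a, ha⟩
    obtain ⟨b, c, hbc⟩ := this.2 ⟨a, 0, by simpa using ha⟩
    exact ⟨b + c, by rw [add_smul]; exact hbc⟩

theorem ind2 {x y : V} (h : Ind2 F x y) : Ind2 K (φ x) (φ y) := by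
  intro a b hab
  have hx := h.ne_zero_left
  have hy := h.ne_zero_right
  have hb : b = 0 := by
    by_contra hb
    have : ∃ c : K, c • φ x = φ y := by
      refine ⟨-(b⁻¹ * a), ?_⟩
      have h2 : b • φ y = -(a • φ x) := by
        rw [eq_neg_iff_add_eq_zero, add_comm]; exact hab
      calc (-(b⁻¹ * a)) • φ x = b⁻¹ • (-(a • φ x)) := by rw [smul_neg, smul_smul, neg_smul]
        _ = φ y := by rw [← h2, smul_smul, inv_mul_cancel₀ hb, one_smul]
    obtain ⟨c, hc⟩ := (hφ.span1 hy hx).2 this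
    have := h c (-1) (by rw [hc]; simp)
    exact one_ne_zero (neg_eq_zero.1 this.2)
  subst hb
  rw [zero_smul, add_zero, smul_eq_zero] at hab
  exact ⟨hab.resolve_right (hφ.ne_zero x hx), rfl⟩

theorem ind3 {x y z : V} (h : Ind3 F x y z) : Ind3 K (φ x) (φ y) (φ z) := by
  intro a b c hab
  have hx := h.ind2_12.ne_zero_left
  have hy := h.ind2_12.ne_zero_right
  have hz := h.ind2_13.ne_zero_right
  have hc : c = 0 := by
    by_contra hc
    have : ∃ s t : K, s • φ x + t • φ y = φ z := by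
      refine ⟨-(c⁻¹ * a), -(c⁻¹ * b), ?_⟩
      have h2 : c • φ z = -(a • φ x + b • φ y) := by
        rw [eq_neg_iff_add_eq_zero, add_comm]; exact hab
      calc (-(c⁻¹ * a)) • φ x + (-(c⁻¹ * b)) • φ y = c⁻¹ • (-(a • φ x + b • φ y)) := by
            rw [smul_neg, smul_add, smul_smul, smul_smul, neg_smul, neg_smul]; abel
        _ = φ z := by rw [← h2, smul_smul, inv_mul_cancel₀ hc, one_smul]
    obtain ⟨s, t, hst⟩ := (hφ.span2 z x y hz hx hy).2 this
    have := h s t (-1) (by rw [hst]; simp)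
    exact one_ne_zero (neg_eq_zero.1 this.2.2)
  subst hc
  rw [zero_smul, add_zero] at hab
  have := hφ.ind2 h.ind2_12 a b hab
  exact ⟨this.1, this.2, rfl⟩

/-- The normalised image `w` of a vector `x` relative to the base vector `e`. -/
def Spec (K : Type*) {V W : Type*} [Field K] [AddCommGroup V] [AddCommGroup W]
    [Module K W] (φ : V → W) (e x : V) (w : W) : Prop :=
  (∃ a : K, w = a • φ x) ∧ (∃ b : K, w + φ e = b • φ (x + e))

theorem ind2_add {x e : V} (h : Ind2 F x e) : Ind2 F x (x + e) := by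
  intro a b hab
  have := h (a + b) b (by rw [← hab]; rw [add_smul, smul_add]; abel)
  exact ⟨by simpa [this.2] using this.1, this.2⟩

theorem exists_spec {e x : V} (h : Ind2 F x e) : ∃ w, Spec K φ e x w := by
  have hx := h.ne_zero_left
  have he := h.ne_zero_right
  have hxe : x + e ≠ 0 := (ind2_add hφ h).ne_zero_right
  obtain ⟨a, b, hab⟩ := (hφ.span2 (x + e) x e hxe hx he).1 ⟨1, 1, by simp⟩
  have hb : b ≠ 0 := by
    rintro rfl
    obtain ⟨c, hc⟩ := (hφ.span1 hxe hx).2 ⟨a, by simpa using hab⟩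
    have := h (c - 1) (-1) (by rw [sub_smul, hc]; simp)
    exact one_ne_zero (neg_eq_zero.1 this.2)
  refine ⟨(b⁻¹ * a) • φ x, ⟨_, rfl⟩, b⁻¹, ?_⟩
  rw [← hab, smul_add, smul_smul, smul_smul, inv_mul_cancel₀ hb, one_smul]

theorem unique_spec {e x : V} (h : Ind2 F x e) {w w' : W} (hw : Spec K φ e x w) (hw' : Spec K φ e x w') :
    w = w' := by
  obtain ⟨⟨a, ha⟩, b, hb⟩ := hw
  obtain ⟨⟨a', ha'⟩, b', hb'⟩ := hw'
  have h2 := hφ.ind2 (ind2_add hφ h)
  have h3 : (a - a') • φ x + (b' - b) • φ (x + e) = 0 := by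
    rw [sub_smul, sub_smul, ← ha, ← ha', ← hb, ← hb']; abel
  have := (h2 _ _ h3).1
  rw [ha, ha', sub_eq_zero.1 this]

theorem spec_ne_zero {e x : V} (h : Ind2 F x e) {w : W} (hw : Spec K φ e x w) : w ≠ 0 := by
  rintro rfl
  obtain ⟨-, b, hb⟩ := hw
  have he := h.ne_zero_right
  have hxe : x + e ≠ 0 := (ind2_add hφ h).ne_zero_right
  have h2 : Ind2 F e (x + e) := by
    rw [add_comm]; exact ind2_add hφ h.symm
  have := (hφ.ind2 h2) 1 (-b) (by rw [neg_smul, ← hb]; simp)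
  exact one_ne_zero this.1

theorem spec_add_ne_zero {e x : V} (h : Ind2 F x e) {w : W} (hw : Spec K φ e x w) : w + φ e ≠ 0 := by
  intro h0
  obtain ⟨⟨a, ha⟩, -⟩ := hw
  have := (hφ.ind2 h) a 1 (by rw [← ha, one_smul, h0])
  exact one_ne_zero this.2

theorem spec_add {e x y : V} (h : Ind3 F x y e) {wx wy : W} (hx : Spec K φ e x wx) (hy : Spec K φ e y wy) :
    Spec K φ e (x + y) (wx + wy) := by
  have nx := h.ind2_12.ne_zero_left
  have ny := h.ind2_12.ne_zero_right
  have ne := h.ind2_13.ne_zero_right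
  have nxe : x + e ≠ 0 := (ind2_add hφ h.ind2_13).ne_zero_right
  have nye : y + e ≠ 0 := (ind2_add hφ h.ind2_23).ne_zero_right
  have nxy : x + y ≠ 0 := (ind2_add hφ h.ind2_12).ne_zero_right
  have nxye : x + y + e ≠ 0 := by
    intro h0
    exact one_ne_zero (h 1 1 1 (by simpa using h0)).1
  have hwx : wx ≠ 0 := hφ.spec_ne_zero h.ind2_13 hx
  have hwy : wy ≠ 0 := hφ.spec_ne_zero h.ind2_23 hy
  have hwxe : wx + φ e ≠ 0 := hφ.spec_add_ne_zero h.ind2_13 hx
  have hwye : wy + φ e ≠ 0 := hφ.spec_add_ne_zero h.ind2_23 hy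
  obtain ⟨⟨a, ha⟩, b, hb⟩ := hx
  obtain ⟨⟨a', ha'⟩, b', hb'⟩ := hy
  have a0 : a ≠ 0 := by rintro rfl; exact hwx (by simpa using ha)
  have a0' : a' ≠ 0 := by rintro rfl; exact hwy (by simpa using ha')
  have b0 : b ≠ 0 := by rintro rfl; exact hwxe (by simpa using hb)
  have b0' : b' ≠ 0 := by rintro rfl; exact hwye (by simpa using hb')
  -- independence of `wx, wy, φ e`
  have hind : Ind3 K wx wy (φ e) := by
    intro s t u hstu
    rw [ha, ha', smul_smul, smul_smul] at hstu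
    have := (hφ.ind3 h) _ _ _ hstu
    exact ⟨(mul_eq_zero.1 this.1).resolve_right a0, (mul_eq_zero.1 this.2.1).resolve_right a0', this.2.2⟩
  obtain ⟨s, t, hst⟩ := (hφ.span2 (x + y + e) (x + e) y nxye nxe ny).1 ⟨1, 1, by simp; abel⟩
  obtain ⟨u, v, huv⟩ := (hφ.span2 (x + y + e) x (y + e) nxye nx nye).1 ⟨1, 1, by simp; abel⟩
  have e1 : φ (x + e) = b⁻¹ • (wx + φ e) := by rw [hb, smul_smul, inv_mul_cancel₀ b0, one_smul]
  have e2 : φ y = a'⁻¹ • wy := by rw [ha', smul_smul, inv_mul_cancel₀ a0', one_smul]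
  have e3 : φ x = a⁻¹ • wx := by rw [ha, smul_smul, inv_mul_cancel₀ a0, one_smul]
  have e4 : φ (y + e) = b'⁻¹ • (wy + φ e) := by rw [hb', smul_smul, inv_mul_cancel₀ b0', one_smul]
  rw [e1, e2] at hst
  rw [e3, e4] at huv
  have h5 := hind (s * b⁻¹ - u * a⁻¹) (t * a'⁻¹ - v * b'⁻¹) (s * b⁻¹ - v * b'⁻¹) (by
    have : s • b⁻¹ • (wx + φ e) + t • a'⁻¹ • wy - (u • a⁻¹ • wx + v • b'⁻¹ • (wy + φ e)) = 0 := by
      rw [hst, huv, sub_self]
    rw [← this]
    module)
  have h6 : φ (x + y + e) = (s * b⁻¹) • (wx + wy + φ e) := by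
    have h7 : t * a'⁻¹ = s * b⁻¹ := by
      rw [sub_eq_zero.1 h5.2.1, ← sub_eq_zero.1 h5.2.2]
    rw [← hst, smul_smul, smul_smul, h7]
    module
  have h8 : s * b⁻¹ ≠ 0 := by
    intro h0
    rw [h0, zero_smul] at h6
    exact hφ.ne_zero _ nxye h6
  refine ⟨?_, ⟨(s * b⁻¹)⁻¹, by rw [h6, smul_smul, inv_mul_cancel₀ h8, one_smul]⟩⟩
  -- the point `x + y`
  obtain ⟨k, l, hkl⟩ := (hφ.span2 (x + y) x y nxy nx ny).1 ⟨1, 1, by simp⟩
  obtain ⟨m, n, hmn⟩ := (hφ.span2 (x + y) (x + y + e) e nxy nxye ne).1 ⟨1, -1, by simp⟩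
  rw [e3, e2] at hkl
  rw [h6] at hmn
  have h9 := hind (k * a⁻¹ - m * (s * b⁻¹)) (l * a'⁻¹ - m * (s * b⁻¹)) (-(m * (s * b⁻¹)) - n) (by
    have : k • a⁻¹ • wx + l • a'⁻¹ • wy - (m • (s * b⁻¹) • (wx + wy + φ e) + n • φ e) = 0 := by
      rw [hkl, hmn, sub_self]
    rw [← this]
    module)
  have h10 : φ (x + y) = (m * (s * b⁻¹)) • (wx + wy) := by
    rw [← hkl, smul_smul, smul_smul, sub_eq_zero.1 h9.1, sub_eq_zero.1 h9.2.1, ← smul_add]
  have h11 : m * (s * b⁻¹) ≠ 0 := by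
    intro h0
    rw [h0, zero_smul] at h10
    exact hφ.ne_zero _ nxy h10
  exact ⟨(m * (s * b⁻¹))⁻¹, by rw [h10, smul_smul, inv_mul_cancel₀ h11, one_smul]⟩

theorem exists_semilinear (hdim : ∀ x y : V, ∃ v : V, v ∉ Submodule.span F {x, y}) :
    ∃ (σ : F ≃+* K) (g : V ≃+ W), (∀ (a : F) (v : V), g (a • v) = σ a • g v) ∧
      ∀ v : V, v ≠ 0 → ∃ c : K, c ≠ 0 ∧ φ v = c • g v := by
  classical
  obtain ⟨e, he⟩ : ∃ e : V, e ≠ 0 := by
    obtain ⟨v, hv⟩ := hdim 0 0
    refine ⟨v, ?_⟩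
    rintro rfl
    exact hv (Submodule.zero_mem _)
  obtain ⟨l, hl⟩ : ∃ l : V →ₗ[F] F, l e = 1 := by
    obtain ⟨f, hf⟩ : ∃ f : Module.Dual F V, f e ≠ 0 := by
      by_contra hcon
      push Not at hcon
      exact he ((Module.forall_dual_apply_eq_zero_iff F e).1 hcon)
    exact ⟨(f e)⁻¹ • f, by simp [hf]⟩
  have he' := hφ.ne_zero e he
  have indH : ∀ h : V, l h = 0 → h ≠ 0 → Ind2 F h e := by
    intro h hh h0 a b hab
    have : b = 0 := by
      have := congrArg l hab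
      simpa [hh, hl] using this
    subst this
    rw [zero_smul, add_zero, smul_eq_zero] at hab
    exact ⟨hab.resolve_right h0, rfl⟩
  have ind3H : ∀ h1 h2 : V, l h1 = 0 → l h2 = 0 → Ind2 F h1 h2 → Ind3 F h1 h2 e := by
    intro h1 h2 hh1 hh2 h12 a b c hab
    have hc : c = 0 := by
      have := congrArg l hab
      simpa [hh1, hh2, hl] using this
    subst hc
    rw [zero_smul, add_zero] at hab
    exact ⟨(h12 _ _ hab).1, (h12 _ _ hab).2, rfl⟩
  have third : ∀ h : V, l h = 0 → h ≠ 0 → ∃ h3 : V, l h3 = 0 ∧ Ind2 F h h3 := by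
    intro h hh h0
    obtain ⟨v, hv⟩ := hdim h e
    refine ⟨v - l v • e, by simp [hl], ?_⟩
    apply ind2_of_not_mem h0
    intro hmem
    apply hv
    obtain ⟨a, ha⟩ := Submodule.mem_span_singleton.1 hmem
    rw [Submodule.mem_span_pair]
    exact ⟨a, l v, by rw [ha]; abel⟩
  obtain ⟨g0, g0_spec, g0_zero⟩ : ∃ g0 : V → W, (∀ h, l h = 0 → h ≠ 0 → Spec K φ e h (g0 h)) ∧ g0 0 = 0 := by
    refine ⟨fun h => if hh : l h = 0 ∧ h ≠ 0 then (hφ.exists_spec (indH h hh.1 hh.2)).choose else 0, ?_, ?_⟩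
    · intro h hh h0
      have : l h = 0 ∧ h ≠ 0 := ⟨hh, h0⟩
      simp only [dif_pos this]
      exact (hφ.exists_spec (indH h hh h0)).choose_spec
    · simp
  have g0_ne : ∀ h, l h = 0 → h ≠ 0 → g0 h ≠ 0 := fun h hh h0 =>
    hφ.spec_ne_zero (indH h hh h0) (g0_spec h hh h0)
  have g0_phi : ∀ h, l h = 0 → h ≠ 0 → ∃ c : K, c ≠ 0 ∧ g0 h = c • φ h := by
    intro h hh h0
    obtain ⟨⟨a, ha⟩, -⟩ := g0_spec h hh h0
    refine ⟨a, ?_, ha⟩
    rintro rfl
    exact g0_ne h hh h0 (by simpa using ha)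
  have g0_ind2 : ∀ h1 h2, l h1 = 0 → l h2 = 0 → Ind2 F h1 h2 → Ind2 K (g0 h1) (g0 h2) := by
    intro h1 h2 hh1 hh2 h12 a b hab
    obtain ⟨c, hc, hc'⟩ := g0_phi h1 hh1 h12.ne_zero_left
    obtain ⟨d, hd, hd'⟩ := g0_phi h2 hh2 h12.ne_zero_right
    rw [hc', hd', smul_smul, smul_smul] at hab
    have := hφ.ind2 h12 _ _ hab
    exact ⟨(mul_eq_zero.1 this.1).resolve_right hc, (mul_eq_zero.1 this.2).resolve_right hd⟩
  have add2 : ∀ h1 h2 : V, l h1 = 0 → l h2 = 0 → Ind2 F h1 h2 → g0 (h1 + h2) = g0 h1 + g0 h2 := by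
    intro h1 h2 hh1 hh2 h12
    have h0 : h1 + h2 ≠ 0 := (ind2_add hφ h12).ne_zero_right
    have hl0 : l (h1 + h2) = 0 := by simp [hh1, hh2]
    exact hφ.unique_spec (indH _ hl0 h0) (g0_spec _ hl0 h0)
      (hφ.spec_add (ind3H _ _ hh1 hh2 h12) (g0_spec _ hh1 h12.ne_zero_left) (g0_spec _ hh2 h12.ne_zero_right))
  have hadd : ∀ h1 h2 : V, l h1 = 0 → l h2 = 0 → g0 (h1 + h2) = g0 h1 + g0 h2 := by
    intro h1 h2 hh1 hh2
    by_cases h10 : h1 = 0
    · subst h10; simp [g0_zero]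
    by_cases h20 : h2 = 0
    · subst h20; simp [g0_zero]
    by_cases h12 : Ind2 F h1 h2
    · exact add2 h1 h2 hh1 hh2 h12
    obtain ⟨t, rfl⟩ := not_ind2_exists h10 h12
    have ht : t ≠ 0 := by rintro rfl; exact h20 (zero_smul _ _)
    obtain ⟨h3, hh3, h13⟩ := third h1 hh1 h10
    have i23 : Ind2 F (t • h1) h3 := by
      intro a b hab
      rw [smul_smul] at hab
      have := h13 _ _ hab
      exact ⟨(mul_eq_zero.1 this.1).resolve_right ht, this.2⟩
    have i1_23 : Ind2 F h1 (t • h1 + h3) := by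
      intro a b hab
      have := h13 (a + b * t) b (by rw [← hab]; module)
      exact ⟨by simpa [this.2] using this.1, this.2⟩
    have l23 : l (t • h1 + h3) = 0 := by simp [hh1, hh3]
    have e1 : g0 (h1 + (t • h1 + h3)) = g0 h1 + (g0 (t • h1) + g0 h3) := by
      rw [add2 _ _ hh1 l23 i1_23, add2 _ _ hh2 hh3 i23]
    by_cases hs : h1 + t • h1 = 0
    · rw [hs, g0_zero]
      rw [← add_assoc, hs, zero_add, ← add_assoc] at e1
      have : g0 h1 + g0 (t • h1) + g0 h3 = 0 + g0 h3 := by rw [← e1, zero_add]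
      exact (add_right_cancel this).symm
    · have i12_3 : Ind2 F (h1 + t • h1) h3 := by
        have h1t : (1 + t) ≠ 0 := by
          intro h0
          apply hs
          have : h1 + t • h1 = (1 + t) • h1 := by rw [add_smul, one_smul]
          rw [this, h0, zero_smul]
        intro a b hab
        have := h13 (a * (1 + t)) b (by rw [← hab]; module)
        exact ⟨(mul_eq_zero.1 this.1).resolve_right h1t, this.2⟩
      have l12 : l (h1 + t • h1) = 0 := by simp [hh1]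
      rw [← add_assoc, add2 _ _ l12 hh3 i12_3, ← add_assoc] at e1
      exact add_right_cancel e1
  have smul_ex : ∀ h : V, ∀ t : F, l h = 0 → h ≠ 0 → ∃ s : K, g0 (t • h) = s • g0 h := by
    intro h t hh h0
    by_cases ht : t = 0
    · exact ⟨0, by simp [ht, g0_zero]⟩
    have hth : t • h ≠ 0 := smul_ne_zero ht h0
    obtain ⟨c, hc, hc'⟩ := g0_phi h hh h0
    obtain ⟨d, hd, hd'⟩ := g0_phi (t • h) (by simp [hh]) hth
    obtain ⟨b, hb⟩ := (hφ.span1 hth h0).1 ⟨t, rfl⟩
    refine ⟨d * b * c⁻¹, ?_⟩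
    rw [hd', hc', ← hb, smul_smul, smul_smul, mul_assoc (d * b), inv_mul_cancel₀ hc, mul_one]
  obtain ⟨h0, hh0, h00⟩ : ∃ h : V, l h = 0 ∧ h ≠ 0 := by
    obtain ⟨v, hv⟩ := hdim e e
    refine ⟨v - l v • e, by simp [hl], ?_⟩
    intro h
    apply hv
    rw [Submodule.mem_span_pair]
    exact ⟨l v, 0, by rw [zero_smul, add_zero, ← sub_eq_zero, ← neg_sub, h, neg_zero]⟩
  choose! S hS using smul_ex
  have S_ind : ∀ h1 h2, l h1 = 0 → l h2 = 0 → Ind2 F h1 h2 → ∀ t, S h1 t = S h2 t := by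
    intro h1 h2 hh1 hh2 h12 t
    have hl0 : l (h1 + h2) = 0 := by simp [hh1, hh2]
    have h0 : h1 + h2 ≠ 0 := (ind2_add hφ h12).ne_zero_right
    have e1 : g0 (t • (h1 + h2)) = S (h1 + h2) t • (g0 h1 + g0 h2) := by
      rw [hS _ _ hl0 h0, hadd _ _ hh1 hh2]
    have e2 : g0 (t • (h1 + h2)) = S h1 t • g0 h1 + S h2 t • g0 h2 := by
      rw [smul_add, hadd _ _ (by simp [hh1]) (by simp [hh2]), hS _ _ hh1 h12.ne_zero_left,
        hS _ _ hh2 h12.ne_zero_right]
    have := g0_ind2 _ _ hh1 hh2 h12 (S (h1 + h2) t - S h1 t) (S (h1 + h2) t - S h2 t) (by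
      rw [sub_smul, sub_smul]
      have e3 := e1.symm.trans e2
      rw [smul_add] at e3
      rw [sub_add_sub_comm, e3, sub_self])
    rw [← sub_eq_zero.1 this.1, ← sub_eq_zero.1 this.2]
  have S_all : ∀ h, l h = 0 → h ≠ 0 → ∀ t, S h t = S h0 t := by
    intro h hh hne t
    by_cases hi : Ind2 F h0 h
    · exact (S_ind _ _ hh0 hh hi t).symm
    · obtain ⟨s, rfl⟩ := not_ind2_exists h00 hi
      have hs : s ≠ 0 := by rintro rfl; exact hne (zero_smul _ _)
      obtain ⟨h3, hh3, h13⟩ := third h0 hh0 h00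
      have i23 : Ind2 F (s • h0) h3 := by
        intro a b hab
        rw [smul_smul] at hab
        have := h13 _ _ hab
        exact ⟨(mul_eq_zero.1 this.1).resolve_right hs, this.2⟩
      rw [S_ind _ _ hh hh3 i23, S_ind _ _ hh0 hh3 h13]
  have gsmul : ∀ h, l h = 0 → ∀ t, g0 (t • h) = S h0 t • g0 h := by
    intro h hh t
    by_cases hne : h = 0
    · subst hne; simp [g0_zero]
    · rw [hS _ _ hh hne, S_all h hh hne]
  have gh0 := g0_ne h0 hh0 h00
  have inj : ∀ a b : K, a • g0 h0 = b • g0 h0 → a = b := fun a b hab => by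
    have : (a - b) • g0 h0 = 0 := by rw [sub_smul, hab, sub_self]
    exact sub_eq_zero.1 ((smul_eq_zero.1 this).resolve_right gh0)
  let σ0 : F →+* K :=
    { toFun := S h0
      map_one' := inj _ _ (by rw [← gsmul h0 hh0, one_smul, one_smul])
      map_mul' := fun s t => inj _ _ (by
        rw [← gsmul h0 hh0, ← smul_smul, gsmul _ (by simp [hh0]), gsmul _ hh0, smul_smul])
      map_zero' := inj _ _ (by rw [← gsmul h0 hh0, zero_smul, zero_smul, g0_zero])
      map_add' := fun s t => inj _ _ (by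
        rw [← gsmul h0 hh0, add_smul, hadd _ _ (by simp [hh0]) (by simp [hh0]), gsmul _ hh0, gsmul _ hh0,
          add_smul]) }
  have gsmul' : ∀ h, l h = 0 → ∀ t, g0 (t • h) = σ0 t • g0 h := gsmul
  let G : V → W := fun v => g0 (v - l v • e) + σ0 (l v) • φ e
  have lH : ∀ v, l (v - l v • e) = 0 := fun v => by simp [hl]
  have Gadd : ∀ v w, G (v + w) = G v + G w := by
    intro v w
    have : v + w - l (v + w) • e = (v - l v • e) + (w - l w • e) := by rw [map_add]; module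
    show g0 (v + w - l (v + w) • e) + σ0 (l (v + w)) • φ e = _
    rw [this, hadd _ _ (lH v) (lH w), map_add, map_add]
    show _ = g0 (v - l v • e) + σ0 (l v) • φ e + (g0 (w - l w • e) + σ0 (l w) • φ e)
    module
  have Gsmul : ∀ a v, G (a • v) = σ0 a • G v := by
    intro a v
    have : a • v - l (a • v) • e = a • (v - l v • e) := by rw [map_smul, smul_eq_mul]; module
    show g0 (a • v - l (a • v) • e) + σ0 (l (a • v)) • φ e = _
    rw [this, gsmul' _ (lH v), map_smul, smul_eq_mul, map_mul]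
    show _ = σ0 a • (g0 (v - l v • e) + σ0 (l v) • φ e)
    module
  have σ0ne : ∀ t, t ≠ 0 → σ0 t ≠ 0 := fun t ht => (map_ne_zero σ0).2 ht
  have key : ∀ v, v ≠ 0 → ∃ c : K, c ≠ 0 ∧ φ v = c • G v := by
    intro v hv
    by_cases ht : l v = 0
    · obtain ⟨c, hc, hc'⟩ := g0_phi v ht hv
      refine ⟨c⁻¹, inv_ne_zero hc, ?_⟩
      show φ v = c⁻¹ • (g0 (v - l v • e) + σ0 (l v) • φ e)
      rw [ht, zero_smul, sub_zero, map_zero, zero_smul, add_zero, hc', smul_smul, inv_mul_cancel₀ hc, one_smul]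
    by_cases hh : v - l v • e = 0
    · have hve : v = l v • e := sub_eq_zero.1 hh
      obtain ⟨c, hc⟩ := (hφ.span1 hv he).1 ⟨l v, hve.symm⟩
      have hc0 : c ≠ 0 := by
        rintro rfl
        exact hφ.ne_zero v hv (by rw [← hc, zero_smul])
      refine ⟨c * (σ0 (l v))⁻¹, mul_ne_zero hc0 (inv_ne_zero (σ0ne _ ht)), ?_⟩
      show φ v = (c * (σ0 (l v))⁻¹) • (g0 (v - l v • e) + σ0 (l v) • φ e)
      rw [hh, g0_zero, zero_add, smul_smul, mul_assoc, inv_mul_cancel₀ (σ0ne _ ht), mul_one, hc]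
    · set h := v - l v • e with hdef
      have hlh : l h = 0 := lH v
      have hh' : (l v)⁻¹ • h ≠ 0 := smul_ne_zero (inv_ne_zero ht) hh
      have hlh' : l ((l v)⁻¹ • h) = 0 := by simp [hlh]
      obtain ⟨-, b, hb⟩ := g0_spec _ hlh' hh'
      have hne := hφ.spec_add_ne_zero (indH _ hlh' hh') (g0_spec _ hlh' hh')
      have hb0 : b ≠ 0 := by
        rintro rfl
        exact hne (by simpa using hb)
      have hve : v = l v • ((l v)⁻¹ • h + e) := by
        rw [smul_add, smul_smul, mul_inv_cancel₀ ht, one_smul, hdef]; abel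
      have hhe0 : (l v)⁻¹ • h + e ≠ 0 := by
        intro h0
        rw [h0, smul_zero] at hve
        exact hv hve
      obtain ⟨c, hc⟩ := (hφ.span1 hv hhe0).1 ⟨l v, hve.symm⟩
      have hc0 : c ≠ 0 := by
        rintro rfl
        exact hφ.ne_zero v hv (by rw [← hc, zero_smul])
      have e1 : φ ((l v)⁻¹ • h + e) = b⁻¹ • (g0 ((l v)⁻¹ • h) + φ e) := by
        rw [hb, smul_smul, inv_mul_cancel₀ hb0, one_smul]
      have e2 : G v = σ0 (l v) • (g0 ((l v)⁻¹ • h) + φ e) := by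
        show g0 h + σ0 (l v) • φ e = _
        rw [gsmul' _ hlh, smul_add, smul_smul, ← map_mul, mul_inv_cancel₀ ht, map_one, one_smul]
      refine ⟨c * b⁻¹ * (σ0 (l v))⁻¹, mul_ne_zero (mul_ne_zero hc0 (inv_ne_zero hb0))
        (inv_ne_zero (σ0ne _ ht)), ?_⟩
      rw [e2, smul_smul, mul_assoc _ (σ0 (l v))⁻¹, inv_mul_cancel₀ (σ0ne _ ht), mul_one, ← smul_smul, ← e1, hc]
  have Gne : ∀ v, v ≠ 0 → G v ≠ 0 := by
    intro v hv h
    obtain ⟨c, -, hc⟩ := key v hv
    rw [h, smul_zero] at hc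
    exact hφ.ne_zero v hv hc
  -- surjectivity of `σ0`
  have σ0surj : Function.Surjective σ0 := by
    intro s
    by_cases hs : s = 0
    · exact ⟨0, by rw [hs, map_zero]⟩
    obtain ⟨c0, hc0, hc0'⟩ := g0_phi h0 hh0 h00
    have i0 : Ind2 K (g0 h0) (φ e) := by
      intro a b hab
      rw [hc0', smul_smul] at hab
      have := hφ.ind2 (indH h0 hh0 h00) _ _ hab
      exact ⟨(mul_eq_zero.1 this.1).resolve_right hc0, this.2⟩
    have hw : g0 h0 + s • φ e ≠ 0 := by
      intro h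
      exact one_ne_zero (i0 1 s (by rw [one_smul]; exact h)).1
    obtain ⟨v, hv, c, hc⟩ := hφ.surj _ hw
    have hcne : c ≠ 0 := by
      rintro rfl
      exact hw (by rw [hc, zero_smul])
    obtain ⟨a, b, hab⟩ := (hφ.span2 v h0 e hv h00 he).2 ⟨c⁻¹ * c0, c⁻¹ * s, by
      rw [← smul_smul, ← smul_smul, ← smul_add, ← hc0', hc, smul_smul, inv_mul_cancel₀ hcne, one_smul]⟩
    obtain ⟨d, hd, hd'⟩ := key v hv
    have hGv : G v = σ0 a • g0 h0 + σ0 b • φ e := by
      have hlv : l v = b := by rw [← hab]; simp [hh0, hl]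
      show g0 (v - l v • e) + σ0 (l v) • φ e = _
      rw [hlv, ← gsmul' _ hh0]
      congr 2
      rw [← hab]; abel
    rw [hd', hGv] at hc
    have := i0 (1 - c * d * σ0 a) (s - c * d * σ0 b) (by
      have h5 : g0 h0 + s • φ e - c • d • (σ0 a • g0 h0 + σ0 b • φ e) = 0 := by rw [hc, sub_self]
      rw [← h5]; module)
    have ha1 : c * d * σ0 a = 1 := (sub_eq_zero.1 this.1).symm
    have hb1 : s = c * d * σ0 b := sub_eq_zero.1 this.2
    have ha0 : σ0 a ≠ 0 := by
      rintro h; rw [h, mul_zero] at ha1; exact zero_ne_one ha1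
    refine ⟨b * a⁻¹, ?_⟩
    rw [map_mul, map_inv₀, hb1, ← eq_inv_of_mul_eq_one_left ha1, mul_comm]
  let σ : F ≃+* K := RingEquiv.ofBijective σ0 ⟨σ0.injective, σ0surj⟩
  let G0 : V →+ W := AddMonoidHom.mk' G Gadd
  have Ginj : Function.Injective G0 := by
    rw [injective_iff_map_eq_zero]
    intro v hv
    by_contra h
    exact Gne v h hv
  have Gsurj : Function.Surjective G0 := by
    intro w
    by_cases hw : w = 0
    · exact ⟨0, by rw [hw, map_zero]⟩
    obtain ⟨v, hv, c, hc⟩ := hφ.surj w hw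
    obtain ⟨d, hd, hd'⟩ := key v hv
    obtain ⟨t, ht⟩ := σ0surj (c * d)
    refine ⟨t • v, ?_⟩
    show G (t • v) = w
    rw [Gsmul, ht, hc, hd', smul_smul]
  exact ⟨σ, AddEquiv.ofBijective G0 ⟨Ginj, Gsurj⟩, Gsmul, key⟩

end Rep

/-- The fundamental theorem of projective geometry. -/
theorem ftpg (hdim : ∀ x y : V, ∃ v : V, v ∉ Submodule.span F {x, y}) (f : ℙ F V ≃ ℙ K W)
    (hf : ∀ p q r : ℙ F V, r.submodule ≤ p.submodule ⊔ q.submodule ↔
      (f r).submodule ≤ (f p).submodule ⊔ (f q).submodule) :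
    ∃ (σ : F ≃+* K) (g : V ≃+ W), (∀ (a : F) (v : V), g (a • v) = σ a • g v) ∧
      ∀ (v : V) (hv : v ≠ 0), f (mk F v hv) = mk K (g v) (g.map_ne_zero_iff.2 hv) := by
  classical
  let φ : V → W := fun v => if hv : v = 0 then 0 else (f (mk F v hv)).rep
  have hφv : ∀ v (hv : v ≠ 0), φ v = (f (mk F v hv)).rep := fun v hv => by
    simp only [φ, dif_neg hv]
  have hφ0 : ∀ v, v ≠ 0 → φ v ≠ 0 := fun v hv => by
    rw [hφv v hv]; exact rep_nonzero _
  have hmk : ∀ v (hv : v ≠ 0), f (mk F v hv) = mk K (φ v) (hφ0 v hv) := fun v hv => by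
    simp only [hφv v hv, mk_rep]
  have sub : ∀ v (hv : v ≠ 0), (f (mk F v hv)).submodule = Submodule.span K {φ v} := fun v hv => by
    rw [hmk v hv, submodule_mk]
  have hrep : Rep F K φ := by
    refine ⟨hφ0, ?_, ?_⟩
    · intro v x y hv hx hy
      have := hf (mk F x hx) (mk F y hy) (mk F v hv)
      rw [sub v hv, sub x hx, sub y hy, submodule_mk, submodule_mk, submodule_mk,
        Submodule.span_singleton_le_iff_mem, Submodule.span_singleton_le_iff_mem,
        ← Submodule.span_insert, ← Submodule.span_insert] at this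
      simpa only [Submodule.mem_span_pair] using this
    · intro w hw
      obtain ⟨p, hp⟩ := f.surjective (mk K w hw)
      induction p using Projectivization.ind with
      | h v hv =>
        refine ⟨v, hv, ?_⟩
        rw [hmk v hv, mk_eq_mk_iff'] at hp
        obtain ⟨c, hc⟩ := hp
        have hc0 : c ≠ 0 := by
          rintro rfl
          exact hφ0 v hv (by rw [← hc, zero_smul])
        exact ⟨c⁻¹, by rw [← hc, smul_smul, inv_mul_cancel₀ hc0, one_smul]⟩
  obtain ⟨σ, g, hg, hc⟩ := hrep.exists_semilinear hdim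
  refine ⟨σ, g, hg, fun v hv => ?_⟩
  obtain ⟨c, hc0, hcv⟩ := hc v hv
  rw [hmk v hv, mk_eq_mk_iff']
  exact ⟨c, hcv.symm⟩

/-- Uniqueness in the fundamental theorem (two-dimensional spaces are enough). -/
theorem semilinear_unique (hdim : ∀ x : V, ∃ v : V, v ∉ Submodule.span F {x}) {σ τ : F ≃+* K}
    {g h : V ≃+ W} (hg : ∀ (a : F) (v : V), g (a • v) = σ a • g v)
    (hh : ∀ (a : F) (v : V), h (a • v) = τ a • h v)
    (H : ∀ (v : V) (hv : v ≠ 0), mk K (g v) (g.map_ne_zero_iff.2 hv) = mk K (h v) (h.map_ne_zero_iff.2 hv)) :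
    σ = τ ∧ ∃ c : K, c ≠ 0 ∧ ∀ v, g v = c • h v := by
  have H1 : ∀ v : V, v ≠ 0 → ∃ c : K, g v = c • h v := by
    intro v hv
    obtain ⟨c, hc⟩ := (mk_eq_mk_iff' K _ _ _ _).1 (H v hv)
    exact ⟨c, hc.symm⟩
  choose! c hc using H1
  have hi : ∀ x y : V, Ind2 F x y → Ind2 K (h x) (h y) := by
    intro x y hxy a b hab
    obtain ⟨a', rfl⟩ := τ.surjective a
    obtain ⟨b', rfl⟩ := τ.surjective b
    rw [← hh, ← hh, ← map_add, h.map_eq_zero_iff] at hab
    obtain ⟨rfl, rfl⟩ := hxy _ _ hab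
    simp
  have cind : ∀ x y : V, Ind2 F x y → c x = c y := by
    intro x y hxy
    have hxy0 : x + y ≠ 0 := fun h0 => one_ne_zero (hxy 1 1 (by simpa using h0)).1
    have e1 : c (x + y) • (h x + h y) = c x • h x + c y • h y := by
      rw [← map_add, ← hc _ hxy0, map_add, hc _ hxy.ne_zero_left, hc _ hxy.ne_zero_right]
    have := hi x y hxy (c (x + y) - c x) (c (x + y) - c y) (by
      have e2 : c (x + y) • (h x + h y) - (c x • h x + c y • h y) = 0 := by rw [e1, sub_self]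
      rw [← e2]; module)
    rw [← sub_eq_zero.1 this.1, ← sub_eq_zero.1 this.2]
  obtain ⟨e, he⟩ : ∃ e : V, e ≠ 0 := by
    obtain ⟨v, hv⟩ := hdim 0
    refine ⟨v, ?_⟩
    rintro rfl
    exact hv (Submodule.zero_mem _)
  have call : ∀ x : V, x ≠ 0 → c x = c e := by
    intro x hx
    by_cases hi' : Ind2 F e x
    · exact (cind _ _ hi').symm
    · obtain ⟨s, rfl⟩ := not_ind2_exists he hi'
      have hs : s ≠ 0 := by rintro rfl; exact hx (zero_smul _ _)
      obtain ⟨y, hy⟩ := hdim e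
      have h13 := ind2_of_not_mem he hy
      have i23 : Ind2 F (s • e) y := by
        intro a b hab
        rw [smul_smul] at hab
        have := h13 _ _ hab
        exact ⟨(mul_eq_zero.1 this.1).resolve_right hs, this.2⟩
      rw [cind _ _ i23, cind _ _ h13]
  have hce : c e ≠ 0 := by
    intro h0
    have := hc e he
    rw [h0, zero_smul, g.map_eq_zero_iff] at this
    exact he this
  have hgc : ∀ v, g v = c e • h v := by
    intro v
    by_cases hv : v = 0
    · subst hv; simp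
    · rw [hc v hv, call v hv]
  refine ⟨?_, c e, hce, hgc⟩
  ext a
  have e1 : σ a • g e = τ a • g e := by
    rw [← hg, hgc (a • e), hh, hgc e, smul_comm]
  have e2 : (σ a - τ a) • g e = 0 := by rw [sub_smul, e1, sub_self]
  exact sub_eq_zero.1 ((smul_eq_zero.1 e2).resolve_right (g.map_ne_zero_iff.2 he))

end Cfsg.Agent.ClassicalGeometry.FTPG
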