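import Mathlib
import Cfsg.Prelude.Def_ClassicalGeometry
import Cfsg.Agent.ClassicalGeometry.Reflection

/-!
# Generation of the isometry group by reflections, in every characteristic

`closure_reflections_eq_top`: over any field, the isometry group of a quadratic form with non-degenerate polar
form is generated by the reflections, unless the field has two elements and the dimension is four.

The proof is by induction on the fixed space of an isometry `g`.  Either some `g x - x` is non-singular, and the
reflection in it enlarges the fixed space, or the range of `g - 1` is totally singular, and a Siegel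
transformation with parameters in this range enlarges the fixed space.  A Siegel transformation is a product of
four reflections.
-/

set_option autoImplicit false
set_option linter.unusedSectionVars false

namespace Cfsg.Agent.ClassicalGeometry.GenReflections

open QuadraticMap Matrix Module
open Cfsg.Agent.ClassicalGeometry.Reflection

variable {ι : Type} [Fintype ι] [DecidableEq ι] {F : Type*} [Field F]

/-- The set of reflections of `Q`, in the isometry group. -/
def refls (Q : QuadraticForm F (ι → F)) : Set (Cfsg.isometryGroup F (⇑Q)) :=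
  {g | ∃ v : ι → F, Q v ≠ 0 ∧
    ((g : Matrix.GeneralLinearGroup ι F) : Matrix ι ι F) = Cfsg.reflectionMatrix (⇑Q) v}

/-- The linear map given by an isometry. -/
def act (Q : QuadraticForm F (ι → F)) (g : Cfsg.isometryGroup F (⇑Q)) : (ι → F) →ₗ[F] (ι → F) :=
  Matrix.mulVecLin ((g : Matrix.GeneralLinearGroup ι F) : Matrix ι ι F)

theorem act_apply (Q : QuadraticForm F (ι → F)) (g : Cfsg.isometryGroup F (⇑Q)) (x : ι → F) :
    act Q g x = ((g : Matrix.GeneralLinearGroup ι F) : Matrix ι ι F) *ᵥ x := rfl

theorem act_mul (Q : QuadraticForm F (ι → F)) (g h : Cfsg.isometryGroup F (⇑Q)) (x : ι → F) :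
    act Q (g * h) x = act Q g (act Q h x) :=
  coe_mul_mulVec (⇑Q) g h x

theorem act_one (Q : QuadraticForm F (ι → F)) (x : ι → F) :
    act Q 1 x = x := by
  rw [act_apply]
  simp

theorem act_inv_eq (Q : QuadraticForm F (ι → F)) (g : Cfsg.isometryGroup F (⇑Q)) (x y : ι → F)
    (h : act Q g x = y) : act Q g⁻¹ y = x := by
  rw [← h, ← act_mul, inv_mul_cancel, act_one]

theorem act_isometry (Q : QuadraticForm F (ι → F)) (g : Cfsg.isometryGroup F (⇑Q)) (x : ι → F) :
    Q (act Q g x) = Q x :=
  (mem_isometryGroup_iff _ _).1 g.2 x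

theorem act_polar (Q : QuadraticForm F (ι → F)) (g : Cfsg.isometryGroup F (⇑Q)) (x y : ι → F) :
    polar (⇑Q) (act Q g x) (act Q g y) = polar (⇑Q) x y :=
  polar_mulVec_of_isometry Q _ ((mem_isometryGroup_iff _ _).1 g.2) x y

theorem act_ext (Q : QuadraticForm F (ι → F)) (g h : Cfsg.isometryGroup F (⇑Q))
    (H : ∀ x, act Q g x = act Q h x) : g = h :=
  isometryGroup_ext (⇑Q) g h H

theorem reflIso_mem (Q : QuadraticForm F (ι → F)) (v : ι → F) (hv : Q v ≠ 0) :
    reflIso Q v hv ∈ refls Q :=
  ⟨v, hv, rfl⟩

theorem act_reflIso (Q : QuadraticForm F (ι → F)) (v : ι → F) (hv : Q v ≠ 0) (x : ι → F) :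
    act Q (reflIso Q v hv) x = x - ((Q v)⁻¹ * polar (⇑Q) v x) • v :=
  reflectionMatrix_mulVec Q v x

/-- The Eichler transformation `E(u, w)` with `Q w ≠ 0` is a product of two reflections. -/
theorem exists_eichler (Q : QuadraticForm F (ι → F)) (u w : ι → F) (hu : Q u = 0)
    (huw : polar (⇑Q) u w = 0) (hw : Q w ≠ 0) :
    ∃ g ∈ Subgroup.closure (refls Q), ∀ x, act Q g x
      = x + polar (⇑Q) u x • w - (polar (⇑Q) w x + Q w * polar (⇑Q) u x) • u := by
  have hw' : Q (w + Q w • u) = Q w := by
    rw [map_add', QuadraticMap.map_smul, QuadraticMap.polar_smul_right, polar_comm (⇑Q) w u, huw, hu]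
    simp
  refine ⟨reflIso Q w hw * reflIso Q (w + Q w • u) (by rwa [hw']),
    Subgroup.mul_mem _ (Subgroup.subset_closure (reflIso_mem _ _ _))
      (Subgroup.subset_closure (reflIso_mem _ _ _)), fun x => ?_⟩
  rw [act_mul, act_reflIso, act_reflIso, hw']
  simp only [QuadraticMap.polar_sub_right, QuadraticMap.polar_smul_right,
    QuadraticMap.polar_add_right, QuadraticMap.polar_add_left, QuadraticMap.polar_smul_left,
    polar_self', polar_comm (⇑Q) w u, huw, smul_eq_mul, mul_zero, add_zero]
  have h1 : (Q w)⁻¹ * Q w = 1 := inv_mul_cancel₀ hw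
  ext i
  simp only [Pi.sub_apply, Pi.add_apply, Pi.smul_apply, smul_eq_mul]
  field_simp
  ring

/-- A Siegel transformation that is the product of two Eichler transformations is a product of reflections. -/
theorem exists_siegel (Q : QuadraticForm F (ι → F)) (u v w : ι → F) (hu : Q u = 0) (hv : Q v = 0)
    (huv : polar (⇑Q) u v = 0) (huw : polar (⇑Q) u w = 0) (hw : Q w ≠ 0) (hvw : Q (v - w) ≠ 0) :
    ∃ g ∈ Subgroup.closure (refls Q), ∀ x, act Q g x
      = x + polar (⇑Q) u x • v - polar (⇑Q) v x • u := by
  obtain ⟨g₁, hg₁, H₁⟩ := exists_eichler Q u w hu huw hw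
  obtain ⟨g₂, hg₂, H₂⟩ := exists_eichler Q u (v - w) hu
    (by rw [QuadraticMap.polar_sub_right, huv, huw, sub_zero]) hvw
  refine ⟨g₁ * g₂, Subgroup.mul_mem _ hg₁ hg₂, fun x => ?_⟩
  have hs : Q (v - w) = Q w - polar (⇑Q) v w := by
    rw [sub_eq_add_neg, map_add', QuadraticMap.map_neg, QuadraticMap.polar_neg_right, hv]
    ring
  rw [act_mul, H₁, H₂, hs]
  simp only [QuadraticMap.polar_sub_right, QuadraticMap.polar_smul_right,
    QuadraticMap.polar_add_right, QuadraticMap.polar_sub_left,
    polar_self', polar_comm (⇑Q) w u, polar_comm (⇑Q) w v, huw, huv, hu, smul_eq_mul, mul_zero,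
    add_zero, sub_zero]
  ext i
  simp only [Pi.sub_apply, Pi.add_apply, Pi.smul_apply, smul_eq_mul]
  ring

/-- In dimension four: if the orthogonal complement of the totally singular plane `⟨u, v⟩` is totally
singular, then the dimension is four. -/
theorem card_eq_four (Q : QuadraticForm F (ι → F)) (hQ : (polarBilin Q).Nondegenerate)
    (u v x y : ι → F) (hu : Q u = 0) (hv : Q v = 0) (huv : polar (⇑Q) u v = 0)
    (hux : polar (⇑Q) u x = 0) (huy : polar (⇑Q) u y = 1)
    (hvx : polar (⇑Q) v x = -1) (hvy : polar (⇑Q) v y = 0)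
    (H : ∀ w, polar (⇑Q) u w = 0 → polar (⇑Q) v w = 0 → Q w = 0) :
    Fintype.card ι = 4 := by
  have huu : polar (⇑Q) u u = 0 := by rw [polar_self', hu, mul_zero]
  have hvv : polar (⇑Q) v v = 0 := by rw [polar_self', hv, mul_zero]
  -- `P = ⟨u, v⟩^⊥` is totally isotropic
  have hP : ∀ p w, polar (⇑Q) u p = 0 → polar (⇑Q) v p = 0 → polar (⇑Q) u w = 0 →
      polar (⇑Q) v w = 0 → polar (⇑Q) p w = 0 := by
    intro p w h1 h2 h3 h4
    have h5 := H (p + w) (by rw [QuadraticMap.polar_add_right, h1, h3, add_zero])
      (by rw [QuadraticMap.polar_add_right, h2, h4, add_zero])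
    rw [map_add', H p h1 h2, H w h3 h4] at h5
    simpa using h5
  let b : Fin 4 → (ι → F) := ![u, v, x, y]
  have hli : LinearIndependent F b := by
    rw [Fintype.linearIndependent_iff]
    intro c hc
    have h0 : c 0 • u + c 1 • v + c 2 • x + c 3 • y = 0 := by
      have : ∑ i, c i • b i = c 0 • u + c 1 • v + c 2 • x + c 3 • y := by
        rw [Fin.sum_univ_four]; rfl
      rw [← this]; exact hc
    have e : ∀ z, c 0 * polar (⇑Q) z u + c 1 * polar (⇑Q) z v + c 2 * polar (⇑Q) z x
        + c 3 * polar (⇑Q) z y = 0 := by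
      intro z
      have := congrArg (fun t => polar (⇑Q) z t) h0
      simpa only [QuadraticMap.polar_add_right, QuadraticMap.polar_smul_right, smul_eq_mul,
        QuadraticMap.polar_zero_right] using this
    have e1 := e u
    rw [huu, huv, hux, huy] at e1
    have e2 := e v
    rw [polar_comm (⇑Q) v u, huv, hvv, hvx, hvy] at e2
    have h3 : c 3 = 0 := by linear_combination e1
    have h2 : c 2 = 0 := by linear_combination -e2
    have e3 := e x
    rw [polar_comm (⇑Q) x u, hux, polar_comm (⇑Q) x v, hvx, h2, h3] at e3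
    have h1 : c 1 = 0 := by linear_combination -e3
    have e4 := e y
    rw [polar_comm (⇑Q) y u, huy, polar_comm (⇑Q) y v, hvy, h2, h3] at e4
    have h0' : c 0 = 0 := by linear_combination e4
    intro i
    fin_cases i
    · exact h0'
    · exact h1
    · exact h2
    · exact h3
  have hsp : ⊤ ≤ Submodule.span F (Set.range b) := by
    have mem : ∀ i, b i ∈ Submodule.span F (Set.range b) := fun i =>
      Submodule.subset_span ⟨i, rfl⟩
    have hP' : ∀ w, polar (⇑Q) u w = 0 → polar (⇑Q) v w = 0 →
        w ∈ Submodule.span F (Set.range b) := by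
      intro w h1 h2
      set w' := w - polar (⇑Q) w y • u + polar (⇑Q) w x • v with hw'
      have k1 : polar (⇑Q) u w' = 0 := by
        rw [hw', QuadraticMap.polar_add_right, QuadraticMap.polar_sub_right,
          QuadraticMap.polar_smul_right, QuadraticMap.polar_smul_right, huu, huv, h1]
        simp
      have k2 : polar (⇑Q) v w' = 0 := by
        rw [hw', QuadraticMap.polar_add_right, QuadraticMap.polar_sub_right,
          QuadraticMap.polar_smul_right, QuadraticMap.polar_smul_right, hvv,
          polar_comm (⇑Q) v u, huv, h2]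
        simp
      have k3 : polar (⇑Q) w' x = 0 := by
        rw [hw', QuadraticMap.polar_add_left, QuadraticMap.polar_sub_left,
          QuadraticMap.polar_smul_left, QuadraticMap.polar_smul_left, hux, hvx]
        simp
      have k4 : polar (⇑Q) w' y = 0 := by
        rw [hw', QuadraticMap.polar_add_left, QuadraticMap.polar_sub_left,
          QuadraticMap.polar_smul_left, QuadraticMap.polar_smul_left, huy, hvy]
        simp
      have k5 : w' = 0 := by
        apply hQ.1
        intro t
        rw [polarBilin_apply_apply]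
        set p := t + polar (⇑Q) v t • x - polar (⇑Q) u t • y with hp
        have p1 : polar (⇑Q) u p = 0 := by
          rw [hp, QuadraticMap.polar_sub_right, QuadraticMap.polar_add_right,
            QuadraticMap.polar_smul_right, QuadraticMap.polar_smul_right, hux, huy]
          simp
        have p2 : polar (⇑Q) v p = 0 := by
          rw [hp, QuadraticMap.polar_sub_right, QuadraticMap.polar_add_right,
            QuadraticMap.polar_smul_right, QuadraticMap.polar_smul_right, hvx, hvy]
          simp
        have p3 : t = p - polar (⇑Q) v t • x + polar (⇑Q) u t • y := by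
          rw [hp]; abel
        rw [p3, QuadraticMap.polar_add_right, QuadraticMap.polar_sub_right,
          QuadraticMap.polar_smul_right, QuadraticMap.polar_smul_right, k3, k4,
          hP w' p k1 k2 p1 p2]
        simp
      have k6 : w = polar (⇑Q) w y • u - polar (⇑Q) w x • v := by
        have : w = w' + polar (⇑Q) w y • u - polar (⇑Q) w x • v := by rw [hw']; abel
        rw [k5, zero_add] at this
        exact this
      rw [k6]
      exact Submodule.sub_mem _ (Submodule.smul_mem _ _ (mem 0)) (Submodule.smul_mem _ _ (mem 1))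
    intro t _
    set p := t + polar (⇑Q) v t • x - polar (⇑Q) u t • y with hp
    have p1 : polar (⇑Q) u p = 0 := by
      rw [hp, QuadraticMap.polar_sub_right, QuadraticMap.polar_add_right,
        QuadraticMap.polar_smul_right, QuadraticMap.polar_smul_right, hux, huy]
      simp
    have p2 : polar (⇑Q) v p = 0 := by
      rw [hp, QuadraticMap.polar_sub_right, QuadraticMap.polar_add_right,
        QuadraticMap.polar_smul_right, QuadraticMap.polar_smul_right, hvx, hvy]
      simp
    have p3 : t = p - polar (⇑Q) v t • x + polar (⇑Q) u t • y := by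
      rw [hp]; abel
    rw [p3]
    exact Submodule.add_mem _ (Submodule.sub_mem _ (hP' p p1 p2) (Submodule.smul_mem _ _ (mem 2)))
      (Submodule.smul_mem _ _ (mem 3))
  have h4 := Module.finrank_eq_card_basis (Basis.mk hli hsp)
  rw [Module.finrank_fintype_fun_eq_card, Fintype.card_fin] at h4
  exact h4

/-- Existence of the auxiliary vector `w` that splits a Siegel transformation. -/
theorem exists_aux (Q : QuadraticForm F (ι → F)) (hQ : (polarBilin Q).Nondegenerate)
    (h : Nat.card F ≠ 2 ∨ Fintype.card ι ≠ 4)
    (u v x y : ι → F) (hu : Q u = 0) (hv : Q v = 0) (huv : polar (⇑Q) u v = 0)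
    (hux : polar (⇑Q) u x = 0) (huy : polar (⇑Q) u y = 1)
    (hvx : polar (⇑Q) v x = -1) (hvy : polar (⇑Q) v y = 0) :
    ∃ w, polar (⇑Q) u w = 0 ∧ Q w ≠ 0 ∧ Q (v - w) ≠ 0 := by
  rcases h with h | h
  · have ha : ∃ a : F, a ≠ 0 ∧ a ≠ 1 := by
      by_contra hcon
      push Not at hcon
      apply h
      have e : (Set.univ : Set F) = {0, 1} := by
        ext a
        simp only [Set.mem_univ, Set.mem_insert_iff, Set.mem_singleton_iff, true_iff]
        by_cases h0 : a = 0
        · exact Or.inl h0
        · exact Or.inr (hcon a h0)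
      rw [← Nat.card_univ, e, Nat.card_coe_set_eq, Set.ncard_pair zero_ne_one]
    obtain ⟨a, ha0, ha1⟩ := ha
    set z := -x - Q x • v with hz
    have huz : polar (⇑Q) u z = 0 := by
      rw [hz, QuadraticMap.polar_sub_right, QuadraticMap.polar_smul_right,
        QuadraticMap.polar_neg_right, hux, huv]
      simp
    have hvz : polar (⇑Q) v z = 1 := by
      rw [hz, QuadraticMap.polar_sub_right, QuadraticMap.polar_smul_right,
        QuadraticMap.polar_neg_right, hvx, polar_self', hv]
      simp
    have hQz : Q z = 0 := by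
      rw [hz, sub_eq_add_neg, map_add', QuadraticMap.map_neg, QuadraticMap.map_neg,
        QuadraticMap.map_smul, QuadraticMap.polar_neg_left, QuadraticMap.polar_neg_right,
        QuadraticMap.polar_smul_right, polar_comm (⇑Q) x v, hvx, hv]
      simp
    refine ⟨a • v + z, ?_, ?_, ?_⟩
    · rw [QuadraticMap.polar_add_right, QuadraticMap.polar_smul_right, huv, huz]
      simp
    · rw [map_add', QuadraticMap.map_smul, hv, hQz, QuadraticMap.polar_smul_left, hvz]
      simpa using ha0
    · have e1 : v - (a • v + z) = (1 - a) • v + -z := by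
        rw [sub_smul, one_smul]; abel
      rw [e1, map_add', QuadraticMap.map_smul, QuadraticMap.map_neg, hv, hQz,
        QuadraticMap.polar_smul_left, QuadraticMap.polar_neg_right, hvz]
      intro h0
      apply ha1
      simp only [smul_eq_mul, mul_zero, zero_add, add_zero] at h0
      linear_combination h0
  · by_contra hcon
    push Not at hcon
    apply h
    apply card_eq_four Q hQ u v x y hu hv huv hux huy hvx hvy
    intro w h1 h2
    by_contra h3
    have h4 := hcon w h1 h3
    rw [sub_eq_add_neg, map_add', QuadraticMap.map_neg, QuadraticMap.polar_neg_right, h2, hv] at h4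
    apply h3
    simpa using h4

/-- The fixed space of an isometry. -/
def fix (Q : QuadraticForm F (ι → F)) (g : Cfsg.isometryGroup F (⇑Q)) : Submodule F (ι → F) :=
  LinearMap.eqLocus (act Q g) LinearMap.id

theorem mem_fix (Q : QuadraticForm F (ι → F)) (g : Cfsg.isometryGroup F (⇑Q)) (x : ι → F) :
    x ∈ fix Q g ↔ act Q g x = x := Iff.rfl

/-- The dichotomy: an isometry `g ≠ 1` either moves some `x` by a non-singular vector, or there are
`x, y` such that the Siegel transformation with parameters `g x - x`, `g y - y` agrees with `g` on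
`x`, `y`. -/
theorem step (Q : QuadraticForm F (ι → F)) (hQ : (polarBilin Q).Nondegenerate)
    (g : Cfsg.isometryGroup F (⇑Q)) (hg : g ≠ 1) :
    (∃ x, ∃ h : Q (act Q g x - x) ≠ 0, fix Q g < fix Q (reflIso Q (act Q g x - x) h * g)) ∨
    (∃ u v x y : ι → F, Q u = 0 ∧ Q v = 0 ∧ polar (⇑Q) u v = 0 ∧ polar (⇑Q) u x = 0 ∧
      polar (⇑Q) u y = 1 ∧ polar (⇑Q) v x = -1 ∧ polar (⇑Q) v y = 0 ∧
      ∀ s : Cfsg.isometryGroup F (⇑Q),
        (∀ z, act Q s z = z + polar (⇑Q) u z • v - polar (⇑Q) v z • u) →
        fix Q g < fix Q (s⁻¹ * g)) := by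
  have horth : ∀ x z, act Q g z = z → polar (⇑Q) (act Q g x - x) z = 0 := by
    intro x z hz
    have := act_polar Q g x z
    rw [hz] at this
    rw [QuadraticMap.polar_sub_left, this, sub_self]
  by_cases hex : ∃ x, Q (act Q g x - x) ≠ 0
  · left
    obtain ⟨x, hx⟩ := hex
    refine ⟨x, hx, ?_⟩
    rw [lt_iff_le_and_ne]
    constructor
    · intro z hz
      rw [mem_fix] at hz ⊢
      rw [act_mul, hz, act_reflIso, horth x z hz]
      simp
    · intro heq
      have h1 : x ∈ fix Q (reflIso Q (act Q g x - x) hx * g) := by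
        rw [mem_fix, act_mul, act_apply Q (reflIso _ _ _), coe_reflIso]
        exact reflectionMatrix_sub_mulVec Q (act Q g x) x (act_isometry Q g x) hx
      rw [← heq, mem_fix] at h1
      apply hx
      rw [h1, sub_self, QuadraticMap.map_zero]
  · right
    push Not at hex
    have hne : ∃ x, act Q g x ≠ x := by
      by_contra hcon
      push Not at hcon
      apply hg
      apply act_ext
      intro x
      rw [hcon x, act_one]
    obtain ⟨x, hx⟩ := hne
    have hself : ∀ t, polar (⇑Q) (act Q g t - t) t = 0 := by
      intro t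
      have h1 := hex t
      rw [sub_eq_add_neg, map_add', QuadraticMap.map_neg, QuadraticMap.polar_neg_right,
        act_isometry] at h1
      rw [QuadraticMap.polar_sub_left, polar_self']
      linear_combination -h1
    have hcross : ∀ s t, polar (⇑Q) (act Q g s - s) (act Q g t - t) = 0 := by
      intro s t
      have h1 := hex (s + t)
      have e : act Q g (s + t) - (s + t) = (act Q g s - s) + (act Q g t - t) := by
        rw [map_add]; abel
      rw [e, map_add', hex s, hex t] at h1
      simpa using h1
    have hu0 : act Q g x - x ≠ 0 := sub_ne_zero.2 hx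
    obtain ⟨y₀, hy₀⟩ : ∃ y₀, polar (⇑Q) (act Q g x - x) y₀ ≠ 0 := by
      by_contra hcon
      push Not at hcon
      apply hu0
      apply hQ.1
      intro t
      rw [polarBilin_apply_apply]
      exact hcon t
    set c := polar (⇑Q) (act Q g x - x) y₀ with hc
    set y := c⁻¹ • y₀ with hy
    have huy : polar (⇑Q) (act Q g x - x) y = 1 := by
      rw [hy, QuadraticMap.polar_smul_right, ← hc, smul_eq_mul, inv_mul_cancel₀ hy₀]
    have hvx : polar (⇑Q) (act Q g y - y) x = -1 := by
      have h1 := hself (x + y)
      have e : act Q g (x + y) - (x + y) = (act Q g x - x) + (act Q g y - y) := by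
        rw [map_add]; abel
      rw [e, QuadraticMap.polar_add_left, QuadraticMap.polar_add_right,
        QuadraticMap.polar_add_right, hself x, hself y, huy] at h1
      linear_combination h1
    refine ⟨act Q g x - x, act Q g y - y, x, y, hex x, hex y, hcross x y, hself x, huy, hvx,
      hself y, fun s hs => ?_⟩
    rw [lt_iff_le_and_ne]
    constructor
    · intro z hz
      rw [mem_fix] at hz ⊢
      rw [act_mul, hz]
      apply act_inv_eq
      rw [hs, horth x z hz, horth y z hz]
      simp
    · intro heq
      have h1 : x ∈ fix Q (s⁻¹ * g) := by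
        rw [mem_fix, act_mul]
        apply act_inv_eq
        rw [hs, hself x, hvx]
        simp
      rw [← heq, mem_fix] at h1
      exact hx h1

/-- Induction on the fixed space. -/
theorem mem_of_step (Q : QuadraticForm F (ι → F)) (S : Subgroup (Cfsg.isometryGroup F (⇑Q)))
    (H : ∀ g : Cfsg.isometryGroup F (⇑Q), g ≠ 1 → ∃ h ∈ S, fix Q g < fix Q (h * g))
    (g : Cfsg.isometryGroup F (⇑Q)) : g ∈ S := by
  suffices K : ∀ W : Submodule F (ι → F), ∀ g : Cfsg.isometryGroup F (⇑Q), fix Q g = W → g ∈ S from
    K _ g rfl
  intro W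
  induction W using WellFoundedGT.induction with
  | ind W ih =>
    intro g hgW
    by_cases hg : g = 1
    · rw [hg]; exact S.one_mem
    · obtain ⟨h, hS, hlt⟩ := H g hg
      have h1 : h * g ∈ S := ih _ (by rw [← hgW]; exact hlt) (h * g) rfl
      have h2 : g = h⁻¹ * (h * g) := by rw [inv_mul_cancel_left]
      rw [h2]
      exact S.mul_mem (S.inv_mem hS) h1

/-- The isometry group is generated by the reflections, in every characteristic, except over the field
of two elements in dimension four. -/
theorem closure_refls_eq_top (Q : QuadraticForm F (ι → F)) (hQ : (polarBilin Q).Nondegenerate)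
    (h : Nat.card F ≠ 2 ∨ Fintype.card ι ≠ 4) : Subgroup.closure (refls Q) = ⊤ := by
  rw [eq_top_iff]
  rintro g -
  refine mem_of_step Q _ (fun g hg => ?_) g
  rcases step Q hQ g hg with ⟨x, hx, hlt⟩ | ⟨u, v, x, y, hu, hv, huv, hux, huy, hvx, hvy, hs⟩
  · exact ⟨_, Subgroup.subset_closure (reflIso_mem Q _ hx), hlt⟩
  · obtain ⟨w, huw, hw, hvw⟩ := exists_aux Q hQ h u v x y hu hv huv hux huy hvx hvy
    obtain ⟨s, hsmem, hsact⟩ := exists_siegel Q u v w hu hv huv huw hw hvw
    exact ⟨s⁻¹, Subgroup.inv_mem _ hsmem, hs s hsact⟩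

/-- The isometry group is generated by the reflections, in every characteristic, except over the field
of two elements in dimension four. -/
theorem closure_reflections_eq_top (Q : QuadraticForm F (ι → F))
    (hQ : (polarBilin Q).Nondegenerate) (h : Nat.card F ≠ 2 ∨ Fintype.card ι ≠ 4) :
    Subgroup.closure {g : Cfsg.isometryGroup F (⇑Q) | ∃ v : ι → F, Q v ≠ 0 ∧
      ((g : Matrix.GeneralLinearGroup ι F) : Matrix ι ι F) = Cfsg.reflectionMatrix (⇑Q) v} = ⊤ :=
  closure_refls_eq_top Q hQ h

end Cfsg.Agent.ClassicalGeometry.GenReflections
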