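import Mathlib

/-!
# Counting `k`-dimensional subspaces with a property by counting their ordered bases
-/

set_option autoImplicit false

namespace Cfsg.Agent.ClassicalGeometry.SubspaceFrames

open Module

variable {F V : Type*} [Field F] [AddCommGroup V] [Module F V]

/-- Ordered bases of `k`-dimensional subspaces with property `P`, grouped by the subspace. -/
noncomputable def framesEquiv [FiniteDimensional F V] (k : ℕ) (P : Submodule F V → Prop) :
    {b : Fin k → V // LinearIndependent F b ∧ P (Submodule.span F (Set.range b))} ≃
      (Σ W : {W : Submodule F V // finrank F W = k ∧ P W},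
        {b : Fin k → W.1 // LinearIndependent F b}) where
  toFun b := ⟨⟨Submodule.span F (Set.range b.1), by
      have := finrank_span_eq_card b.2.1
      rw [Fintype.card_fin] at this
      exact ⟨this, b.2.2⟩⟩,
    ⟨fun i => ⟨b.1 i, Submodule.subset_span ⟨i, rfl⟩⟩, by
      have h := b.2.1
      exact LinearIndependent.of_comp (Submodule.subtype _) h⟩⟩
  invFun x := ⟨fun i => (x.2.1 i : V), by
      have h := x.2.2
      exact h.map' (Submodule.subtype _) (Submodule.ker_subtype _), by
      have hspan : Submodule.span F (Set.range fun i => (x.2.1 i : V)) = x.1.1 := by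
        have hli : LinearIndependent F (fun i => (x.2.1 i : V)) :=
          x.2.2.map' (Submodule.subtype _) (Submodule.ker_subtype _)
        apply Submodule.eq_of_le_of_finrank_eq
        · rw [Submodule.span_le]
          rintro _ ⟨i, rfl⟩
          exact (x.2.1 i).2
        · rw [finrank_span_eq_card hli, Fintype.card_fin]
          exact x.1.2.1.symm
      rw [hspan]
      exact x.1.2.2⟩
  left_inv b := rfl
  right_inv x := by
    obtain ⟨⟨W, hW⟩, ⟨b, hb⟩⟩ := x
    have hspan : Submodule.span F (Set.range fun i => (b i : V)) = W := by
      have hli : LinearIndependent F (fun i => (b i : V)) :=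
        hb.map' (Submodule.subtype _) (Submodule.ker_subtype _)
      apply Submodule.eq_of_le_of_finrank_eq
      · rw [Submodule.span_le]
        rintro _ ⟨i, rfl⟩
        exact (b i).2
      · rw [finrank_span_eq_card hli, Fintype.card_fin]
        exact hW.1.symm
    apply Sigma.ext
    · exact Subtype.ext hspan
    · have key : ∀ (W' : Submodule F V) (hW' : finrank F W' = k ∧ P W') (b' : Fin k → W')
          (hb' : LinearIndependent F b'), W' = W → (∀ i, (b' i : V) = (b i : V)) →
          HEq (⟨b', hb'⟩ : {b : Fin k → W' // LinearIndependent F b})
            (⟨b, hb⟩ : {b : Fin k → W // LinearIndependent F b}) := by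
        intro W' hW' b' hb' h1 h2
        subst h1
        apply heq_of_eq
        apply Subtype.ext
        funext i
        exact Subtype.ext (h2 i)
      exact key _ (by
        have := hW
        rw [← hspan] at this
        exact this) _ _ hspan (fun i => rfl)

/-- (number of `k`-subspaces with property `P`) × (number of ordered bases of a `k`-space)
= number of linearly independent `k`-tuples whose span has property `P`. -/
theorem card_subspaces_mul [Fintype F] [FiniteDimensional F V] (k : ℕ)
    (P : Submodule F V → Prop) :
    Nat.card {W : Submodule F V // finrank F W = k ∧ P W} *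
        ∏ i : Fin k, (Fintype.card F ^ k - Fintype.card F ^ (i : ℕ)) =
      Nat.card {b : Fin k → V // LinearIndependent F b ∧ P (Submodule.span F (Set.range b))} := by
  classical
  have : Finite V := Module.finite_of_finite F
  have : Finite (Submodule F V) := inferInstance
  have : Fintype {W : Submodule F V // finrank F W = k ∧ P W} := Fintype.ofFinite _
  rw [Nat.card_congr (framesEquiv k P), Nat.card_sigma]
  rw [Finset.sum_congr rfl (g := fun _ => ∏ i : Fin k, (Fintype.card F ^ k - Fintype.card F ^ (i : ℕ)))]
  · rw [Finset.sum_const, smul_eq_mul, Finset.card_univ, Nat.card_eq_fintype_card]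
  · rintro ⟨W, hW⟩ -
    have : Fintype W := Fintype.ofFinite _
    have := card_linearIndependent (K := F) (V := W) (k := k) (by rw [hW.1])
    rw [this, hW.1]

end Cfsg.Agent.ClassicalGeometry.SubspaceFrames
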