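import Mathlib
import Cfsg.Prelude.Def_Classical
import Cfsg.Agent.LieClassical.HermBasic
import Cfsg.Agent.ClassicalGeometry.SubspaceFrames

/-!
# Counting totally isotropic lines of the standard Hermitian form

`hF : Fintype.card F = q ^ 2` throughout.
-/

set_option autoImplicit false

namespace Cfsg.Agent.ClassicalGeometry.HermLines

open Cfsg Module Cfsg.Agent.LieClassical.HermBasic

variable {F : Type*} [Field F] [Fintype F] {q : ℕ}

/-- Every element of the fixed field is the trace of exactly `q` elements. -/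
theorem card_trace_eq (hF : Fintype.card F = q ^ 2) {c : F} (hc : c ^ q = c) :
    Nat.card {s : F // s + s ^ q = c} = q := by
  classical
  have hfib : ∀ c : F, c ^ q = c →
      Nat.card {s : F // s + s ^ q = c} = Nat.card {s : F // s + s ^ q = 0} := by
    intro c hc
    obtain ⟨x, hx⟩ := exists_trace_eq hF hc
    apply Nat.card_congr
    refine
      { toFun := fun s => ⟨s.1 - x, ?_⟩
        invFun := fun s => ⟨s.1 + x, ?_⟩
        left_inv := fun s => Subtype.ext (by simp)
        right_inv := fun s => Subtype.ext (by simp) }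
    · have h1 := s.2
      rw [sub_pow_q hF]
      have : s.1 - x + (s.1 ^ q - x ^ q) = (s.1 + s.1 ^ q) - (x + x ^ q) := by ring
      rw [this, h1, hx, sub_self]
    · have h1 := s.2
      rw [add_pow_q hF]
      have : s.1 + x + (s.1 ^ q + x ^ q) = (s.1 + s.1 ^ q) + (x + x ^ q) := by ring
      rw [this, h1, hx, zero_add]
  have e : F ≃ Σ c : {c : F // c ^ q = c}, {s : F // s + s ^ q = c.1} :=
    { toFun := fun s => ⟨⟨s + s ^ q, trace_pow_q hF s⟩, ⟨s, rfl⟩⟩
      invFun := fun x => x.2.1
      left_inv := fun s => rfl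
      right_inv := by
        rintro ⟨⟨c, hc⟩, ⟨s, hs⟩⟩
        simp only at hs
        subst hs
        rfl }
  have h1 := Nat.card_congr e
  rw [Nat.card_eq_fintype_card, hF, Nat.card_sigma,
    Finset.sum_congr rfl (g := fun _ => Nat.card {s : F // s + s ^ q = 0})
      (fun c _ => hfib c.1 c.2), Finset.sum_const, smul_eq_mul, Finset.card_univ,
    ← Nat.card_eq_fintype_card, card_fixed hF, sq] at h1
  rw [hfib c hc]
  exact (Nat.eq_of_mul_eq_mul_left (q_pos hF) h1).symm

/-- The number of `t` with `c + t a + (t a) ^ q = 0` is `q`. -/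
theorem card_trace_shift (hF : Fintype.card F = q ^ 2) {a c : F} (ha : a ≠ 0) (hc : c ^ q = c) :
    Nat.card {t : F // c + (t * a + (t * a) ^ q) = 0} = q := by
  refine Eq.trans ?_ (card_trace_eq hF (c := -c) (by rw [neg_pow_q hF, hc]))
  apply Nat.card_congr
  refine
    { toFun := fun t => ⟨t.1 * a, ?_⟩
      invFun := fun s => ⟨s.1 * a⁻¹, ?_⟩
      left_inv := fun t => Subtype.ext (by simp [ha])
      right_inv := fun t => Subtype.ext (by simp [ha]) }
  · exact (neg_eq_of_add_eq_zero_right t.2).symm
  · rw [mul_assoc, inv_mul_cancel₀ ha, mul_one, s.2, add_neg_cancel]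

variable {n : ℕ}

/-- The linear functional `v ↦ h(v, u)`. -/
def hermLeft (q : ℕ) (u : Fin n → F) : (Fin n → F) →ₗ[F] F where
  toFun v := hermForm n F q v u
  map_add' v w := herm_add_left v w u
  map_smul' c v := by rw [herm_smul_left]; rfl

omit [Fintype F] in
theorem hermLeft_apply (u v : Fin n → F) : hermLeft q u v = hermForm n F q v u := rfl

/-- The perpendicular space of a nonzero vector has `q ^ (2n) / q ^ 2` elements. -/
theorem card_perp (hF : Fintype.card F = q ^ 2) {u : Fin n → F} (hu : u ≠ 0) :
    Nat.card {v : Fin n → F // hermForm n F q v u = 0} * q ^ 2 = q ^ (2 * n) := by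
  have hsurj : Function.Surjective (hermLeft q u) := by
    obtain ⟨v, hv⟩ := exists_herm_ne_zero hF hu
    have hv' : hermLeft q u v ≠ 0 := fun h => hv (herm_eq_zero_swap hF h)
    intro c
    refine ⟨(c * (hermLeft q u v)⁻¹) • v, ?_⟩
    rw [map_smul, smul_eq_mul, mul_assoc, inv_mul_cancel₀ hv', mul_one]
  have h1 : Nat.card (Fin n → F) =
      Nat.card (LinearMap.ker (hermLeft q u)) * Nat.card (LinearMap.range (hermLeft q u)) := by
    rw [Nat.card_congr (hermLeft q u).quotKerEquivRange.toEquiv.symm]
    exact Submodule.card_eq_card_quotient_mul_card (LinearMap.ker (hermLeft q u))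
  rw [LinearMap.range_eq_top.2 hsurj] at h1
  have h2 : Nat.card (⊤ : Submodule F F) = q ^ 2 := by
    rw [Nat.card_congr (Submodule.topEquiv (R := F) (M := F)).toEquiv,
      Nat.card_eq_fintype_card, hF]
  rw [h2, Nat.card_fun, Nat.card_eq_fintype_card, hF, Nat.card_eq_fintype_card,
    Fintype.card_fin, ← pow_mul] at h1
  rw [h1]
  rfl

/-- Isotropic vectors not perpendicular to a nonzero isotropic vector. -/
theorem card_isotropic_not_perp (hF : Fintype.card F = q ^ 2) {u : Fin n → F}
    (hu0 : hermForm n F q u u = 0) :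
    Nat.card {v : Fin n → F // hermForm n F q v v = 0 ∧ hermForm n F q v u ≠ 0} * q =
      Nat.card {v : Fin n → F // hermForm n F q v u ≠ 0} := by
  classical
  have hshift : ∀ (v : Fin n → F) (t : F),
      hermForm n F q (v + t • u) (v + t • u) = hermForm n F q v v +
        (t * hermForm n F q u v + (t * hermForm n F q u v) ^ q) := by
    intro v t
    rw [herm_add_left, herm_add_right hF, herm_add_right hF, herm_smul_left, herm_smul_left,
      herm_smul_right, herm_smul_right, hu0, mul_pow, ← herm_swap hF u v]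
    ring
  have hshift2 : ∀ (v : Fin n → F) (t : F),
      hermForm n F q (v + t • u) u = hermForm n F q v u := by
    intro v t
    rw [herm_add_left, herm_smul_left, hu0, mul_zero, add_zero]
  have e : {v : Fin n → F // hermForm n F q v v = 0 ∧ hermForm n F q v u ≠ 0} × F ≃
      Σ v : {v : Fin n → F // hermForm n F q v u ≠ 0},
        {t : F // hermForm n F q v.1 v.1 +
          (t * hermForm n F q u v.1 + (t * hermForm n F q u v.1) ^ q) = 0} :=
    { toFun := fun x => ⟨⟨x.1.1 - x.2 • u, by
          have := hshift2 (x.1.1 - x.2 • u) x.2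
          rw [sub_add_cancel] at this
          rw [← this]
          exact x.1.2.2⟩, ⟨x.2, by
          rw [← hshift, sub_add_cancel]
          exact x.1.2.1⟩⟩
      invFun := fun x => ⟨⟨x.1.1 + x.2.1 • u, by
          rw [hshift, hshift2]
          exact ⟨x.2.2, x.1.2⟩⟩, x.2.1⟩
      left_inv := by
        rintro ⟨⟨v, hv⟩, t⟩
        simp
      right_inv := by
        rintro ⟨⟨v, hv⟩, ⟨t, ht⟩⟩
        apply Sigma.ext
        · exact Subtype.ext (add_sub_cancel_right _ _)
        · refine (Subtype.heq_iff_coe_eq ?_).2 rfl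
          intro t'
          simp only [add_sub_cancel_right] }
  have h1 := Nat.card_congr e
  rw [Nat.card_prod, Nat.card_sigma,
    Finset.sum_congr rfl (g := fun _ => q), Finset.sum_const, smul_eq_mul, Finset.card_univ,
    Nat.card_eq_fintype_card (α := F), hF, sq, ← mul_assoc, ← Nat.card_eq_fintype_card] at h1
  · exact Nat.eq_of_mul_eq_mul_right (q_pos hF) h1
  · rintro ⟨v, hv⟩ -
    exact card_trace_shift hF (fun h => hv (herm_eq_zero_swap hF h)) (herm_self_pow hF v)

/-- The number `N` of isotropic vectors perpendicular to a nonzero isotropic vector, in terms of the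
number `I` of all isotropic vectors: `N q ^ 3 + q ^ (2n + 2) = I q ^ 3 + q ^ (2n)`. -/
theorem card_isotropic_perp (hF : Fintype.card F = q ^ 2) {u : Fin n → F} (hu : u ≠ 0)
    (hu0 : hermForm n F q u u = 0) :
    Nat.card {v : Fin n → F // hermForm n F q v v = 0 ∧ hermForm n F q v u = 0} * q ^ 3 +
      q ^ (2 * n + 2) =
    Nat.card {v : Fin n → F // hermForm n F q v v = 0} * q ^ 3 + q ^ (2 * n) := by
  classical
  have h1 := card_isotropic_not_perp hF hu0
  have h2 := card_perp hF hu
  have h3 : Nat.card {v : Fin n → F // hermForm n F q v v = 0} =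
      Nat.card {v : Fin n → F // hermForm n F q v v = 0 ∧ hermForm n F q v u = 0} +
      Nat.card {v : Fin n → F // hermForm n F q v v = 0 ∧ hermForm n F q v u ≠ 0} := by
    simp only [Nat.card_eq_fintype_card, Fintype.card_subtype]
    rw [← Finset.card_filter_add_card_filter_not (s := Finset.univ.filter
      (fun v : Fin n → F => hermForm n F q v v = 0)) (fun v => hermForm n F q v u = 0)]
    simp only [Finset.filter_filter]
  have h4 : q ^ (2 * n) = Nat.card {v : Fin n → F // hermForm n F q v u = 0} +
      Nat.card {v : Fin n → F // hermForm n F q v u ≠ 0} := by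
    have : q ^ (2 * n) = Fintype.card (Fin n → F) := by
      rw [Fintype.card_fun, hF, Fintype.card_fin, ← pow_mul]
    rw [this]
    simp only [Nat.card_eq_fintype_card, Fintype.card_subtype]
    rw [← Finset.card_univ, ← Finset.card_filter_add_card_filter_not (s := Finset.univ)
      (fun v : Fin n → F => hermForm n F q v u = 0)]
  generalize Nat.card {v : Fin n → F // hermForm n F q v v = 0 ∧ hermForm n F q v u = 0} = N at *
  generalize Nat.card {v : Fin n → F // hermForm n F q v v = 0 ∧ hermForm n F q v u ≠ 0} = A at *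
  generalize Nat.card {v : Fin n → F // hermForm n F q v v = 0} = I at *
  generalize Nat.card {v : Fin n → F // hermForm n F q v u = 0} = K at *
  generalize Nat.card {v : Fin n → F // hermForm n F q v u ≠ 0} = S at *
  have h5 : q ^ (2 * n + 2) = K * q ^ 2 + A * q * q ^ 2 := by
    rw [pow_add, h4, h1]; ring
  rw [h5, h3, ← h2]
  ring

/-- The span of a family is totally isotropic iff all values of the form on the family vanish. -/
theorem span_isotropic_iff (hF : Fintype.card F = q ^ 2) {k : ℕ} (b : Fin k → (Fin n → F)) :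
    (∀ u ∈ Submodule.span F (Set.range b), ∀ v ∈ Submodule.span F (Set.range b),
      hermForm n F q u v = 0) ↔ ∀ i j, hermForm n F q (b i) (b j) = 0 := by
  constructor
  · intro h i j
    exact h _ (Submodule.subset_span ⟨i, rfl⟩) _ (Submodule.subset_span ⟨j, rfl⟩)
  · intro h u hu v hv
    induction hu using Submodule.span_induction with
    | mem x hx =>
      obtain ⟨i, rfl⟩ := hx
      induction hv using Submodule.span_induction with
      | mem y hy =>
        obtain ⟨j, rfl⟩ := hy
        exact h i j
      | zero => exact herm_zero_right hF _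
      | add y z _ _ hy hz => rw [herm_add_right hF, hy, hz, add_zero]
      | smul a y _ hy => rw [herm_smul_right, hy, mul_zero]
    | zero => exact herm_zero_left _
    | add x y _ _ hx hy => rw [herm_add_left, hx, hy, add_zero]
    | smul a x _ hx => rw [herm_smul_left, hx, mul_zero]

/-- The number of isotropic `v ⊥ u` outside the line of `u`. -/
theorem card_fibre (hF : Fintype.card F = q ^ 2) {u : Fin n → F} (hu : u ≠ 0)
    (hu0 : hermForm n F q u u = 0) :
    Nat.card {v : Fin n → F // (hermForm n F q v v = 0 ∧ hermForm n F q v u = 0) ∧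
      ∀ a : F, a • u ≠ v} + q ^ 2 =
    Nat.card {v : Fin n → F // hermForm n F q v v = 0 ∧ hermForm n F q v u = 0} := by
  classical
  have h1 : Nat.card {v : Fin n → F // (hermForm n F q v v = 0 ∧ hermForm n F q v u = 0) ∧
      ¬ ∀ a : F, a • u ≠ v} = q ^ 2 := by
    rw [← hF, ← Nat.card_eq_fintype_card]
    refine (Nat.card_congr (Equiv.ofBijective
      (fun a : F => (⟨a • u, ⟨⟨?_, ?_⟩, ?_⟩⟩ : {v : Fin n → F //
        (hermForm n F q v v = 0 ∧ hermForm n F q v u = 0) ∧ ¬ ∀ a : F, a • u ≠ v}))
        ⟨?_, ?_⟩)).symm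
    · rw [herm_smul_left, herm_smul_right, hu0, mul_zero, mul_zero]
    · rw [herm_smul_left, hu0, mul_zero]
    · intro h; exact h a rfl
    · intro a b hab
      have := congrArg Subtype.val hab
      exact smul_left_injective F hu this
    · rintro ⟨v, hv, hv2⟩
      push Not at hv2
      obtain ⟨a, ha⟩ := hv2
      exact ⟨a, Subtype.ext ha⟩
  rw [← h1]
  simp only [Nat.card_eq_fintype_card, Fintype.card_subtype]
  rw [← Finset.card_filter_add_card_filter_not (s := Finset.univ.filter
      (fun v : Fin n → F => hermForm n F q v v = 0 ∧ hermForm n F q v u = 0))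
      (fun v => ∀ a : F, a • u ≠ v)]
  simp only [Finset.filter_filter]

/-- **The number of totally isotropic lines** `L` of the Hermitian `n`-space: if there are `I` isotropic
vectors and `N` with `N q ^ 3 + q ^ (2n + 2) = I q ^ 3 + q ^ (2n)` then
`L (q^4 - 1) (q^4 - q^2) = (I - 1) (N - q ^ 2)`. -/
theorem card_lines (hF : Fintype.card F = q ^ 2) (N I : ℕ)
    (hI : Nat.card {v : Fin n → F // hermForm n F q v v = 0} = I)
    (hN : N * q ^ 3 + q ^ (2 * n + 2) = I * q ^ 3 + q ^ (2 * n)) :
    Nat.card {W : Submodule F (Fin n → F) // Module.finrank F W = 2 ∧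
      ∀ u ∈ W, ∀ v ∈ W, hermForm n F q u v = 0} * ((q ^ 4 - 1) * (q ^ 4 - q ^ 2)) =
    (I - 1) * (N - q ^ 2) := by
  classical
  have h1 := SubspaceFrames.card_subspaces_mul (F := F) (V := Fin n → F) 2
    (fun W => ∀ u ∈ W, ∀ v ∈ W, hermForm n F q u v = 0)
  have h2 : ∏ i : Fin 2, (Fintype.card F ^ 2 - Fintype.card F ^ (i : ℕ)) =
      (q ^ 4 - 1) * (q ^ 4 - q ^ 2) := by
    rw [Fin.prod_univ_two, hF]
    simp only [Fin.val_zero, Fin.val_one, pow_zero, pow_one]
    rw [← pow_mul]
  rw [h2] at h1
  rw [h1]
  have e : {b : Fin 2 → (Fin n → F) // LinearIndependent F b ∧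
      ∀ u ∈ Submodule.span F (Set.range b), ∀ v ∈ Submodule.span F (Set.range b),
        hermForm n F q u v = 0} ≃
      Σ u : {u : Fin n → F // hermForm n F q u u = 0 ∧ u ≠ 0},
        {v : Fin n → F // (hermForm n F q v v = 0 ∧ hermForm n F q v u.1 = 0) ∧
          ∀ a : F, a • u.1 ≠ v} :=
    { toFun := fun b => ⟨⟨b.1 1, ((span_isotropic_iff hF b.1).1 b.2.2) 1 1,
          (linearIndependent_fin2.1 b.2.1).1⟩,
        ⟨b.1 0, ⟨((span_isotropic_iff hF b.1).1 b.2.2) 0 0,
          ((span_isotropic_iff hF b.1).1 b.2.2) 0 1⟩, (linearIndependent_fin2.1 b.2.1).2⟩⟩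
      invFun := fun x => ⟨![x.2.1, x.1.1], linearIndependent_fin2.2 ⟨x.1.2.2, x.2.2.2⟩, by
        rw [span_isotropic_iff hF]
        intro i j
        fin_cases i <;> fin_cases j
        · exact x.2.2.1.1
        · exact x.2.2.1.2
        · exact herm_eq_zero_swap hF x.2.2.1.2
        · exact x.1.2.1⟩
      left_inv := by
        rintro ⟨b, hb⟩
        apply Subtype.ext
        funext i
        fin_cases i <;> rfl
      right_inv := by
        rintro ⟨⟨u, hu⟩, ⟨v, hv⟩⟩
        rfl }
  rw [Nat.card_congr e, Nat.card_sigma, Finset.sum_congr rfl (g := fun _ => N - q ^ 2)]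
  · rw [Finset.sum_const, smul_eq_mul, Finset.card_univ, ← Nat.card_eq_fintype_card]
    congr 1
    rw [← hI]
    have h3 : Nat.card {v : Fin n → F // hermForm n F q v v = 0} =
        Nat.card {v : Fin n → F // hermForm n F q v v = 0 ∧ v ≠ 0} + 1 := by
      have h4 : Nat.card {v : Fin n → F // hermForm n F q v v = 0 ∧ ¬ v ≠ 0} = 1 := by
        rw [Nat.card_eq_one_iff_unique]
        refine ⟨⟨?_⟩, ⟨⟨0, herm_zero_left _, by simp⟩⟩⟩
        rintro ⟨a, ha⟩ ⟨b, hb⟩
        exact Subtype.ext ((not_not.1 ha.2).trans (not_not.1 hb.2).symm)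
      rw [← h4]
      simp only [Nat.card_eq_fintype_card, Fintype.card_subtype]
      rw [← Finset.card_filter_add_card_filter_not (s := Finset.univ.filter
        (fun v : Fin n → F => hermForm n F q v v = 0)) (fun v => v ≠ 0)]
      simp only [Finset.filter_filter]
    omega
  · rintro ⟨u, hu, hu0⟩ -
    have h5 := card_fibre hF hu0 hu
    have h6 := card_isotropic_perp hF hu0 hu
    rw [hI, ← hN] at h6
    have h7 := Nat.eq_of_mul_eq_mul_right (pow_pos (q_pos hF) 3) (Nat.add_right_cancel h6)
    rw [h7] at h5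
    exact Nat.eq_sub_of_add_eq h5

end Cfsg.Agent.ClassicalGeometry.HermLines
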