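import Mathlib
import Cfsg.Prelude.Def_Classical

set_option autoImplicit false
open Cfsg

namespace Cfsg.Agent.ClassicalGeometry.HermLines4

variable {F : Type*} [Field F] [Fintype F] {q : ℕ}

/-- `q` is a power of the characteristic. -/
theorem exists_prime_pow (hF : Fintype.card F = q ^ 2) :
    ∃ (p k : ℕ), p.Prime ∧ CharP F p ∧ q = p ^ k := by
  obtain ⟨p, hp⟩ := CharP.exists F
  obtain ⟨n, hpp, hn⟩ := FiniteField.card F p
  have h1 : q ∣ p ^ (n : ℕ) := by
    rw [← hn, hF]
    exact dvd_pow_self q (by norm_num)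
  obtain ⟨k, -, hk⟩ := (Nat.dvd_prime_pow hpp).1 h1
  exact ⟨p, k, hpp, hp, hk⟩

theorem two_le (hF : Fintype.card F = q ^ 2) : 2 ≤ q := by
  have h1 : 1 < Fintype.card F := Fintype.one_lt_card
  rw [hF] at h1
  by_contra h
  have : q = 0 ∨ q = 1 := by omega
  rcases this with rfl | rfl <;> norm_num at h1

theorem add_pow_q (hF : Fintype.card F = q ^ 2) (x y : F) : (x + y) ^ q = x ^ q + y ^ q := by
  obtain ⟨p, k, hp, hc, rfl⟩ := exists_prime_pow hF
  have := Fact.mk hp
  exact add_pow_char_pow x y p k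

theorem neg_pow_q (hF : Fintype.card F = q ^ 2) (x : F) : (-x) ^ q = -(x ^ q) := by
  have h := add_pow_q hF x (-x)
  rw [add_neg_cancel, zero_pow (by have := two_le hF; omega)] at h
  exact (neg_eq_of_add_eq_zero_right h.symm).symm

theorem pow_q_pow_q (hF : Fintype.card F = q ^ 2) (x : F) : (x ^ q) ^ q = x := by
  rw [← pow_mul, ← sq, ← hF]
  exact FiniteField.pow_card x

/-- number of elements of given nonzero norm -/
theorem card_norm_eq (hF : Fintype.card F = q ^ 2) {c : F} (hc : c ^ q = c) (h0 : c ≠ 0) :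
    Nat.card {x : F // x * x ^ q = c} = q + 1 := by
  classical
  have hq := two_le hF
  -- the norm map on units
  have hcard : Nat.card Fˣ = (q + 1) * (q - 1) := by
    rw [Nat.card_eq_fintype_card, Fintype.card_units, hF]
    zify [show 1 ≤ q ^ 2 from Nat.one_le_pow _ _ (by omega), show 1 ≤ q by omega]
    ring
  have hker : Nat.card (powMonoidHom (q + 1) : Fˣ →* Fˣ).ker = q + 1 := by
    rw [IsCyclic.card_powMonoidHom_ker, hcard, Nat.gcd_comm, Nat.gcd_mul_right_right]
  have hran : Nat.card (powMonoidHom (q + 1) : Fˣ →* Fˣ).range = q - 1 := by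
    rw [IsCyclic.card_powMonoidHom_range, hcard, Nat.gcd_comm, Nat.gcd_mul_right_right,
      Nat.mul_div_cancel_left _ (by omega)]
  have hker2 : Nat.card (powMonoidHom (q - 1) : Fˣ →* Fˣ).ker = q - 1 := by
    rw [IsCyclic.card_powMonoidHom_ker, hcard, Nat.gcd_comm, Nat.gcd_mul_left_right]
  have hle : (powMonoidHom (q + 1) : Fˣ →* Fˣ).range ≤ (powMonoidHom (q - 1) : Fˣ →* Fˣ).ker := by
    rintro _ ⟨x, rfl⟩
    rw [MonoidHom.mem_ker, powMonoidHom_apply, powMonoidHom_apply, ← pow_mul, ← hcard]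
    exact pow_card_eq_one'
  have heq : (powMonoidHom (q + 1) : Fˣ →* Fˣ).range = (powMonoidHom (q - 1) : Fˣ →* Fˣ).ker :=
    Subgroup.eq_of_le_of_card_ge hle (by rw [hran, hker2])
  have hcmem : Units.mk0 c h0 ∈ (powMonoidHom (q + 1) : Fˣ →* Fˣ).range := by
    rw [heq, MonoidHom.mem_ker, powMonoidHom_apply]
    ext
    simp only [Units.val_pow_eq_pow_val, Units.val_mk0, Units.val_one]
    have h1 : c ^ (q - 1) * c = c := by
      rw [← pow_succ, Nat.sub_add_cancel (by omega), hc]
    exact mul_right_cancel₀ h0 (by rw [h1, one_mul])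
  obtain ⟨x0, hx0⟩ := hcmem
  have hx0' : (x0 : F) ^ (q + 1) = c := by
    have := congrArg (Units.val) hx0
    simpa using this
  rw [← hker]
  refine Nat.card_congr ?_
  refine
    { toFun := fun x => ⟨x0⁻¹ * Units.mk0 x.1 ?_, ?_⟩
      invFun := fun y => ⟨(x0 * y.1 : Fˣ), ?_⟩
      left_inv := ?_
      right_inv := ?_ }
  · intro h
    have h2 := x.2
    rw [h, zero_mul] at h2
    exact h0 h2.symm
  · rw [MonoidHom.mem_ker, powMonoidHom_apply]
    have h2 : x.1 * x.1 ^ q = c := x.2
    rw [mul_comm, ← pow_succ] at h2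
    ext
    simp only [Units.val_pow_eq_pow_val, Units.val_mul, Units.val_mk0, Units.val_one,
      Units.val_inv_eq_inv_val, mul_pow, inv_pow, hx0', h2]
    exact inv_mul_cancel₀ h0
  · have h2 := y.2
    rw [MonoidHom.mem_ker, powMonoidHom_apply] at h2
    have h3 : (y.1 : F) ^ (q + 1) = 1 := by
      have := congrArg (Units.val) h2
      simpa using this
    rw [mul_comm, ← pow_succ, Units.val_mul, mul_pow, hx0', h3, mul_one]
  · intro x
    ext
    simp
  · intro y
    ext
    simp

theorem card_norm_zero (hF : Fintype.card F = q ^ 2) :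
    Nat.card {x : F // x * x ^ q = 0} = 1 := by
  have hq := two_le hF
  rw [Nat.card_eq_one_iff_unique]
  refine ⟨⟨?_⟩, ⟨0, by simp⟩⟩
  rintro ⟨x, hx⟩ ⟨y, hy⟩
  have h0 : ∀ z : F, z * z ^ q = 0 → z = 0 := by
    intro z hz
    rcases mul_eq_zero.1 hz with h | h
    · exact h
    · exact pow_eq_zero_iff (by omega) |>.1 h
  ext
  simp [h0 x hx, h0 y hy]

/-- `-1` is fixed -/
theorem neg_one_pow_q (hF : Fintype.card F = q ^ 2) : (-1 : F) ^ q = -1 := by
  rw [neg_pow_q hF, one_pow]

theorem norm_pow_q (hF : Fintype.card F = q ^ 2) (x : F) : (x * x ^ q) ^ q = x * x ^ q := by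
  rw [mul_pow, pow_q_pow_q hF, mul_comm]

/-- number of pairs of norm sum `-1` -/
theorem card_pair (hF : Fintype.card F = q ^ 2) :
    Nat.card {x : F × F // x.1 * x.1 ^ q + x.2 * x.2 ^ q = -1} = (q + 1) * (q ^ 2 - q) := by
  classical
  have hq := two_le hF
  have e : {x : F × F // x.1 * x.1 ^ q + x.2 * x.2 ^ q = -1} ≃
      Σ a : F, {b : F // b * b ^ q = -1 - a * a ^ q} :=
    { toFun := fun x => ⟨x.1.1, x.1.2, by linear_combination x.2⟩
      invFun := fun y => ⟨(y.1, y.2.1), by have := y.2.2; simp only [this]; ring⟩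
      left_inv := fun x => rfl
      right_inv := fun y => rfl }
  rw [Nat.card_congr e, Nat.card_sigma]
  have h1 : ∀ a : F, Nat.card {b : F // b * b ^ q = -1 - a * a ^ q} =
      if a * a ^ q = -1 then 1 else q + 1 := by
    intro a
    split_ifs with h
    · rw [h, sub_self]
      exact card_norm_zero hF
    · refine card_norm_eq hF ?_ ?_
      · rw [sub_eq_add_neg, add_pow_q hF, neg_one_pow_q hF, neg_pow_q hF, norm_pow_q hF]
      · intro h2
        exact h (sub_eq_zero.1 h2).symm
  rw [Finset.sum_congr rfl (fun a _ => h1 a), Finset.sum_ite, Finset.sum_const, Finset.sum_const]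
  have h2 : (Finset.univ.filter (fun a : F => a * a ^ q = -1)).card = q + 1 := by
    rw [← card_norm_eq hF (c := -1) (neg_one_pow_q hF) (by simp), Nat.card_eq_fintype_card,
      Fintype.card_subtype]
  have h3 : (Finset.univ.filter (fun a : F => ¬ a * a ^ q = -1)).card = q ^ 2 - (q + 1) := by
    have := Finset.card_filter_add_card_filter_not (s := (Finset.univ : Finset F)) (fun a : F => a * a ^ q = -1)
    rw [h2, Finset.card_univ, hF] at this
    omega
  rw [h2, h3]
  have h4 : q + 1 ≤ q ^ 2 := by nlinarith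
  have h5 : q ≤ q ^ 2 := by nlinarith
  simp only [smul_eq_mul]
  zify [h4, h5]
  ring

end Cfsg.Agent.ClassicalGeometry.HermLines4
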