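import Mathlib
import Cfsg.Prelude.Def_ClassicalGeometry
import Cfsg.Prelude.Def_LieClassical
import Cfsg.Agent.LieClassical.HermBasic
import Cfsg.Agent.ClassicalGeometry.HermFrame

/-!
# Stabilisers of totally isotropic subspaces in unitary groups, as block matrices
-/

set_option autoImplicit false

namespace Cfsg.Agent.ClassicalGeometry.HermParabolic

open Cfsg Cfsg.Agent.LieClassical.HermBasic Cfsg.Agent.ClassicalGeometry.HermFrame
open Matrix

variable {F : Type*} [Field F] [Fintype F] {q : ℕ}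

/-! ### Matrix form of the isometry condition -/

theorem map_conj_conj (hF : Fintype.card F = q ^ 2) {ι κ : Type*} (M : Matrix ι κ F) :
    (M.map (conj hF)).map (conj hF) = M := by
  ext i j
  simp only [Matrix.map_apply, conj_apply]
  exact pow_q_pow_q hF _

theorem herm_mulVec_mulVec (hF : Fintype.card F = q ^ 2) {n : ℕ} (M : Matrix (Fin n) (Fin n) F)
    (u v : Fin n → F) :
    hermForm n F q (M *ᵥ u) (M *ᵥ v) = u ⬝ᵥ ((Mᵀ * M.map (conj hF)) *ᵥ fun i => (v i) ^ q) := by
  have h1 : hermForm n F q (M *ᵥ u) (M *ᵥ v) = (M *ᵥ u) ⬝ᵥ (M.map (conj hF) *ᵥ fun i => (v i) ^ q) := by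
    rw [herm_def, dotProduct]
    refine Finset.sum_congr rfl fun i _ => ?_
    congr 1
    simp only [Matrix.mulVec, dotProduct, sum_pow_q hF, mul_pow, Matrix.map_apply, conj_apply]
  rw [h1, ← Matrix.mulVec_mulVec, Matrix.dotProduct_mulVec u, Matrix.vecMul_transpose]

/-- A matrix preserves the form iff `Mᵀ * σ M = 1`. -/
theorem preserves_iff (hF : Fintype.card F = q ^ 2) {n : ℕ} (M : Matrix (Fin n) (Fin n) F) :
    (∀ u v : Fin n → F, hermForm n F q (M *ᵥ u) (M *ᵥ v) = hermForm n F q u v) ↔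
      Mᵀ * M.map (conj hF) = 1 := by
  constructor
  · intro h
    ext i j
    have h1 := h (Pi.single i 1) (Pi.single j 1)
    rw [herm_mulVec_mulVec hF, herm_single_left, one_mul] at h1
    have h2 : (fun l => ((Pi.single j 1 : Fin n → F) l) ^ q) = Pi.single j 1 := by
      funext l
      rcases eq_or_ne l j with rfl | hl
      · simp
      · simp [Pi.single_eq_of_ne hl, zero_pow_q hF]
    rw [h2, Matrix.mulVec_single_one, single_one_dotProduct] at h1
    rw [Matrix.one_apply]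
    simp only [Matrix.col_apply] at h1
    rw [h1]
    by_cases hij : i = j
    · subst hij; simp
    · simp [hij, zero_pow_q hF]
  · intro h u v
    rw [herm_mulVec_mulVec hF, h, Matrix.one_mulVec]
    rfl

/-! ### Block matrices -/

section Blocks

variable {k m : ℕ}

/-- Matrices whose lower left block vanishes. -/
def blk (A : Matrix (Fin k) (Fin k) F) (B : Matrix (Fin k) (Fin m) F) (C : Matrix (Fin k) (Fin k) F)
    (D : Matrix (Fin m) (Fin m) F) (E : Matrix (Fin m) (Fin k) F) (R : Matrix (Fin k) (Fin m) F)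
    (G : Matrix (Fin k) (Fin k) F) :
    Matrix (Fin k ⊕ (Fin m ⊕ Fin k)) (Fin k ⊕ (Fin m ⊕ Fin k)) F :=
  fromBlocks A (fromCols B C) 0 (fromBlocks D E R G)

omit [Fintype F] in
theorem blk_def (A : Matrix (Fin k) (Fin k) F) (B : Matrix (Fin k) (Fin m) F)
    (C : Matrix (Fin k) (Fin k) F)
    (D : Matrix (Fin m) (Fin m) F) (E : Matrix (Fin m) (Fin k) F) (R : Matrix (Fin k) (Fin m) F)
    (G : Matrix (Fin k) (Fin k) F) :
    blk A B C D E R G = fromBlocks A (fromCols B C) 0 (fromBlocks D E R G) := rfl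

omit [Fintype F] in
theorem blk_inj {A A' : Matrix (Fin k) (Fin k) F} {B B' : Matrix (Fin k) (Fin m) F}
    {C C' : Matrix (Fin k) (Fin k) F}
    {D D' : Matrix (Fin m) (Fin m) F} {E E' : Matrix (Fin m) (Fin k) F}
    {R R' : Matrix (Fin k) (Fin m) F} {G G' : Matrix (Fin k) (Fin k) F} :
    blk A B C D E R G = blk A' B' C' D' E' R' G' ↔
      A = A' ∧ B = B' ∧ C = C' ∧ D = D' ∧ E = E' ∧ R = R' ∧ G = G' := by
  rw [blk_def, blk_def, Matrix.fromBlocks_inj, Matrix.fromBlocks_inj, Matrix.fromCols_inj.eq_iff]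
  tauto

theorem form_blk (hF : Fintype.card F = q ^ 2)
    (A : Matrix (Fin k) (Fin k) F) (B : Matrix (Fin k) (Fin m) F) (C : Matrix (Fin k) (Fin k) F)
    (D : Matrix (Fin m) (Fin m) F) (E : Matrix (Fin m) (Fin k) F) (R : Matrix (Fin k) (Fin m) F)
    (G : Matrix (Fin k) (Fin k) F) :
    (blk A B C D E R G)ᵀ * gramJ k m F * (blk A B C D E R G).map (conj hF) =
      fromBlocks 0 (fromCols (Aᵀ * R.map (conj hF)) (Aᵀ * G.map (conj hF)))
        (fromRows (Rᵀ * A.map (conj hF)) (Gᵀ * A.map (conj hF)))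
        (fromBlocks
          (Bᵀ * R.map (conj hF) + (Dᵀ * D.map (conj hF) + Rᵀ * B.map (conj hF)))
          (Bᵀ * G.map (conj hF) + (Dᵀ * E.map (conj hF) + Rᵀ * C.map (conj hF)))
          (Cᵀ * R.map (conj hF) + (Eᵀ * D.map (conj hF) + Gᵀ * B.map (conj hF)))
          (Cᵀ * G.map (conj hF) + (Eᵀ * E.map (conj hF) + Gᵀ * C.map (conj hF)))) := by
  have h1 : (blk A B C D E R G).map (conj hF) =
      fromBlocks (A.map (conj hF)) (fromCols (B.map (conj hF)) (C.map (conj hF))) 0
        (fromBlocks (D.map (conj hF)) (E.map (conj hF)) (R.map (conj hF)) (G.map (conj hF))) := by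
    rw [blk_def, Matrix.fromBlocks_map, Matrix.fromBlocks_map]
    congr 1
    · ext i (j | j) <;> rfl
    · ext i j; simp
  have h2 : gramJ k m F * (blk A B C D E R G).map (conj hF) =
      fromBlocks 0 (fromCols (R.map (conj hF)) (G.map (conj hF)))
        (fromRows 0 (A.map (conj hF)))
        (fromBlocks (D.map (conj hF)) (E.map (conj hF)) (B.map (conj hF)) (C.map (conj hF))) := by
    rw [h1, gramJ_def, fromBlocks_multiply, fromCols_mul_fromBlocks, fromRows_mul_fromCols,
      fromBlocks_multiply, fromBlocks_add, fromRows_mul]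
    simp
  rw [Matrix.mul_assoc, h2, blk_def, Matrix.fromBlocks_transpose, Matrix.transpose_fromCols,
    Matrix.fromBlocks_transpose, fromBlocks_multiply, fromRows_mul_fromCols, fromBlocks_multiply,
    fromBlocks_mul_fromRows, fromBlocks_add, Matrix.mul_fromCols]
  simp

/-- The block matrix with parameters `A ∈ GL_k`, `D ∈ GU_m`, `E` arbitrary and `S` skew-Hermitian. -/
noncomputable def par (hF : Fintype.card F = q ^ 2) (t : F) (A : GL (Fin k) F) (D : GU m F q)
    (E : Matrix (Fin m) (Fin k) F) (S : Matrix (Fin k) (Fin k) F) :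
    Matrix (Fin k ⊕ (Fin m ⊕ Fin k)) (Fin k ⊕ (Fin m ⊕ Fin k)) F :=
  blk (A : Matrix (Fin k) (Fin k) F)
    (-((A : Matrix (Fin k) (Fin k) F) * (E.map (conj hF))ᵀ *
      ((D : GL (Fin m) F) : Matrix (Fin m) (Fin m) F)))
    ((A : Matrix (Fin k) (Fin k) F) * (S - t • ((E.map (conj hF))ᵀ * E)))
    ((D : GL (Fin m) F) : Matrix (Fin m) (Fin m) F) E 0
    (((A⁻¹ : GL (Fin k) F) : Matrix (Fin k) (Fin k) F).map (conj hF))ᵀ

theorem mem_GU_iff_matrix (hF : Fintype.card F = q ^ 2) {n : ℕ} (D : GL (Fin n) F) :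
    D ∈ GU n F q ↔ (D : Matrix (Fin n) (Fin n) F)ᵀ *
      (D : Matrix (Fin n) (Fin n) F).map (conj hF) = 1 := by
  rw [mem_GU_iff, preserves_iff hF]

theorem par_form (hF : Fintype.card F = q ^ 2) {t : F} (ht : t + t ^ q = 1)
    (A : GL (Fin k) F) (D : GU m F q)
    (E : Matrix (Fin m) (Fin k) F) {S : Matrix (Fin k) (Fin k) F}
    (hS : Sᵀ + S.map (conj hF) = 0) :
    (par hF t A D E S)ᵀ * gramJ k m F * (par hF t A D E S).map (conj hF) = gramJ k m F := by
  have hD := (mem_GU_iff_matrix hF (D : GL (Fin m) F)).1 D.2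
  set A' : Matrix (Fin k) (Fin k) F := (A : Matrix (Fin k) (Fin k) F) with hA'
  set A'' : Matrix (Fin k) (Fin k) F := ((A⁻¹ : GL (Fin k) F) : Matrix (Fin k) (Fin k) F) with hA''
  set D' : Matrix (Fin m) (Fin m) F := ((D : GL (Fin m) F) : Matrix (Fin m) (Fin m) F) with hD'
  have hAA : A' * A'' = 1 := by rw [hA', hA'', ← Units.val_mul, mul_inv_cancel, Units.val_one]
  have hAA' : A'' * A' = 1 := by rw [hA', hA'', ← Units.val_mul, inv_mul_cancel, Units.val_one]
  have hcAA' : A''.map (conj hF) * A'.map (conj hF) = 1 := by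
    rw [← Matrix.map_mul, hAA']
    exact Matrix.map_one _ (map_zero _) (map_one _)
  have htr : A'ᵀ * A''ᵀ = 1 := by rw [← Matrix.transpose_mul, hAA', Matrix.transpose_one]
  have hG : ((A''.map (conj hF))ᵀ).map (conj hF) = A''ᵀ := by
    rw [Matrix.transpose_map, map_conj_conj hF]
  have hB : (-(A' * (E.map (conj hF))ᵀ * D')).map (conj hF) =
      -(A'.map (conj hF) * Eᵀ * D'.map (conj hF)) := by
    rw [Matrix.map_neg _ (map_neg _), Matrix.map_mul, Matrix.map_mul, Matrix.transpose_map,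
      map_conj_conj hF]
  have hC : (A' * (S - t • ((E.map (conj hF))ᵀ * E))).map (conj hF) =
      A'.map (conj hF) * (S.map (conj hF) - t ^ q • (Eᵀ * E.map (conj hF))) := by
    rw [Matrix.map_mul]
    congr 1
    rw [Matrix.map_sub _ (map_sub _), Matrix.map_smul' _ t _ (map_mul _), Matrix.map_mul,
      Matrix.transpose_map, map_conj_conj hF]
    rfl
  rw [par, form_blk hF, hG, hB, hC, gramJ_def]
  have h00 : (0 : Matrix (Fin k) (Fin m) F).map (conj hF) = 0 :=
    Matrix.map_zero _ (map_zero _)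
  congr 1
  · rw [h00, Matrix.mul_zero, htr]
  · rw [Matrix.transpose_zero, Matrix.zero_mul, Matrix.transpose_transpose, hcAA']
  · have h0 : (0 : Matrix (Fin k) (Fin m) F).map (conj hF) = 0 :=
      Matrix.map_zero _ (map_zero _)
    congr 1
    · rw [h0, Matrix.mul_zero, Matrix.transpose_zero, Matrix.zero_mul, zero_add, add_zero, hD]
    · rw [Matrix.transpose_zero, Matrix.zero_mul, add_zero, Matrix.transpose_neg,
        Matrix.transpose_mul, Matrix.transpose_mul, Matrix.transpose_transpose, Matrix.neg_mul,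
        Matrix.mul_assoc, Matrix.mul_assoc, htr, Matrix.mul_one, neg_add_cancel]
    · rw [h0, Matrix.mul_zero, zero_add, Matrix.transpose_transpose, Matrix.mul_neg,
        ← Matrix.mul_assoc, ← Matrix.mul_assoc, hcAA', Matrix.one_mul, add_neg_cancel]
    · rw [Matrix.transpose_mul, Matrix.mul_assoc, htr, Matrix.mul_one, Matrix.transpose_transpose,
        ← Matrix.mul_assoc, hcAA', Matrix.one_mul, Matrix.transpose_sub, Matrix.transpose_smul,
        Matrix.transpose_mul, Matrix.transpose_transpose]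
      have h1 : Eᵀ * E.map (conj hF) = t • (Eᵀ * E.map (conj hF)) +
          t ^ q • (Eᵀ * E.map (conj hF)) := by
        rw [← add_smul, ht, one_smul]
      have h2 : Sᵀ - t • (Eᵀ * E.map (conj hF)) + (Eᵀ * E.map (conj hF) +
          (S.map (conj hF) - t ^ q • (Eᵀ * E.map (conj hF)))) =
          (Sᵀ + S.map (conj hF)) + (Eᵀ * E.map (conj hF) - (t • (Eᵀ * E.map (conj hF)) +
          t ^ q • (Eᵀ * E.map (conj hF)))) := by abel
      rw [h2, hS, ← h1, sub_self, add_zero]

theorem exists_par (hF : Fintype.card F = q ^ 2) {t : F} (ht : t + t ^ q = 1)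
    {X : Matrix (Fin k ⊕ (Fin m ⊕ Fin k)) (Fin k ⊕ (Fin m ⊕ Fin k)) F}
    (hX : Xᵀ * gramJ k m F * X.map (conj hF) = gramJ k m F) (h21 : X.toBlocks₂₁ = 0) :
    ∃ (A : GL (Fin k) F) (D : GU m F q) (E : Matrix (Fin m) (Fin k) F)
      (S : Matrix (Fin k) (Fin k) F), Sᵀ + S.map (conj hF) = 0 ∧ par hF t A D E S = X := by
  obtain ⟨A, B, C, D, E, R, G, rfl⟩ : ∃ A B C D E R G, blk A B C D E R G = X := by
    refine ⟨X.toBlocks₁₁, X.toBlocks₁₂.toCols₁, X.toBlocks₁₂.toCols₂, X.toBlocks₂₂.toBlocks₁₁,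
      X.toBlocks₂₂.toBlocks₁₂, X.toBlocks₂₂.toBlocks₂₁, X.toBlocks₂₂.toBlocks₂₂, ?_⟩
    rw [blk_def, Matrix.fromCols_toCols, Matrix.fromBlocks_toBlocks, ← h21,
      Matrix.fromBlocks_toBlocks]
  rw [form_blk hF, gramJ_def, Matrix.fromBlocks_inj, Matrix.fromCols_inj.eq_iff,
    Matrix.fromRows_inj.eq_iff, Matrix.fromBlocks_inj] at hX
  obtain ⟨-, ⟨h12, h13⟩, ⟨h21', h31⟩, hDD, h23, h32, h33⟩ := hX
  -- `A` is invertible
  have hAG : Aᵀ * G.map (conj hF) = 1 := h13
  have hGA : Gᵀ * A.map (conj hF) = 1 := h31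
  have hAG' : A * (G.map (conj hF))ᵀ = 1 := by
    have h1 : G.map (conj hF) * Aᵀ = 1 := mul_eq_one_comm.1 hAG
    have h2 := congrArg Matrix.transpose h1
    rwa [Matrix.transpose_mul, Matrix.transpose_transpose, Matrix.transpose_one] at h2
  set A' : GL (Fin k) F := ⟨A, (G.map (conj hF))ᵀ, hAG', mul_eq_one_comm.1 hAG'⟩ with hA'
  have hcG : (((A'⁻¹ : GL (Fin k) F) : Matrix (Fin k) (Fin k) F).map (conj hF))ᵀ = G := by
    change (((G.map (conj hF))ᵀ).map (conj hF))ᵀ = G
    rw [Matrix.transpose_map, map_conj_conj hF, Matrix.transpose_transpose]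
  -- `R = 0`
  have hAunit : ∀ {κ : Type} (Y : Matrix (Fin k) κ F), Aᵀ * Y = 0 → Y = 0 := by
    intro κ Y hY
    have h1 : G.map (conj hF) * Aᵀ = 1 := mul_eq_one_comm.1 hAG
    rw [← Matrix.one_mul Y, ← h1, Matrix.mul_assoc, hY, Matrix.mul_zero]
  have hR : R = 0 := by
    have h1 : R.map (conj hF) = 0 := hAunit _ h12
    rw [← map_conj_conj hF R, h1]
    exact Matrix.map_zero _ (map_zero _)
  subst hR
  have h0 : (0 : Matrix (Fin k) (Fin m) F).map (conj hF) = 0 :=
    Matrix.map_zero _ (map_zero _)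
  rw [h0, Matrix.mul_zero, Matrix.transpose_zero, Matrix.zero_mul, zero_add, add_zero] at hDD
  rw [h0, Matrix.mul_zero, zero_add] at h32
  -- `D` is unitary
  have hDD' : D * (D.map (conj hF))ᵀ = 1 := by
    have h1 : D.map (conj hF) * Dᵀ = 1 := mul_eq_one_comm.1 hDD
    have h2 := congrArg Matrix.transpose h1
    rwa [Matrix.transpose_mul, Matrix.transpose_transpose, Matrix.transpose_one] at h2
  set D' : GU m F q := ⟨⟨D, (D.map (conj hF))ᵀ, hDD', mul_eq_one_comm.1 hDD'⟩,
    (mem_GU_iff_matrix hF _).2 hDD⟩ with hD'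
  -- `B`
  have hAcG : A.map (conj hF) * Gᵀ = 1 := mul_eq_one_comm.1 hGA
  have hB : -(A * (E.map (conj hF))ᵀ * D) = B := by
    have h1 : Gᵀ * B.map (conj hF) = -(Eᵀ * D.map (conj hF)) := by
      rw [eq_neg_iff_add_eq_zero, add_comm]; exact h32
    have h2 : B.map (conj hF) = -(A.map (conj hF) * Eᵀ * D.map (conj hF)) := by
      rw [← Matrix.one_mul (B.map (conj hF)), ← hAcG, Matrix.mul_assoc, h1, Matrix.mul_neg,
        Matrix.mul_assoc]
    rw [← map_conj_conj hF B, h2, Matrix.map_neg _ (map_neg _), Matrix.map_mul, Matrix.map_mul,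
      map_conj_conj hF, map_conj_conj hF, Matrix.transpose_map]
  -- `S`
  have hGtA : (G.map (conj hF))ᵀ * A = 1 := mul_eq_one_comm.1 hAG'
  set S : Matrix (Fin k) (Fin k) F := (G.map (conj hF))ᵀ * C + t • ((E.map (conj hF))ᵀ * E) with hS
  have hST : Sᵀ = Cᵀ * G.map (conj hF) + t • (Eᵀ * E.map (conj hF)) := by
    rw [hS, Matrix.transpose_add, Matrix.transpose_mul, Matrix.transpose_transpose,
      Matrix.transpose_smul, Matrix.transpose_mul, Matrix.transpose_transpose]
  have hSc : S.map (conj hF) = Gᵀ * C.map (conj hF) + t ^ q • (Eᵀ * E.map (conj hF)) := by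
    rw [hS, Matrix.map_add _ (map_add _), Matrix.map_mul, Matrix.transpose_map, map_conj_conj hF,
      Matrix.map_smul' _ t _ (map_mul _), Matrix.map_mul, Matrix.transpose_map,
      map_conj_conj hF]
    rfl
  have hSs : Sᵀ + S.map (conj hF) = 0 := by
    rw [hST, hSc]
    have h1 : Cᵀ * G.map (conj hF) + t • (Eᵀ * E.map (conj hF)) +
        (Gᵀ * C.map (conj hF) + t ^ q • (Eᵀ * E.map (conj hF))) =
        (Cᵀ * G.map (conj hF) + (Eᵀ * E.map (conj hF) + Gᵀ * C.map (conj hF))) +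
        ((t + t ^ q) • (Eᵀ * E.map (conj hF)) - Eᵀ * E.map (conj hF)) := by
      rw [add_smul]; abel
    rw [h1, h33, ht, one_smul, sub_self, add_zero]
  refine ⟨A', D', E, S, hSs, ?_⟩
  rw [par, blk_inj]
  refine ⟨rfl, hB, ?_, rfl, rfl, rfl, hcG⟩
  change A * (S - t • ((E.map (conj hF))ᵀ * E)) = C
  rw [hS, add_sub_cancel_right, ← Matrix.mul_assoc, hAG', Matrix.one_mul]

theorem par_inj (hF : Fintype.card F = q ^ 2) {t : F} {A A' : GL (Fin k) F} {D D' : GU m F q}
    {E E' : Matrix (Fin m) (Fin k) F} {S S' : Matrix (Fin k) (Fin k) F}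
    (h : par hF t A D E S = par hF t A' D' E' S') : A = A' ∧ D = D' ∧ E = E' ∧ S = S' := by
  rw [par, par, blk_inj] at h
  obtain ⟨h1, -, h3, h4, h5, -, -⟩ := h
  have hA : A = A' := Units.ext h1
  subst hA
  subst h5
  refine ⟨rfl, Subtype.ext (Units.ext h4), rfl, ?_⟩
  have h6 := congrArg (fun Y => ((A⁻¹ : GL (Fin k) F) : Matrix (Fin k) (Fin k) F) * Y) h3
  simp only [← Matrix.mul_assoc] at h6
  rw [← Units.val_mul, inv_mul_cancel, Units.val_one, Matrix.one_mul, Matrix.one_mul] at h6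
  exact sub_left_injective h6

theorem det_par (hF : Fintype.card F = q ^ 2) (t : F) (A : GL (Fin k) F) (D : GU m F q)
    (E : Matrix (Fin m) (Fin k) F) (S : Matrix (Fin k) (Fin k) F) :
    (par hF t A D E S).det = (A : Matrix (Fin k) (Fin k) F).det *
      (((D : GL (Fin m) F) : Matrix (Fin m) (Fin m) F).det *
        (((A⁻¹ : GL (Fin k) F) : Matrix (Fin k) (Fin k) F).det) ^ q) := by
  rw [par, blk_def, Matrix.det_fromBlocks_zero₂₁, Matrix.det_fromBlocks_zero₂₁,
    Matrix.det_transpose]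
  congr 2
  have h1 : (((A⁻¹ : GL (Fin k) F) : Matrix (Fin k) (Fin k) F).map (conj hF)).det =
      (conj hF) (((A⁻¹ : GL (Fin k) F) : Matrix (Fin k) (Fin k) F).det) :=
    (RingEquiv.map_det (conj hF) _).symm
  rw [h1, conj_apply]

/-- Skew-Hermitian `k × k` matrices. -/
abbrev Skew (hF : Fintype.card F = q ^ 2) (k : ℕ) : Type _ :=
  {S : Matrix (Fin k) (Fin k) F // Sᵀ + S.map (conj hF) = 0}

theorem skew_iff (hF : Fintype.card F = q ^ 2) {S : Matrix (Fin k) (Fin k) F} :
    Sᵀ + S.map (conj hF) = 0 ↔ (S.map (conj hF))ᵀ = -S := by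
  constructor
  · intro h
    have h1 : S.map (conj hF) = -Sᵀ := by rw [eq_neg_iff_add_eq_zero, add_comm]; exact h
    rw [h1, Matrix.transpose_neg, Matrix.transpose_transpose]
  · intro h
    have h1 := congrArg Matrix.transpose h
    rw [Matrix.transpose_transpose, Matrix.transpose_neg] at h1
    rw [h1, add_neg_cancel]

/-- `Matrix ≃ Skew × Skew`. -/
noncomputable def skewEquiv (hF : Fintype.card F = q ^ 2) {a : F} (ha : a ^ q ≠ a) (k : ℕ) :
    Skew hF k × Skew hF k ≃ Matrix (Fin k) (Fin k) F where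
  toFun p := p.1.1 + a • p.2.1
  invFun M :=
    (⟨M - a • ((a - a ^ q)⁻¹ • (M + (M.map (conj hF))ᵀ)), by
      have h0 : a - a ^ q ≠ 0 := sub_ne_zero.2 (Ne.symm ha)
      rw [skew_iff hF, Matrix.map_sub _ (map_sub _), Matrix.map_smul' _ a _ (map_mul _),
        Matrix.map_smul' _ _ _ (map_mul _), Matrix.map_add _ (map_add _), Matrix.transpose_map,
        map_conj_conj hF, conj_apply, conj_apply, inv_pow, sub_pow_q hF, pow_q_pow_q hF]
      simp only [Matrix.transpose_sub, Matrix.transpose_smul, Matrix.transpose_add,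
        Matrix.transpose_transpose]
      have h1 : (a ^ q - a)⁻¹ = -(a - a ^ q)⁻¹ := by rw [← neg_sub, inv_neg]
      rw [h1]
      have h2 : M = ((a - a ^ q) * (a - a ^ q)⁻¹) • M := by rw [mul_inv_cancel₀ h0, one_smul]
      have h3 : (M.map (conj hF))ᵀ = ((a - a ^ q) * (a - a ^ q)⁻¹) • (M.map (conj hF))ᵀ := by
        rw [mul_inv_cancel₀ h0, one_smul]
      ext i j
      have h2' := congrFun (congrFun h2 i) j
      have h3' := congrFun (congrFun h3 i) j
      simp only [Matrix.smul_apply, smul_eq_mul, Matrix.sub_apply, Matrix.add_apply,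
        Matrix.neg_apply] at h2' h3' ⊢
      linear_combination h2' + h3'⟩,
     ⟨(a - a ^ q)⁻¹ • (M + (M.map (conj hF))ᵀ), by
      rw [skew_iff hF, Matrix.map_smul' _ _ _ (map_mul _), Matrix.map_add _ (map_add _),
        Matrix.transpose_map,
        map_conj_conj hF, conj_apply, inv_pow, sub_pow_q hF, pow_q_pow_q hF]
      simp only [Matrix.transpose_smul, Matrix.transpose_add,
        Matrix.transpose_transpose]
      have h1 : (a ^ q - a)⁻¹ = -(a - a ^ q)⁻¹ := by rw [← neg_sub, inv_neg]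
      rw [h1, neg_smul, add_comm]⟩)
  left_inv := by
    rintro ⟨⟨S, hS⟩, ⟨T, hT⟩⟩
    have h0 : a - a ^ q ≠ 0 := sub_ne_zero.2 (Ne.symm ha)
    rw [skew_iff hF] at hS hT
    have key : (a - a ^ q)⁻¹ • ((S + a • T) + ((S + a • T).map (conj hF))ᵀ) = T := by
      rw [Matrix.map_add _ (map_add _), Matrix.map_smul' _ _ _ (map_mul _), conj_apply,
        Matrix.transpose_add, Matrix.transpose_smul, hS, hT]
      have h1 : S + a • T + (-S + a ^ q • -T) = (a - a ^ q) • T := by
        rw [sub_smul, smul_neg]; abel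
      rw [h1, smul_smul, inv_mul_cancel₀ h0, one_smul]
    refine Prod.ext (Subtype.ext ?_) (Subtype.ext ?_)
    · change (S + a • T) - a • ((a - a ^ q)⁻¹ • ((S + a • T) + ((S + a • T).map (conj hF))ᵀ)) = S
      rw [key, add_sub_cancel_right]
    · exact key
  right_inv := by
    intro M
    simp only [sub_add_cancel]

theorem card_skew (hF : Fintype.card F = q ^ 2) (k : ℕ) : Nat.card (Skew hF k) = q ^ (k * k) := by
  obtain ⟨a, ha⟩ := exists_not_fixed hF
  have h1 := Nat.card_congr (skewEquiv hF ha k)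
  have h2 : Nat.card (Matrix (Fin k) (Fin k) F) = (q ^ (k * k)) ^ 2 := by
    change Nat.card (Fin k → Fin k → F) = _
    rw [Nat.card_fun, Nat.card_fun, Nat.card_eq_fintype_card (α := F), hF,
      Nat.card_eq_fintype_card, Fintype.card_fin, ← pow_mul, ← pow_mul, ← pow_mul]
    congr 1
    ring
  rw [h2, Nat.card_prod, ← sq] at h1
  exact Nat.pow_left_injective two_ne_zero h1

theorem par_toBlocks₂₁ (hF : Fintype.card F = q ^ 2) (t : F) (A : GL (Fin k) F) (D : GU m F q)
    (E : Matrix (Fin m) (Fin k) F) (S : Matrix (Fin k) (Fin k) F) :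
    (par hF t A D E S).toBlocks₂₁ = 0 := by
  rw [par, blk_def, Matrix.toBlocks_fromBlocks₂₁]

end Blocks

/-! ### The stabiliser of a totally isotropic subspace -/

section Stab

variable {n k m : ℕ}

/-- Matrices preserving the form and mapping `W` into `W`. -/
abbrev StabSet (hF : Fintype.card F = q ^ 2) (W : Submodule F (Fin n → F)) : Type _ :=
  {M : Matrix (Fin n) (Fin n) F // Mᵀ * M.map (conj hF) = 1 ∧ ∀ v ∈ W, M *ᵥ v ∈ W}

/-- Parametrisation of the matrices preserving the form and a totally isotropic subspace. -/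
theorem exists_stabEquiv (hF : Fintype.card F = q ^ 2) (hn : n = k + (m + k))
    {W : Submodule F (Fin n → F)} (hWk : Module.finrank F W = k)
    (hW : ∀ u ∈ W, ∀ v ∈ W, hermForm n F q u v = 0) :
    ∃ e : (GL (Fin k) F × GU m F q) × (Matrix (Fin m) (Fin k) F × Skew hF k) ≃ StabSet hF W,
      ∀ p, (e p).1.det = (p.1.1 : Matrix (Fin k) (Fin k) F).det *
        (((p.1.2 : GL (Fin m) F) : Matrix (Fin m) (Fin m) F).det *
        (((p.1.1⁻¹ : GL (Fin k) F) : Matrix (Fin k) (Fin k) F).det) ^ q) := by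
  obtain ⟨t, ht⟩ := exists_trace_eq hF (c := 1) (one_pow q)
  obtain ⟨P, Q, hPQ, hQP, hG, hmemW⟩ := exists_frame_matrix hF hn hWk hW
  have hQJ : Qᵀ * gramJ k m F * Q.map (conj hF) = 1 := by
    rw [← hG]
    have h1 : Qᵀ * (Pᵀ * P.map (conj hF)) * Q.map (conj hF) =
        (P * Q)ᵀ * (P * Q).map (conj hF) := by
      rw [Matrix.transpose_mul, Matrix.map_mul]
      simp only [Matrix.mul_assoc]
    rw [h1, hPQ, Matrix.transpose_one, Matrix.map_one _ (map_zero _) (map_one _), Matrix.one_mul]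
  -- the form condition
  have hform : ∀ X : Matrix (Fin k ⊕ (Fin m ⊕ Fin k)) (Fin k ⊕ (Fin m ⊕ Fin k)) F,
      Xᵀ * gramJ k m F * X.map (conj hF) = gramJ k m F →
      (P * X * Q)ᵀ * (P * X * Q).map (conj hF) = 1 := by
    intro X hX
    rw [Matrix.transpose_mul, Matrix.transpose_mul, Matrix.map_mul, Matrix.map_mul]
    have h1 : Qᵀ * (Xᵀ * Pᵀ) * (P.map (conj hF) * X.map (conj hF) * Q.map (conj hF)) =
        Qᵀ * (Xᵀ * (Pᵀ * P.map (conj hF)) * X.map (conj hF)) * Q.map (conj hF) := by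
      simp only [Matrix.mul_assoc]
    rw [h1, hG, hX, hQJ]
  have hform' : ∀ M : Matrix (Fin n) (Fin n) F, Mᵀ * M.map (conj hF) = 1 →
      (Q * M * P)ᵀ * gramJ k m F * (Q * M * P).map (conj hF) = gramJ k m F := by
    intro M hM
    rw [Matrix.transpose_mul, Matrix.transpose_mul, Matrix.map_mul, Matrix.map_mul]
    have h1 : Pᵀ * (Mᵀ * Qᵀ) * gramJ k m F * (Q.map (conj hF) * M.map (conj hF) *
        P.map (conj hF)) =
        Pᵀ * (Mᵀ * (Qᵀ * gramJ k m F * Q.map (conj hF)) * M.map (conj hF)) * P.map (conj hF) := by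
      simp only [Matrix.mul_assoc]
    rw [h1, hQJ, Matrix.mul_one, hM, Matrix.mul_one, hG]
  -- the stabiliser condition
  have hstab : ∀ X : Matrix (Fin k ⊕ (Fin m ⊕ Fin k)) (Fin k ⊕ (Fin m ⊕ Fin k)) F,
      X.toBlocks₂₁ = 0 → ∀ v ∈ W, (P * X * Q) *ᵥ v ∈ W := by
    intro X hX v hv
    rw [hmemW] at hv ⊢
    intro a
    rw [Matrix.mulVec_mulVec, ← Matrix.mul_assoc, ← Matrix.mul_assoc, hQP, Matrix.one_mul,
      ← Matrix.mulVec_mulVec, Matrix.mulVec, dotProduct, Fintype.sum_sum_type]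
    have h1 : ∀ i : Fin k, X (Sum.inr a) (Sum.inl i) = 0 := fun i => by
      have := congrFun (congrFun hX a) i
      exact this
    simp only [h1, hv, zero_mul, mul_zero, Finset.sum_const_zero, add_zero]
  have hstab' : ∀ M : Matrix (Fin n) (Fin n) F, (∀ v ∈ W, M *ᵥ v ∈ W) →
      (Q * M * P).toBlocks₂₁ = 0 := by
    intro M hM
    ext a i
    have h1 : P *ᵥ Pi.single (Sum.inl i) 1 ∈ W := by
      rw [hmemW]
      intro b
      rw [Matrix.mulVec_mulVec, hQP, Matrix.one_mulVec]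
      simp
    have h2 := (hmemW _).1 (hM _ h1) a
    rw [Matrix.mulVec_mulVec, Matrix.mulVec_mulVec, Matrix.mulVec_single_one] at h2
    exact h2
  refine ⟨Equiv.ofBijective (fun p => ⟨P * par hF t p.1.1 p.1.2 p.2.1 p.2.2.1 * Q,
    hform _ (par_form hF ht _ _ _ p.2.2.2), hstab _ (par_toBlocks₂₁ hF _ _ _ _ _)⟩) ⟨?_, ?_⟩, ?_⟩
  · rintro ⟨⟨A, D⟩, E, S, hS⟩ ⟨⟨A', D'⟩, E', S', hS'⟩ h
    have h1 : P * par hF t A D E S * Q = P * par hF t A' D' E' S' * Q := congrArg Subtype.val h
    have h2 : par hF t A D E S = par hF t A' D' E' S' := by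
      have h3 := congrArg (fun Y => Q * Y * P) h1
      simp only [← Matrix.mul_assoc] at h3
      rw [hQP, Matrix.one_mul, Matrix.one_mul, Matrix.mul_assoc, Matrix.mul_assoc, hQP,
        Matrix.mul_one, Matrix.mul_one] at h3
      exact h3
    obtain ⟨rfl, rfl, rfl, rfl⟩ := par_inj hF h2
    rfl
  · rintro ⟨M, hM, hMW⟩
    obtain ⟨A, D, E, S, hS, hX⟩ := exists_par hF ht (hform' M hM) (hstab' M hMW)
    refine ⟨((A, D), (E, ⟨S, hS⟩)), Subtype.ext ?_⟩
    change P * par hF t A D E S * Q = M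
    rw [hX]
    have h1 : P * (Q * M * P) * Q = (P * Q) * M * (P * Q) := by simp only [Matrix.mul_assoc]
    rw [h1, hPQ, Matrix.one_mul, Matrix.mul_one]
  · intro p
    change (P * par hF t p.1.1 p.1.2 p.2.1 p.2.2.1 * Q).det = _
    rw [Matrix.det_conj_of_mul_eq_one hPQ hQP, det_par]

theorem isUnit_det_of_form (hF : Fintype.card F = q ^ 2) {M : Matrix (Fin n) (Fin n) F}
    (hM : Mᵀ * M.map (conj hF) = 1) : M.det ≠ 0 := by
  intro h
  have h1 := congrArg Matrix.det hM
  rw [Matrix.det_mul, Matrix.det_transpose, h, zero_mul, Matrix.det_one] at h1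
  exact zero_ne_one h1

omit [Fintype F] in
theorem mem_iff_of_stabSet {W : Submodule F (Fin n → F)} {M : Matrix (Fin n) (Fin n) F}
    (hM : M.det ≠ 0) (hMW : ∀ v ∈ W, M *ᵥ v ∈ W) (v : Fin n → F) : v ∈ W ↔ M *ᵥ v ∈ W := by
  refine ⟨hMW v, fun h => ?_⟩
  have hinj : Function.Injective M.mulVec := by
    rw [Matrix.mulVec_injective_iff_isUnit, Matrix.isUnit_iff_isUnit_det]
    exact isUnit_iff_ne_zero.2 hM
  let T : W →ₗ[F] W := (Matrix.mulVecLin M).restrict hMW
  have hT : Function.Injective T := by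
    intro x y hxy
    have h1 : M *ᵥ (x : Fin n → F) = M *ᵥ (y : Fin n → F) := congrArg Subtype.val hxy
    exact Subtype.ext (hinj h1)
  obtain ⟨w, hw⟩ := (LinearMap.injective_iff_surjective.1 hT) ⟨M *ᵥ v, h⟩
  have h2 : M *ᵥ (w : Fin n → F) = M *ᵥ v := congrArg Subtype.val hw
  rw [← hinj h2]
  exact w.2

/-- The stabiliser in `SU_n` as a set of matrices. -/
theorem card_stab_SU (hF : Fintype.card F = q ^ 2) (W : Submodule F (Fin n → F)) :
    Nat.card ↥((stabilizing (slToMat n F) (W : Set (Fin n → F))).subgroupOf (SU n F q)) =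
      Nat.card {M : StabSet hF W // M.1.det = 1} := by
  refine Nat.card_congr ?_
  refine
    { toFun := fun g => ⟨⟨((g.1 : Matrix.SpecialLinearGroup (Fin n) F) :
          Matrix (Fin n) (Fin n) F), ?_, ?_⟩, g.1.1.2⟩
      invFun := fun M => ⟨⟨⟨M.1.1, M.2⟩, ?_⟩, ?_⟩
      left_inv := fun g => rfl
      right_inv := fun M => rfl }
  · exact (preserves_iff hF _).1 g.1.2
  · intro v hv
    exact ((Subgroup.mem_subgroupOf.1 g.2) v).1 hv
  · exact (preserves_iff hF _).2 M.1.2.1
  · rw [Subgroup.mem_subgroupOf]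
    intro v
    exact mem_iff_of_stabSet (isUnit_det_of_form hF M.1.2.1) M.1.2.2 v

/-- The stabiliser in `GU_n` as a set of matrices. -/
theorem card_stab_GU (hF : Fintype.card F = q ^ 2) (W : Submodule F (Fin n → F)) :
    Nat.card ↥((stabilizing (glToMat (Fin n) F) (W : Set (Fin n → F))).subgroupOf (GU n F q)) =
      Nat.card (StabSet hF W) := by
  refine Nat.card_congr ?_
  refine
    { toFun := fun g => ⟨((g.1 : GL (Fin n) F) : Matrix (Fin n) (Fin n) F), ?_, ?_⟩
      invFun := fun M => ⟨⟨Matrix.GeneralLinearGroup.mkOfDetNeZero M.1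
        (isUnit_det_of_form hF M.2.1), ?_⟩, ?_⟩
      left_inv := fun g => Subtype.ext (Subtype.ext (Units.ext rfl))
      right_inv := fun M => rfl }
  · exact (preserves_iff hF _).1 g.1.2
  · intro v hv
    exact ((Subgroup.mem_subgroupOf.1 g.2) v).1 hv
  · exact (preserves_iff hF _).2 M.2.1
  · rw [Subgroup.mem_subgroupOf]
    intro v
    exact mem_iff_of_stabSet (isUnit_det_of_form hF M.2.1) M.2.2 v

/-- The order of the set of isometries mapping a totally isotropic `k`-subspace into itself. -/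
theorem card_stabSet (hF : Fintype.card F = q ^ 2) (hn : n = k + (m + k))
    {W : Submodule F (Fin n → F)} (hWk : Module.finrank F W = k)
    (hW : ∀ u ∈ W, ∀ v ∈ W, hermForm n F q u v = 0) :
    Nat.card (StabSet hF W) =
      q ^ (2 * m * k + k * k) * (∏ i : Fin k, ((q ^ 2) ^ k - (q ^ 2) ^ (i : ℕ))) *
        Nat.card (GU m F q) := by
  obtain ⟨e, -⟩ := exists_stabEquiv hF hn hWk hW
  rw [← Nat.card_congr e, Nat.card_prod, Nat.card_prod, Nat.card_prod, card_skew,
    Matrix.card_GL_field, hF]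
  have h2 : Nat.card (Matrix (Fin m) (Fin k) F) = q ^ (2 * m * k) := by
    change Nat.card (Fin m → Fin k → F) = _
    rw [Nat.card_fun, Nat.card_fun, Nat.card_eq_fintype_card (α := F), hF,
      Nat.card_eq_fintype_card, Fintype.card_fin, Nat.card_eq_fintype_card, Fintype.card_fin,
      ← pow_mul, ← pow_mul]
    congr 1
    ring
  rw [h2, pow_add]
  ring

/-! ### The determinant -/

/-- The determinant character on the parameters. -/
noncomputable def chi (F : Type*) [Field F] (q k m : ℕ) : GL (Fin k) F × GU m F q →* Fˣ where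
  toFun p := Matrix.GeneralLinearGroup.det p.1 *
    (Matrix.GeneralLinearGroup.det (p.2 : GL (Fin m) F) *
      (Matrix.GeneralLinearGroup.det p.1)⁻¹ ^ q)
  map_one' := by simp
  map_mul' a b := by
    simp only [Prod.fst_mul, Prod.snd_mul, map_mul, Subgroup.coe_mul, mul_inv, mul_pow]
    ac_rfl

omit [Fintype F] in
theorem chi_apply (p : GL (Fin k) F × GU m F q) : chi F q k m p =
    Matrix.GeneralLinearGroup.det p.1 *
    (Matrix.GeneralLinearGroup.det (p.2 : GL (Fin m) F) *
      (Matrix.GeneralLinearGroup.det p.1)⁻¹ ^ q) := rfl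

theorem units_pow_q_pow_q (hF : Fintype.card F = q ^ 2) (a : Fˣ) : (a ^ q) ^ q = a := by
  ext
  simpa using pow_q_pow_q hF (a : F)

theorem det_GU_pow (hF : Fintype.card F = q ^ 2) (D : GU m F q) :
    (Matrix.GeneralLinearGroup.det (D : GL (Fin m) F)) ^ (q + 1) = 1 := by
  have hD := (mem_GU_iff_matrix hF (D : GL (Fin m) F)).1 D.2
  have h1 := congrArg Matrix.det hD
  rw [Matrix.det_mul, Matrix.det_transpose, Matrix.det_one] at h1
  have h2 : (((D : GL (Fin m) F) : Matrix (Fin m) (Fin m) F).map (conj hF)).det =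
      (conj hF) (((D : GL (Fin m) F) : Matrix (Fin m) (Fin m) F).det) :=
    (RingEquiv.map_det (conj hF) _).symm
  rw [h2, conj_apply] at h1
  ext
  rw [pow_succ']
  simpa using h1

theorem hilbert90 (hF : Fintype.card F = q ^ 2) {u : Fˣ} (hu : u ^ (q + 1) = 1) :
    ∃ b : Fˣ, b ^ (q - 1) = u := by
  have h2 := two_le hF
  have hle : (powMonoidHom (q - 1) : Fˣ →* Fˣ).range ≤ (powMonoidHom (q + 1) : Fˣ →* Fˣ).ker := by
    rintro _ ⟨b, rfl⟩
    rw [MonoidHom.mem_ker, powMonoidHom_apply, powMonoidHom_apply, ← pow_mul, mul_comm,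
      ← card_units_eq hF]
    exact pow_card_eq_one'
  have hcard : Nat.card (powMonoidHom (q + 1) : Fˣ →* Fˣ).ker ≤
      Nat.card (powMonoidHom (q - 1) : Fˣ →* Fˣ).range := by
    rw [IsCyclic.card_powMonoidHom_ker, IsCyclic.card_powMonoidHom_range, card_units_eq hF,
      Nat.gcd_eq_right (Dvd.intro _ rfl), Nat.gcd_eq_right (Dvd.intro_left _ rfl),
      Nat.mul_div_cancel _ (by omega)]
  have heq := Subgroup.eq_of_le_of_card_ge hle hcard
  have h3 : u ∈ (powMonoidHom (q - 1) : Fˣ →* Fˣ).range := by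
    rw [heq]; exact hu
  obtain ⟨b, hb⟩ := h3
  exact ⟨b, hb⟩

omit [Fintype F] in
/-- `GL_n` contains an element of any given determinant, `n ≥ 1`. -/
theorem exists_GL_det (hk : 1 ≤ k) (a : Fˣ) :
    ∃ A : GL (Fin k) F, Matrix.GeneralLinearGroup.det A = a := by
  have hdet : (Matrix.diagonal (Function.update (1 : Fin k → F) ⟨0, hk⟩ (a : F))).det = (a : F) := by
    rw [Matrix.det_diagonal, Finset.prod_update_of_mem (Finset.mem_univ _)]
    simp
  refine ⟨Matrix.GeneralLinearGroup.mkOfDetNeZero _ (by rw [hdet]; exact a.ne_zero), ?_⟩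
  ext
  exact hdet

/-- `GU_m` contains an element of any given determinant of norm one, `m ≥ 1`. -/
theorem exists_GU_det (hF : Fintype.card F = q ^ 2) (hm : 1 ≤ m) {a : Fˣ} (ha : a ^ (q + 1) = 1) :
    ∃ D : GU m F q, Matrix.GeneralLinearGroup.det (D : GL (Fin m) F) = a := by
  have hdet : (Matrix.diagonal (Function.update (1 : Fin m → F) ⟨0, hm⟩ (a : F))).det = (a : F) := by
    rw [Matrix.det_diagonal, Finset.prod_update_of_mem (Finset.mem_univ _)]
    simp
  refine ⟨⟨Matrix.GeneralLinearGroup.mkOfDetNeZero _ (by rw [hdet]; exact a.ne_zero), ?_⟩, ?_⟩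
  · rw [mem_GU_iff_matrix hF]
    change (Matrix.diagonal _)ᵀ * (Matrix.diagonal _).map _ = 1
    rw [Matrix.diagonal_transpose, Matrix.diagonal_map (map_zero _), Matrix.diagonal_mul_diagonal,
      ← Matrix.diagonal_one]
    congr 1
    funext i
    by_cases hi : i = ⟨0, hm⟩
    · subst hi
      simp only [Function.update_self, conj_apply]
      rw [← pow_succ', ← Units.val_pow_eq_pow_val, ha, Units.val_one]
    · simp [Function.update_of_ne hi, conj_apply]
  · ext
    exact hdet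

theorem range_chi (hF : Fintype.card F = q ^ 2) (hkm : 1 ≤ k ∨ 1 ≤ m) :
    (chi F q k m).range = (powMonoidHom (q + 1) : Fˣ →* Fˣ).ker := by
  have h2 := two_le hF
  apply le_antisymm
  · rintro _ ⟨⟨A, D⟩, rfl⟩
    rw [MonoidHom.mem_ker, powMonoidHom_apply, chi_apply, mul_pow, mul_pow, det_GU_pow hF, one_mul]
    set a := Matrix.GeneralLinearGroup.det A with ha
    change a ^ (q + 1) * ((a⁻¹) ^ q) ^ (q + 1) = 1
    rw [pow_succ ((a⁻¹) ^ q), units_pow_q_pow_q hF, ← pow_succ', ← mul_pow, mul_inv_cancel, one_pow]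
  · intro u hu
    have hu' : u ^ (q + 1) = 1 := hu
    rcases Nat.eq_zero_or_pos m with hm | hm
    · have hk : 1 ≤ k := by omega
      obtain ⟨b, hb⟩ := hilbert90 hF hu'
      obtain ⟨A, hA⟩ := exists_GL_det (F := F) hk b⁻¹
      refine ⟨(A, 1), ?_⟩
      rw [chi_apply]
      simp only [hA, inv_inv, Subgroup.coe_one, map_one, one_mul]
      rw [← hb, ← Nat.sub_add_cancel (Nat.one_le_of_lt h2), pow_succ b (q - 1),
        Nat.add_sub_cancel, mul_comm (b ^ (q - 1)) b, inv_mul_cancel_left]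
    · obtain ⟨D, hD⟩ := exists_GU_det hF hm hu'
      refine ⟨(1, D), ?_⟩
      rw [chi_apply]
      simp [hD]

theorem card_ker_chi (hF : Fintype.card F = q ^ 2) (hkm : 1 ≤ k ∨ 1 ≤ m) :
    (q + 1) * Nat.card (chi F q k m).ker = Nat.card (GL (Fin k) F) * Nat.card (GU m F q) := by
  rw [← Nat.card_prod, ← Subgroup.card_mul_index (chi F q k m).ker, Subgroup.index_ker,
    range_chi hF hkm, IsCyclic.card_powMonoidHom_ker, card_units_eq hF,
    Nat.gcd_eq_right (Dvd.intro _ rfl), mul_comm]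

/-- The order of the set of determinant one isometries mapping a totally isotropic `k`-subspace into
itself. -/
theorem card_stabSet_det (hF : Fintype.card F = q ^ 2) (hn : n = k + (m + k)) (hn1 : 1 ≤ n)
    {W : Submodule F (Fin n → F)} (hWk : Module.finrank F W = k)
    (hW : ∀ u ∈ W, ∀ v ∈ W, hermForm n F q u v = 0) :
    (q + 1) * Nat.card {M : StabSet hF W // M.1.det = 1} =
      q ^ (2 * m * k + k * k) * (∏ i : Fin k, ((q ^ 2) ^ k - (q ^ 2) ^ (i : ℕ))) *
        Nat.card (GU m F q) := by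
  obtain ⟨e, he⟩ := exists_stabEquiv hF hn hWk hW
  have h1 : Nat.card {M : StabSet hF W // M.1.det = 1} =
      Nat.card (chi F q k m).ker * Nat.card (Matrix (Fin m) (Fin k) F × Skew hF k) := by
    rw [← Nat.card_prod]
    refine (Nat.card_congr ?_).symm
    refine (Equiv.trans ?_ (e.subtypeEquiv (p := fun p => p.1 ∈ (chi F q k m).ker) ?_))
    · exact
        { toFun := fun p => ⟨(p.1.1, p.2), p.1.2⟩
          invFun := fun p => (⟨p.1.1, p.2⟩, p.1.2)
          left_inv := fun p => rfl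
          right_inv := fun p => rfl }
    · intro p
      rw [he, MonoidHom.mem_ker, chi_apply, Units.ext_iff]
      rfl
  rw [h1, ← mul_assoc, card_ker_chi hF (by omega), ← card_stabSet hF hn hWk hW, ← Nat.card_congr e]
  simp only [Nat.card_prod]

end Stab

end Cfsg.Agent.ClassicalGeometry.HermParabolic
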