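import Mathlib

set_option autoImplicit false

/-!
One-step extension lemmas used for Witt's theorem.
-/

namespace Cfsg.Agent.ClassicalGeometry.WittStep

open Module

/-- The dimension of the image of a subspace under an injective linear map. -/
theorem finrank_map_of_injective {F X V : Type*} [Field F] [AddCommGroup V] [Module F V]
    [AddCommGroup X] [Module F X] (f : X →ₗ[F] V) (hf : Function.Injective f)
    (p : Submodule F X) : finrank F (p.map f) = finrank F p :=
  (Submodule.equivMapOfInjective f hf p).finrank_eq.symm

/-- Abstract one-step lemma. `i f : X → V` are injective, `S T : V → D` surjective with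
`T ∘ f = S ∘ i`.  If `v` is not in the range of `i`, there is `w` not in the range of `f`
with `T w = S v`. -/
theorem exists_not_mem_range {F V X D : Type*} [Field F] [AddCommGroup V] [Module F V]
    [FiniteDimensional F V] [AddCommGroup X] [Module F X] [AddCommGroup D] [Module F D]
    (i f : X →ₗ[F] V) (hi : Function.Injective i) (hf : Function.Injective f)
    (S T : V →ₗ[F] D) (hS : Function.Surjective S) (hT : Function.Surjective T)
    (hST : ∀ x, T (f x) = S (i x)) (v : V) (hv : v ∉ LinearMap.range i) :
    ∃ w, w ∉ LinearMap.range f ∧ T w = S v := by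
  by_contra hcon
  push Not at hcon
  obtain ⟨w0, hw0⟩ := hT (S v)
  have hw0r : w0 ∈ LinearMap.range f := by
    by_contra h
    exact hcon w0 h hw0
  obtain ⟨x0, hx0⟩ := hw0r
  have hker : LinearMap.ker T ≤ LinearMap.range f := by
    intro z hz
    have h1 : w0 + z ∈ LinearMap.range f := by
      by_contra h
      apply hcon _ h
      rw [map_add, LinearMap.mem_ker.mp hz, add_zero, hw0]
    have h2 : z = (w0 + z) - w0 := by abel
    rw [h2]
    exact Submodule.sub_mem _ h1 ⟨x0, hx0⟩
  have hv1 : v - i x0 ∈ LinearMap.ker S := by
    rw [LinearMap.mem_ker, map_sub, ← hST, hx0, hw0, sub_self]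
  have hv2 : v - i x0 ∉ LinearMap.range i := fun h => hv (by
    have := Submodule.add_mem _ h (LinearMap.mem_range_self i x0)
    simpa using this)
  -- the common kernel
  have hR : (LinearMap.ker T).comap f = (LinearMap.ker S).comap i := by
    ext x
    simp [LinearMap.mem_ker, hST]
  have e1 : finrank F ((LinearMap.ker T).comap f) = finrank F (LinearMap.ker T) := by
    rw [← finrank_map_of_injective f hf, Submodule.map_comap_eq, inf_eq_right.mpr hker]
  have e2 : finrank F ((LinearMap.ker S).comap i) =
      finrank F ↥(LinearMap.range i ⊓ LinearMap.ker S) := by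
    rw [← finrank_map_of_injective i hi, Submodule.map_comap_eq]
  have e3 : finrank F (LinearMap.ker T) = finrank F (LinearMap.ker S) := by
    have h1 := LinearMap.finrank_range_add_finrank_ker T
    have h2 := LinearMap.finrank_range_add_finrank_ker S
    rw [LinearMap.range_eq_top.mpr hT] at h1
    rw [LinearMap.range_eq_top.mpr hS] at h2
    omega
  have e4 : LinearMap.range i ⊓ LinearMap.ker S = LinearMap.ker S := by
    apply Submodule.eq_of_le_of_finrank_eq inf_le_right
    rw [← e2, ← hR, e1, e3]
  have e5 : LinearMap.ker S ≤ LinearMap.range i := by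
    rw [← e4]; exact inf_le_left
  exact hv2 (e5 hv1)

end Cfsg.Agent.ClassicalGeometry.WittStep
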