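import Cfsg.Agent.LieClassical.SLTwoUnipotent

/-!
# Subfields from groups generated by transvections in `SL₂`

If `L ≤ SL₂(K)` (`2 ≠ 0` in `K`) contains `u 1` and some `l c`, `c ≠ 0`, and the orbit of
infinity is contained in `A ∪ {∞}`, where `A = {a | u a ∈ L}`, then `A` is a subfield
(Hua's identity) and `A = {a | l a ∈ L}`.
-/

set_option autoImplicit false

namespace Cfsg.Agent.ClassicalGeometry.HuaSubfield

open Matrix
open Cfsg.Agent.LieClassical.SLTwoUnipotent

section FieldPart

variable {K : Type*} [Field K]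

/-- An additive subgroup `A` of a field containing `1`, closed under halving and under
`a ↦ c / a` for some fixed `c ≠ 0` is a subfield. -/
theorem exists_subfield_of_addSubgroup (A : AddSubgroup K) (h1 : (1 : K) ∈ A)
    (hhalf : ∀ a, 2 * a ∈ A → a ∈ A) (c : K) (hc : c ≠ 0)
    (hA : ∀ a ∈ A, a ≠ 0 → c / a ∈ A) : ∃ k : Subfield K, ∀ a, a ∈ k ↔ a ∈ A := by
  have hcA : c ∈ A := by simpa using hA 1 h1 one_ne_zero
  have H1 : ∀ a ∈ A, ∀ b ∈ A, a ^ 2 * b / c ∈ A := by
    intro a ha b hb
    by_cases ha0 : a = 0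
    · simp [ha0, A.zero_mem]
    by_cases hb0 : b = 0
    · simp [hb0, A.zero_mem]
    by_cases hab : c - a * b = 0
    · have : a ^ 2 * b / c = a := by
        have hc' : c = a * b := by linear_combination hab
        rw [hc']
        field_simp
      rw [this]
      exact ha
    · have e1 : c / b - a = (c - a * b) / b := by field_simp
      have m1 : c / b - a ∈ A := A.sub_mem (hA b hb hb0) ha
      have n1 : c / b - a ≠ 0 := by rw [e1]; exact div_ne_zero hab hb0
      have m2 : c / (c / b - a) ∈ A := hA _ m1 n1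
      have m3 : c / a + c / (c / b - a) ∈ A := A.add_mem (hA a ha ha0) m2
      have e3 : c / a + c / (c / b - a) = c ^ 2 / (a * (c - a * b)) := by
        rw [e1]
        field_simp
        ring
      have n3 : c / a + c / (c / b - a) ≠ 0 := by
        rw [e3]
        exact div_ne_zero (pow_ne_zero 2 hc) (mul_ne_zero ha0 hab)
      have m4 := A.sub_mem ha (hA _ m3 n3)
      have e4 : a - c / (c / a + c / (c / b - a)) = a ^ 2 * b / c := by
        rw [e3]
        field_simp
        ring
      rwa [e4] at m4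
  have H2 : ∀ b ∈ A, b / c ∈ A := by
    intro b hb
    have := H1 1 h1 b hb
    simpa using this
  have H3 : ∀ a ∈ A, a⁻¹ ∈ A := by
    intro a ha
    by_cases ha0 : a = 0
    · simp [ha0, A.zero_mem]
    have := H2 _ (hA a ha ha0)
    have e : c / a / c = a⁻¹ := by field_simp
    rwa [e] at this
  have H4 : ∀ a ∈ A, a ^ 2 ∈ A := by
    intro a ha
    have := H1 a ha c hcA
    have e : a ^ 2 * c / c = a ^ 2 := by field_simp
    rwa [e] at this
  have H5 : ∀ a ∈ A, ∀ b ∈ A, a * b ∈ A := by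
    intro a ha b hb
    apply hhalf
    have := A.sub_mem (A.sub_mem (H4 _ (A.add_mem ha hb)) (H4 a ha)) (H4 b hb)
    have e : (a + b) ^ 2 - a ^ 2 - b ^ 2 = 2 * (a * b) := by ring
    rwa [e] at this
  refine ⟨{ carrier := A
            mul_mem' := fun {a b} ha hb => H5 a ha b hb
            one_mem' := h1
            add_mem' := fun {a b} ha hb => A.add_mem ha hb
            zero_mem' := A.zero_mem
            neg_mem' := fun {a} ha => A.neg_mem ha
            inv_mem' := H3 }, fun a => Iff.rfl⟩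

end FieldPart

section GroupPart

variable {K : Type*} [Field K]

/-- The additive subgroup of all `a` with `u a ∈ L`. -/
def uAdd (L : Subgroup (SpecialLinearGroup (Fin 2) K)) : AddSubgroup K where
  carrier := {a | u a ∈ L}
  add_mem' {a b} ha hb := by
    change u (a + b) ∈ L
    rw [u_add]
    exact L.mul_mem ha hb
  zero_mem' := by
    change u 0 ∈ L
    rw [u_zero]
    exact L.one_mem
  neg_mem' {a} ha := by
    change u (-a) ∈ L
    rw [u_neg]
    exact L.inv_mem ha

theorem mem_uAdd {L : Subgroup (SpecialLinearGroup (Fin 2) K)} {a : K} :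
    a ∈ uAdd L ↔ u a ∈ L := Iff.rfl

/-- The Weyl element `!![0, -1/c; c, 0]` of `SL₂(K)`. -/
theorem weyl_eq (c : K) (hc : c ≠ 0) :
    ((u (-(1 / c)) * l c * u (-(1 / c)) : SpecialLinearGroup (Fin 2) K) :
      Matrix (Fin 2) (Fin 2) K) = !![0, -(1 / c); c, 0] := by
  rw [coe_mul, coe_mul, coe_u, coe_l, Matrix.mul_fin_two, Matrix.mul_fin_two]
  ext i j
  fin_cases i <;> fin_cases j <;> simp [hc]

theorem weyl_conj_u (w : SpecialLinearGroup (Fin 2) K) (c : K) (hc : c ≠ 0)
    (hw : (w : Matrix (Fin 2) (Fin 2) K) = !![0, -(1 / c); c, 0]) (a : K) :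
    w * u a * w⁻¹ = l (-(c ^ 2 * a)) := by
  rw [mul_inv_eq_iff_eq_mul]
  apply ext_coe
  rw [coe_mul, coe_mul, hw, coe_u, coe_l, Matrix.mul_fin_two, Matrix.mul_fin_two]
  ext i j
  fin_cases i <;> fin_cases j
  · simp
  · simp
  · simp
  · simp
    field_simp

theorem weyl_mul_u_mul_weyl (w : SpecialLinearGroup (Fin 2) K) (c : K) (hc : c ≠ 0)
    (hw : (w : Matrix (Fin 2) (Fin 2) K) = !![0, -(1 / c); c, 0]) (a : K) :
    ((w * u a * w : SpecialLinearGroup (Fin 2) K) : Matrix (Fin 2) (Fin 2) K) =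
      !![-1, 0; c ^ 2 * a, -1] := by
  rw [coe_mul, coe_mul, hw, coe_u, Matrix.mul_fin_two, Matrix.mul_fin_two]
  ext i j
  fin_cases i <;> fin_cases j
  · simp [hc]
  · simp
  · simp
    ring
  · simp [hc]

/-- **Subfield from the orbit of infinity.**  If `L ≤ SL₂(K)` contains `u 1` and `l c` with
`c ≠ 0`, and `u (g 0 0 / g 1 0) ∈ L` for all `g ∈ L` with `g 1 0 ≠ 0` (that is, the orbit of
infinity under `L` is contained in `A ∪ {∞}`, `A = {a | u a ∈ L}`), then `A` is a subfield `k`
and `l a ∈ L` if and only if `a ∈ k`. -/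
theorem exists_subfield (L : Subgroup (SpecialLinearGroup (Fin 2) K))
    (hhalf : ∀ a, u (2 * a) ∈ L → u a ∈ L) (h1 : u 1 ∈ L) (c : K) (hc : c ≠ 0) (hl : l c ∈ L)
    (horb : ∀ g ∈ L, g 1 0 ≠ 0 → u (g 0 0 / g 1 0) ∈ L) :
    ∃ k : Subfield K, (∀ a, u a ∈ L ↔ a ∈ k) ∧ (∀ a, l a ∈ L ↔ a ∈ k) := by
  have hc1 : u (1 / c) ∈ L := by
    have := horb (l c) hl (by rw [coe_l]; simpa using hc)
    rw [coe_l] at this
    simpa using this
  have hc2 : u (-(1 / c)) ∈ L := by
    rw [u_neg]
    exact L.inv_mem hc1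
  set w : SpecialLinearGroup (Fin 2) K := u (-(1 / c)) * l c * u (-(1 / c)) with hwdef
  have hw : (w : Matrix (Fin 2) (Fin 2) K) = !![0, -(1 / c); c, 0] := weyl_eq c hc
  have hwL : w ∈ L := L.mul_mem (L.mul_mem hc2 hl) hc2
  obtain ⟨k, hk⟩ := exists_subfield_of_addSubgroup (uAdd L) h1 (fun a ha => hhalf a ha)
    (-(1 / c ^ 2)) (neg_ne_zero.2 (one_div_ne_zero (pow_ne_zero 2 hc))) (by
      intro a ha ha0
      have hm : w * u a * w ∈ L := L.mul_mem (L.mul_mem hwL ha) hwL
      have e := weyl_mul_u_mul_weyl w c hc hw a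
      have hne : (w * u a * w : SpecialLinearGroup (Fin 2) K) 1 0 ≠ 0 := by
        rw [e]
        simpa using ⟨hc, ha0⟩
      have := horb _ hm hne
      rw [e] at this
      rw [mem_uAdd]
      convert this using 2
      simp
      field_simp)
  refine ⟨k, fun a => (hk a).symm, fun a => ?_⟩
  have hck : -(1 / c ^ 2) ∈ k := by
    rw [hk, mem_uAdd]
    have hm : w * u 1 * w ∈ L := L.mul_mem (L.mul_mem hwL h1) hwL
    have e := weyl_mul_u_mul_weyl w c hc hw 1
    have hne : (w * u 1 * w : SpecialLinearGroup (Fin 2) K) 1 0 ≠ 0 := by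
      rw [e]
      simpa using hc
    have := horb _ hm hne
    rw [e] at this
    convert this using 2
    simp
    field_simp
  have hconj : ∀ b, u b ∈ L ↔ l (-(c ^ 2 * b)) ∈ L := by
    intro b
    rw [← weyl_conj_u w c hc hw b]
    constructor
    · intro h
      exact L.mul_mem (L.mul_mem hwL h) (L.inv_mem hwL)
    · intro h
      have := L.mul_mem (L.mul_mem (L.inv_mem hwL) h) hwL
      simpa [mul_assoc] using this
  have hb := hconj (-(1 / c ^ 2) * a)
  have e : -(c ^ 2 * (-(1 / c ^ 2) * a)) = a := by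
    field_simp
  rw [e] at hb
  rw [← hb, ← mem_uAdd, ← hk]
  constructor
  · intro h
    have h3 := k.mul_mem (k.inv_mem hck) h
    rwa [inv_mul_cancel_left₀ (neg_ne_zero.2 (one_div_ne_zero (pow_ne_zero 2 hc)))] at h3
  · intro h
    exact k.mul_mem hck h

end GroupPart

end Cfsg.Agent.ClassicalGeometry.HuaSubfield
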