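import Mathlib

set_option autoImplicit false

namespace Cfsg.Agent.ClassicalGeometry.IndexTwoUnique

/-- A subgroup of index two contains the commutator subgroup. -/
theorem commutator_le_of_index_two {G : Type*} [Group G] (H : Subgroup G) (hH : H.index = 2) :
    commutator G ≤ H := by
  have hn : H.Normal := Subgroup.normal_of_index_eq_two hH
  rw [commutator_def, Subgroup.commutator_le]
  intro a _ b _
  rw [commutatorElement_def, Subgroup.mul_mem_iff_of_index_two hH,
    Subgroup.mul_mem_iff_of_index_two hH, Subgroup.mul_mem_iff_of_index_two hH,
    Subgroup.inv_mem_iff, Subgroup.inv_mem_iff]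
  tauto

/-- If the commutator subgroup has index two, it is the only subgroup of index two. -/
theorem existsUnique_of_index_commutator {G : Type*} [Group G] (h : (commutator G).index = 2) :
    ∃! H : Subgroup G, H.index = 2 := by
  refine ⟨commutator G, h, ?_⟩
  intro H hH
  change H.index = 2 at hH
  have hle := commutator_le_of_index_two H hH
  apply le_antisymm _ hle
  have h1 := Subgroup.relIndex_mul_index hle
  rw [h, hH] at h1
  rw [← Subgroup.relIndex_eq_one]
  omega

/-- Transfer of uniqueness along an isomorphism. -/
theorem existsUnique_of_mulEquiv {G K : Type*} [Group G] [Group K] (e : G ≃* K)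
    (h : ∃! H : Subgroup G, H.index = 2) : ∃! H : Subgroup K, H.index = 2 := by
  obtain ⟨H, hH, huniq⟩ := h
  change H.index = 2 at hH
  have hmap : ∀ L : Subgroup K, (L.comap e.toMonoidHom).index = L.index := fun L =>
    Subgroup.index_comap_of_surjective L e.surjective
  refine ⟨H.map e.toMonoidHom, ?_, ?_⟩
  · change (H.map e.toMonoidHom).index = 2
    rw [← hmap, Subgroup.comap_map_eq_self_of_injective e.injective, hH]
  · intro L hL
    change L.index = 2 at hL
    have h1 := huniq (L.comap e.toMonoidHom) (by change _ = 2; rw [hmap, hL])
    rw [← h1, Subgroup.map_comap_eq_self_of_surjective e.surjective]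

end Cfsg.Agent.ClassicalGeometry.IndexTwoUnique
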