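import Mathlib

/-!
# Arithmetic for the minimal index of a proper subgroup of `PSL₂(q)`
-/

set_option autoImplicit false

namespace Cfsg.Agent.ClassicalGeometry.MinIndexArith

theorem two_cases {q d κ u k : ℕ} (hq2 : 2 ≤ q) (hd : d = 1 ∨ d = 2)
    (h1 : κ * (k + 1) + d * u = 2 * κ + q * d) (hu0 : 0 < u) (hu' : u < q)
    (hu1 : u = 1 → κ ≤ q - 1) (hκ : q - 1 ≤ κ) :
    (u = 1 ∧ κ = q - 1 ∧ k = d + 1) ∨ (d = 2 ∧ k = 2 ∧ κ = 2 * (q - u) ∧ 1 < u) := by
  have hκ0 : 0 < κ := by omega
  obtain ⟨v, rfl⟩ : ∃ v, q = u + v := ⟨q - u, by omega⟩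
  have hv : 0 < v := by omega
  -- `κ (k + 1) = 2 κ + v d`
  have h2 : κ * (k + 1) = 2 * κ + v * d := by nlinarith
  have hk : 2 ≤ k := by
    by_contra hk
    have hd0 : 0 < d := by omega
    have : 0 < v * d := Nat.mul_pos hv hd0
    have h3 : k + 1 ≤ 2 := by omega
    have h4 : κ * (k + 1) ≤ κ * 2 := Nat.mul_le_mul_left κ h3
    omega
  obtain ⟨j, rfl⟩ : ∃ j, k = j + 1 := ⟨k - 1, by omega⟩
  have h3 : κ * j = v * d := by nlinarith
  have hj : 1 ≤ j := by omega
  by_cases hu : u = 1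
  · left
    subst hu
    have h4 : κ = v := by
      have := hu1 rfl
      omega
    refine ⟨rfl, by omega, ?_⟩
    rw [h4] at h3
    have := Nat.eq_of_mul_eq_mul_left hv h3
    omega
  · right
    have hu2 : 2 ≤ u := by omega
    have hj2 : j < 2 := by
      by_contra hj2
      have h5 : 2 ≤ j := by omega
      have h6 : κ * 2 ≤ κ * j := Nat.mul_le_mul_left κ h5
      rcases hd with rfl | rfl <;> omega
    have hj1 : j = 1 := by omega
    subst hj1
    rw [mul_one] at h3
    rcases hd with rfl | rfl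
    · omega
    · refine ⟨rfl, rfl, ?_, by omega⟩
      omega

theorem arith_one {q a b s t : ℕ} (hq2 : 2 ≤ q) (heven : Even q) (hab : a + b = q)
    (ha : a * s = q + 1) (hb : b * t = q + 1) : q = 2 := by
  have ha0 : 0 < a := Nat.pos_of_ne_zero (by rintro rfl; simp at ha)
  have hb0 : 0 < b := Nat.pos_of_ne_zero (by rintro rfl; simp at hb)
  have hodd : Odd (q + 1) := heven.add_one
  have key : ∀ x y : ℕ, 0 < x → x < q → x * y = q + 1 → 3 * x ≤ q + 1 := by
    intro x y hx hxq hxy
    have hy : Odd y := by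
      rw [← hxy] at hodd
      exact (Nat.odd_mul.1 hodd).2
    have hy1 : y ≠ 1 := by
      rintro rfl
      omega
    have hy3 : 3 ≤ y := by
      obtain ⟨w, rfl⟩ := hy
      omega
    calc 3 * x ≤ y * x := Nat.mul_le_mul_right x hy3
      _ = q + 1 := by rw [mul_comm, hxy]
  have h1 := key a s ha0 (by omega) ha
  have h2 := key b t hb0 (by omega) hb
  omega

theorem arith_two_aux {m a b c s t r : ℕ} (hm : 1 ≤ m) (hab : a + b + c = 2 * m - 1)
    (ha : a * s = m) (hb : b * t = m) (hc : c * r = m) (hs : s = 1) : m ≤ 6 := by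
  subst hs
  rw [mul_one] at ha
  subst ha
  have hb0 : 0 < b := Nat.pos_of_ne_zero (by rintro rfl; simp at hb; omega)
  have hc0 : 0 < c := Nat.pos_of_ne_zero (by rintro rfl; simp at hc; omega)
  have ht0 : 0 < t := Nat.pos_of_ne_zero (by rintro rfl; simp at hb; omega)
  have hr0 : 0 < r := Nat.pos_of_ne_zero (by rintro rfl; simp at hc; omega)
  have ht1 : t ≠ 1 := by rintro rfl; omega
  have hr1 : r ≠ 1 := by rintro rfl; omega
  have half : ∀ x y z : ℕ, x + y = a - 1 → x * 2 = a → y * z = a → a ≤ 6 := by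
    intro x y z h1 h2 h3
    have hx : y = x - 1 := by omega
    have hx1 : 1 ≤ x := by omega
    by_contra hcon
    have hy2 : 3 ≤ y := by omega
    have h4 : y * z = 2 * y + 2 := by omega
    have h5 : y ∣ 2 := by
      have h6 : y ∣ 2 * y + 2 := ⟨z, h4.symm⟩
      exact (Nat.dvd_add_right (Dvd.intro_left 2 rfl)).1 h6
    have := Nat.le_of_dvd (by norm_num) h5
    omega
  by_cases ht2 : t = 2
  · exact half b c r (by omega) (by rw [← ht2]; exact hb) hc
  · by_cases hr2 : r = 2
    · exact half c b t (by omega) (by rw [← hr2]; exact hc) hb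
    · have ht3 : 3 ≤ t := by omega
      have hr3 : 3 ≤ r := by omega
      have h1 : b * 3 ≤ b * t := Nat.mul_le_mul_left b ht3
      have h2 : c * 3 ≤ c * r := Nat.mul_le_mul_left c hr3
      omega

theorem arith_two {m a b c s t r : ℕ} (hm : 1 ≤ m) (hab : a + b + c = 2 * m - 1)
    (ha : a * s = m) (hb : b * t = m) (hc : c * r = m) : m ≤ 6 := by
  by_cases hs : s = 1
  · exact arith_two_aux hm hab ha hb hc hs
  · by_cases ht : t = 1
    · exact arith_two_aux hm (by omega : b + a + c = 2 * m - 1) hb ha hc ht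
    · by_cases hr : r = 1
      · exact arith_two_aux hm (by omega : c + a + b = 2 * m - 1) hc ha hb hr
      · have hs0 : s ≠ 0 := by rintro rfl; omega
        have ht0 : t ≠ 0 := by rintro rfl; omega
        have hr0 : r ≠ 0 := by rintro rfl; omega
        have h1 : a * 2 ≤ a * s := Nat.mul_le_mul_left a (by omega)
        have h2 : b * 2 ≤ b * t := Nat.mul_le_mul_left b (by omega)
        have h3 : c * 2 ≤ c * r := Nat.mul_le_mul_left c (by omega)
        omega

theorem arith_three_aux {m a b s t r N : ℕ} (hm : 1 ≤ m) (hr : 2 ≤ r) (hrq : r ∣ 2 * m - 1)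
    (hN : 2 ≤ N) (hN' : (r - 1) * N = m - 1) (hab : a + b = m - 1 + N)
    (ha : a * s = m) (hb : b * t = m) (hs : s = 1) : m = 5 := by
  subst hs
  rw [mul_one] at ha
  subst ha
  have hb1 : b = N - 1 := by omega
  have hb0 : 1 ≤ b := by omega
  obtain ⟨r', rfl⟩ : ∃ r', r = r' + 1 := ⟨r - 1, by omega⟩
  have hNb : N = b + 1 := by omega
  rw [hNb, Nat.add_sub_cancel] at hN'
  have h1 : a = r' * (b + 1) + 1 := by omega
  have h2 : b ∣ r' + 1 := by
    have h3 : b ∣ a := ⟨t, hb.symm⟩
    have h4 : a = r' * b + (r' + 1) := by rw [h1]; ring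
    rw [h4] at h3
    exact (Nat.dvd_add_right (Dvd.intro_left r' rfl)).1 h3
  have h5 : b ∣ 2 * a - 1 := h2.trans hrq
  have h6 : b ∣ 1 := by
    have h7 : b ∣ 2 * a := (Dvd.intro t hb).mul_left 2
    have h8 : 2 * a = 2 * a - 1 + 1 := by omega
    rw [h8] at h7
    exact (Nat.dvd_add_right h5).1 h7
  have h9 : b = 1 := Nat.dvd_one.1 h6
  subst h9
  have h10 : a = 2 * r' + 1 := by omega
  have h11 : r' + 1 ∣ 3 := by
    have h12 : 4 * (r' + 1) = (2 * a - 1) + 3 := by omega
    have h13 : r' + 1 ∣ (2 * a - 1) + 3 := by rw [← h12]; exact Dvd.intro_left 4 rfl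
    exact (Nat.dvd_add_right hrq).1 h13
  have h14 := Nat.le_of_dvd (by norm_num) h11
  interval_cases h : r' + 1
  · omega
  · omega

theorem arith_three {m a b s t u : ℕ} (hm : 1 ≤ m) (hu : u ∣ 2 * m - 1) (hu1 : 1 < u)
    (huq : u < 2 * m - 1)
    (hab : 2 * (2 * m - 1 - u) * (a + b) = (2 * m - 1) * (2 * m - 2))
    (ha : a * s = m) (hb : b * t = m) : m = 5 := by
  obtain ⟨r, hr⟩ := hu
  have hr2 : 2 ≤ r := by
    by_contra hr2
    have : r = 0 ∨ r = 1 := by omega
    rcases this with rfl | rfl <;> omega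
  obtain ⟨r', rfl⟩ : ∃ r', r = r' + 1 := ⟨r - 1, by omega⟩
  -- `r' (a + b) = (r' + 1) (m - 1)`
  have h1 : r' * (a + b) = (r' + 1) * (m - 1) := by
    have h2 : 2 * m - 1 - u = u * r' := by
      rw [hr]
      have : u * (r' + 1) = u * r' + u := by ring
      omega
    have h3 : 2 * m - 2 = 2 * (m - 1) := by omega
    rw [h2, hr, h3] at hab
    have h4 : (2 * u) * (r' * (a + b)) = (2 * u) * ((r' + 1) * (m - 1)) := by
      calc (2 * u) * (r' * (a + b)) = 2 * (u * r') * (a + b) := by ring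
        _ = u * (r' + 1) * (2 * (m - 1)) := hab
        _ = (2 * u) * ((r' + 1) * (m - 1)) := by ring
    exact Nat.eq_of_mul_eq_mul_left (by omega) h4
  have hm2 : 2 ≤ m := by omega
  have h5 : m - 1 ≤ a + b := by
    by_contra h5
    have h6 : r' * (a + b) ≤ r' * (m - 1) := Nat.mul_le_mul_left r' (by omega)
    have h7 : (r' + 1) * (m - 1) = r' * (m - 1) + (m - 1) := by ring
    omega
  obtain ⟨N, hN⟩ : ∃ N, a + b = m - 1 + N := ⟨a + b - (m - 1), by omega⟩
  have h8 : r' * N = m - 1 := by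
    rw [hN] at h1
    have h9 : r' * (m - 1 + N) = r' * (m - 1) + r' * N := by ring
    have h7 : (r' + 1) * (m - 1) = r' * (m - 1) + (m - 1) := by ring
    omega
  have hN2 : 2 ≤ N := by
    by_contra hN2
    have : N = 0 ∨ N = 1 := by omega
    rcases this with rfl | rfl
    · omega
    · rw [mul_one] at h8
      have h10 : 2 * m - 1 = 2 * (r' + 1) - 1 := by omega
      have h11 : r' + 1 ∣ 2 * m - 1 := by rw [hr]; exact Dvd.intro_left u rfl
      rw [h10] at h11
      have h12 : r' + 1 ∣ 1 := by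
        have h13 : r' + 1 ∣ (2 * (r' + 1) - 1) + 1 := by
          have : 2 * (r' + 1) - 1 + 1 = 2 * (r' + 1) := by omega
          rw [this]
          exact Dvd.intro_left 2 rfl
        exact (Nat.dvd_add_right h11).1 h13
      have := Nat.dvd_one.1 h12
      omega
  have hrq : r' + 1 ∣ 2 * m - 1 := by rw [hr]; exact Dvd.intro_left u rfl
  by_cases hs : s = 1
  · exact arith_three_aux hm hr2 hrq hN2 (by rw [Nat.add_sub_cancel]; exact h8) hN ha hb hs
  · by_cases ht : t = 1
    · exact arith_three_aux hm hr2 hrq hN2 (by rw [Nat.add_sub_cancel]; exact h8)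
        (by omega : b + a = m - 1 + N) hb ha ht
    · have hs0 : s ≠ 0 := by rintro rfl; omega
      have ht0 : t ≠ 0 := by rintro rfl; omega
      have h1 : a * 2 ≤ a * s := Nat.mul_le_mul_left a (by omega)
      have h2 : b * 2 ≤ b * t := Nat.mul_le_mul_left b (by omega)
      omega

end Cfsg.Agent.ClassicalGeometry.MinIndexArith
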