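import Cfsg.Agent.ClassicalGeometry.MinIndexPSL2

/-!
# The minimal index of a proper subgroup of `SL₂(q)` containing `-1`
-/

set_option autoImplicit false
set_option linter.unusedSectionVars false

namespace Cfsg.Agent.ClassicalGeometry.MinIndexMain

open Matrix OnePoint
open Cfsg.Agent.ClassicalGeometry.SL2Line Cfsg.Agent.ClassicalGeometry.SL2Borel
open Cfsg.Agent.ClassicalGeometry.SL2Outer Cfsg.Agent.ClassicalGeometry.MinIndexPSL2

section Line

variable {F : Type*} [Field F] [DecidableEq F] [Finite F]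

attribute [local instance] slLineAction

theorem card_stabInf_lt (H : Subgroup (SpecialLinearGroup (Fin 2) F))
    (hneg : (-1 : SpecialLinearGroup (Fin 2) F) ∈ H) (hU : ∃ b : F, uni b ∉ H) :
    Nat.card (stabInf H) < 2 * (Nat.card F - 1) := by
  obtain ⟨u, j, hu, hu0, hu1, hu2, h1, -⟩ := stabInf_facts H hneg hU
  have hq : 1 < Nat.card F := Finite.one_lt_card
  have hκ : 0 < Nat.card (stabInf H) := Nat.card_pos
  have hd : dd F = 1 ∨ dd F = 2 := by
    rcases dd_cases (F := F) with h | h
    · exact Or.inl h.1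
    · exact Or.inr h.1
  generalize Nat.card (stabInf H) = κ at *
  generalize Nat.card F = q at *
  by_cases hu3 : u = 1
  · have := hu2 hu3
    omega
  · obtain ⟨v, rfl⟩ : ∃ v, q = u + v := ⟨q - u, by omega⟩
    have hv : 0 < v := by omega
    have h2 : j * κ = 2 * κ + v * dd F := by nlinarith
    have hvd : 0 < v * dd F := Nat.mul_pos hv (by omega)
    have hj : 3 ≤ j := by
      by_contra hj
      have h3 : j * κ ≤ 2 * κ := Nat.mul_le_mul_right κ (by omega)
      omega
    have h3 : 3 * κ ≤ j * κ := Nat.mul_le_mul_right κ hj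
    rcases hd with hd | hd <;> rw [hd] at h2 <;> omega

theorem card_stab_lt (H : Subgroup (SpecialLinearGroup (Fin 2) F))
    (hneg : (-1 : SpecialLinearGroup (Fin 2) F) ∈ H) (hH : H ≠ ⊤) (hidx : H.index ≤ Nat.card F)
    (x : OnePoint F) : Nat.card (MulAction.stabilizer H x) < 2 * (Nat.card F - 1) := by
  obtain ⟨g, rfl⟩ := exists_smul_infty x
  set H' : Subgroup (SpecialLinearGroup (Fin 2) F) := H.comap (MulAut.conj g).toMonoidHom with hH'
  have hmem : ∀ y, y ∈ H' ↔ g * y * g⁻¹ ∈ H := fun y => Iff.rfl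
  have hidx' : H'.index = H.index :=
    Subgroup.index_comap_of_surjective _ (MulAut.conj g).surjective
  have hne : H' ≠ ⊤ := by
    intro h
    apply hH
    rw [← Subgroup.index_eq_one] at h ⊢
    omega
  have hneg' : (-1 : SpecialLinearGroup (Fin 2) F) ∈ H' := by
    rw [hmem]
    have : g * -1 * g⁻¹ = -1 := by
      rw [mul_neg, mul_one, neg_mul, mul_inv_cancel]
    rwa [this]
  have h1 := card_stabInf_lt H' hneg' (exists_uni_not_mem H' hne (by omega))
  refine lt_of_eq_of_lt ?_ h1
  symm
  refine Nat.card_congr ⟨fun y => ⟨⟨g * y.1 * g⁻¹, ?_⟩, ?_⟩, fun z => ⟨g⁻¹ * z.1.1 * g, ?_⟩, ?_, ?_⟩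
  · exact (hmem _).1 (mem_stabInf.1 y.2).1
  · rw [MulAction.mem_stabilizer_iff]
    have h2 := (mem_stabInf.1 y.2).2
    rw [← sl_smul_infty_eq_iff] at h2
    change (g * y.1 * g⁻¹) • g • (∞ : OnePoint F) = g • (∞ : OnePoint F)
    rw [mul_smul, mul_smul, inv_smul_smul, h2]
  · rw [mem_stabInf, hmem, ← sl_smul_infty_eq_iff]
    constructor
    · have : g * (g⁻¹ * z.1.1 * g) * g⁻¹ = z.1.1 := by group
      rw [this]
      exact z.1.2
    · have h2 : z.1.1 • g • (∞ : OnePoint F) = g • (∞ : OnePoint F) := z.2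
      rw [mul_smul, mul_smul, h2, inv_smul_smul]
  · intro y
    apply Subtype.ext
    change g⁻¹ * (g * y.1 * g⁻¹) * g = y.1
    group
  · intro z
    apply Subtype.ext
    apply Subtype.ext
    change g * (g⁻¹ * z.1.1 * g) * g⁻¹ = z.1.1
    group

theorem card_stab_mul {G X : Type*} [Group G] [MulAction G X] (x : X) :
    Nat.card (MulAction.stabilizer G x) * (MulAction.orbit G x).ncard = Nat.card G := by
  rw [← MulAction.index_stabilizer, Subgroup.card_mul_index]

/-- A lower bound on the order. -/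
theorem card_ge (H : Subgroup (SpecialLinearGroup (Fin 2) F))
    (hidx : H.index ≤ Nat.card F) : (Nat.card F + 1) * (Nat.card F - 1) ≤ Nat.card H := by
  have h1 := Subgroup.card_mul_index H
  rw [card_sl2] at h1
  have hq : 1 < Nat.card F := Finite.one_lt_card
  have h2 : (Nat.card F + 1) * (Nat.card F - 1) = Nat.card F ^ 2 - 1 := by
    have := Nat.sq_sub_sq (Nat.card F) 1
    rw [one_pow] at this
    rw [this]
  rw [h2]
  have h3 : Nat.card H * H.index ≤ Nat.card H * Nat.card F := Nat.mul_le_mul_left _ hidx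
  rw [h1, mul_comm] at h3
  exact Nat.le_of_mul_le_mul_right h3 (by omega)

theorem isPretransitive (H : Subgroup (SpecialLinearGroup (Fin 2) F))
    (hneg : (-1 : SpecialLinearGroup (Fin 2) F) ∈ H) (hH : H ≠ ⊤)
    (hidx : H.index ≤ Nat.card F) : MulAction.IsPretransitive H (OnePoint F) := by
  have hfin : Finite (OnePoint F) := finite_line
  have hq : 1 < Nat.card F := Finite.one_lt_card
  have hbig : ∀ x : OnePoint F, Nat.card F + 1 < 2 * (MulAction.orbit H x).ncard := by
    intro x
    have h1 := card_stab_lt H hneg hH hidx x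
    have h2 := card_stab_mul (G := H) x
    have h3 := card_ge H hidx
    by_contra hcon
    push Not at hcon
    rw [← h2] at h3
    have h4 : 2 * ((Nat.card F + 1) * (Nat.card F - 1)) ≤
        Nat.card (MulAction.stabilizer H x) * (Nat.card F + 1) := by
      calc 2 * ((Nat.card F + 1) * (Nat.card F - 1))
          ≤ 2 * (Nat.card (MulAction.stabilizer H x) * (MulAction.orbit H x).ncard) := by omega
        _ = Nat.card (MulAction.stabilizer H x) * (2 * (MulAction.orbit H x).ncard) := by ring
        _ ≤ _ := Nat.mul_le_mul_left _ hcon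
    have h5 : (Nat.card F + 1) * (2 * (Nat.card F - 1)) ≤
        (Nat.card F + 1) * Nat.card (MulAction.stabilizer H x) := by
      calc (Nat.card F + 1) * (2 * (Nat.card F - 1)) =
          2 * ((Nat.card F + 1) * (Nat.card F - 1)) := by ring
        _ ≤ _ := h4
        _ = _ := mul_comm _ _
    have h6 := Nat.le_of_mul_le_mul_left h5 (by omega)
    omega
  refine ⟨fun x y => ?_⟩
  by_contra hxy
  have hdisj : Disjoint (MulAction.orbit H x) (MulAction.orbit H y) := by
    rw [Set.disjoint_iff_inter_eq_empty]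
    by_contra hne
    obtain ⟨z, hz1, hz2⟩ := Set.nonempty_iff_ne_empty.2 hne
    have h1 := MulAction.orbit_eq_iff.2 hz1
    have h2 := MulAction.orbit_eq_iff.2 hz2
    rw [h1] at h2
    have h3 : y ∈ MulAction.orbit H x := by
      rw [h2]
      exact MulAction.mem_orbit_self y
    obtain ⟨g, hg⟩ := h3
    exact hxy ⟨g, hg⟩
  have h1 := Set.ncard_union_eq hdisj (Set.toFinite _) (Set.toFinite _)
  have h2 := Set.ncard_le_ncard (Set.subset_univ (MulAction.orbit H x ∪ MulAction.orbit H y))
    (Set.toFinite _)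
  rw [Set.ncard_univ, card_line] at h2
  have h3 := hbig x
  have h4 := hbig y
  omega

theorem fixP_conj (g k : SpecialLinearGroup (Fin 2) F) : fixP (k * g * k⁻¹) = fixP g := by
  rw [fixP_def, fixP_def]
  refine Nat.card_congr ⟨fun x => ⟨k⁻¹ • x.1, ?_⟩, fun x => ⟨k • x.1, ?_⟩, ?_, ?_⟩
  · have h : (k * g * k⁻¹) • x.1 = x.1 := x.2
    change g • k⁻¹ • x.1 = k⁻¹ • x.1
    rw [mul_smul, mul_smul] at h
    rw [eq_inv_smul_iff, h]
  · have h : g • x.1 = x.1 := x.2
    change (k * g * k⁻¹) • k • x.1 = k • x.1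
    rw [mul_smul, mul_smul, inv_smul_smul, h]
  · intro x
    apply Subtype.ext
    change k • k⁻¹ • x.1 = x.1
    rw [smul_inv_smul]
  · intro x
    apply Subtype.ext
    change k⁻¹ • k • x.1 = x.1
    rw [inv_smul_smul]

theorem sum_sq (H : Subgroup (SpecialLinearGroup (Fin 2) F)) [Fintype H] [Fintype (stabInf H)]
    (htr : MulAction.IsPretransitive H (OnePoint F)) :
    ∑ h : H, fixP (h : SpecialLinearGroup (Fin 2) F) ^ 2 =
      (Nat.card F + 1) * ∑ k : stabInf H, fixP (k : SpecialLinearGroup (Fin 2) F) := by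
  classical
  have hfin : Finite (OnePoint F) := finite_line
  have := Fintype.ofFinite (OnePoint F)
  have := Fintype.ofFinite (SpecialLinearGroup (Fin 2) F)
  rw [sum_subgroup H (fun g => fixP g ^ 2), sum_subgroup (stabInf H) fixP]
  have h1 : ∀ g : SpecialLinearGroup (Fin 2) F, fixP g ^ 2 =
      ∑ x : OnePoint F, if g • x = x then fixP g else 0 := by
    intro g
    rw [← Finset.sum_filter, Finset.sum_const, smul_eq_mul, sq]
    congr 1
    rw [fixP_def, Nat.card_eq_fintype_card, ← Fintype.card_subtype]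
    rfl
  have h2 : ∀ g : SpecialLinearGroup (Fin 2) F, (if g ∈ H then fixP g ^ 2 else 0) =
      ∑ x : OnePoint F, if (g ∈ H ∧ g • x = x) then fixP g else 0 := by
    intro g
    by_cases hg : g ∈ H
    · simp only [hg, if_true, true_and]
      exact h1 g
    · simp [hg]
  simp_rw [h2]
  rw [Finset.sum_comm]
  have h3 : ∀ x : OnePoint F, (∑ g : SpecialLinearGroup (Fin 2) F,
      if (g ∈ H ∧ g • x = x) then fixP g else 0) =
      ∑ g : SpecialLinearGroup (Fin 2) F, if g ∈ stabInf H then fixP g else 0 := by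
    intro x
    obtain ⟨⟨k, hk⟩, hkx⟩ := htr.exists_smul_eq (∞ : OnePoint F) x
    have hkx' : k • (∞ : OnePoint F) = x := hkx
    rw [← (MulAut.conj k).toEquiv.sum_comp]
    apply Finset.sum_congr rfl
    intro g _
    change (if (k * g * k⁻¹ ∈ H ∧ (k * g * k⁻¹) • x = x) then fixP (k * g * k⁻¹) else 0) = _
    rw [fixP_conj]
    congr 1
    rw [mem_stabInf, ← sl_smul_infty_eq_iff]
    apply propext
    apply and_congr
    · constructor
      · intro h
        have : g = k⁻¹ * (k * g * k⁻¹) * k := by group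
        rw [this]
        exact H.mul_mem (H.mul_mem (H.inv_mem hk) h) hk
      · intro h
        exact H.mul_mem (H.mul_mem hk h) (H.inv_mem hk)
    · rw [← hkx', mul_smul, mul_smul, inv_smul_smul, smul_left_cancel_iff]
  rw [Finset.sum_congr rfl (fun x _ => h3 x), Finset.sum_const, smul_eq_mul, Finset.card_univ,
    ← Nat.card_eq_fintype_card, card_line]

end Line

end Cfsg.Agent.ClassicalGeometry.MinIndexMain
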