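import Cfsg.Agent.ClassicalGeometry.SL2Outer
import Cfsg.Agent.ClassicalGeometry.MinIndexArith
import Cfsg.Agent.S0242

/-!
# The minimal index of a proper subgroup of `SL₂(q)` containing `-1`
-/

set_option autoImplicit false
set_option linter.unusedSectionVars false

namespace Cfsg.Agent.ClassicalGeometry.MinIndexPSL2

open Matrix OnePoint
open Cfsg.Agent.ClassicalGeometry.SL2Line Cfsg.Agent.ClassicalGeometry.SL2Borel
open Cfsg.Agent.ClassicalGeometry.SL2Outer

/-- Burnside's lemma. -/
theorem burnside (G X : Type*) [Group G] [Fintype G] [MulAction G X] [Finite X] :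
    ∑ g : G, Nat.card (MulAction.fixedBy X g) =
      Nat.card (MulAction.orbitRel.Quotient G X) * Nat.card G := by
  classical
  have := Fintype.ofFinite X
  have h := MulAction.sum_card_fixedBy_eq_card_orbits_mul_card_group G X
  rw [Nat.card_eq_fintype_card, Nat.card_eq_fintype_card, ← h]
  apply Finset.sum_congr rfl
  intro g _
  rw [Nat.card_eq_fintype_card]

section Line

variable {F : Type*} [Field F] [DecidableEq F]

attribute [local instance] slLineAction

/-- The stabiliser of `∞` in a subgroup. -/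
def stabInf (H : Subgroup (SpecialLinearGroup (Fin 2) F)) :
    Subgroup (SpecialLinearGroup (Fin 2) F) :=
  H ⊓ MulAction.stabilizer (SpecialLinearGroup (Fin 2) F) (∞ : OnePoint F)

theorem mem_stabInf {H : Subgroup (SpecialLinearGroup (Fin 2) F)}
    {g : SpecialLinearGroup (Fin 2) F} : g ∈ stabInf H ↔ g ∈ H ∧ g 1 0 = 0 := by
  rw [stabInf, Subgroup.mem_inf, MulAction.mem_stabilizer_iff, sl_smul_infty_eq_iff]

theorem finite_line [Finite F] : Finite (OnePoint F) := by
  have := Fintype.ofFinite F
  infer_instance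

theorem card_line [Finite F] : Nat.card (OnePoint F) = Nat.card F + 1 := by
  have := Fintype.ofFinite F
  rw [Nat.card_eq_fintype_card, Nat.card_eq_fintype_card]
  exact Fintype.card_option

/-- The lower unitriangular matrix. -/
def low (b : F) : SpecialLinearGroup (Fin 2) F := mk 1 0 b 1 (by ring)

theorem eq_uni_low_uni (g : SpecialLinearGroup (Fin 2) F) (h : g 1 0 ≠ 0) :
    g = uni ((g 0 0 - 1) / g 1 0) * low (g 1 0) * uni ((g 1 1 - 1) / g 1 0) := by
  have hdet := det_eq g
  apply sl_ext <;> simp only [sl_mul_apply, uni, low, mk_00, mk_01, mk_10, mk_11]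
  · field_simp
    ring
  · field_simp
    linear_combination -hdet
  · ring
  · field_simp
    ring

theorem low_conj (c y : F) (hc : c ≠ 0) :
    (uni (-1 / c) * low c * uni (-1 / c)) * uni y = low (-c ^ 2 * y) *
      (uni (-1 / c) * low c * uni (-1 / c)) := by
  apply sl_ext <;> simp only [sl_mul_apply, uni, low, mk_00, mk_01, mk_10, mk_11] <;>
    field_simp <;> ring

/-- A proper subgroup containing all upper unitriangular matrices consists of upper triangular
matrices. -/
theorem eq_top_or (H : Subgroup (SpecialLinearGroup (Fin 2) F)) (hU : ∀ b : F, uni b ∈ H) :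
    H = ⊤ ∨ ∀ h ∈ H, h 1 0 = 0 := by
  by_cases hB : ∀ h ∈ H, h 1 0 = 0
  · exact Or.inr hB
  left
  push Not at hB
  obtain ⟨h, hh, hc⟩ := hB
  have hlow1 : low (h 1 0) ∈ H := by
    have h1 := eq_uni_low_uni h hc
    have h2 : low (h 1 0) = (uni ((h 0 0 - 1) / h 1 0))⁻¹ * h * (uni ((h 1 1 - 1) / h 1 0))⁻¹ := by
      rw [eq_mul_inv_iff_mul_eq, eq_inv_mul_iff_mul_eq, ← mul_assoc]
      exact h1.symm
    rw [h2]
    exact H.mul_mem (H.mul_mem (H.inv_mem (hU _)) hh) (H.inv_mem (hU _))
  set c := h 1 0 with hcdef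
  have hw : uni (-1 / c) * low c * uni (-1 / c) ∈ H := H.mul_mem (H.mul_mem (hU _) hlow1) (hU _)
  have hlow : ∀ x : F, low x ∈ H := by
    intro x
    have h1 := low_conj c (-x / c ^ 2) hc
    have h2 : -c ^ 2 * (-x / c ^ 2) = x := by field_simp
    rw [h2] at h1
    have h3 : low x = (uni (-1 / c) * low c * uni (-1 / c)) * uni (-x / c ^ 2) *
        (uni (-1 / c) * low c * uni (-1 / c))⁻¹ := by
      rw [eq_mul_inv_iff_mul_eq]
      exact h1.symm
    rw [h3]
    exact H.mul_mem (H.mul_mem hw (hU _)) (H.inv_mem hw)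
  have key : ∀ g : SpecialLinearGroup (Fin 2) F, g 1 0 ≠ 0 → g ∈ H := by
    intro g hg
    rw [eq_uni_low_uni g hg]
    exact H.mul_mem (H.mul_mem (hU _) (hlow _)) (hU _)
  rw [eq_top_iff]
  intro g _
  by_cases hg : g 1 0 = 0
  · have hdet := det_eq g
    have h0 : g 0 0 ≠ 0 := by
      intro h0
      rw [h0, hg] at hdet
      simp at hdet
    have h1 : low 1 * g ∈ H := by
      apply key
      rw [sl_mul_apply]
      simp only [low, mk_10, mk_11, hg]
      simpa using h0
    have := H.mul_mem (H.inv_mem (hlow 1)) h1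
    rwa [inv_mul_cancel_left] at this
  · exact key g hg

theorem pretransitive : MulAction.IsPretransitive (SpecialLinearGroup (Fin 2) F) (OnePoint F) := by
  refine ⟨fun x y => ?_⟩
  obtain ⟨g, hg⟩ := exists_smul_infty x
  obtain ⟨h, hh⟩ := exists_smul_infty y
  refine ⟨h * g⁻¹, ?_⟩
  rw [mul_smul, ← hg, inv_smul_smul, hh]

variable [Finite F]

theorem index_stabilizer_infty :
    (MulAction.stabilizer (SpecialLinearGroup (Fin 2) F) (∞ : OnePoint F)).index =
      Nat.card F + 1 := by
  have := pretransitive (F := F)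
  rw [MulAction.index_stabilizer, MulAction.orbit_eq_univ, Set.ncard_univ, card_line]

theorem exists_uni_not_mem (H : Subgroup (SpecialLinearGroup (Fin 2) F)) (hH : H ≠ ⊤)
    (hidx : H.index ≤ Nat.card F) : ∃ b : F, uni b ∉ H := by
  by_contra hcon
  push Not at hcon
  rcases eq_top_or H hcon with h | h
  · exact hH h
  · have h1 : H ≤ MulAction.stabilizer (SpecialLinearGroup (Fin 2) F) (∞ : OnePoint F) := by
      intro g hg
      rw [MulAction.mem_stabilizer_iff, sl_smul_infty_eq_iff]
      exact h g hg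
    have h2 := Subgroup.index_antitone h1
    rw [index_stabilizer_infty] at h2
    omega

theorem card_sl2 : Nat.card (SpecialLinearGroup (Fin 2) F) =
    Nat.card F * (Nat.card F ^ 2 - 1) := by
  have := Fintype.ofFinite F
  have h := Cfsg.Agent.S0242.result (F := F) rfl 2 (by norm_num)
  rw [Fin.prod_univ_two] at h
  simp only [Fin.val_zero, Fin.val_one, pow_zero, pow_one, ← Nat.card_eq_fintype_card] at h
  have hq : 1 < Nat.card F := Finite.one_lt_card
  have h2 : (Nat.card F - 1) * Nat.card (SpecialLinearGroup (Fin 2) F) =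
      (Nat.card F - 1) * (Nat.card F * (Nat.card F ^ 2 - 1)) := by
    rw [h]
    have : Nat.card F ^ 2 - Nat.card F = (Nat.card F - 1) * Nat.card F := by
      rw [Nat.sub_mul, one_mul, sq]
    rw [this]
    ring
  exact Nat.eq_of_mul_eq_mul_left (by omega) h2

/-- The basic facts on the stabiliser of `∞` in `H`. -/
theorem stabInf_facts (H : Subgroup (SpecialLinearGroup (Fin 2) F))
    (hneg : (-1 : SpecialLinearGroup (Fin 2) F) ∈ H) (hU : ∃ b : F, uni b ∉ H) :
    ∃ (u j : ℕ), u ∣ Nat.card F ∧ 0 < u ∧ u < Nat.card F ∧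
      (u = 1 → Nat.card (stabInf H) ≤ Nat.card F - 1) ∧
      j * Nat.card (stabInf H) + dd F * u = 2 * Nat.card (stabInf H) + Nat.card F * dd F ∧
      ∀ [Fintype (stabInf H)], ∑ k : stabInf H, fixP (k : SpecialLinearGroup (Fin 2) F) =
        j * Nat.card (stabInf H) := by
  classical
  have := Fintype.ofFinite (stabInf H)
  have hfin : Finite (OnePoint F) := finite_line
  have hneg' : (-1 : SpecialLinearGroup (Fin 2) F) ∈ stabInf H := by
    rw [mem_stabInf]
    refine ⟨hneg, ?_⟩
    rw [sl_neg_apply, sl_one_apply]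
    simp
  have hK : ∀ k ∈ stabInf H, k 1 0 = 0 := fun k hk => (mem_stabInf.1 hk).2
  have h1 := sum_fixP hneg' hK
  have h2 := burnside (stabInf H) (OnePoint F)
  have h3 : ∑ g : stabInf H, Nat.card (MulAction.fixedBy (OnePoint F) g) =
      ∑ k : stabInf H, fixP (k : SpecialLinearGroup (Fin 2) F) := rfl
  rw [h3] at h2
  refine ⟨Nat.card (trans (stabInf H)), Nat.card (MulAction.orbitRel.Quotient (stabInf H)
    (OnePoint F)), card_trans_dvd _, Nat.card_pos, ?_, card_le_of_trans_eq_one hK, ?_, ?_⟩
  · obtain ⟨b, hb⟩ := hU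
    have hb' : b ∉ trans (stabInf H) := by
      intro hb'
      exact hb (mem_stabInf.1 hb').1
    have hle := AddSubgroup.card_le_card_addGroup (trans (stabInf H))
    refine lt_of_le_of_ne hle ?_
    intro heq
    have := (AddSubgroup.card_eq_iff_eq_top _).1 heq
    rw [this] at hb'
    exact hb' (AddSubgroup.mem_top b)
  · rw [← h2]
    exact h1
  · intro inst
    rw [← h2]
    congr!

end Line

end Cfsg.Agent.ClassicalGeometry.MinIndexPSL2
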