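import Mathlib
import Cfsg.Agent.LieClassical.OrthSimple

/-!
Automorphisms of `PΩ(V)`, part 1: total Siegel transformations `T Q u w`, existence of singular
vectors over finite fields (Chevalley--Warning), the standing hypothesis `Big Q` (nondegenerate,
dimension at least seven), the orthogonal complement of a hyperbolic pair.
-/

set_option autoImplicit false

namespace Cfsg.Agent.ClassicalGeometry.OrthAutBasic

open QuadraticMap Cfsg.Agent.LieClassical.OrthCore Cfsg.Agent.LieClassical.OrthTrans
  Cfsg.Agent.LieClassical.OrthSimple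
open scoped commutatorElement

variable {F V : Type*} [Field F] [AddCommGroup V] [Module F V] {Q : QuadraticForm F V}

/-! ### The total Siegel function -/

open Classical in
/-- The Siegel transformation attached to `(u, w)`, and `1` if `u` is not singular or `w` is not
orthogonal to `u`. -/
noncomputable def T (Q : QuadraticForm F V) (u w : V) : V ≃ₗ[F] V :=
  if h : Q u = 0 ∧ polar Q u w = 0 then siegel Q u w h.1 h.2 else 1

theorem T_eq {u w : V} (hu : Q u = 0) (hw : polar Q u w = 0) :
    T Q u w = siegel Q u w hu hw := by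
  unfold T
  rw [dif_pos ⟨hu, hw⟩]

theorem T_eq_one {u w : V} (h : ¬ (Q u = 0 ∧ polar Q u w = 0)) : T Q u w = 1 := by
  unfold T
  rw [dif_neg h]

theorem T_apply {u w : V} (hu : Q u = 0) (hw : polar Q u w = 0) (v : V) :
    T Q u w v = v + polar Q u v • w - polar Q w v • u - (Q w * polar Q u v) • u := by
  rw [T_eq hu hw, siegel_apply]

theorem T_mem_E (u w : V) : T Q u w ∈ E Q := by
  by_cases h : Q u = 0 ∧ polar Q u w = 0
  · rw [T_eq h.1 h.2]; exact siegel_mem_E _ _
  · rw [T_eq_one h]; exact Subgroup.one_mem _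

theorem T_mem_O (u w : V) : T Q u w ∈ O Q := E_le_O (T_mem_E u w)

theorem T_conj {g : V ≃ₗ[F] V} (hg : g ∈ O Q) (u w : V) :
    g * T Q u w * g⁻¹ = T Q (g u) (g w) := by
  by_cases h : Q u = 0 ∧ polar Q u w = 0
  · have hu' : Q (g u) = 0 := by rw [mem_O.1 hg]; exact h.1
    have hw' : polar Q (g u) (g w) = 0 := by rw [polar_map hg]; exact h.2
    rw [T_eq h.1 h.2, T_eq hu' hw', siegel_conj hg h.1 h.2]
  · have h' : ¬ (Q (g u) = 0 ∧ polar Q (g u) (g w) = 0) := by
      rw [mem_O.1 hg, polar_map hg]; exact h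
    rw [T_eq_one h, T_eq_one h']
    group

theorem T_mul {u w w' : V} (hu : Q u = 0) (hw : polar Q u w = 0) (hw' : polar Q u w' = 0) :
    T Q u w * T Q u w' = T Q u (w + w') := by
  have h : polar Q u (w + w') = 0 := by rw [polar_add_right, hw, hw', add_zero]
  rw [T_eq hu hw, T_eq hu hw', T_eq hu h, siegel_mul hu hw hw' h]

theorem T_zero_right (u : V) : T Q u 0 = 1 := by
  by_cases h : Q u = 0 ∧ polar Q u 0 = 0
  · ext v
    rw [T_apply h.1 h.2]
    simp
  · exact T_eq_one h

theorem T_zero_left (w : V) : T Q 0 w = 1 := by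
  ext v
  rw [T_apply (QuadraticMap.map_zero Q) (polar_zero_left _ _)]
  simp

theorem T_inv {u w : V} (hu : Q u = 0) (hw : polar Q u w = 0) :
    (T Q u w)⁻¹ = T Q u (-w) := by
  have hw' : polar Q u (-w) = 0 := by rw [polar_neg_right, hw, neg_zero]
  rw [inv_eq_iff_mul_eq_one, T_mul hu hw hw', add_neg_cancel, T_zero_right]

theorem T_pow {u w : V} (hu : Q u = 0) (hw : polar Q u w = 0) (n : ℕ) :
    (T Q u w) ^ n = T Q u (n • w) := by
  induction n with
  | zero => rw [pow_zero, zero_smul, T_zero_right]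
  | succ n ih =>
    have h : polar Q u (n • w) = 0 := by
      rw [← Nat.cast_smul_eq_nsmul F, polar_smul_right, hw, smul_zero]
    rw [pow_succ, ih, T_mul hu h hw, succ_nsmul]

theorem T_smul_left {u w : V} (c : F) (hu : Q u = 0) (hw : polar Q u w = 0) :
    T Q (c • u) w = T Q u (c • w) := by
  have hu' : Q (c • u) = 0 := by rw [QuadraticMap.map_smul, hu, smul_zero]
  have hw' : polar Q (c • u) w = 0 := by rw [polar_smul_left, hw, smul_zero]
  have hw'' : polar Q u (c • w) = 0 := by rw [polar_smul_right, hw, smul_zero]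
  rw [T_eq hu' hw', T_eq hu hw'', siegel_smul_left hu hu' hw' hw'']

/-- Adding a multiple of `u` to `w` does not change `T u w`. -/
theorem T_add_smul {u w : V} (hu : Q u = 0) (hw : polar Q u w = 0) (c : F) :
    T Q u (w + c • u) = T Q u w := by
  have huu : polar Q u u = 0 := polar_self_of_sing hu
  have h : polar Q u (w + c • u) = 0 := by
    rw [polar_add_right, hw, polar_smul_right, huu]; simp
  have hwu : polar Q w u = 0 := by rw [polar_comm]; exact hw
  ext v
  rw [T_apply hu h, T_apply hu hw, Q_add, QuadraticMap.map_smul, hu, polar_smul_right, hwu,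
    polar_add_left, polar_smul_left]
  simp only [smul_eq_mul, mul_zero, add_zero]
  module

/-- For `w` singular, `T u w = T w (-u)`. -/
theorem T_swap {u w : V} (hu : Q u = 0) (hw : Q w = 0) (huw : polar Q u w = 0) :
    T Q u w = T Q w (-u) := by
  have hwu : polar Q w (-u) = 0 := by rw [polar_neg_right, polar_comm, huw, neg_zero]
  ext v
  rw [T_apply hu huw, T_apply hw hwu, hw, QuadraticMap.map_neg, hu, polar_neg_left]
  module

theorem T_apply_self {u w : V} (hu : Q u = 0) (hw : polar Q u w = 0) : T Q u w u = u := by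
  rw [T_apply hu hw, polar_self_of_sing hu, polar_comm Q w u, hw]
  simp

theorem T_apply_perp {u w v : V} (hu : Q u = 0) (hw : polar Q u w = 0) (hv : polar Q u v = 0) :
    T Q u w v = v - polar Q w v • u := by
  rw [T_apply hu hw, hv]
  simp

theorem T_apply_fix {u w v : V} (hu : Q u = 0) (hw : polar Q u w = 0) (hv : polar Q u v = 0)
    (hv' : polar Q w v = 0) : T Q u w v = v := by
  rw [T_apply_perp hu hw hv, hv', zero_smul, sub_zero]

theorem T_apply_hyp {x y w : V} (h : Hyp Q x y) (hw : polar Q x w = 0) :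
    T Q x w y = y + w - (polar Q w y + Q w) • x := by
  rw [T_apply h.left hw, h.pair]
  module

/-- `T x (y' - y)` maps the partner `y` of `x` to the partner `y'`. -/
theorem T_partner {x y y' : V} (h : Hyp Q x y) (h' : Hyp Q x y') :
    T Q x (y' - y) y = y' := by
  have hw : polar Q x (y' - y) = 0 := by
    rw [polar_sub_right, h.pair, h'.pair, sub_self]
  have hQ' : Q (y' - y) = - polar Q y' y := by
    rw [sub_eq_add_neg, Q_add, QuadraticMap.map_neg, polar_neg_right, h.right, h'.right]
    ring
  rw [T_apply h.left hw, h.pair, hQ', polar_sub_left, h.polar_right]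
  module

/-- When two Siegel transformations with the same centre agree. -/
theorem T_eq_T_iff (hQ : Nondeg Q) {x w w' : V} (hx : Q x = 0) (hx0 : x ≠ 0)
    (hw : polar Q x w = 0) (hw' : polar Q x w' = 0) :
    T Q x w = T Q x w' ↔ ∃ c : F, w' = w + c • x := by
  constructor
  · intro h
    obtain ⟨y, hy⟩ := exists_hyp hQ hx hx0
    have e : T Q x w y = T Q x w' y := by rw [h]
    rw [T_apply_hyp hy hw, T_apply_hyp hy hw'] at e
    refine ⟨(polar Q w' y + Q w') - (polar Q w y + Q w), ?_⟩
    generalize polar Q w' y + Q w' = a at e ⊢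
    generalize polar Q w y + Q w = b at e ⊢
    have e2 : w' = (y + w' - a • x) - y + a • x := by module
    rw [e2, ← e]
    module
  · rintro ⟨c, rfl⟩
    rw [T_add_smul hx hw]

/-! ### Singular vectors over finite fields -/

/-- A quadratic form over a finite field has a nonzero singular vector on the span of any three
linearly independent vectors. -/
theorem exists_sing_three [Finite F] (b : Fin 3 → V) (hb : LinearIndependent F b) :
    ∃ c : Fin 3 → F, (∑ i, c i • b i) ≠ 0 ∧ Q (∑ i, c i • b i) = 0 := by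
  classical
  have : Fintype F := Fintype.ofFinite F
  obtain ⟨p, hp⟩ := CharP.exists F
  have hpp : p.Prime := CharP.char_is_prime F p
  let f : MvPolynomial (Fin 3) F :=
    MvPolynomial.C (Q (b 0)) * (MvPolynomial.X 0 * MvPolynomial.X 0) +
    MvPolynomial.C (Q (b 1)) * (MvPolynomial.X 1 * MvPolynomial.X 1) +
    MvPolynomial.C (Q (b 2)) * (MvPolynomial.X 2 * MvPolynomial.X 2) +
    MvPolynomial.C (polar Q (b 0) (b 1)) * (MvPolynomial.X 0 * MvPolynomial.X 1) +
    MvPolynomial.C (polar Q (b 0) (b 2)) * (MvPolynomial.X 0 * MvPolynomial.X 2) +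
    MvPolynomial.C (polar Q (b 1) (b 2)) * (MvPolynomial.X 1 * MvPolynomial.X 2)
  have hterm : ∀ (a : F) (i j : Fin 3),
      (MvPolynomial.C a * (MvPolynomial.X i * MvPolynomial.X j) :
        MvPolynomial (Fin 3) F).totalDegree ≤ 2 := by
    intro a i j
    refine (MvPolynomial.totalDegree_mul _ _).trans ?_
    rw [MvPolynomial.totalDegree_C, zero_add]
    refine (MvPolynomial.totalDegree_mul _ _).trans ?_
    rw [MvPolynomial.totalDegree_X, MvPolynomial.totalDegree_X]
  have hdeg : f.totalDegree < Fintype.card (Fin 3) := by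
    have h2 : f.totalDegree ≤ 2 := by
      refine (MvPolynomial.totalDegree_add _ _).trans (max_le ?_ (hterm _ _ _))
      refine (MvPolynomial.totalDegree_add _ _).trans (max_le ?_ (hterm _ _ _))
      refine (MvPolynomial.totalDegree_add _ _).trans (max_le ?_ (hterm _ _ _))
      refine (MvPolynomial.totalDegree_add _ _).trans (max_le ?_ (hterm _ _ _))
      exact (MvPolynomial.totalDegree_add _ _).trans (max_le (hterm _ _ _) (hterm _ _ _))
    rw [Fintype.card_fin]
    omega
  have heval : ∀ c : Fin 3 → F, MvPolynomial.eval c f = Q (∑ i, c i • b i) := by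
    intro c
    rw [Fin.sum_univ_three, Q_add, Q_add, polar_add_left]
    simp only [QuadraticMap.map_smul, polar_smul_left, polar_smul_right, smul_eq_mul]
    simp only [f, map_add, map_mul, MvPolynomial.eval_C, MvPolynomial.eval_X]
    ring
  have hdvd := char_dvd_card_solutions p hdeg
  have hzero : MvPolynomial.eval (0 : Fin 3 → F) f = 0 := by
    rw [heval]; simp
  have h1 : 1 < Fintype.card {x : Fin 3 → F // MvPolynomial.eval x f = 0} := by
    have hpos : 0 < Fintype.card {x : Fin 3 → F // MvPolynomial.eval x f = 0} :=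
      Fintype.card_pos_iff.2 ⟨⟨0, hzero⟩⟩
    exact lt_of_lt_of_le hpp.one_lt (Nat.le_of_dvd hpos hdvd)
  obtain ⟨c, hc⟩ := Fintype.exists_ne_of_one_lt_card h1 ⟨0, hzero⟩
  refine ⟨c.1, ?_, ?_⟩
  · intro h
    apply hc
    apply Subtype.ext
    funext i
    exact (Fintype.linearIndependent_iff.1 hb) c.1 h i
  · rw [← heval]; exact c.2

/-- A subspace of dimension at least three contains a nonzero singular vector. -/
theorem exists_sing_of_three_le [Finite F] (W : Submodule F V) (hW : 3 ≤ Module.finrank F W) :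
    ∃ w ∈ W, w ≠ 0 ∧ Q w = 0 := by
  have : Module.Finite F W := Module.finite_of_finrank_pos (by omega)
  let bs := Module.finBasis F W
  let b : Fin 3 → V := fun i => (bs (Fin.castLE hW i) : V)
  have hb : LinearIndependent F b := by
    have h1 : LinearIndependent F (fun i => (bs i : V)) :=
      bs.linearIndependent.map' W.subtype (Submodule.ker_subtype W)
    exact h1.comp _ (Fin.castLE_injective hW)
  obtain ⟨c, hc0, hc⟩ := exists_sing_three (Q := Q) b hb
  refine ⟨∑ i, c i • b i, ?_, hc0, hc⟩
  exact W.sum_mem fun i _ => W.smul_mem _ (bs _).2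

/-- A nonzero singular vector orthogonal to `n` given vectors, if the dimension is at least
`n + 3`. -/
theorem exists_sing_perp [Finite F] {n : ℕ} (u : Fin n → V) (hn : n + 3 ≤ Module.finrank F V) :
    ∃ w : V, w ≠ 0 ∧ Q w = 0 ∧ ∀ i, polar Q (u i) w = 0 := by
  have : Module.Finite F V := Module.finite_of_finrank_pos (by omega)
  let f : V →ₗ[F] (Fin n → F) := LinearMap.pi fun i => polarBilin Q (u i)
  have h1 := LinearMap.finrank_range_add_finrank_ker f
  have h2 : Module.finrank F (LinearMap.range f) ≤ n := by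
    have := Submodule.finrank_le (LinearMap.range f)
    rwa [Module.finrank_fin_fun] at this
  obtain ⟨w, hw, hw0, hwQ⟩ := exists_sing_of_three_le (Q := Q) (LinearMap.ker f) (by omega)
  refine ⟨w, hw0, hwQ, fun i => ?_⟩
  have := congrFun (LinearMap.mem_ker.1 hw) i
  simpa [f] using this

/-- The standing hypotheses: nondegenerate and of dimension at least seven (over a finite field
this gives Witt index at least three). -/
structure Big (Q : QuadraticForm F V) : Prop where
  nondeg : Nondeg Q
  dim : 7 ≤ Module.finrank F V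

theorem Big.good [Finite F] (hB : Big Q) : Good Q where
  nondeg := hB.nondeg
  dim := by have := hB.dim; omega
  sing := by
    obtain ⟨w, h0, hw, _⟩ := exists_sing_perp (Q := Q) ![] (by have := hB.dim; omega)
    exact ⟨w, h0, hw⟩
  perp := by
    intro x y _
    obtain ⟨w, h0, hw, h⟩ := exists_sing_perp (Q := Q) ![x, y] (by have := hB.dim; omega)
    exact ⟨w, h0, hw, h 0, h 1⟩

/-! ### The orthogonal complement of a hyperbolic pair -/

/-- The orthogonal complement of `x` and `y`. -/
def perp2 (Q : QuadraticForm F V) (x y : V) : Submodule F V :=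
  LinearMap.ker (polarBilin Q x) ⊓ LinearMap.ker (polarBilin Q y)

theorem mem_perp2 {x y w : V} : w ∈ perp2 Q x y ↔ polar Q x w = 0 ∧ polar Q y w = 0 := by
  simp [perp2]

/-- The restriction of `Q` to the orthogonal complement of `x` and `y`. -/
def resQ (Q : QuadraticForm F V) (x y : V) : QuadraticForm F (perp2 Q x y) :=
  Q.comp (perp2 Q x y).subtype

theorem resQ_apply (x y : V) (w : perp2 Q x y) : resQ Q x y w = Q (w : V) := rfl

theorem polar_resQ (x y : V) (w w' : perp2 Q x y) :
    polar (resQ Q x y) w w' = polar Q (w : V) (w' : V) := rfl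

theorem proj_mem {x y : V} (h : Hyp Q x y) (v : V) : proj Q x y v ∈ perp2 Q x y :=
  mem_perp2.2 ⟨polar_proj_left h v, polar_proj_right h v⟩

theorem finrank_perp2 [FiniteDimensional F V] (x y : V) :
    Module.finrank F V ≤ Module.finrank F (perp2 Q x y) + 2 := by
  let f : V →ₗ[F] (Fin 2 → F) := LinearMap.pi fun i => polarBilin Q (![x, y] i)
  have h1 := LinearMap.finrank_range_add_finrank_ker f
  have h2 : Module.finrank F (LinearMap.range f) ≤ 2 := by
    have := Submodule.finrank_le (LinearMap.range f)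
    rwa [Module.finrank_fin_fun] at this
  have h3 : LinearMap.ker f = perp2 Q x y := by
    ext v
    rw [LinearMap.mem_ker, mem_perp2]
    constructor
    · intro h
      exact ⟨by simpa [f] using congrFun h 0, by simpa [f] using congrFun h 1⟩
    · intro h
      funext i
      fin_cases i
      · simpa [f] using h.1
      · simpa [f] using h.2
  rw [h3] at h1
  omega

theorem Big.good_res [Finite F] (hB : Big Q) {x y : V} (h : Hyp Q x y) : Good (resQ Q x y) where
  nondeg := by
    rintro ⟨w, hw⟩ hw'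
    have hw2 := mem_perp2.1 hw
    apply Subtype.ext
    apply hB.nondeg
    intro v
    have := hw' ⟨proj Q x y v, proj_mem h v⟩
    rw [polar_resQ] at this
    rw [← this]
    exact (polar_proj_of_perp hw2.1 hw2.2 v).symm
  dim := by
    have : FiniteDimensional F V := Module.finite_of_finrank_pos (by have := hB.dim; omega)
    have h1 := finrank_perp2 (Q := Q) x y
    have := hB.dim
    omega
  sing := by
    obtain ⟨w, h0, hw, hp⟩ := exists_sing_perp (Q := Q) ![x, y] (by have := hB.dim; omega)
    exact ⟨⟨w, mem_perp2.2 ⟨hp 0, hp 1⟩⟩, fun e => h0 (congrArg Subtype.val e), hw⟩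
  perp := by
    rintro ⟨x', hx'⟩ ⟨y', hy'⟩ _
    obtain ⟨w, h0, hw, hp⟩ := exists_sing_perp (Q := Q) ![x, y, x', y']
      (by have := hB.dim; omega)
    exact ⟨⟨w, mem_perp2.2 ⟨hp 0, hp 1⟩⟩, fun e => h0 (congrArg Subtype.val e), hw, hp 2, hp 3⟩

/-- Elements of `E` of the complement extend to elements of `E Q` fixing `x` and `y`. -/
theorem exists_extend {x y : V} {g : perp2 Q x y ≃ₗ[F] perp2 Q x y}
    (hg : g ∈ E (resQ Q x y)) :
    ∃ g' ∈ E Q, g' x = x ∧ g' y = y ∧ ∀ w : perp2 Q x y, g' (w : V) = (g w : V) := by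
  induction hg using Subgroup.closure_induction with
  | mem g hg =>
    obtain ⟨u, w, hu, hw, rfl⟩ := hg
    have hu' : Q (u : V) = 0 := hu
    have hw' : polar Q (u : V) (w : V) = 0 := hw
    have hu2 := mem_perp2.1 u.2
    have hw2 := mem_perp2.1 w.2
    refine ⟨T Q u w, T_mem_E _ _, ?_, ?_, ?_⟩
    · exact T_apply_fix hu' hw' (by rw [polar_comm]; exact hu2.1)
        (by rw [polar_comm]; exact hw2.1)
    · exact T_apply_fix hu' hw' (by rw [polar_comm]; exact hu2.2)
        (by rw [polar_comm]; exact hw2.2)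
    · intro v
      rw [T_apply hu' hw', siegel_apply]
      rfl
  | one => exact ⟨1, Subgroup.one_mem _, rfl, rfl, fun w => rfl⟩
  | mul g h _ _ ihg ihh =>
    obtain ⟨g', hg', e1, e2, e3⟩ := ihg
    obtain ⟨h', hh', f1, f2, f3⟩ := ihh
    refine ⟨g' * h', E_mul hg' hh', ?_, ?_, ?_⟩
    · show g' (h' x) = x
      rw [f1, e1]
    · show g' (h' y) = y
      rw [f2, e2]
    · intro w
      show g' (h' w) = (g (h w) : V)
      rw [f3, e3]
  | inv g _ ihg =>
    obtain ⟨g', hg', e1, e2, e3⟩ := ihg
    refine ⟨g'⁻¹, (E Q).inv_mem hg', ?_, ?_, ?_⟩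
    · show g'.symm x = x
      rw [LinearEquiv.symm_apply_eq, e1]
    · show g'.symm y = y
      rw [LinearEquiv.symm_apply_eq, e2]
    · intro w
      show g'.symm w = ((g⁻¹ w : perp2 Q x y) : V)
      rw [LinearEquiv.symm_apply_eq, e3]
      congr 1
      exact (LinearEquiv.apply_symm_apply g w).symm

/-- Transitivity on triples `(x, u, v)`, with `x` singular, orthogonal to the hyperbolic pair
`(u, v)`. -/
theorem Big.trans_triple [Finite F] (hB : Big Q) {x u v x' u' v' : V} (hx : Q x = 0)
    (hx0 : x ≠ 0) (h : Hyp Q u v) (hxu : polar Q x u = 0) (hxv : polar Q x v = 0)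
    (hx' : Q x' = 0) (hx0' : x' ≠ 0) (h' : Hyp Q u' v') (hxu' : polar Q x' u' = 0)
    (hxv' : polar Q x' v' = 0) :
    ∃ g ∈ E Q, g x = x' ∧ g u = u' ∧ g v = v' := by
  obtain ⟨y, hxy, huy, hvy⟩ := exists_hyp_perp hB.nondeg h hx hx0
    (polar_zero_of_comm hxu) (polar_zero_of_comm hxv)
  obtain ⟨y', hxy', huy', hvy'⟩ := exists_hyp_perp hB.nondeg h' hx' hx0'
    (polar_zero_of_comm hxu') (polar_zero_of_comm hxv')
  obtain ⟨g, hg, gx, gy⟩ := hB.good.trans_hyp hxy hxy'
  have hgO := E_le_O hg
  have h1 : Hyp Q (g u) (g v) := h.map hgO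
  have gu : g u ∈ perp2 Q x' y' := by
    rw [mem_perp2, ← gx, ← gy, polar_map hgO, polar_map hgO]
    exact ⟨hxu, polar_zero_of_comm huy⟩
  have gv : g v ∈ perp2 Q x' y' := by
    rw [mem_perp2, ← gx, ← gy, polar_map hgO, polar_map hgO]
    exact ⟨hxv, polar_zero_of_comm hvy⟩
  have gu' : u' ∈ perp2 Q x' y' := mem_perp2.2 ⟨hxu', polar_zero_of_comm huy'⟩
  have gv' : v' ∈ perp2 Q x' y' := mem_perp2.2 ⟨hxv', polar_zero_of_comm hvy'⟩
  have H1 : Hyp (resQ Q x' y') ⟨g u, gu⟩ ⟨g v, gv⟩ := ⟨h1.left, h1.right, h1.pair⟩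
  have H2 : Hyp (resQ Q x' y') ⟨u', gu'⟩ ⟨v', gv'⟩ := ⟨h'.left, h'.right, h'.pair⟩
  obtain ⟨k, hk, ku, kv⟩ := (hB.good_res hxy').trans_hyp H1 H2
  obtain ⟨k', hk', kx, ky, kw⟩ := exists_extend hk
  refine ⟨k' * g, E_mul hk' hg, ?_, ?_, ?_⟩
  · show k' (g x) = x'
    rw [gx, kx]
  · show k' (g u) = u'
    have := kw ⟨g u, gu⟩
    rw [ku] at this
    exact this
  · show k' (g v) = v'
    have := kw ⟨g v, gv⟩
    rw [kv] at this
    exact this

end Cfsg.Agent.ClassicalGeometry.OrthAutBasic
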