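import Mathlib
import Cfsg.Agent.ClassicalGeometry.OrthAutBasic

/-!
Automorphisms of `PΩ(V)`, part 2: totally singular lines and long root elements; the group
`PE Q = E Q / Z(E Q)`; commutation of long root elements.
-/

set_option autoImplicit false

namespace Cfsg.Agent.ClassicalGeometry.OrthAutRoot

open QuadraticMap Cfsg.Agent.LieClassical.OrthCore Cfsg.Agent.LieClassical.OrthTrans
  Cfsg.Agent.LieClassical.OrthSimple Cfsg.Agent.ClassicalGeometry.OrthAutBasic
open scoped commutatorElement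

variable {F V : Type*} [Field F] [AddCommGroup V] [Module F V] {Q : QuadraticForm F V}

/-! ### Totally singular lines -/

/-- `u, w` span a totally singular line. -/
structure Ln (Q : QuadraticForm F V) (u w : V) : Prop where
  qu : Q u = 0
  qw : Q w = 0
  perp : polar Q u w = 0
  ne : u ≠ 0
  ind : ∀ c : F, w ≠ c • u

/-- The span of two vectors. -/
def L (F : Type*) {V : Type*} [Field F] [AddCommGroup V] [Module F V] (u w : V) :
    Submodule F V := Submodule.span F {u, w}

theorem mem_L {u w v : V} : v ∈ L F u w ↔ ∃ a b : F, a • u + b • w = v :=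
  Submodule.mem_span_pair

theorem left_mem_L (u w : V) : u ∈ L F u w := Submodule.subset_span (by simp)

theorem right_mem_L (u w : V) : w ∈ L F u w := Submodule.subset_span (by simp)

theorem Ln.ne' {u w : V} (h : Ln Q u w) : w ≠ 0 := by
  have := h.ind 0
  rwa [zero_smul] at this

theorem Ln.perp' {u w : V} (h : Ln Q u w) : polar Q w u = 0 := by
  rw [polar_comm]; exact h.perp

theorem Ln.coeff {u w : V} (h : Ln Q u w) {a b : F} (e : a • u + b • w = 0) : a = 0 ∧ b = 0 := by
  by_cases hb : b = 0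
  · subst hb
    rw [zero_smul, add_zero] at e
    exact ⟨(smul_eq_zero.1 e).resolve_right h.ne, rfl⟩
  · exfalso
    apply h.ind (-(b⁻¹ * a))
    have : w = b⁻¹ • (b • w) := by rw [smul_smul, inv_mul_cancel₀ hb, one_smul]
    rw [this, ← neg_eq_iff_add_eq_zero.2 e]
    module

theorem Ln.symm {u w : V} (h : Ln Q u w) : Ln Q w u where
  qu := h.qw
  qw := h.qu
  perp := h.perp'
  ne := h.ne'
  ind := by
    intro c hc
    have := h.coeff (a := 1) (b := -c) (by rw [hc]; module)
    exact one_ne_zero this.1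

theorem Ln.map {u w : V} (h : Ln Q u w) {g : V ≃ₗ[F] V} (hg : g ∈ O Q) : Ln Q (g u) (g w) where
  qu := by rw [mem_O.1 hg]; exact h.qu
  qw := by rw [mem_O.1 hg]; exact h.qw
  perp := by rw [polar_map hg]; exact h.perp
  ne := by
    intro e
    exact h.ne ((LinearEquiv.map_eq_zero_iff g).1 e)
  ind := by
    intro c hc
    apply h.ind c
    apply g.injective
    rw [hc, map_smul]

theorem Ln.smul_right {u w : V} (h : Ln Q u w) {c : F} (hc : c ≠ 0) : Ln Q u (c • w) where
  qu := h.qu
  qw := by rw [QuadraticMap.map_smul, h.qw, smul_zero]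
  perp := by rw [polar_smul_right, h.perp, smul_zero]
  ne := h.ne
  ind := by
    intro d hd
    apply h.ind (c⁻¹ * d)
    rw [mul_smul, ← hd, smul_smul, inv_mul_cancel₀ hc, one_smul]

theorem Ln.Q_mem {u w v : V} (h : Ln Q u w) (hv : v ∈ L F u w) : Q v = 0 := by
  obtain ⟨a, b, rfl⟩ := mem_L.1 hv
  rw [Q_add, QuadraticMap.map_smul, QuadraticMap.map_smul, polar_smul_left, polar_smul_right,
    h.qu, h.qw, h.perp]
  simp

theorem Ln.polar_mem {u w v v' : V} (h : Ln Q u w) (hv : v ∈ L F u w) (hv' : v' ∈ L F u w) :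
    polar Q v v' = 0 := by
  obtain ⟨a, b, rfl⟩ := mem_L.1 hv
  obtain ⟨c, d, rfl⟩ := mem_L.1 hv'
  simp only [polar_add_left, polar_add_right, polar_smul_left, polar_smul_right, h.perp, h.perp',
    polar_self_of_sing h.qu, polar_self_of_sing h.qw]
  simp

/-- Any nonzero vector of a totally singular line is part of a basis. -/
theorem Ln.exists_basis {u w a : V} (h : Ln Q u w) (ha : a ∈ L F u w) (ha0 : a ≠ 0) :
    ∃ b, Ln Q a b ∧ L F a b = L F u w := by
  obtain ⟨s, t, rfl⟩ := mem_L.1 ha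
  by_cases hs : s = 0
  · subst hs
    rw [zero_smul, zero_add] at ha0 ⊢
    have ht : t ≠ 0 := by
      rintro rfl
      exact ha0 (zero_smul _ _)
    refine ⟨u, ?_, ?_⟩
    · have := (h.symm.symm.smul_right ht)
      exact this.symm
    · apply le_antisymm
      · rw [L, Submodule.span_le]
        rintro v (rfl | rfl)
        · exact Submodule.smul_mem _ _ (right_mem_L _ _)
        · exact left_mem_L _ _
      · rw [L, Submodule.span_le]
        rintro v (rfl | rfl)
        · exact right_mem_L _ _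
        · have h3 := Submodule.smul_mem _ t⁻¹ (left_mem_L (F := F) (t • v) u)
          rwa [smul_smul, inv_mul_cancel₀ ht, one_smul] at h3
  · refine ⟨w, ⟨h.Q_mem ha, h.qw, h.polar_mem ha (right_mem_L _ _), ha0, ?_⟩, ?_⟩
    · intro c hc
      have h1 : (c * s) • u + (c * t - 1) • w = 0 := by
        have : (c * s) • u + (c * t - 1) • w = c • (s • u + t • w) - w := by module
        rw [this, ← hc, sub_self]
      obtain ⟨h2, h3⟩ := h.coeff h1
      rcases mul_eq_zero.1 h2 with h4 | h4
      · rw [h4] at h3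
        norm_num at h3
      · exact hs h4
    · apply le_antisymm
      · rw [L, Submodule.span_le]
        rintro v (rfl | rfl)
        · exact ha
        · exact right_mem_L _ _
      · rw [L, Submodule.span_le]
        rintro v (rfl | rfl)
        · have h3 := Submodule.smul_mem _ s⁻¹ (Submodule.sub_mem _
            (left_mem_L (F := F) (s • v + t • w) w)
            (Submodule.smul_mem _ t (right_mem_L (F := F) (s • v + t • w) w)))
          rwa [add_sub_cancel_right, smul_smul, inv_mul_cancel₀ hs, one_smul] at h3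
        · exact right_mem_L _ _

theorem T_det {u w : V} (h : Ln Q u w) (a b c d : F) :
    T Q (a • u + b • w) (c • u + d • w) = T Q u ((a * d - b * c) • w) := by
  have h1 : a • u + b • w ∈ L F u w := mem_L.2 ⟨a, b, rfl⟩
  have h2 : c • u + d • w ∈ L F u w := mem_L.2 ⟨c, d, rfl⟩
  have h3 : polar Q u ((a * d - b * c) • w) = 0 := by rw [polar_smul_right, h.perp, smul_zero]
  ext v
  rw [T_apply (h.Q_mem h1) (h.polar_mem h1 h2), T_apply h.qu h3, h.Q_mem h2,
    QuadraticMap.map_smul, h.qw]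
  simp only [polar_add_left, polar_smul_left, smul_eq_mul]
  module

/-- Separation of a vector from a subspace. -/
theorem exists_sep_sub [FiniteDimensional F V] (hQ : Nondeg Q) {S : Submodule F V} {x : V}
    (hx : x ∉ S) : ∃ y, polar Q x y = 1 ∧ ∀ s ∈ S, polar Q s y = 0 := by
  obtain ⟨f, hf, hS⟩ := Submodule.exists_le_ker_of_notMem hx
  have hinj : Function.Injective (polarBilin Q) := by
    rw [← LinearMap.ker_eq_bot, LinearMap.ker_eq_bot']
    intro v hv
    apply hQ
    intro y
    have := LinearMap.congr_fun hv y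
    simpa using this
  have hsurj : Function.Surjective (polarBilin Q) := by
    apply (LinearMap.injective_iff_surjective_of_finrank_eq_finrank _).1 hinj
    exact (Subspace.dual_finrank_eq).symm
  obtain ⟨y, hy⟩ := hsurj ((f x)⁻¹ • f)
  have hy' : ∀ v, polar Q v y = (f x)⁻¹ * f v := by
    intro v
    have := LinearMap.congr_fun hy v
    rw [polar_comm]
    simpa using this
  refine ⟨y, ?_, ?_⟩
  · rw [hy', inv_mul_cancel₀ hf]
  · intro s hs
    rw [hy', LinearMap.mem_ker.1 (hS hs), mul_zero]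

/-! ### The space `D g = (g - 1) V` -/

/-- The image of `g - 1`. -/
def D (g : V ≃ₗ[F] V) : Submodule F V := LinearMap.range (g.toLinearMap - LinearMap.id)

theorem mem_D {g : V ≃ₗ[F] V} {a : V} : a ∈ D g ↔ ∃ v, g v - v = a := by
  rw [D, LinearMap.mem_range]
  rfl

theorem D_T (hQ : Nondeg Q) {u w : V} (h : Ln Q u w) : D (T Q u w) = L F u w := by
  apply le_antisymm
  · intro a ha
    obtain ⟨v, rfl⟩ := mem_D.1 ha
    rw [T_apply h.qu h.perp, h.qw]
    refine mem_L.2 ⟨-polar Q w v, polar Q u v, ?_⟩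
    module
  · rw [L, Submodule.span_le]
    rintro v (rfl | rfl)
    · obtain ⟨y, hy1, hy2⟩ := exists_sep hQ h.ind
      refine mem_D.2 ⟨-y, ?_⟩
      rw [T_apply h.qu h.perp, h.qw, polar_neg_right, polar_neg_right, hy1, hy2]
      module
    · obtain ⟨y, hy1, hy2⟩ := exists_sep hQ h.symm.ind
      refine mem_D.2 ⟨y, ?_⟩
      rw [T_apply h.qu h.perp, h.qw, hy1, hy2]
      module

theorem T_ne_one (hQ : Nondeg Q) {u w : V} (h : Ln Q u w) : T Q u w ≠ 1 := by
  intro e
  have h1 : u ∈ D (T Q u w) := by rw [D_T hQ h]; exact left_mem_L _ _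
  rw [e] at h1
  obtain ⟨v, hv⟩ := mem_D.1 h1
  apply h.ne
  rw [← hv]
  simp

/-! ### The group `PE Q` -/

/-- The elements of `E Q` commuting with all of `E Q` are `1` and `-1`. -/
theorem eq_smul_of_central [Finite F] (hB : Big Q) {g : V ≃ₗ[F] V} (hg : g ∈ O Q)
    (hc : ∀ u w, Ln Q u w → g * T Q u w = T Q u w * g) :
    ∃ c : F, (c = 1 ∨ c = -1) ∧ ∀ v, g v = c • v := by
  have hG := hB.good
  have key : ∀ u w, Ln Q u w → g u ∈ L F u w := by
    intro u w h
    have h1 : T Q (g u) (g w) = T Q u w := by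
      rw [← T_conj hg, hc u w h]
      group
    have h2 : D (T Q (g u) (g w)) = L F (g u) (g w) := D_T hB.nondeg (h.map hg)
    rw [h1, D_T hB.nondeg h] at h2
    rw [h2]
    exact left_mem_L _ _
  obtain ⟨c, hc'⟩ : ∃ c : F, ∀ v : V, g v = c • v := by
    apply good_eq_smul_of_fix hG
    intro x hx
    by_cases hx0 : x = 0
    · exact ⟨0, by rw [hx0]; simp⟩
    obtain ⟨y, hy⟩ := exists_hyp hB.nondeg hx hx0
    obtain ⟨z, w, hzw, hxz, hxw, hyz, hyw⟩ := hG.exists_hyp2 hy
    have l1 : Ln Q x z := ⟨hx, hzw.left, hxz, hx0, by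
      intro c hcc
      have := hzw.pair
      rw [hcc, polar_smul_left, hxw, smul_zero] at this
      exact zero_ne_one this⟩
    have l2 : Ln Q x w := ⟨hx, hzw.right, hxw, hx0, by
      intro c hcc
      have := hzw.pair
      rw [hcc, polar_smul_right, polar_comm, hxz, smul_zero] at this
      exact zero_ne_one this⟩
    obtain ⟨a, b, e1⟩ := mem_L.1 (key x z l1)
    obtain ⟨a', b', e2⟩ := mem_L.1 (key x w l2)
    have h3 : polar Q w (g x) = b := by
      rw [← e1, polar_add_right, polar_smul_right, polar_smul_right, polar_comm Q w x, hxw,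
        hzw.pair']
      simp
    have h4 : polar Q w (g x) = 0 := by
      rw [← e2, polar_add_right, polar_smul_right, polar_smul_right, polar_comm Q w x, hxw,
        hzw.polar_right]
      simp
    refine ⟨a, ?_⟩
    rw [← e1, ← h3, h4, zero_smul, add_zero]
  refine ⟨c, ?_, hc'⟩
  obtain ⟨x, y, hxy⟩ := hG.exists_hyp
  have h1 : Q (g (x + y)) = Q (x + y) := mem_O.1 hg _
  rw [hc', QuadraticMap.map_smul, Q_add, hxy.left, hxy.right, hxy.pair] at h1
  simp only [zero_add, smul_eq_mul, mul_one] at h1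
  exact mul_self_eq_one_iff.1 h1

variable (Q) in
/-- `E Q` modulo its centre. -/
abbrev PE : Type _ := ↥(E Q) ⧸ Subgroup.center ↥(E Q)

/-- The image in `PE Q` of an element of `E Q`. -/
def pr (g : V ≃ₗ[F] V) (hg : g ∈ E Q) : PE Q := QuotientGroup.mk (⟨g, hg⟩ : ↥(E Q))

theorem pr_surj (γ : PE Q) : ∃ (g : V ≃ₗ[F] V) (hg : g ∈ E Q), γ = pr g hg := by
  obtain ⟨⟨g, hg⟩, rfl⟩ := QuotientGroup.mk_surjective γ
  exact ⟨g, hg, rfl⟩

theorem pr_mul {g h : V ≃ₗ[F] V} (hg : g ∈ E Q) (hh : h ∈ E Q) :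
    pr (g * h) (E_mul hg hh) = pr g hg * pr h hh := rfl

theorem pr_inv {g : V ≃ₗ[F] V} (hg : g ∈ E Q) :
    pr g⁻¹ ((E Q).inv_mem hg) = (pr g hg)⁻¹ := rfl

theorem pr_one : pr (Q := Q) 1 (Subgroup.one_mem _) = 1 := rfl

theorem pr_congr {g h : V ≃ₗ[F] V} (hg : g ∈ E Q) (e : g = h) :
    pr g hg = pr h (e ▸ hg) := by
  subst e
  rfl

theorem pr_eq_iff [Finite F] (hB : Big Q) {g h : V ≃ₗ[F] V} (hg : g ∈ E Q) (hh : h ∈ E Q) :
    pr g hg = pr h hh ↔ ∃ c : F, (c = 1 ∨ c = -1) ∧ ∀ v, g v = c • h v := by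
  rw [pr, pr, eq_comm, QuotientGroup.eq]
  constructor
  · intro hz
    rw [Subgroup.mem_center_iff] at hz
    have hmem : h⁻¹ * g ∈ E Q := E_mul ((E Q).inv_mem hh) hg
    obtain ⟨c, hc, hv⟩ := eq_smul_of_central hB (E_le_O hmem) (by
      intro u w _
      have := congrArg Subtype.val (hz ⟨T Q u w, T_mem_E u w⟩)
      exact this.symm)
    refine ⟨c, hc, fun v => ?_⟩
    have : h.symm (g v) = c • v := hv v
    rw [LinearEquiv.symm_apply_eq, map_smul] at this
    exact this
  · rintro ⟨c, _, hv⟩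
    rw [Subgroup.mem_center_iff]
    rintro ⟨k, hk⟩
    apply Subtype.ext
    ext v
    have hv' : ∀ v, h.symm (g v) = c • v := by
      intro v
      rw [LinearEquiv.symm_apply_eq, map_smul]
      exact hv v
    show k (h.symm (g v)) = h.symm (g (k v))
    rw [hv', hv', map_smul]

/-- The image of `T u w` in `PE Q`. -/
noncomputable def tau (Q : QuadraticForm F V) (u w : V) : PE Q := pr (T Q u w) (T_mem_E u w)

theorem tau_conj {g : V ≃ₗ[F] V} (hg : g ∈ E Q) (u w : V) :
    pr g hg * tau Q u w * (pr g hg)⁻¹ = tau Q (g u) (g w) := by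
  unfold tau
  rw [← pr_inv hg, ← pr_mul, ← pr_mul]
  exact pr_congr _ (T_conj (E_le_O hg) u w)

theorem tau_mul {u w w' : V} (hu : Q u = 0) (hw : polar Q u w = 0) (hw' : polar Q u w' = 0) :
    tau Q u w * tau Q u w' = tau Q u (w + w') := by
  unfold tau
  rw [← pr_mul]
  exact pr_congr _ (T_mul hu hw hw')

theorem tau_eq_one {u w : V} (h : ¬ (Q u = 0 ∧ polar Q u w = 0)) : tau Q u w = 1 := by
  unfold tau
  rw [pr_congr _ (T_eq_one h)]
  rfl

theorem tau_zero_right (u : V) : tau Q u 0 = 1 := by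
  unfold tau
  rw [pr_congr _ (T_zero_right u)]
  rfl

theorem tau_inv {u w : V} (hu : Q u = 0) (hw : polar Q u w = 0) :
    (tau Q u w)⁻¹ = tau Q u (-w) := by
  have hw' : polar Q u (-w) = 0 := by rw [polar_neg_right, hw, neg_zero]
  rw [inv_eq_iff_mul_eq_one, tau_mul hu hw hw', add_neg_cancel, tau_zero_right]

theorem tau_congr {u w u' w' : V} (h : T Q u w = T Q u' w') : tau Q u w = tau Q u' w' := by
  unfold tau
  exact pr_congr _ h

theorem tau_smul_left {u w : V} (c : F) (hu : Q u = 0) (hw : polar Q u w = 0) :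
    tau Q (c • u) w = tau Q u (c • w) := tau_congr (T_smul_left c hu hw)

theorem tau_add_smul {u w : V} (hu : Q u = 0) (hw : polar Q u w = 0) (c : F) :
    tau Q u (w + c • u) = tau Q u w := tau_congr (T_add_smul hu hw c)

theorem tau_swap {u w : V} (hu : Q u = 0) (hw : Q w = 0) (huw : polar Q u w = 0) :
    tau Q u w = tau Q w (-u) := tau_congr (T_swap hu hw huw)

theorem tau_det {u w : V} (h : Ln Q u w) (a b c d : F) :
    tau Q (a • u + b • w) (c • u + d • w) = tau Q u ((a * d - b * c) • w) :=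
  tau_congr (T_det h a b c d)

/-- If `g` and `h` fix a common nonzero vector and agree in `PE Q`, they are equal. -/
theorem eq_of_pr_eq [Finite F] (hB : Big Q) {g h : V ≃ₗ[F] V} (hg : g ∈ E Q) (hh : h ∈ E Q)
    (e : pr g hg = pr h hh) {v : V} (hv0 : v ≠ 0) (hgv : g v = v) (hhv : h v = v) : g = h := by
  obtain ⟨c, hc, hv⟩ := (pr_eq_iff hB hg hh).1 e
  have h1 : v = c • v := by
    have := hv v
    rwa [hgv, hhv] at this
  have hc1 : c = 1 := by
    have h2 : (c - 1) • v = 0 := by rw [sub_smul, one_smul, ← h1, sub_self]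
    exact sub_eq_zero.1 ((smul_eq_zero.1 h2).resolve_right hv0)
  ext z
  rw [hv z, hc1, one_smul]

theorem T_fix {u w v : V} (hv : polar Q u v = 0) (hv' : polar Q w v = 0) : T Q u w v = v := by
  by_cases h : Q u = 0 ∧ polar Q u w = 0
  · exact T_apply_fix h.1 h.2 hv hv'
  · rw [T_eq_one h]; rfl

theorem T_eq_of_tau_eq [Finite F] (hB : Big Q) {u w u' w' : V} (e : tau Q u w = tau Q u' w') :
    T Q u w = T Q u' w' := by
  obtain ⟨v, hv0, hv⟩ := exists_perp_ne (Q := Q) ![u, w, u', w'] (by have := hB.dim; omega)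
  exact eq_of_pr_eq hB _ _ e hv0 (T_fix (hv 0) (hv 1)) (T_fix (hv 2) (hv 3))

theorem T_mul_eq_of_tau_eq [Finite F] (hB : Big Q) {a b u w u' w' : V}
    (e : tau Q a b = tau Q u w * tau Q u' w') :
    T Q a b = T Q u w * T Q u' w' := by
  obtain ⟨v, hv0, hv⟩ := exists_perp_ne (Q := Q) ![a, b, u, w, u', w']
    (by have := hB.dim; omega)
  unfold tau at e
  rw [← pr_mul] at e
  refine eq_of_pr_eq hB _ _ e hv0 (T_fix (hv 0) (hv 1)) ?_
  have h1 : T Q u' w' v = v := T_fix (hv 4) (hv 5)
  have h2 : T Q u w v = v := T_fix (hv 2) (hv 3)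
  show T Q u w (T Q u' w' v) = v
  rw [h1, h2]

/-- Conjugating: if `pr g` commutes with `tau u w` then `T (g u) (g w) = T u w`. -/
theorem T_eq_of_comm [Finite F] (hB : Big Q) {g : V ≃ₗ[F] V} (hg : g ∈ E Q) {u w : V}
    (e : pr g hg * tau Q u w = tau Q u w * pr g hg) : T Q (g u) (g w) = T Q u w := by
  apply T_eq_of_tau_eq hB
  rw [← tau_conj hg, e]
  group

theorem comm_of_T_eq {g : V ≃ₗ[F] V} (hg : g ∈ E Q) {u w : V}
    (e : T Q (g u) (g w) = T Q u w) : pr g hg * tau Q u w = tau Q u w * pr g hg := by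
  have := tau_conj hg u w
  rw [tau_congr e, mul_inv_eq_iff_eq_mul] at this
  exact this

/-! ### Root groups -/

/-- The root group of the line spanned by `u, w`. -/
noncomputable def Xb (Q : QuadraticForm F V) (u w : V) : Subgroup (PE Q) where
  carrier := {γ | ∃ c : F, γ = tau Q u (c • w)}
  mul_mem' := by
    rintro _ _ ⟨c, rfl⟩ ⟨d, rfl⟩
    by_cases h : Q u = 0 ∧ polar Q u w = 0
    · refine ⟨c + d, ?_⟩
      rw [tau_mul h.1 (by rw [polar_smul_right, h.2, smul_zero])
        (by rw [polar_smul_right, h.2, smul_zero]), add_smul]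
    · by_cases hc : c = 0
      · subst hc
        exact ⟨d, by rw [zero_smul, tau_zero_right, one_mul]⟩
      · have h1 : tau Q u (c • w) = 1 := by
          apply tau_eq_one
          intro h2
          apply h
          refine ⟨h2.1, ?_⟩
          have h3 := h2.2
          rw [polar_smul_right, smul_eq_mul] at h3
          exact (mul_eq_zero.1 h3).resolve_left hc
        exact ⟨d, by rw [h1, one_mul]⟩
  one_mem' := ⟨0, by rw [zero_smul, tau_zero_right]⟩
  inv_mem' := by
    rintro _ ⟨c, rfl⟩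
    by_cases h : Q u = 0 ∧ polar Q u (c • w) = 0
    · exact ⟨-c, by rw [tau_inv h.1 h.2, neg_smul]⟩
    · exact ⟨0, by rw [tau_eq_one h, zero_smul, tau_zero_right, inv_one]⟩

theorem mem_Xb {u w : V} {γ : PE Q} : γ ∈ Xb Q u w ↔ ∃ c : F, γ = tau Q u (c • w) := Iff.rfl

theorem tau_mem_Xb (u w : V) : tau Q u w ∈ Xb Q u w := ⟨1, by rw [one_smul]⟩

theorem Xb_le_of_mem {u w a b : V} (h : Ln Q u w) (ha : a ∈ L F u w) (hb : b ∈ L F u w) :
    Xb Q a b ≤ Xb Q u w := by
  rintro _ ⟨c, rfl⟩
  obtain ⟨s, t, rfl⟩ := mem_L.1 ha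
  obtain ⟨s', t', rfl⟩ := mem_L.1 hb
  refine ⟨s * (c * t') - t * (c * s'), ?_⟩
  rw [smul_add, smul_smul, smul_smul, tau_det h]

theorem Xb_eq_of_L_eq {u w a b : V} (h : Ln Q u w) (h' : Ln Q a b) (e : L F a b = L F u w) :
    Xb Q a b = Xb Q u w := by
  apply le_antisymm
  · exact Xb_le_of_mem h (e ▸ left_mem_L _ _) (e ▸ right_mem_L _ _)
  · exact Xb_le_of_mem h' (e ▸ left_mem_L _ _) (e ▸ right_mem_L _ _)

theorem L_smul_right {u w : V} {c : F} (hc : c ≠ 0) : L F u (c • w) = L F u w := by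
  apply le_antisymm
  · rw [L, Submodule.span_le]
    rintro v (rfl | rfl)
    · exact left_mem_L _ _
    · exact Submodule.smul_mem _ _ (right_mem_L _ _)
  · rw [L, Submodule.span_le]
    rintro v (rfl | rfl)
    · exact left_mem_L _ _
    · have h3 := Submodule.smul_mem _ c⁻¹ (right_mem_L (F := F) u (c • v))
      rwa [smul_smul, inv_mul_cancel₀ hc, one_smul] at h3

/-- The line is determined by any nontrivial root element. -/
theorem L_eq_of_tau_mem [Finite F] (hB : Big Q) {u w a b : V} (h : Ln Q u w) (h' : Ln Q a b)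
    (e : tau Q a b ∈ Xb Q u w) : L F a b = L F u w := by
  obtain ⟨c, hc⟩ := e
  have h1 := T_eq_of_tau_eq hB hc
  have hc0 : c ≠ 0 := by
    rintro rfl
    rw [zero_smul, T_zero_right] at h1
    exact T_ne_one hB.nondeg h' h1
  rw [← D_T hB.nondeg h', h1, D_T hB.nondeg (h.smul_right hc0), L_smul_right hc0]

theorem tau_ne_one [Finite F] (hB : Big Q) {u w : V} (h : Ln Q u w) : tau Q u w ≠ 1 := by
  intro e
  rw [← tau_zero_right (Q := Q) u] at e
  have h1 := T_eq_of_tau_eq hB e
  rw [T_zero_right] at h1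
  exact T_ne_one hB.nondeg h h1

/-- Two subspaces `L u w`, `L a b` are orthogonal. -/
def PerpL (Q : QuadraticForm F V) (u w a b : V) : Prop :=
  polar Q u a = 0 ∧ polar Q u b = 0 ∧ polar Q w a = 0 ∧ polar Q w b = 0

/-- Two subspaces `L u w`, `L a b` meet nontrivially. -/
def MeetL (F : Type*) {V : Type*} [Field F] [AddCommGroup V] [Module F V] (u w a b : V) :
    Prop := ∃ z : V, z ≠ 0 ∧ z ∈ L F u w ∧ z ∈ L F a b

theorem comm_cases [Finite F] (hB : Big Q) {u w a b : V} (h : Ln Q u w) (h' : Ln Q a b)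
    (hc : tau Q u w * tau Q a b = tau Q a b * tau Q u w) :
    PerpL Q u w a b ∨ MeetL F u w a b := by
  by_cases hm : MeetL F u w a b
  · exact Or.inr hm
  left
  have h1 := T_eq_of_comm hB (T_mem_E u w) hc
  have h2 : L F (T Q u w a) (T Q u w b) = L F a b := by
    rw [← D_T hB.nondeg h', ← D_T hB.nondeg (h'.map (T_mem_O u w)), h1]
  have key : ∀ z, z ∈ L F a b → T Q u w z ∈ L F a b → polar Q u z = 0 ∧ polar Q w z = 0 := by
    intro z hz hz'
    have h3 : T Q u w z - z = (-polar Q w z) • u + (polar Q u z) • w := by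
      rw [T_apply h.qu h.perp, h.qw]
      module
    have h4 : T Q u w z - z = 0 := by
      by_contra hne
      apply hm
      refine ⟨T Q u w z - z, hne, ?_, Submodule.sub_mem _ hz' hz⟩
      rw [h3]
      exact mem_L.2 ⟨_, _, rfl⟩
    rw [h3] at h4
    obtain ⟨h5, h6⟩ := h.coeff h4
    exact ⟨h6, neg_eq_zero.1 h5⟩
  have k1 := key a (left_mem_L _ _) (h2 ▸ left_mem_L _ _)
  have k2 := key b (right_mem_L _ _) (h2 ▸ right_mem_L _ _)
  exact ⟨k1.1, k2.1, k1.2, k2.2⟩

theorem comm_of_perp {u w a b : V} (h : PerpL Q u w a b) :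
    tau Q u w * tau Q a b = tau Q a b * tau Q u w := by
  obtain ⟨h1, h2, h3, h4⟩ := h
  apply comm_of_T_eq (T_mem_E u w)
  rw [T_fix h1 h3, T_fix h2 h4]

theorem comm_of_meet {u w a b : V} (h : Ln Q u w) (h' : Ln Q a b) (hm : MeetL F u w a b) :
    tau Q u w * tau Q a b = tau Q a b * tau Q u w := by
  obtain ⟨z, hz0, hz, hz'⟩ := hm
  obtain ⟨c, hc, e⟩ := h.exists_basis hz hz0
  obtain ⟨d, hd, e'⟩ := h'.exists_basis hz' hz0
  have h1 : tau Q u w ∈ Xb Q z c := by
    rw [Xb_eq_of_L_eq h hc e]; exact tau_mem_Xb _ _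
  have h2 : tau Q a b ∈ Xb Q z d := by
    rw [Xb_eq_of_L_eq h' hd e']; exact tau_mem_Xb _ _
  obtain ⟨s, hs⟩ := h1
  obtain ⟨t, ht⟩ := h2
  rw [hs, ht]
  have p1 : polar Q z (s • c) = 0 := by rw [polar_smul_right, hc.perp, smul_zero]
  have p2 : polar Q z (t • d) = 0 := by rw [polar_smul_right, hd.perp, smul_zero]
  rw [tau_mul hc.qu p1 p2, tau_mul hc.qu p2 p1, add_comm]

/-- If the product of commuting long root elements is a long root element, the lines are
orthogonal and meet. -/
theorem perp_meet_of_mul [Finite F] (hB : Big Q) {u w a b s t : V} (h : Ln Q u w)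
    (h' : Ln Q a b) (h'' : Ln Q s t)
    (hc : tau Q u w * tau Q a b = tau Q a b * tau Q u w)
    (hm : tau Q s t = tau Q u w * tau Q a b) :
    PerpL Q u w a b ∧ MeetL F u w a b := by
  have : FiniteDimensional F V := Module.finite_of_finrank_pos (by have := hB.dim; omega)
  have hT := T_mul_eq_of_tau_eq hB hm
  have hD := D_T hB.nondeg h''
  by_cases hmeet : MeetL F u w a b
  · refine ⟨?_, hmeet⟩
    -- write both lines through a common point
    obtain ⟨z, hz0, hz, hz'⟩ := hmeet
    obtain ⟨c, hc', e⟩ := h.exists_basis hz hz0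
    obtain ⟨d, hd', e'⟩ := h'.exists_basis hz' hz0
    by_contra hnp
    have hcd : polar Q c d ≠ 0 := by
      intro hcd
      apply hnp
      have hzz : polar Q z z = 0 := polar_self_of_sing hc'.qu
      have k : ∀ p ∈ L F u w, ∀ q ∈ L F a b, polar Q p q = 0 := by
        intro p hp q hq
        rw [← e] at hp
        rw [← e'] at hq
        obtain ⟨p1, p2, rfl⟩ := mem_L.1 hp
        obtain ⟨q1, q2, rfl⟩ := mem_L.1 hq
        simp only [polar_add_left, polar_add_right, polar_smul_left, polar_smul_right, hcd, hzz,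
          hd'.perp, hc'.perp']
        simp
      exact ⟨k _ (left_mem_L _ _) _ (left_mem_L _ _), k _ (left_mem_L _ _) _ (right_mem_L _ _),
        k _ (right_mem_L _ _) _ (left_mem_L _ _), k _ (right_mem_L _ _) _ (right_mem_L _ _)⟩
    have h1 : tau Q u w ∈ Xb Q z c := by
      rw [Xb_eq_of_L_eq h hc' e]; exact tau_mem_Xb _ _
    have h2 : tau Q a b ∈ Xb Q z d := by
      rw [Xb_eq_of_L_eq h' hd' e']; exact tau_mem_Xb _ _
    obtain ⟨p, hp⟩ := h1
    obtain ⟨q, hq⟩ := h2
    have hp0 : p ≠ 0 := by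
      rintro rfl
      rw [zero_smul, tau_zero_right] at hp
      exact tau_ne_one hB h hp
    have hq0 : q ≠ 0 := by
      rintro rfl
      rw [zero_smul, tau_zero_right] at hq
      exact tau_ne_one hB h' hq
    have p1 : polar Q z (p • c) = 0 := by rw [polar_smul_right, hc'.perp, smul_zero]
    have p2 : polar Q z (q • d) = 0 := by rw [polar_smul_right, hd'.perp, smul_zero]
    rw [hp, hq, tau_mul hc'.qu p1 p2] at hm
    have hT' := T_eq_of_tau_eq hB hm
    rw [hT'] at hD
    obtain ⟨y, hy⟩ := exists_hyp hB.nondeg hc'.qu hz0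
    have p3 : polar Q z (p • c + q • d) = 0 := by rw [polar_add_right, p1, p2, add_zero]
    have hmem : T Q z (p • c + q • d) y - y ∈ L F s t := by
      rw [← hD]; exact mem_D.2 ⟨y, rfl⟩
    have hQ0 := h''.Q_mem hmem
    rw [T_apply_hyp hy p3] at hQ0
    generalize polar Q (p • c + q • d) y + Q (p • c + q • d) = r at hQ0
    have e3 : y + (p • c + q • d) - r • z - y = (p • c + q • d) + (-r) • z := by module
    have hzp : polar Q (p • c + q • d) z = 0 := by rw [polar_comm]; exact p3
    rw [e3, Q_add, QuadraticMap.map_smul, polar_smul_right, hzp, hc'.qu, Q_add,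
      QuadraticMap.map_smul, QuadraticMap.map_smul, hc'.qw, hd'.qw, polar_smul_left,
      polar_smul_right] at hQ0
    simp only [smul_eq_mul, mul_zero, add_zero, zero_add] at hQ0
    exact mul_ne_zero hp0 (mul_ne_zero hq0 hcd) hQ0
  · exfalso
    rcases comm_cases hB h h' hc with hp | hp
    swap
    · exact hmeet hp
    -- disjoint and orthogonal: the image of `T - 1` is too large
    have hindep : ∀ z ∈ L F u w, z ∈ L F a b → z = 0 := by
      intro z hz hz'
      by_contra hz0
      exact hmeet ⟨z, hz0, hz, hz'⟩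
    obtain ⟨k1, k2, k3, k4⟩ := hp
    have hab : ∀ v, (T Q u w * T Q a b) v - v =
        ((-polar Q w v) • u + polar Q u v • w) + ((-polar Q b v) • a + polar Q a v • b) := by
      intro v
      show T Q u w (T Q a b v) - v = _
      rw [T_apply h'.qu h'.perp, h'.qw, T_apply h.qu h.perp, h.qw]
      simp only [polar_add_right, polar_sub_right, polar_smul_right, k1, k2, k3, k4]
      simp only [smul_eq_mul, mul_zero, zero_mul, add_zero, sub_zero, zero_smul]
      module
    -- `u ∉ span {w, a, b}`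
    have hu : u ∉ Submodule.span F {w} ⊔ L F a b := by
      intro hmem
      obtain ⟨p, hp, q, hq, e⟩ := Submodule.mem_sup.1 hmem
      obtain ⟨c, rfl⟩ := Submodule.mem_span_singleton.1 hp
      have hz : q = (1 : F) • u + (-c) • w := by rw [← e]; module
      have h0 := hindep q (hz ▸ mem_L.2 ⟨_, _, rfl⟩) hq
      rw [hz] at h0
      exact one_ne_zero (h.coeff h0).1
    have hw : w ∉ Submodule.span F {u} ⊔ L F a b := by
      intro hmem
      obtain ⟨p, hp, q, hq, e⟩ := Submodule.mem_sup.1 hmem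
      obtain ⟨c, rfl⟩ := Submodule.mem_span_singleton.1 hp
      have hz : q = (-c) • u + (1 : F) • w := by rw [← e]; module
      have h0 := hindep q (hz ▸ mem_L.2 ⟨_, _, rfl⟩) hq
      rw [hz] at h0
      exact one_ne_zero (h.coeff h0).2
    have ha : a ∉ L F u w ⊔ Submodule.span F {b} := by
      intro hmem
      obtain ⟨p, hp, q, hq, e⟩ := Submodule.mem_sup.1 hmem
      obtain ⟨c, rfl⟩ := Submodule.mem_span_singleton.1 hq
      have hz : p = (1 : F) • a + (-c) • b := by rw [← e]; module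
      have h0 := hindep p hp (hz ▸ mem_L.2 ⟨_, _, rfl⟩)
      rw [hz] at h0
      exact one_ne_zero (h'.coeff h0).1
    have hmemD : ∀ v, (T Q u w * T Q a b) v - v ∈ L F s t := by
      intro v
      rw [← hD, hT]
      exact mem_D.2 ⟨v, rfl⟩
    obtain ⟨y1, hy1, hy1'⟩ := exists_sep_sub hB.nondeg hu
    obtain ⟨y2, hy2, hy2'⟩ := exists_sep_sub hB.nondeg hw
    obtain ⟨y3, hy3, hy3'⟩ := exists_sep_sub hB.nondeg ha
    have m1 := hmemD y1
    have m2 := hmemD y2
    have m3 := hmemD y3
    rw [hab] at m1 m2 m3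
    rw [hy1, hy1' w (Submodule.mem_sup_left (Submodule.mem_span_singleton_self w)),
      hy1' a (Submodule.mem_sup_right (left_mem_L _ _)),
      hy1' b (Submodule.mem_sup_right (right_mem_L _ _))] at m1
    rw [hy2, hy2' u (Submodule.mem_sup_left (Submodule.mem_span_singleton_self u)),
      hy2' a (Submodule.mem_sup_right (left_mem_L _ _)),
      hy2' b (Submodule.mem_sup_right (right_mem_L _ _))] at m2
    rw [hy3, hy3' b (Submodule.mem_sup_right (Submodule.mem_span_singleton_self b)),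
      hy3' u (Submodule.mem_sup_left (left_mem_L _ _)),
      hy3' w (Submodule.mem_sup_left (right_mem_L _ _))] at m3
    simp only [neg_zero, zero_smul, zero_add, add_zero, one_smul] at m1 m2 m3
    -- `w, u, b ∈ L s t`, but they are independent
    have hbmem : b ∈ L F s t := m3
    have hwmem : w ∈ L F s t := m1
    have humem : u ∈ L F s t := by
      have : u = -(-(1 : F) • u) := by module
      rw [this]
      exact Submodule.neg_mem _ m2
    -- dimension count by a determinant-free argument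
    obtain ⟨p1, p2, e1⟩ := mem_L.1 humem
    obtain ⟨q1, q2, e2⟩ := mem_L.1 hwmem
    obtain ⟨r1, r2, e3⟩ := mem_L.1 hbmem
    have hdet : p1 * q2 - p2 * q1 ≠ 0 := by
      intro hd
      have h1 : q2 • u + (-p2) • w = 0 := by
        rw [← e1, ← e2]
        have : q2 • (p1 • s + p2 • t) + -p2 • (q1 • s + q2 • t) = (p1 * q2 - p2 * q1) • s := by
          module
        rw [this, hd, zero_smul]
      have h2 : (-q1) • u + p1 • w = 0 := by
        rw [← e1, ← e2]
        have : -q1 • (p1 • s + p2 • t) + p1 • (q1 • s + q2 • t) = (p1 * q2 - p2 * q1) • t := by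
          module
        rw [this, hd, zero_smul]
      have h3 := h.coeff h1
      have h4 := h.coeff h2
      apply h.ne
      rw [← e1, h4.2, neg_eq_zero.1 h3.2]
      simp
    have hb' : b ∈ L F u w := by
      refine mem_L.2 ⟨(p1 * q2 - p2 * q1)⁻¹ * (r1 * q2 - r2 * q1),
        (p1 * q2 - p2 * q1)⁻¹ * (p1 * r2 - p2 * r1), ?_⟩
      rw [← e1, ← e2, ← e3]
      rw [mul_smul, mul_smul, ← smul_add]
      have : (r1 * q2 - r2 * q1) • (p1 • s + p2 • t) + (p1 * r2 - p2 * r1) • (q1 • s + q2 • t) =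
          (p1 * q2 - p2 * q1) • (r1 • s + r2 • t) := by module
      rw [this, smul_smul, inv_mul_cancel₀ hdet, one_smul]
    exact h'.ne' (hindep b hb' (right_mem_L _ _))

end Cfsg.Agent.ClassicalGeometry.OrthAutRoot
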