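import Mathlib
import Cfsg.Agent.ClassicalGeometry.OrthAutRoot

/-!
Automorphisms of `PΩ(V)`, part 3: the centre of a Sylow subgroup in defining characteristic is a
long root group; hence automorphisms of `PE Q` permute the long root groups.
-/

set_option autoImplicit false

namespace Cfsg.Agent.ClassicalGeometry.OrthAutSylow

open QuadraticMap Cfsg.Agent.LieClassical.OrthCore Cfsg.Agent.LieClassical.OrthTrans
  Cfsg.Agent.LieClassical.OrthSimple Cfsg.Agent.ClassicalGeometry.OrthAutBasic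
  Cfsg.Agent.ClassicalGeometry.OrthAutRoot
open scoped commutatorElement Pointwise

variable {F V : Type*} [Field F] [AddCommGroup V] [Module F V] {Q : QuadraticForm F V}

/-- Three mutually orthogonal hyperbolic pairs. -/
structure Frame (Q : QuadraticForm F V) (x y u v z w : V) : Prop where
  h1 : Hyp Q x y
  h2 : Hyp Q u v
  h3 : Hyp Q z w
  xu : polar Q x u = 0
  xv : polar Q x v = 0
  yu : polar Q y u = 0
  yv : polar Q y v = 0
  xz : polar Q x z = 0
  xw : polar Q x w = 0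
  yz : polar Q y z = 0
  yw : polar Q y w = 0
  uz : polar Q u z = 0
  uw : polar Q u w = 0
  vz : polar Q v z = 0
  vw : polar Q v w = 0

/-- Two orthogonal hyperbolic pairs extend to three. -/
theorem exists_frame2 [Finite F] (hB : Big Q) {x y u v : V} (h : Hyp Q x y) (h' : Hyp Q u v)
    (hxu : polar Q x u = 0) (hxv : polar Q x v = 0) (hyu : polar Q y u = 0)
    (hyv : polar Q y v = 0) : ∃ z w, Frame Q x y u v z w := by
  obtain ⟨z, hz0, hz, hp⟩ := exists_sing_perp (Q := Q) ![x, y, u, v] (by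
    have := hB.dim; omega)
  have hxz : polar Q x z = 0 := hp 0
  have hyz : polar Q y z = 0 := hp 1
  have huz : polar Q u z = 0 := hp 2
  have hvz : polar Q v z = 0 := hp 3
  obtain ⟨c, hc⟩ := hB.nondeg.exists_polar_eq hz0 1
  set c' := proj Q x y (proj Q u v c) with hc'
  have e1 : polar Q z c' = 1 := by
    rw [hc', polar_proj_of_perp hxz hyz, polar_proj_of_perp huz hvz, hc]
  have e2 : polar Q x c' = 0 := polar_proj_left h _
  have e3 : polar Q y c' = 0 := polar_proj_right h _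
  have e4 : polar Q u c' = 0 := by
    rw [hc', polar_proj_of_perp hxu hyu, polar_proj_left h']
  have e5 : polar Q v c' = 0 := by
    rw [hc', polar_proj_of_perp hxv hyv, polar_proj_right h']
  refine ⟨z, c' + (-Q c') • z, h, h', ⟨hz, ?_, ?_⟩, hxu, hxv, hyu, hyv, hxz, ?_, hyz, ?_,
    huz, ?_, hvz, ?_⟩
  · rw [Q_add, QuadraticMap.map_smul, hz, polar_smul_right, polar_comm Q c' z, e1]
    simp
  · rw [polar_add_right, polar_smul_right, polar_self_of_sing hz, e1]
    simp
  · rw [polar_add_right, polar_smul_right, e2, hxz]; simp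
  · rw [polar_add_right, polar_smul_right, e3, hyz]; simp
  · rw [polar_add_right, polar_smul_right, e4, huz]; simp
  · rw [polar_add_right, polar_smul_right, e5, hvz]; simp

/-- A totally singular line is part of a frame. -/
theorem exists_frame [Finite F] (hB : Big Q) {x u : V} (h : Ln Q x u) :
    ∃ y v z w, Frame Q x y u v z w := by
  obtain ⟨y0, hy1, hy2⟩ := exists_sep hB.nondeg h.symm.ind
  -- `b(x, y0) = 1`, `b(u, y0) = 0`
  have hxy : Hyp Q x (y0 + (-Q y0) • x) := by
    refine ⟨h.qu, ?_, ?_⟩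
    · rw [Q_add, QuadraticMap.map_smul, h.qu, polar_smul_right, polar_comm Q y0 x, hy2]
      simp
    · rw [polar_add_right, polar_smul_right, polar_self_of_sing h.qu, hy2]
      simp
  have huy : polar Q u (y0 + (-Q y0) • x) = 0 := by
    rw [polar_add_right, polar_smul_right, hy1, h.perp']
    simp
  set y := y0 + (-Q y0) • x with hy
  obtain ⟨v, huv, hxv, hyv⟩ := exists_hyp_perp hB.nondeg hxy h.qw h.ne' h.perp
    (polar_zero_of_comm huy)
  obtain ⟨z, w, hf⟩ := exists_frame2 hB hxy huv h.perp hxv (polar_zero_of_comm huy) hyv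
  exact ⟨y, v, z, w, hf⟩

theorem Frame.ln_xu {x y u v z w : V} (h : Frame Q x y u v z w) : Ln Q x u where
  qu := h.h1.left
  qw := h.h2.left
  perp := h.xu
  ne := h.h1.left_ne
  ind := by
    intro c hc
    have := h.h2.pair
    rw [hc, polar_smul_left, h.xv, smul_zero] at this
    exact zero_ne_one this

theorem Frame.ln_xv {x y u v z w : V} (h : Frame Q x y u v z w) : Ln Q x v where
  qu := h.h1.left
  qw := h.h2.right
  perp := h.xv
  ne := h.h1.left_ne
  ind := by
    intro c hc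
    have := h.h2.pair
    rw [hc, polar_smul_right, polar_comm, h.xu, smul_zero] at this
    exact zero_ne_one this

theorem Frame.ln_xz {x y u v z w : V} (h : Frame Q x y u v z w) : Ln Q x z where
  qu := h.h1.left
  qw := h.h3.left
  perp := h.xz
  ne := h.h1.left_ne
  ind := by
    intro c hc
    have := h.h3.pair
    rw [hc, polar_smul_left, h.xw, smul_zero] at this
    exact zero_ne_one this

/-! ### Elements commuting with the radical of a point -/

/-- An isometry fixing `x` and acting trivially on `x^⊥ / x` is a Siegel transformation. -/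
theorem eq_T_of_trivial (hQ : Nondeg Q) {g : V ≃ₗ[F] V} (hg : g ∈ O Q) {x : V}
    (hx : Q x = 0) (hx0 : x ≠ 0) (hgx : g x = x)
    (h : ∀ w, polar Q x w = 0 → ∃ c : F, g w = w + c • x) :
    ∃ w0, polar Q x w0 = 0 ∧ g = T Q x w0 := by
  obtain ⟨y, hy⟩ := exists_hyp hQ hx hx0
  have hy' : Hyp Q x (g y) := by
    have := hy.map hg
    rwa [hgx] at this
  have hw0 : polar Q x (g y - y) = 0 := by
    rw [polar_sub_right, hy.pair, hy'.pair, sub_self]
  refine ⟨g y - y, hw0, ?_⟩
  have hTy : T Q x (g y - y) y = g y := T_partner hy hy'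
  have hTx : T Q x (g y - y) x = x := T_apply_self hx hw0
  -- compare on the complement
  have key : ∀ w, polar Q x w = 0 → polar Q y w = 0 → g w = T Q x (g y - y) w := by
    intro w hxw hyw
    obtain ⟨c, hc⟩ := h w hxw
    rw [hc, T_apply_perp hx hw0 hxw]
    have h1 : polar Q (g y) (g w) = 0 := by rw [polar_map hg]; exact hyw
    rw [hc, polar_add_right, polar_smul_right, hy'.pair'] at h1
    have h2 : c = - polar Q (g y - y) w := by
      rw [polar_sub_left, hyw, sub_zero]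
      rw [smul_eq_mul, mul_one] at h1
      linear_combination h1
    rw [h2]
    module
  ext v
  have e : v = polar Q y v • x + polar Q x v • y +
      Cfsg.Agent.LieClassical.OrthTrans.proj Q x y v := by
    rw [Cfsg.Agent.LieClassical.OrthTrans.proj]; module
  rw [e]
  simp only [map_add, map_smul]
  rw [hgx, hTx, hTy, key _ (polar_proj_left hy v) (polar_proj_right hy v)]

/-- Vectors fixed by all `T x w` are multiples of `x`. -/
theorem eq_smul_of_fix_rad [Finite F] (hB : Big Q) {x v : V} (hx : Q x = 0) (hx0 : x ≠ 0)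
    (h : ∀ w, polar Q x w = 0 → T Q x w v = v) : ∃ c : F, v = c • x := by
  obtain ⟨y, hy⟩ := exists_hyp hB.nondeg hx hx0
  obtain ⟨z, w, hzw, hxz, hxw, hyz, hyw⟩ := hB.good.exists_hyp2 hy
  have h1 : polar Q x v = 0 := by
    have e := h z hxz
    rw [T_apply hx hxz, hzw.left] at e
    have e2 : polar Q w (v + polar Q x v • z - polar Q z v • x - (0 * polar Q x v) • x) =
        polar Q w v := by rw [e]
    simp only [polar_add_right, polar_sub_right, polar_smul_right, hzw.pair',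
      polar_comm Q w x, hxw] at e2
    simpa using e2
  by_contra hcon
  push Not at hcon
  obtain ⟨w', hw1, hw2⟩ := exists_sep hB.nondeg hcon
  have e := h w' hw1
  rw [T_apply_perp hx hw1 h1, polar_comm Q w' v, hw2, one_smul] at e
  apply hx0
  simpa using e

/-- If `g x = x` and `T x (g w) = T x w` for all `w ⊥ x`, then `g` is some `T x w0`. -/
theorem eq_T_of_comm_rad [Finite F] (hB : Big Q) {g : V ≃ₗ[F] V} (hg : g ∈ O Q) {x : V}
    (hx : Q x = 0) (hx0 : x ≠ 0) (hgx : g x = x)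
    (h : ∀ w, polar Q x w = 0 → T Q (g x) (g w) = T Q x w) :
    ∃ w0, polar Q x w0 = 0 ∧ g = T Q x w0 := by
  apply eq_T_of_trivial hB.nondeg hg hx hx0 hgx
  intro w hw
  have h1 := h w hw
  rw [hgx] at h1
  have hgw : polar Q x (g w) = 0 := by
    have := polar_map hg x w
    rw [hgx] at this
    rw [this, hw]
  exact (T_eq_T_iff hB.nondeg hx hx0 hw hgw).1 h1.symm

/-- If `T x w0` commutes with all `T u z`, `z ⊥ x, u`, then `w0` lies in the line `x, u`. -/
theorem mem_L_of_comm [Finite F] (hB : Big Q) {x u w0 : V} (h : Ln Q x u)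
    (hw0 : polar Q x w0 = 0)
    (hc : ∀ z, polar Q x z = 0 → polar Q u z = 0 → T Q x (T Q u z w0) = T Q x w0) :
    w0 ∈ L F x u := by
  have : FiniteDimensional F V := Module.finite_of_finrank_pos (by have := hB.dim; omega)
  obtain ⟨y, v, z, w, hf⟩ := exists_frame hB h
  have key : ∀ z, polar Q x z = 0 → polar Q u z = 0 →
      ∃ c : F, polar Q u w0 • z - polar Q z w0 • u - (Q z * polar Q u w0) • u = c • x := by
    intro z hxz huz
    have h1 := hc z hxz huz
    have h2 : polar Q x (T Q u z w0) = 0 := by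
      have e : T Q u z x = x :=
        T_fix h.perp' (by rw [polar_comm]; exact hxz)
      have := polar_map (T_mem_O (Q := Q) u z) x w0
      rw [e] at this
      rw [this, hw0]
    obtain ⟨c, hc⟩ := (T_eq_T_iff hB.nondeg h.qu h.ne hw0 h2).1 h1.symm
    rw [T_apply h.qw huz] at hc
    refine ⟨c, ?_⟩
    have : c • x = w0 + c • x - w0 := by module
    rw [this, ← hc]
    module
  have hu0 : polar Q u w0 = 0 := by
    obtain ⟨c, hc⟩ := key z hf.xz hf.uz
    have e : polar Q w (polar Q u w0 • z - polar Q z w0 • u - (Q z * polar Q u w0) • u) =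
        polar Q w (c • x) := by rw [hc]
    simp only [polar_sub_right, polar_smul_right, hf.h3.pair', polar_comm Q w u, hf.uw,
      polar_comm Q w x, hf.xw] at e
    simpa using e
  by_contra hn
  obtain ⟨z', hz1, hz2⟩ := exists_sep_sub hB.nondeg hn
  have hxz' : polar Q x z' = 0 := hz2 x (left_mem_L _ _)
  have huz' : polar Q u z' = 0 := hz2 u (right_mem_L _ _)
  obtain ⟨c, hc⟩ := key z' hxz' huz'
  rw [hu0, polar_comm Q z' w0, hz1] at hc
  have : c • x + (1 : F) • u = 0 := by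
    rw [← hc]
    simp
  exact one_ne_zero (h.coeff this).2

/-! ### The `p`-subgroups -/

/-- The group of all `T u z`, `z ∈ S`, where `S ≤ u^⊥`. -/
noncomputable def TS (Q : QuadraticForm F V) (u : V) (S : Submodule F V) (hu : Q u = 0)
    (hS : ∀ z ∈ S, polar Q u z = 0) : Subgroup ↥(E Q) where
  carrier := {g | ∃ z ∈ S, (g : V ≃ₗ[F] V) = T Q u z}
  mul_mem' := by
    rintro g h ⟨z, hz, e⟩ ⟨z', hz', e'⟩
    refine ⟨z + z', S.add_mem hz hz', ?_⟩
    rw [Subgroup.coe_mul, e, e', T_mul hu (hS z hz) (hS z' hz')]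
  one_mem' := ⟨0, S.zero_mem, by rw [T_zero_right]; rfl⟩
  inv_mem' := by
    rintro g ⟨z, hz, e⟩
    refine ⟨-z, S.neg_mem hz, ?_⟩
    rw [Subgroup.coe_inv, e, T_inv hu (hS z hz)]

theorem mem_TS {u : V} {S : Submodule F V} {hu : Q u = 0} {hS : ∀ z ∈ S, polar Q u z = 0}
    {g : ↥(E Q)} : g ∈ TS Q u S hu hS ↔ ∃ z ∈ S, (g : V ≃ₗ[F] V) = T Q u z := Iff.rfl

theorem isPGroup_TS (p : ℕ) [CharP F p] (u : V) (S : Submodule F V) (hu : Q u = 0)
    (hS : ∀ z ∈ S, polar Q u z = 0) : IsPGroup p (TS Q u S hu hS) := by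
  rintro ⟨g, z, hz, e⟩
  refine ⟨1, ?_⟩
  apply Subtype.ext
  apply Subtype.ext
  show (g : V ≃ₗ[F] V) ^ p ^ 1 = 1
  rw [e, T_pow hu (hS z hz), pow_one, ← Nat.cast_smul_eq_nsmul F, CharP.cast_eq_zero,
    zero_smul, T_zero_right]

/-- The orthogonal complement of `x`. -/
def perp1 (Q : QuadraticForm F V) (x : V) : Submodule F V := LinearMap.ker (polarBilin Q x)

theorem mem_perp1 {x w : V} : w ∈ perp1 Q x ↔ polar Q x w = 0 := by
  simp [perp1]

/-- A `p`-subgroup of `E Q` containing the relevant root groups. -/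
theorem exists_sylow [Finite F] (hB : Big Q) {x u : V} (h : Ln Q x u) (p : ℕ)
    [hp : Fact p.Prime] [CharP F p] :
    ∃ P : Sylow p ↥(E Q),
      (∀ g ∈ P, (g : V ≃ₗ[F] V) x = x) ∧
      (∀ g ∈ P, ∃ c : F, (g : V ≃ₗ[F] V) u = u + c • x) ∧
      (∀ w, polar Q x w = 0 → (⟨T Q x w, T_mem_E x w⟩ : ↥(E Q)) ∈ P) ∧
      (∀ z, polar Q x z = 0 → polar Q u z = 0 → (⟨T Q u z, T_mem_E u z⟩ : ↥(E Q)) ∈ P) := by
  have hfd : FiniteDimensional F V := Module.finite_of_finrank_pos (by have := hB.dim; omega)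
  have hfin : Finite V := Module.finite_of_finite F
  have hfinE : Finite (V ≃ₗ[F] V) := Finite.of_injective (fun g => (g : V → V))
    DFunLike.coe_injective
  have hnt : Nontrivial V := ⟨⟨x, 0, h.ne⟩⟩
  have hS1 : ∀ z ∈ perp1 Q x, polar Q x z = 0 := fun z hz => mem_perp1.1 hz
  have hS2 : ∀ z ∈ perp2 Q x u, polar Q u z = 0 := fun z hz => (mem_perp2.1 hz).2
  let R := TS Q x (perp1 Q x) h.qu hS1
  let A := TS Q u (perp2 Q x u) h.qw hS2
  have hnorm : A ≤ Subgroup.normalizer (R : Set ↥(E Q)) := by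
    have hconj : ∀ a ∈ A, ∀ r ∈ R, a * r * a⁻¹ ∈ R := by
      rintro ⟨a, ha⟩ ⟨z, hz, e⟩ ⟨r, hr⟩ ⟨w, hw, e'⟩
      have e1 : a = T Q u z := e
      have e2 : r = T Q x w := e'
      subst e1 e2
      have hz' := mem_perp2.1 hz
      have hx : T Q u z x = x := T_fix h.perp' (by rw [polar_comm]; exact hz'.1)
      refine ⟨T Q u z w, ?_, ?_⟩
      · rw [mem_perp1]
        have := polar_map (T_mem_O (Q := Q) u z) x w
        rw [hx] at this
        rw [this]
        exact mem_perp1.1 hw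
      · show T Q u z * T Q x w * (T Q u z)⁻¹ = _
        rw [T_conj (T_mem_O u z), hx]
    intro a ha
    rw [Subgroup.mem_normalizer_iff]
    intro r
    constructor
    · exact hconj a ha r
    · intro hr
      have := hconj a⁻¹ (A.inv_mem ha) _ hr
      have e : a⁻¹ * (a * r * a⁻¹) * a⁻¹⁻¹ = r := by group
      rwa [e] at this
  have hpg : IsPGroup p (A ⊔ R : Subgroup ↥(E Q)) :=
    IsPGroup.to_sup_of_normal_right' (isPGroup_TS p u _ h.qw hS2) (isPGroup_TS p x _ h.qu hS1)
      hnorm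
  obtain ⟨P, hP⟩ := hpg.exists_le_sylow
  have hRP : ∀ w, polar Q x w = 0 → (⟨T Q x w, T_mem_E x w⟩ : ↥(E Q)) ∈ P := by
    intro w hw
    apply hP
    apply (le_sup_right : R ≤ A ⊔ R)
    exact ⟨w, mem_perp1.2 hw, rfl⟩
  have hAP : ∀ z, polar Q x z = 0 → polar Q u z = 0 →
      (⟨T Q u z, T_mem_E u z⟩ : ↥(E Q)) ∈ P := by
    intro z hz hz'
    apply hP
    apply (le_sup_left : A ≤ A ⊔ R)
    exact ⟨z, mem_perp2.2 ⟨hz, hz'⟩, rfl⟩
  -- `P` fixes `x`
  have hPx : ∀ g ∈ P, (g : V ≃ₗ[F] V) x = x := by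
    have hcard : p ∣ Nat.card V := by
      have h1 : Nat.card V = Nat.card F ^ Module.finrank F V := Module.natCard_eq_pow_finrank
      have h2 : p ∣ Nat.card F := by
        have : Fintype F := Fintype.ofFinite F
        rw [Nat.card_eq_fintype_card]
        exact (CharP.cast_eq_zero_iff F p _).1 (Nat.cast_card_eq_zero F)
      rw [h1]
      exact dvd_pow h2 (by have := hB.dim; omega)
    have h0 : (0 : V) ∈ MulAction.fixedPoints (P : Subgroup ↥(E Q)) V := by
      rintro ⟨g, hg⟩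
      show (g : V ≃ₗ[F] V) 0 = 0
      exact map_zero _
    obtain ⟨v, hv, hv0⟩ := P.2.exists_fixed_point_of_prime_dvd_card_of_fixed_point V hcard h0
    have hfix : ∀ g ∈ P, (g : V ≃ₗ[F] V) v = v := fun g hg => hv ⟨g, hg⟩
    obtain ⟨c, hc⟩ := eq_smul_of_fix_rad hB h.qu h.ne (v := v) (fun w hw => hfix _ (hRP w hw))
    have hc0 : c ≠ 0 := by
      rintro rfl
      rw [zero_smul] at hc
      exact hv0 hc.symm
    intro g hg
    have h3 := hfix g hg
    rw [hc, map_smul] at h3
    have h4 := congrArg (fun t => c⁻¹ • t) h3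
    simpa [smul_smul, inv_mul_cancel₀ hc0] using h4
  refine ⟨P, hPx, ?_, hRP, hAP⟩
  -- the centre of `P` is nontrivial
  have hntP : Nontrivial (P : Subgroup ↥(E Q)) := by
    refine ⟨⟨⟨⟨T Q x u, T_mem_E x u⟩, hRP u h.perp⟩, 1, ?_⟩⟩
    intro e
    have : T Q x u = 1 := congrArg (fun t : (P : Subgroup ↥(E Q)) => ((t : ↥(E Q)) : V ≃ₗ[F] V)) e
    exact T_ne_one hB.nondeg h this
  obtain ⟨⟨⟨z, hzP⟩, hzc⟩, hz1⟩ := @exists_ne _ P.2.center_nontrivial 1
  have hcomm : ∀ g ∈ P, g * z = z * g := by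
    intro g hg
    have := (Subgroup.mem_center_iff.1 hzc) ⟨g, hg⟩
    exact congrArg Subtype.val this
  have hcomm' : ∀ g ∈ P, (g : V ≃ₗ[F] V) * (z : V ≃ₗ[F] V) = z * g := fun g hg =>
    congrArg Subtype.val (hcomm g hg)
  have hzO : (z : V ≃ₗ[F] V) ∈ O Q := E_le_O z.2
  have hzx := hPx z hzP
  obtain ⟨w0, hw0, ez⟩ := eq_T_of_comm_rad hB hzO h.qu h.ne hzx (by
    intro w hw
    rw [← T_conj hzO, ← hcomm' _ (hRP w hw)]
    show T Q x w * z * (z : V ≃ₗ[F] V)⁻¹ = _
    group)
  have hw0L : w0 ∈ L F x u := by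
    apply mem_L_of_comm hB h hw0
    intro z' hz1' hz2'
    have e1 : T Q u z' x = x := T_fix h.perp' (by rw [polar_comm]; exact hz1')
    have e2 := T_conj (T_mem_O (Q := Q) u z') x w0
    rw [e1, ← ez] at e2
    rw [← ez, ← e2]
    have e3 : T Q u z' * (z : V ≃ₗ[F] V) = z * T Q u z' := hcomm' _ (hAP z' hz1' hz2')
    rw [e3]
    group
  obtain ⟨a, c, e⟩ := mem_L.1 hw0L
  have hxx : polar Q x x = 0 := polar_self_of_sing h.qu
  have hcu : polar Q x (c • u) = 0 := by rw [polar_smul_right, h.perp, smul_zero]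
  have ez2 : (z : V ≃ₗ[F] V) = T Q x (c • u) := by
    rw [ez, ← e, add_comm, T_add_smul h.qu hcu]
  have hc0 : c ≠ 0 := by
    rintro rfl
    rw [zero_smul, T_zero_right] at ez2
    apply hz1
    apply Subtype.ext
    apply Subtype.ext
    exact Subtype.ext ez2
  intro g hg
  have hgO : (g : V ≃ₗ[F] V) ∈ O Q := E_le_O g.2
  have hgx := hPx g hg
  have h5 := T_conj hgO x (c • u)
  rw [← ez2, hcomm' g hg, hgx] at h5
  have h6 : T Q x (c • u) = T Q x ((g : V ≃ₗ[F] V) (c • u)) := by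
    rw [← h5, ← ez2]
    group
  have h7 : polar Q x ((g : V ≃ₗ[F] V) (c • u)) = 0 := by
    have := polar_map hgO x (c • u)
    rw [hgx] at this
    rw [this, hcu]
  obtain ⟨d, hd⟩ := (T_eq_T_iff hB.nondeg h.qu h.ne hcu h7).1 h6
  refine ⟨c⁻¹ * d, ?_⟩
  rw [map_smul] at hd
  have h8 := congrArg (fun t => c⁻¹ • t) hd
  simp only [smul_add, smul_smul, inv_mul_cancel₀ hc0, one_smul] at h8
  exact h8

/-- An automorphism of `PE Q` maps a long root group to a conjugate long root group. -/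
theorem exists_map_root [Finite F] (hB : Big Q) (α : PE Q ≃* PE Q) {x u : V} (h : Ln Q x u) :
    ∃ g ∈ E Q, ∀ γ, γ ∈ Xb Q x u ↔ α γ ∈ Xb Q (g x) (g u) := by
  have hfd : FiniteDimensional F V := Module.finite_of_finrank_pos (by have := hB.dim; omega)
  have hfin : Finite V := Module.finite_of_finite F
  have hfinE : Finite (V ≃ₗ[F] V) := Finite.of_injective (fun g => (g : V → V))
    DFunLike.coe_injective
  obtain ⟨p, hchar⟩ := CharP.exists F
  have hp : Fact p.Prime := ⟨CharP.char_is_prime F p⟩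
  obtain ⟨P, hPx, hPu, hR, hA⟩ := exists_sylow hB h p
  let π : ↥(E Q) →* PE Q := QuotientGroup.mk' _
  have hπ : Function.Surjective π := QuotientGroup.mk'_surjective _
  let P1 : Sylow p (PE Q) := P.mapSurjective hπ
  have hmem1 : ∀ γ, γ ∈ P1 ↔ ∃ g ∈ P, π g = γ := fun γ => Iff.rfl
  -- the centre of `P1`
  have hcen : ∀ γ, γ ∈ Xb Q x u ↔ γ ∈ P1 ∧ ∀ δ ∈ P1, γ * δ = δ * γ := by
    intro γ
    constructor
    · rintro ⟨c, rfl⟩
      have hcu : polar Q x (c • u) = 0 := by rw [polar_smul_right, h.perp, smul_zero]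
      refine ⟨⟨_, hR (c • u) hcu, rfl⟩, ?_⟩
      intro δ hδ
      obtain ⟨⟨g, hgE⟩, hg, rfl⟩ := (hmem1 δ).1 hδ
      have hgx : g x = x := hPx _ hg
      obtain ⟨d, hd⟩ := hPu _ hg
      have hgu : g u = u + d • x := hd
      have h1 : T Q (g x) (g (c • u)) = T Q x (c • u) := by
        rw [map_smul, hgu, hgx, smul_add, smul_smul, T_add_smul h.qu hcu]
      exact (comm_of_T_eq hgE h1).symm
    · rintro ⟨hγ, hc⟩
      obtain ⟨⟨g, hgE⟩, hg, rfl⟩ := (hmem1 γ).1 hγ
      have hgx : g x = x := hPx _ hg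
      obtain ⟨w0, hw0, eg⟩ := eq_T_of_comm_rad hB (E_le_O hgE) h.qu h.ne hgx (by
        intro w hw
        apply T_eq_of_comm hB hgE
        exact hc _ ((hmem1 _).2 ⟨_, hR w hw, rfl⟩))
      have hw0L : w0 ∈ L F x u := by
        apply mem_L_of_comm hB h hw0
        intro z' hz1' hz2'
        have e1 : T Q u z' x = x := T_fix h.perp' (by rw [polar_comm]; exact hz1')
        have e2 := hc _ ((hmem1 _).2 ⟨_, hA z' hz1' hz2', rfl⟩)
        have e3 : pr (T Q u z') (T_mem_E u z') * tau Q x w0 =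
            tau Q x w0 * pr (T Q u z') (T_mem_E u z') := by
          have e4 : π ⟨g, hgE⟩ = tau Q x w0 := by
            show pr g hgE = pr (T Q x w0) _
            exact pr_congr _ eg
          rw [← e4]
          exact e2.symm
        have := T_eq_of_comm hB (T_mem_E u z') e3
        rwa [e1] at this
      obtain ⟨a, c, e⟩ := mem_L.1 hw0L
      have hcu : polar Q x (c • u) = 0 := by rw [polar_smul_right, h.perp, smul_zero]
      refine ⟨c, ?_⟩
      show pr g hgE = pr (T Q x (c • u)) _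
      apply pr_congr
      rw [eg, ← e, add_comm, T_add_smul h.qu hcu]
  let P2 : Sylow p (PE Q) := P1.mapSurjective (f := α.toMonoidHom) α.surjective
  have hmem2 : ∀ γ, γ ∈ P2 ↔ ∃ g ∈ P1, α g = γ := fun γ => Iff.rfl
  obtain ⟨δ, hδ⟩ := MulAction.exists_smul_eq (PE Q) P1 P2
  obtain ⟨g, hg, rfl⟩ := pr_surj δ
  have hmem3 : ∀ γ, γ ∈ P2 ↔ (pr g hg)⁻¹ * γ * pr g hg ∈ P1 := by
    intro γ
    rw [← hδ]
    have h1 : γ ∈ (pr g hg) • P1 ↔ γ ∈ MulAut.conj (pr g hg) • (P1 : Subgroup (PE Q)) := Iff.rfl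
    rw [h1, Subgroup.mem_pointwise_smul_iff_inv_smul_mem, MulAut.smul_def, ← map_inv,
      MulAut.conj_apply, inv_inv]
    exact Iff.rfl
  have hXg : ∀ γ, γ ∈ Xb Q (g x) (g u) ↔ (pr g hg)⁻¹ * γ * pr g hg ∈ Xb Q x u := by
    intro γ
    rw [mem_Xb, mem_Xb]
    have e : ∀ c : F, γ = tau Q (g x) (c • g u) ↔
        (pr g hg)⁻¹ * γ * pr g hg = tau Q x (c • u) := by
      intro c
      rw [← map_smul, ← tau_conj hg]
      constructor
      · rintro rfl
        group
      · intro e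
        rw [← e]
        group
    exact exists_congr e
  refine ⟨g, hg, fun γ => ?_⟩
  rw [hXg, hcen, hcen]
  constructor
  · rintro ⟨h1, h2⟩
    refine ⟨(hmem3 _).1 ((hmem2 _).2 ⟨γ, h1, rfl⟩), ?_⟩
    intro δ hδ'
    have h3 : pr g hg * δ * (pr g hg)⁻¹ ∈ P2 := by
      rw [hmem3]
      have : (pr g hg)⁻¹ * (pr g hg * δ * (pr g hg)⁻¹) * pr g hg = δ := by group
      rwa [this]
    obtain ⟨ε, hε, e⟩ := (hmem2 _).1 h3
    have h4 := congrArg α (h2 ε hε)
    rw [map_mul, map_mul, e] at h4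
    have h5 : (pr g hg)⁻¹ * α γ * pr g hg * δ =
        (pr g hg)⁻¹ * (α γ * (pr g hg * δ * (pr g hg)⁻¹)) * pr g hg := by group
    rw [h5, h4]
    group
  · rintro ⟨h1, h2⟩
    have h3 : α γ ∈ P2 := (hmem3 _).2 h1
    obtain ⟨ε, hε, e⟩ := (hmem2 _).1 h3
    have e' := α.injective e
    subst e'
    refine ⟨hε, fun δ hδ' => ?_⟩
    apply α.injective
    have h4 : (pr g hg)⁻¹ * α δ * pr g hg ∈ P1 :=
      (hmem3 _).1 ((hmem2 _).2 ⟨δ, hδ', rfl⟩)
    have h5 := h2 _ h4
    rw [map_mul, map_mul]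
    have h6 : α ε * α δ = pr g hg * ((pr g hg)⁻¹ * α ε * pr g hg *
        ((pr g hg)⁻¹ * α δ * pr g hg)) * (pr g hg)⁻¹ := by group
    rw [h6, h5]
    group

/-- The same for root elements: `α (tau u w)` is a long root element `tau u' w'`, and the root
groups correspond. -/
theorem exists_map_tau [Finite F] (hB : Big Q) (α : PE Q ≃* PE Q) {x u : V} (h : Ln Q x u) :
    ∃ x' u', Ln Q x' u' ∧ α (tau Q x u) = tau Q x' u' ∧
      ∀ γ, γ ∈ Xb Q x u ↔ α γ ∈ Xb Q x' u' := by
  obtain ⟨g, hg, hγ⟩ := exists_map_root hB α h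
  obtain ⟨c, hc⟩ := (hγ _).1 (tau_mem_Xb x u)
  have hc0 : c ≠ 0 := by
    rintro rfl
    rw [zero_smul, tau_zero_right] at hc
    apply tau_ne_one hB h
    apply α.injective
    rw [hc, map_one]
  have hl := h.map (E_le_O hg)
  have hl' := hl.smul_right hc0
  refine ⟨g x, c • g u, hl', hc, fun γ => ?_⟩
  rw [hγ γ, Xb_eq_of_L_eq hl hl' (L_smul_right hc0)]

end Cfsg.Agent.ClassicalGeometry.OrthAutSylow
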