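import Mathlib
import Cfsg.Agent.ClassicalGeometry.OrthAutSylow

/-!
Automorphisms of `PΩ(V)`, part 4: an automorphism maps the radical `Rad x` of a singular point to
the radical of a singular point, or to the group attached to a totally singular `M = M^⊥`.
-/

set_option autoImplicit false

namespace Cfsg.Agent.ClassicalGeometry.OrthAutDich

open QuadraticMap Cfsg.Agent.LieClassical.OrthCore Cfsg.Agent.LieClassical.OrthTrans
  Cfsg.Agent.LieClassical.OrthSimple Cfsg.Agent.ClassicalGeometry.OrthAutBasic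
  Cfsg.Agent.ClassicalGeometry.OrthAutRoot Cfsg.Agent.ClassicalGeometry.OrthAutSylow
open scoped commutatorElement

variable {F V : Type*} [Field F] [AddCommGroup V] [Module F V] {Q : QuadraticForm F V}

/-! ### The radical of a point -/

/-- The group of all `tau x w`. -/
noncomputable def Rad (Q : QuadraticForm F V) (x : V) : Subgroup (PE Q) where
  carrier := {γ | ∃ w, γ = tau Q x w}
  mul_mem' := by
    rintro _ _ ⟨w, rfl⟩ ⟨w', rfl⟩
    by_cases h : Q x = 0 ∧ polar Q x w = 0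
    · by_cases h' : Q x = 0 ∧ polar Q x w' = 0
      · exact ⟨w + w', tau_mul h.1 h.2 h'.2⟩
      · exact ⟨w, by rw [tau_eq_one h', mul_one]⟩
    · exact ⟨w', by rw [tau_eq_one h, one_mul]⟩
  one_mem' := ⟨0, by rw [tau_zero_right]⟩
  inv_mem' := by
    rintro _ ⟨w, rfl⟩
    by_cases h : Q x = 0 ∧ polar Q x w = 0
    · exact ⟨-w, tau_inv h.1 h.2⟩
    · exact ⟨0, by rw [tau_eq_one h, inv_one, tau_zero_right]⟩

theorem tau_mem_Rad (x w : V) : tau Q x w ∈ Rad Q x := ⟨w, rfl⟩

theorem mem_Rad {x : V} {γ : PE Q} : γ ∈ Rad Q x ↔ ∃ w, γ = tau Q x w := Iff.rfl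

theorem mem_Rad' {x : V} {γ : PE Q} :
    γ ∈ Rad Q x ↔ ∃ w, polar Q x w = 0 ∧ γ = tau Q x w := by
  rw [mem_Rad]
  constructor
  · rintro ⟨w, rfl⟩
    by_cases h : polar Q x w = 0
    · exact ⟨w, h, rfl⟩
    · refine ⟨0, polar_zero_right _ _, ?_⟩
      rw [tau_zero_right, tau_eq_one (fun h' => h h'.2)]
  · rintro ⟨w, _, h⟩
    exact ⟨w, h⟩

theorem Rad_smul {x : V} {c : F} (hc : c ≠ 0) : Rad Q (c • x) = Rad Q x := by
  have key : ∀ (x : V) (c : F), c ≠ 0 → Rad Q (c • x) ≤ Rad Q x := by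
    intro x c hc γ hγ
    obtain ⟨w, hw, rfl⟩ := mem_Rad'.1 hγ
    by_cases hx : Q x = 0
    · rw [polar_smul_left, smul_eq_mul] at hw
      have hw' := (mul_eq_zero.1 hw).resolve_left hc
      rw [tau_smul_left c hx hw']
      exact tau_mem_Rad _ _
    · rw [tau_eq_one]
      · exact Subgroup.one_mem _
      · intro h
        have := h.1
        rw [QuadraticMap.map_smul, smul_eq_mul] at this
        rcases mul_eq_zero.1 this with h1 | h1
        · exact hc (mul_self_eq_zero.1 h1)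
        · exact hx h1
  apply le_antisymm (key x c hc)
  have := key (c • x) c⁻¹ (inv_ne_zero hc)
  rwa [smul_smul, inv_mul_cancel₀ hc, one_smul] at this

/-- Conjugation moves `Rad x` to `Rad (g x)`. -/
theorem conj_mem_Rad {g : V ≃ₗ[F] V} (hg : g ∈ E Q) {x : V} {γ : PE Q} :
    pr g hg * γ * (pr g hg)⁻¹ ∈ Rad Q (g x) ↔ γ ∈ Rad Q x := by
  constructor
  · rintro ⟨w, hw⟩
    refine ⟨g.symm w, ?_⟩
    have h1 := tau_conj hg x (g.symm w)
    rw [LinearEquiv.apply_symm_apply, ← hw] at h1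
    have h2 := congrArg (fun t => (pr g hg)⁻¹ * t * pr g hg) h1
    have e1 : (pr g hg)⁻¹ * (pr g hg * tau Q x (g.symm w) * (pr g hg)⁻¹) * pr g hg =
        tau Q x (g.symm w) := by group
    have e2 : (pr g hg)⁻¹ * (pr g hg * γ * (pr g hg)⁻¹) * pr g hg = γ := by group
    rw [e1, e2] at h2
    exact h2.symm
  · rintro ⟨w, rfl⟩
    exact ⟨g w, tau_conj hg x w⟩

theorem finite_V [Finite F] (hB : Big Q) : Finite V := by
  have hfd : FiniteDimensional F V := Module.finite_of_finrank_pos (by have := hB.dim; omega)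
  exact Module.finite_of_finite F

theorem finite_PE [Finite F] (hB : Big Q) : Finite (PE Q) := by
  have := finite_V hB
  have hfinE : Finite (V ≃ₗ[F] V) := Finite.of_injective (fun g => (g : V → V))
    DFunLike.coe_injective
  infer_instance

theorem card_Rad_eq [Finite F] (hB : Big Q) {x x' : V} (hx : Q x = 0) (hx0 : x ≠ 0)
    (hx' : Q x' = 0) (hx0' : x' ≠ 0) : Nat.card (Rad Q x) = Nat.card (Rad Q x') := by
  obtain ⟨g, hg, rfl⟩ := hB.good.trans_sing hx hx' hx0 hx0'
  apply Nat.card_congr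
  exact
    { toFun := fun γ => ⟨pr g hg * γ * (pr g hg)⁻¹, (conj_mem_Rad hg).2 γ.2⟩
      invFun := fun γ => ⟨(pr g hg)⁻¹ * γ * pr g hg, by
        rw [← conj_mem_Rad hg]
        have : pr g hg * ((pr g hg)⁻¹ * γ * pr g hg) * (pr g hg)⁻¹ = (γ : PE Q) := by group
        rw [this]
        exact γ.2⟩
      left_inv := fun γ => by
        apply Subtype.ext
        show (pr g hg)⁻¹ * (pr g hg * γ * (pr g hg)⁻¹) * pr g hg = (γ : PE Q)
        group
      right_inv := fun γ => by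
        apply Subtype.ext
        show pr g hg * ((pr g hg)⁻¹ * γ * pr g hg) * (pr g hg)⁻¹ = (γ : PE Q)
        group }

/-- Induction for elements of `Rad x`: it suffices to treat long root elements. -/
theorem Rad_induction [Finite F] (hB : Big Q) {x : V} (hx : Q x = 0) (hx0 : x ≠ 0)
    {K : Subgroup (PE Q)} (h : ∀ w, Ln Q x w → tau Q x w ∈ K) {γ : PE Q} (hγ : γ ∈ Rad Q x) :
    γ ∈ K := by
  obtain ⟨y, hy⟩ := exists_hyp hB.nondeg hx hx0
  obtain ⟨z, w, hzw, hxz, hxw, hyz, hyw⟩ := hB.good.exists_hyp2 hy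
  obtain ⟨v, hv, rfl⟩ := mem_Rad'.1 hγ
  -- replace `v` by its projection
  have e : tau Q x v = tau Q x (Cfsg.Agent.LieClassical.OrthTrans.proj Q x y v) := by
    have e1 : v = Cfsg.Agent.LieClassical.OrthTrans.proj Q x y v + (polar Q y v) • x := by
      rw [Cfsg.Agent.LieClassical.OrthTrans.proj, hv]; module
    conv_lhs => rw [e1]
    exact tau_add_smul hx (polar_proj_left hy v) _
  rw [e]
  refine sing_induction_perp hzw hxz hxw hyz hyw (z := x) (w := y)
    (P := fun v => tau Q x v ∈ K) ?_ ?_ _ (polar_proj_left hy v) (polar_proj_right hy v)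
  · intro a c ha1 _ hc1 _ ha hc
    show tau Q x (a + c) ∈ K
    rw [← tau_mul hx ha1 hc1]
    exact K.mul_mem ha hc
  · intro a ha h1 h2
    show tau Q x a ∈ K
    by_cases hdep : ∃ c : F, a = c • x
    · obtain ⟨c, rfl⟩ := hdep
      have : tau Q x (c • x) = 1 := by
        have := tau_add_smul (Q := Q) (w := 0) hx (polar_zero_right _ _) c
        rwa [zero_add, tau_zero_right] at this
      rw [this]
      exact K.one_mem
    · push Not at hdep
      exact h a ⟨hx, ha, h1, hx0, hdep⟩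

/-! ### Images of long root elements -/

/-- `(a, b)` is an image line of `(x, w)` under `α`. -/
structure Im (α : PE Q ≃* PE Q) (x w a b : V) : Prop where
  ln : Ln Q a b
  map : α (tau Q x w) = tau Q a b
  iff : ∀ γ, γ ∈ Xb Q x w ↔ α γ ∈ Xb Q a b

theorem exists_Im [Finite F] (hB : Big Q) (α : PE Q ≃* PE Q) {x w : V} (h : Ln Q x w) :
    ∃ a b, Im α x w a b := by
  obtain ⟨a, b, h1, h2, h3⟩ := exists_map_tau hB α h
  exact ⟨a, b, h1, h2, h3⟩

theorem Im.L_eq [Finite F] (hB : Big Q) {α : PE Q ≃* PE Q} {x w a b x' w' a' b' : V}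
    (h : Im α x w a b) (h' : Im α x' w' a' b') (e : tau Q x' w' ∈ Xb Q x w) :
    L F a' b' = L F a b := by
  apply L_eq_of_tau_mem hB h.ln h'.ln
  rw [← h'.map]
  exact (h.iff _).1 e

/-- A Siegel transformation `T x w` with `w` nonsingular is not a long root element. -/
theorem Q_eq_zero_of_tau_eq [Finite F] (hB : Big Q) {x w s t : V} (hx : Q x = 0)
    (hw : polar Q x w = 0) (h : Ln Q s t) (e : tau Q x w = tau Q s t) : Q w = 0 ∧ Ln Q x w := by
  have hT := T_eq_of_tau_eq hB e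
  have hx0 : x ≠ 0 := by
    rintro rfl
    rw [T_zero_left] at hT
    exact T_ne_one hB.nondeg h hT.symm
  have hind : ∀ c : F, w ≠ c • x := by
    rintro c rfl
    have := T_add_smul (Q := Q) (w := 0) hx (polar_zero_right _ _) c
    rw [zero_add, T_zero_right] at this
    rw [this] at hT
    exact T_ne_one hB.nondeg h hT.symm
  obtain ⟨y, hy⟩ := exists_hyp hB.nondeg hx hx0
  have hmem : T Q x w y - y ∈ L F s t := by
    rw [← D_T hB.nondeg h, ← hT]
    exact mem_D.2 ⟨y, rfl⟩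
  have hQ0 := h.Q_mem hmem
  rw [T_apply_hyp hy hw] at hQ0
  generalize polar Q w y + Q w = r at hQ0
  have e3 : y + w - r • x - y = w + (-r) • x := by module
  rw [e3, Q_add, QuadraticMap.map_smul, polar_smul_right, hx, polar_comm Q w x, hw] at hQ0
  simp only [smul_zero, add_zero] at hQ0
  exact ⟨hQ0, hx, hQ0, hw, hx0, hind⟩

theorem tau_comm_of_rad {x w w' : V} (hx : Q x = 0) (hw : polar Q x w = 0)
    (hw' : polar Q x w' = 0) : tau Q x w * tau Q x w' = tau Q x w' * tau Q x w := by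
  rw [tau_mul hx hw hw', tau_mul hx hw' hw, add_comm]

theorem Im.comm {α : PE Q ≃* PE Q} {x w w' a b a' b' : V} (hx : Q x = 0)
    (hw : polar Q x w = 0) (hw' : polar Q x w' = 0) (h : Im α x w a b) (h' : Im α x w' a' b') :
    tau Q a b * tau Q a' b' = tau Q a' b' * tau Q a b := by
  rw [← h.map, ← h'.map, ← map_mul, ← map_mul, tau_comm_of_rad hx hw hw']

/-- Coplanar lines have orthogonal and meeting images. -/
theorem Im.perp_meet [Finite F] (hB : Big Q) {α : PE Q ≃* PE Q} {x w w' a b a' b' : V}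
    (hl : Ln Q x w) (hl' : Ln Q x w') (hl'' : Ln Q x (w + w')) (h : Im α x w a b)
    (h' : Im α x w' a' b') : PerpL Q a b a' b' ∧ MeetL F a b a' b' := by
  obtain ⟨s, t, hst⟩ := exists_Im hB α hl''
  refine perp_meet_of_mul hB h.ln h'.ln hst.ln
    (Im.comm hl.qu hl.perp hl'.perp h h') ?_
  rw [← hst.map, ← h.map, ← h'.map, ← map_mul, tau_mul hl.qu hl.perp hl'.perp]

/-- Lines through `x` which are not coplanar do not have images that are both orthogonal and
meeting. -/
theorem Im.not_perp_meet [Finite F] (hB : Big Q) {α : PE Q ≃* PE Q} {x w w' a b a' b' : V}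
    (hl : Ln Q x w) (hl' : Ln Q x w') (hww : polar Q w w' ≠ 0) (h : Im α x w a b)
    (h' : Im α x w' a' b') (hp : PerpL Q a b a' b') (hm : MeetL F a b a' b') : False := by
  obtain ⟨z, hz0, hz, hz'⟩ := hm
  obtain ⟨c, hc, e⟩ := h.ln.exists_basis hz hz0
  obtain ⟨d, hd, e'⟩ := h'.ln.exists_basis hz' hz0
  have h1 : tau Q a b ∈ Xb Q z c := by
    rw [Xb_eq_of_L_eq h.ln hc e]; exact tau_mem_Xb _ _
  have h2 : tau Q a' b' ∈ Xb Q z d := by
    rw [Xb_eq_of_L_eq h'.ln hd e']; exact tau_mem_Xb _ _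
  obtain ⟨p, hp'⟩ := h1
  obtain ⟨q, hq'⟩ := h2
  have p1 : polar Q z (p • c) = 0 := by rw [polar_smul_right, hc.perp, smul_zero]
  have p2 : polar Q z (q • d) = 0 := by rw [polar_smul_right, hd.perp, smul_zero]
  have p3 : polar Q z (p • c + q • d) = 0 := by rw [polar_add_right, p1, p2, add_zero]
  have hcd : polar Q c d = 0 := by
    obtain ⟨k1, k2, k3, k4⟩ := hp
    have hcm : c ∈ L F a b := by rw [← e]; exact right_mem_L _ _
    have hdm : d ∈ L F a' b' := by rw [← e']; exact right_mem_L _ _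
    obtain ⟨c1, c2, rfl⟩ := mem_L.1 hcm
    obtain ⟨d1, d2, rfl⟩ := mem_L.1 hdm
    simp only [polar_add_left, polar_add_right, polar_smul_left, polar_smul_right, k1, k2, k3, k4]
    simp
  have hxw : polar Q x (w + w') = 0 := by rw [polar_add_right, hl.perp, hl'.perp, add_zero]
  have hprod : α (tau Q x (w + w')) = tau Q z (p • c + q • d) := by
    rw [← tau_mul hl.qu hl.perp hl'.perp, map_mul, h.map, h'.map, hp', hq',
      tau_mul hc.qu p1 p2]
  have hQ : Q (p • c + q • d) = 0 := by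
    rw [Q_add, QuadraticMap.map_smul, QuadraticMap.map_smul, hc.qw, hd.qw, polar_smul_left,
      polar_smul_right, hcd]
    simp
  have hQw : Q (w + w') ≠ 0 := by
    rw [Q_add, hl.qw, hl'.qw, zero_add, zero_add]
    exact hww
  by_cases hdep : ∃ r : F, p • c + q • d = r • z
  · obtain ⟨r, hr⟩ := hdep
    have h3 : tau Q z (r • z) = 1 := by
      have := tau_add_smul (Q := Q) (w := 0) hc.qu (polar_zero_right _ _) r
      rwa [zero_add, tau_zero_right] at this
    rw [hr, h3] at hprod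
    have h4 : tau Q x (w + w') = 1 := by
      apply α.injective
      rw [hprod, map_one]
    rw [← tau_zero_right (Q := Q) x] at h4
    have h5 := T_eq_of_tau_eq hB h4
    obtain ⟨r', hr'⟩ := (T_eq_T_iff hB.nondeg hl.qu hl.ne hxw (polar_zero_right _ _)).1 h5
    apply hQw
    have : w + w' = (-r') • x := by
      rw [neg_smul, eq_neg_iff_add_eq_zero]; exact hr'.symm
    rw [this, QuadraticMap.map_smul, hl.qu, smul_zero]
  · push Not at hdep
    have hl3 : Ln Q z (p • c + q • d) := ⟨hc.qu, hQ, p3, hz0, hdep⟩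
    obtain ⟨s, t, hst⟩ := exists_Im hB α.symm hl3
    have h6 : tau Q x (w + w') = tau Q s t := by
      rw [← hst.map, ← hprod, MulEquiv.symm_apply_apply]
    exact hQw (Q_eq_zero_of_tau_eq hB hl.qu hxw hst.ln h6).1

/-! ### The dichotomy -/

/-- Two image lines of non-coplanar concurrent lines meet. -/
def MeetAll (α : PE Q ≃* PE Q) : Prop :=
  ∀ x w w', Q x = 0 → x ≠ 0 → Hyp Q w w' → polar Q x w = 0 → polar Q x w' = 0 →
    ∀ a b a' b', Im α x w a b → Im α x w' a' b' → MeetL F a b a' b'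

theorem L_map {g : V ≃ₗ[F] V} {a b z : V} (hz : z ∈ L F a b) : g z ∈ L F (g a) (g b) := by
  obtain ⟨s, t, rfl⟩ := mem_L.1 hz
  exact mem_L.2 ⟨s, t, by simp⟩

theorem meetAll_of_one [Finite F] (hB : Big Q) {α : PE Q ≃* PE Q} {x w w' a b a' b' : V}
    (hx : Q x = 0) (hx0 : x ≠ 0) (hw : Hyp Q w w') (hxw : polar Q x w = 0)
    (hxw' : polar Q x w' = 0) (h : Im α x w a b) (h' : Im α x w' a' b')
    (hm : MeetL F a b a' b') : MeetAll α := by
  intro x1 w1 w1' hx1 hx1' hw1 hxw1 hxw1' a1 b1 a1' b1' i1 i1'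
  obtain ⟨g, hg, gx, gw, gw'⟩ := hB.trans_triple hx hx0 hw hxw hxw' hx1 hx1' hw1 hxw1 hxw1'
  obtain ⟨k, hk, ek⟩ := pr_surj (α (pr g hg))
  have key : ∀ {v c d c1 d1 : V}, Im α x v c d → Im α x1 (g v) c1 d1 →
      L F c1 d1 = L F (k c) (k d) := by
    intro v c d c1 d1 i j
    apply L_eq_of_tau_mem hB (i.ln.map (E_le_O hk)) j.ln
    refine ⟨1, ?_⟩
    rw [one_smul, ← j.map, ← tau_conj hk, ← ek, ← i.map, ← map_inv, ← map_mul, ← map_mul,
      tau_conj hg, gx]
  subst gw gw'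
  obtain ⟨z, hz0, hz, hz'⟩ := hm
  refine ⟨k z, ?_, ?_, ?_⟩
  · intro e
    exact hz0 ((LinearEquiv.map_eq_zero_iff k).1 e)
  · rw [key h i1]; exact L_map hz
  · rw [key h' i1']; exact L_map hz'

theorem Im.smul [Finite F] (hB : Big Q) {α : PE Q ≃* PE Q} {x w a b : V} (hl : Ln Q x w)
    (h : Im α x w a b) {c : F} (hc : c ≠ 0) :
    ∃ a' b', Im α x (c • w) a' b' ∧ L F a' b' = L F a b := by
  obtain ⟨a', b', h'⟩ := exists_Im hB α (hl.smul_right hc)
  exact ⟨a', b', h', h.L_eq hB h' ⟨c, rfl⟩⟩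

theorem hyp_smul {w w' : V} (hw : Q w = 0) (hw' : Q w' = 0) (h : polar Q w w' ≠ 0) :
    Hyp Q w ((polar Q w w')⁻¹ • w') := by
  refine ⟨hw, ?_, ?_⟩
  · rw [QuadraticMap.map_smul, hw', smul_zero]
  · rw [polar_smul_right, smul_eq_mul, inv_mul_cancel₀ h]

theorem PerpL_of_L_eq {a b a' b' c d c' d' : V} (h : PerpL Q a b a' b')
    (e : L F c d = L F a b) (e' : L F c' d' = L F a' b') : PerpL Q c d c' d' := by
  obtain ⟨k1, k2, k3, k4⟩ := h
  have k : ∀ p ∈ L F a b, ∀ q ∈ L F a' b', polar Q p q = 0 := by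
    intro p hp q hq
    obtain ⟨p1, p2, rfl⟩ := mem_L.1 hp
    obtain ⟨q1, q2, rfl⟩ := mem_L.1 hq
    simp only [polar_add_left, polar_add_right, polar_smul_left, polar_smul_right, k1, k2, k3, k4]
    simp
  exact ⟨k _ (e ▸ left_mem_L _ _) _ (e' ▸ left_mem_L _ _),
    k _ (e ▸ left_mem_L _ _) _ (e' ▸ right_mem_L _ _),
    k _ (e ▸ right_mem_L _ _) _ (e' ▸ left_mem_L _ _),
    k _ (e ▸ right_mem_L _ _) _ (e' ▸ right_mem_L _ _)⟩

theorem PerpL.mem {a b a' b' p q : V} (h : PerpL Q a b a' b') (hp : p ∈ L F a b)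
    (hq : q ∈ L F a' b') : polar Q p q = 0 := by
  obtain ⟨k1, k2, k3, k4⟩ := h
  obtain ⟨p1, p2, rfl⟩ := mem_L.1 hp
  obtain ⟨q1, q2, rfl⟩ := mem_L.1 hq
  simp only [polar_add_left, polar_add_right, polar_smul_left, polar_smul_right, k1, k2, k3, k4]
  simp

/-- If images always meet, images of lines through `x` pass through a common point. -/
theorem exists_point_of_meetAll [Finite F] (hB : Big Q) {α : PE Q ≃* PE Q} (hα : MeetAll α)
    {x : V} (hx : Q x = 0) (hx0 : x ≠ 0) :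
    ∃ x', Q x' = 0 ∧ x' ≠ 0 ∧ ∀ w a b, Ln Q x w → Im α x w a b → x' ∈ L F a b := by
  obtain ⟨y, hy⟩ := exists_hyp hB.nondeg hx hx0
  obtain ⟨w1, w2, hw, hxw1, hxw2, -, -⟩ := hB.good.exists_hyp2 hy
  have hl1 : Ln Q x w1 := ⟨hx, hw.left, hxw1, hx0, by
    rintro c hc
    have := hw.pair
    rw [hc, polar_smul_left, hxw2, smul_zero] at this
    exact zero_ne_one this⟩
  have hl2 : Ln Q x w2 := ⟨hx, hw.right, hxw2, hx0, by
    rintro c hc
    have := hw.pair
    rw [hc, polar_smul_right, polar_comm, hxw1, smul_zero] at this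
    exact zero_ne_one this⟩
  obtain ⟨a1, b1, i1⟩ := exists_Im hB α hl1
  obtain ⟨a2, b2, i2⟩ := exists_Im hB α hl2
  obtain ⟨x', hx'0, m1, m2⟩ := hα x w1 w2 hx hx0 hw hxw1 hxw2 _ _ _ _ i1 i2
  have hnp : ¬ PerpL Q a1 b1 a2 b2 := by
    intro hp
    exact Im.not_perp_meet hB hl1 hl2 (by rw [hw.pair]; exact one_ne_zero) i1 i2 hp
      ⟨x', hx'0, m1, m2⟩
  refine ⟨x', i1.ln.Q_mem m1, hx'0, ?_⟩
  intro w a b hl i
  -- every line meets both reference lines
  have hmeet : ∀ v c d, Ln Q x v → Im α x v c d → MeetL F a b c d := by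
    intro v c d hlv j
    by_cases hwv : polar Q w v = 0
    · by_cases hdep : ∃ r : F, w + v = r • x
      · obtain ⟨r, hr⟩ := hdep
        have e : L F c d = L F a b := by
          apply i.L_eq hB j
          refine ⟨-1, ?_⟩
          have : v = (-1 : F) • w + r • x := by rw [← hr]; module
          rw [this, tau_add_smul hx (by rw [polar_smul_right, hl.perp, smul_zero])]
        exact ⟨a, i.ln.ne, left_mem_L _ _, e ▸ left_mem_L _ _⟩
      · push Not at hdep
        have hQ : Q (w + v) = 0 := by rw [Q_add, hl.qw, hlv.qw, hwv]; simp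
        have hxwv : polar Q x (w + v) = 0 := by
          rw [polar_add_right, hl.perp, hlv.perp, add_zero]
        exact (Im.perp_meet hB hl hlv ⟨hx, hQ, hxwv, hx0, hdep⟩ i j).2
    · have hh := hyp_smul hl.qw hlv.qw hwv
      obtain ⟨c', d', j', e⟩ := j.smul hB hlv (inv_ne_zero hwv)
      have hx2 : polar Q x ((polar Q w v)⁻¹ • v) = 0 := by
        rw [polar_smul_right, hlv.perp, smul_zero]
      obtain ⟨z, hz0, hz, hz'⟩ := hα x w _ hx hx0 hh hl.perp hx2 _ _ _ _ i j'
      exact ⟨z, hz0, hz, e ▸ hz'⟩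
  obtain ⟨p, hp0, hp, hp'⟩ := hmeet w1 a1 b1 hl1 i1
  obtain ⟨q, hq0, hq, hq'⟩ := hmeet w2 a2 b2 hl2 i2
  by_contra hn
  apply hnp
  obtain ⟨p2, hlp, ep⟩ := i1.ln.exists_basis m1 hx'0
  obtain ⟨q2, hlq, eq⟩ := i2.ln.exists_basis m2 hx'0
  -- `p` and `q` are not multiples of `x'`
  have hpq : polar Q p q = 0 := i.ln.polar_mem hp hq
  rw [← ep] at hp'
  rw [← eq] at hq'
  obtain ⟨s1, s2, rfl⟩ := mem_L.1 hp'
  obtain ⟨t1, t2, rfl⟩ := mem_L.1 hq'
  have hs2 : s2 ≠ 0 := by
    rintro rfl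
    rw [zero_smul, add_zero] at hp hp0
    apply hn
    have hs1 : s1 ≠ 0 := by
      rintro rfl
      exact hp0 (zero_smul _ _)
    have := Submodule.smul_mem _ s1⁻¹ hp
    rwa [smul_smul, inv_mul_cancel₀ hs1, one_smul] at this
  have ht2 : t2 ≠ 0 := by
    rintro rfl
    rw [zero_smul, add_zero] at hq hq0
    apply hn
    have ht1 : t1 ≠ 0 := by
      rintro rfl
      exact hq0 (zero_smul _ _)
    have := Submodule.smul_mem _ t1⁻¹ hq
    rwa [smul_smul, inv_mul_cancel₀ ht1, one_smul] at this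
  have h22 : polar Q p2 q2 = 0 := by
    simp only [polar_add_left, polar_add_right, polar_smul_left, polar_smul_right,
      polar_self_of_sing hlp.qu, hlp.perp', hlq.perp, smul_eq_mul, mul_zero, zero_add,
      add_zero] at hpq
    have h3 := mul_eq_zero.1 hpq
    rcases h3 with h3 | h3
    · exact absurd h3 ht2
    · exact (mul_eq_zero.1 h3).resolve_left hs2
  have hP : PerpL Q x' p2 x' q2 := ⟨polar_self_of_sing hlp.qu, hlq.perp, hlp.perp', h22⟩
  exact PerpL_of_L_eq hP ep.symm eq.symm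

/-- If `x'` lies on a totally singular line, the root group lies in `Rad x'`. -/
theorem tau_mem_Rad_of_mem {a b x' : V} (h : Ln Q a b) (hx' : x' ∈ L F a b) (hx0 : x' ≠ 0) :
    tau Q a b ∈ Rad Q x' := by
  obtain ⟨c, hc, e⟩ := h.exists_basis hx' hx0
  have h1 : tau Q a b ∈ Xb Q x' c := by
    rw [Xb_eq_of_L_eq h hc e]; exact tau_mem_Xb _ _
  obtain ⟨s, hs⟩ := h1
  exact ⟨s • c, hs⟩

theorem exists_rad_of_meetAll [Finite F] (hB : Big Q) {α : PE Q ≃* PE Q} (hα : MeetAll α)
    {x : V} (hx : Q x = 0) (hx0 : x ≠ 0) :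
    ∃ x', Q x' = 0 ∧ x' ≠ 0 ∧ ∀ γ, γ ∈ Rad Q x ↔ α γ ∈ Rad Q x' := by
  obtain ⟨x', hx', hx0', h⟩ := exists_point_of_meetAll hB hα hx hx0
  refine ⟨x', hx', hx0', ?_⟩
  have hle : ∀ γ, γ ∈ Rad Q x → α γ ∈ Rad Q x' := by
    intro γ hγ
    refine Rad_induction hB hx hx0 (K := (Rad Q x').comap α.toMonoidHom) ?_ hγ
    intro w hw
    obtain ⟨a, b, i⟩ := exists_Im hB α hw
    show α (tau Q x w) ∈ Rad Q x'
    rw [i.map]
    exact tau_mem_Rad_of_mem i.ln (h w a b hw i) hx0'
  have hfin := finite_PE hB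
  have heq : (Rad Q x).map α.toMonoidHom = Rad Q x' := by
    apply Subgroup.eq_of_le_of_card_ge
    · rintro _ ⟨γ, hγ, rfl⟩
      exact hle γ hγ
    · rw [card_Rad_eq hB hx' hx0' hx hx0]
      apply le_of_eq
      apply Nat.card_congr
      exact ((Rad Q x).equivMapOfInjective α.toMonoidHom α.injective).toEquiv
  intro γ
  refine ⟨hle γ, fun hγ => ?_⟩
  rw [← heq] at hγ
  obtain ⟨δ, hδ, e⟩ := hγ
  have : δ = γ := α.injective e
  rwa [← this]

/-! ### The second case -/

/-- The elements of `PE Q` represented by an element acting trivially on `M^⊥`. -/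
def KM (Q : QuadraticForm F V) (M : Submodule F V) : Subgroup (PE Q) where
  carrier := {γ | ∃ (g : V ≃ₗ[F] V) (hg : g ∈ E Q), γ = pr g hg ∧
    ∀ v, (∀ m ∈ M, polar Q m v = 0) → g v = v}
  mul_mem' := by
    rintro _ _ ⟨g, hg, rfl, h⟩ ⟨g', hg', rfl, h'⟩
    refine ⟨g * g', E_mul hg hg', rfl, fun v hv => ?_⟩
    show g (g' v) = v
    rw [h' v hv, h v hv]
  one_mem' := ⟨1, Subgroup.one_mem _, rfl, fun v _ => rfl⟩
  inv_mem' := by
    rintro _ ⟨g, hg, rfl, h⟩
    refine ⟨g⁻¹, (E Q).inv_mem hg, rfl, fun v hv => ?_⟩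
    show g.symm v = v
    rw [LinearEquiv.symm_apply_eq, h v hv]

theorem tau_mem_KM {M : Submodule F V} {a b : V} (ha : a ∈ M) (hb : b ∈ M) :
    tau Q a b ∈ KM Q M :=
  ⟨T Q a b, T_mem_E a b, rfl, fun _ hv => T_fix (hv a ha) (hv b hb)⟩

theorem KM_comm {M : Submodule F V} (hM : ∀ m ∈ M, Q m = 0) {γ δ : PE Q} (hγ : γ ∈ KM Q M)
    (hδ : δ ∈ KM Q M) : γ * δ = δ * γ := by
  obtain ⟨g, hg, rfl, h⟩ := hγ
  obtain ⟨k, hk, rfl, h'⟩ := hδ
  rw [← pr_mul, ← pr_mul]
  apply pr_congr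
  have hMp : ∀ m ∈ M, ∀ m' ∈ M, polar Q m m' = 0 := by
    intro m hm m' hm'
    rw [polar, hM _ (M.add_mem hm hm'), hM _ hm, hM _ hm']
    simp
  -- `(g - 1) V ≤ M^⊥`
  have key : ∀ (g : V ≃ₗ[F] V), g ∈ E Q → (∀ v, (∀ m ∈ M, polar Q m v = 0) → g v = v) →
      ∀ v, ∀ m ∈ M, polar Q m (g v - v) = 0 := by
    intro g hg h v m hm
    have e : g m = m := h m (fun m' hm' => hMp m' hm' m hm)
    have := polar_map (E_le_O hg) m v
    rw [e] at this
    rw [polar_sub_right, this, sub_self]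
  ext v
  show g (k v) = k (g v)
  have e1 : g (k v - v) = k v - v := h _ (key k hk h' v)
  have e2 : k (g v - v) = g v - v := h' _ (key g hg h v)
  rw [map_sub] at e1 e2
  have e3 : g (k v) = g v + (k v - v) := by rw [← e1]; abel
  have e4 : k (g v) = k v + (g v - v) := by rw [← e2]; abel
  rw [e3, e4]
  abel

/-- The centraliser of `Rad x` is `Rad x`. -/
theorem mem_Rad_of_comm [Finite F] (hB : Big Q) {x : V} (hx : Q x = 0) (hx0 : x ≠ 0)
    {γ : PE Q} (h : ∀ δ ∈ Rad Q x, γ * δ = δ * γ) : γ ∈ Rad Q x := by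
  obtain ⟨g, hg, rfl⟩ := pr_surj γ
  have hgO := E_le_O hg
  have hT : ∀ w, polar Q x w = 0 → T Q (g x) (g w) = T Q x w := by
    intro w hw
    exact T_eq_of_comm hB hg (h _ (tau_mem_Rad x w))
  -- `g x` is a multiple of `x`
  obtain ⟨y, hy⟩ := exists_hyp hB.nondeg hx hx0
  obtain ⟨z, w, hzw, hxz, hxw, hyz, hyw⟩ := hB.good.exists_hyp2 hy
  have l1 : Ln Q x z := ⟨hx, hzw.left, hxz, hx0, by
    intro c hcc
    have := hzw.pair
    rw [hcc, polar_smul_left, hxw, smul_zero] at this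
    exact zero_ne_one this⟩
  have l2 : Ln Q x w := ⟨hx, hzw.right, hxw, hx0, by
    intro c hcc
    have := hzw.pair
    rw [hcc, polar_smul_right, polar_comm, hxz, smul_zero] at this
    exact zero_ne_one this⟩
  have key : ∀ w, Ln Q x w → g x ∈ L F x w := by
    intro w hl
    have e := D_T hB.nondeg (hl.map hgO)
    rw [hT w hl.perp, D_T hB.nondeg hl] at e
    rw [e]
    exact left_mem_L _ _
  obtain ⟨a, b, e1⟩ := mem_L.1 (key z l1)
  obtain ⟨a', b', e2⟩ := mem_L.1 (key w l2)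
  have h3 : polar Q w (g x) = b := by
    rw [← e1, polar_add_right, polar_smul_right, polar_smul_right, polar_comm Q w x, hxw,
      hzw.pair']
    simp
  have h4 : polar Q w (g x) = 0 := by
    rw [← e2, polar_add_right, polar_smul_right, polar_smul_right, polar_comm Q w x, hxw,
      hzw.polar_right]
    simp
  have hgx : g x = a • x := by rw [← e1, ← h3, h4, zero_smul, add_zero]
  have ha0 : a ≠ 0 := by
    rintro rfl
    rw [zero_smul] at hgx
    exact hx0 ((LinearEquiv.map_eq_zero_iff g).1 hgx)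
  have hgperp : ∀ v, polar Q x v = 0 → polar Q x (g v) = 0 := by
    intro v hv
    have := polar_map hgO x v
    rw [hgx, polar_smul_left, hv, smul_eq_mul] at this
    exact (mul_eq_zero.1 this).resolve_left ha0
  -- `a • g v - v` is a multiple of `x` for `v ⊥ x`
  have hmod : ∀ v, polar Q x v = 0 → ∃ c : F, a • g v = v + c • x := by
    intro v hv
    have h5 := hT v hv
    rw [hgx, T_smul_left a hx (hgperp v hv)] at h5
    exact (T_eq_T_iff hB.nondeg hx hx0 hv (by rw [polar_smul_right, hgperp v hv, smul_zero])).1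
      h5.symm
  have ha : a = 1 ∨ a = -1 := by
    have hxzw : polar Q x (z + w) = 0 := by rw [polar_add_right, hxz, hxw, add_zero]
    obtain ⟨c, hc⟩ := hmod (z + w) hxzw
    have h6 : Q (a • g (z + w)) = Q (z + w + c • x) := by rw [hc]
    rw [QuadraticMap.map_smul, mem_O.1 hgO, Q_add (z + w), QuadraticMap.map_smul, hx,
      polar_smul_right, polar_comm Q _ x, hxzw, Q_add, hzw.left, hzw.right, hzw.pair] at h6
    simp only [smul_eq_mul, zero_add, mul_one, mul_zero, add_zero] at h6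
    exact mul_self_eq_one_iff.1 h6
  -- `a • g` is an isometry fixing `x` and trivial on `x^⊥ / x`
  have hau : IsUnit a := isUnit_iff_ne_zero.2 ha0
  let k : V ≃ₗ[F] V := g.trans (LinearEquiv.smulOfUnit (Units.mk0 a ha0))
  have hk : ∀ v, k v = a • g v := fun v => rfl
  have haa : a * a = 1 := mul_self_eq_one_iff.2 ha
  have hkO : k ∈ O Q := by
    intro v
    rw [hk, QuadraticMap.map_smul, mem_O.1 hgO, haa, one_smul]
  obtain ⟨w0, hw0, ek⟩ := eq_T_of_trivial hB.nondeg hkO hx hx0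
    (by rw [hk, hgx, smul_smul, haa, one_smul])
    (by intro v hv; rw [hk]; exact hmod v hv)
  refine ⟨w0, ?_⟩
  unfold tau
  rw [pr_eq_iff hB]
  refine ⟨a, ha, fun v => ?_⟩
  rw [← ek, hk, smul_smul, haa, one_smul]

/-- The second case. -/
theorem exists_M_of_not_meetAll [Finite F] (hB : Big Q) {α : PE Q ≃* PE Q} (hα : ¬ MeetAll α)
    {x : V} (hx : Q x = 0) (hx0 : x ≠ 0) :
    ∃ M : Submodule F V, (∀ m ∈ M, Q m = 0) ∧ (∀ v, (∀ m ∈ M, polar Q m v = 0) → v ∈ M) ∧
      ∀ γ, γ ∈ Rad Q x ↔ α γ ∈ KM Q M := by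
  have hfd : FiniteDimensional F V := Module.finite_of_finrank_pos (by have := hB.dim; omega)
  let S : Set V := {v | ∃ w a b, Ln Q x w ∧ Im α x w a b ∧ v ∈ L F a b}
  -- images of lines through `x` are mutually orthogonal
  have hperp : ∀ w w' a b a' b', Ln Q x w → Ln Q x w' → Im α x w a b → Im α x w' a' b' →
      PerpL Q a b a' b' := by
    intro w w' a b a' b' hl hl' i i'
    by_cases hww : polar Q w w' = 0
    · by_cases hdep : ∃ r : F, w + w' = r • x
      · obtain ⟨r, hr⟩ := hdep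
        have e : L F a' b' = L F a b := by
          apply i.L_eq hB i'
          refine ⟨-1, ?_⟩
          have : w' = (-1 : F) • w + r • x := by rw [← hr]; module
          rw [this, tau_add_smul hx (by rw [polar_smul_right, hl.perp, smul_zero])]
        have hP : PerpL Q a b a b := ⟨polar_self_of_sing i.ln.qu, i.ln.perp, i.ln.perp',
          polar_self_of_sing i.ln.qw⟩
        exact PerpL_of_L_eq hP rfl e
      · push Not at hdep
        have hQ : Q (w + w') = 0 := by rw [Q_add, hl.qw, hl'.qw, hww]; simp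
        have hxwv : polar Q x (w + w') = 0 := by
          rw [polar_add_right, hl.perp, hl'.perp, add_zero]
        exact (Im.perp_meet hB hl hl' ⟨hx, hQ, hxwv, hx0, hdep⟩ i i').1
    · have hh := hyp_smul hl.qw hl'.qw hww
      obtain ⟨c', d', j', e⟩ := i'.smul hB hl' (inv_ne_zero hww)
      have hx2 : polar Q x ((polar Q w w')⁻¹ • w') = 0 := by
        rw [polar_smul_right, hl'.perp, smul_zero]
      rcases comm_cases hB i.ln j'.ln (Im.comm hx hl.perp hx2 i j') with h | h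
      · exact PerpL_of_L_eq h rfl e.symm
      · exfalso
        exact hα (meetAll_of_one hB hx hx0 hh hl.perp hx2 i j' h)
  have hSS : ∀ u ∈ S, ∀ v ∈ S, polar Q u v = 0 := by
    rintro u ⟨w, a, b, hl, i, hu⟩ v ⟨w', a', b', hl', i', hv⟩
    exact PerpL.mem (hperp w w' a b a' b' hl hl' i i') hu hv
  have hSQ : ∀ u ∈ S, Q u = 0 := by
    rintro u ⟨w, a, b, hl, i, hu⟩
    exact i.ln.Q_mem hu
  let M : Submodule F V := Submodule.span F S
  have hMM : ∀ u ∈ M, ∀ v ∈ M, polar Q u v = 0 := by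
    intro u hu v hv
    induction hu using Submodule.span_induction with
    | mem u hu =>
      induction hv using Submodule.span_induction with
      | mem v hv => exact hSS u hu v hv
      | zero => exact polar_zero_right _ _
      | add v v' _ _ h h' => rw [polar_add_right, h, h', add_zero]
      | smul c v _ h => rw [polar_smul_right, h, smul_zero]
    | zero => exact polar_zero_left _ _
    | add u u' _ _ h h' => rw [polar_add_left, h, h', add_zero]
    | smul c u _ h => rw [polar_smul_left, h, smul_zero]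
  have hMQ : ∀ m ∈ M, Q m = 0 := by
    intro m hm
    induction hm using Submodule.span_induction with
    | mem u hu => exact hSQ u hu
    | zero => exact QuadraticMap.map_zero Q
    | add u u' hu hu' h h' => rw [Q_add, h, h', hMM u hu u' hu']; simp
    | smul c u _ h => rw [QuadraticMap.map_smul, h, smul_zero]
  have hle : ∀ γ, γ ∈ Rad Q x → α γ ∈ KM Q M := by
    intro γ hγ
    refine Rad_induction hB hx hx0 (K := (KM Q M).comap α.toMonoidHom) ?_ hγ
    intro w hw
    obtain ⟨a, b, i⟩ := exists_Im hB α hw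
    show α (tau Q x w) ∈ KM Q M
    rw [i.map]
    exact tau_mem_KM (Submodule.subset_span ⟨w, a, b, hw, i, left_mem_L _ _⟩)
      (Submodule.subset_span ⟨w, a, b, hw, i, right_mem_L _ _⟩)
  have hge : ∀ γ, α γ ∈ KM Q M → γ ∈ Rad Q x := by
    intro γ hγ
    apply mem_Rad_of_comm hB hx hx0
    intro δ hδ
    apply α.injective
    rw [map_mul, map_mul]
    exact KM_comm hMQ hγ (hle δ hδ)
  refine ⟨M, hMQ, ?_, fun γ => ⟨hle γ, hge γ⟩⟩
  intro v hv
  -- choose `u ∈ M`, `u ≠ 0`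
  obtain ⟨y, hy⟩ := exists_hyp hB.nondeg hx hx0
  obtain ⟨w1, w2, hw, hxw1, hxw2, -, -⟩ := hB.good.exists_hyp2 hy
  have hl1 : Ln Q x w1 := ⟨hx, hw.left, hxw1, hx0, by
    rintro c hc
    have := hw.pair
    rw [hc, polar_smul_left, hxw2, smul_zero] at this
    exact zero_ne_one this⟩
  obtain ⟨u, b, i⟩ := exists_Im hB α hl1
  have huM : u ∈ M := Submodule.subset_span ⟨w1, u, b, hl1, i, left_mem_L _ _⟩
  -- `tau u v` centralises `KM M`
  have huv : polar Q u v = 0 := hv u huM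
  have h1 : tau Q u v ∈ KM Q M := by
    have h2 : α.symm (tau Q u v) ∈ Rad Q x := by
      apply mem_Rad_of_comm hB hx hx0
      intro δ hδ
      apply α.injective
      rw [map_mul, map_mul, MulEquiv.apply_symm_apply]
      obtain ⟨g, hg, e, h⟩ := hle δ hδ
      rw [e]
      have e1 : g u = u := h u (fun m hm => hMM m hm u huM)
      have e2 : g v = v := h v hv
      exact (comm_of_T_eq hg (by rw [e1, e2])).symm
    have h3 := hle _ h2
    rwa [MulEquiv.apply_symm_apply] at h3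
  obtain ⟨g, hg, e, h⟩ := h1
  obtain ⟨c, hc, hcv⟩ := (pr_eq_iff hB (T_mem_E u v) hg).1 e
  by_contra hvM
  obtain ⟨y', hy1, hy2⟩ := exists_sep_sub hB.nondeg hvM
  have e3 := hcv y'
  have h4 : polar Q u y' = 0 := hy2 u huM
  rw [h y' hy2, T_apply_perp i.ln.qu huv h4, hy1, one_smul] at e3
  have e4 := hcv u
  rw [T_apply_self i.ln.qu huv, h u (fun m hm => hMM m hm u huM)] at e4
  have hc1 : c = 1 := by
    have h2 : (c - 1) • u = 0 := by rw [sub_smul, one_smul, ← e4, sub_self]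
    exact sub_eq_zero.1 ((smul_eq_zero.1 h2).resolve_right i.ln.ne)
  rw [hc1, one_smul] at e3
  apply i.ln.ne
  simpa using e3

end Cfsg.Agent.ClassicalGeometry.OrthAutDich
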