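import Mathlib
import Cfsg.Agent.ClassicalGeometry.PSL2Klein

/-!
# Conjugacy of Klein four-subgroups of PSL₂(F)
-/

set_option autoImplicit false

namespace Cfsg.Agent.ClassicalGeometry.PSL2KleinConj

open Matrix Cfsg.Agent.ClassicalGeometry.QuatPair Cfsg.Agent.ClassicalGeometry.KleinCount
  Cfsg.Agent.ClassicalGeometry.PSL2Klein

variable {F : Type*} [Field F]

local notation "SL2" => Matrix.SpecialLinearGroup (Fin 2)
local notation "PSL2" => Matrix.ProjectiveSpecialLinearGroup (Fin 2)

/-- Conjugation by an element of `GL₂` on `SL₂`. -/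
def cj (g : GL (Fin 2) F) : SL2 F →* SL2 F where
  toFun A := ⟨g.1 * A.1 * g⁻¹.1, by
    have h := congrArg Matrix.det (Units.mul_inv g)
    rw [det_mul, det_one] at h
    rw [det_mul, det_mul, A.2, mul_one, h]⟩
  map_one' := by
    apply Subtype.ext
    show g.1 * (1 : SL2 F).1 * g⁻¹.1 = 1
    rw [Matrix.SpecialLinearGroup.coe_one, mul_one, Units.mul_inv]
  map_mul' A B := by
    apply Subtype.ext
    show g.1 * (A * B).1 * g⁻¹.1 = (g.1 * A.1 * g⁻¹.1) * (g.1 * B.1 * g⁻¹.1)
    rw [Matrix.SpecialLinearGroup.coe_mul]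
    have : g⁻¹.1 * (g.1 * (B.1 * g⁻¹.1)) = B.1 * g⁻¹.1 := by
      rw [← mul_assoc, Units.inv_mul, one_mul]
    simp only [mul_assoc, this]

theorem cj_coe (g : GL (Fin 2) F) (A : SL2 F) : (cj g A).1 = g.1 * A.1 * g⁻¹.1 := rfl

theorem cj_neg (g : GL (Fin 2) F) (A : SL2 F) : cj g (-A) = -cj g A := by
  apply Subtype.ext
  rw [cj_coe, Matrix.SpecialLinearGroup.coe_neg, Matrix.SpecialLinearGroup.coe_neg, cj_coe]
  simp

/-- Conjugation by an element of `GL₂` on `PSL₂`. -/
def cjP (g : GL (Fin 2) F) : PSL2 F →* PSL2 F :=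
  QuotientGroup.map _ _ (cj g) (by
    intro A hA
    rw [Subgroup.mem_comap, mem_center]
    rcases mem_center.mp hA with rfl | rfl
    · left; exact map_one _
    · right; rw [cj_neg, map_one])

theorem cjP_mk (g : GL (Fin 2) F) (A : SL2 F) : cjP g (mk A) = mk (cj g A) := rfl

theorem cjP_mul (g h : GL (Fin 2) F) : cjP (g * h) = (cjP g).comp (cjP h) := by
  refine MonoidHom.ext fun a => ?_
  obtain ⟨A, rfl⟩ := QuotientGroup.mk_surjective a
  show mk (cj (g * h) A) = mk (cj g (cj h A))
  congr 1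
  apply Subtype.ext
  simp only [cj_coe, Units.val_mul, _root_.mul_inv_rev, mul_assoc]

theorem cjP_one : cjP (1 : GL (Fin 2) F) = MonoidHom.id _ := by
  refine MonoidHom.ext fun a => ?_
  obtain ⟨A, rfl⟩ := QuotientGroup.mk_surjective a
  show mk (cj 1 A) = mk A
  congr 1
  apply Subtype.ext
  simp [cj_coe]

theorem map_mul (V : Subgroup (PSL2 F)) (g h : GL (Fin 2) F) :
    V.map (cjP (g * h)) = (V.map (cjP h)).map (cjP g) := by
  rw [cjP_mul, Subgroup.map_map]

theorem map_inv_of_map {V W : Subgroup (PSL2 F)} {g : GL (Fin 2) F} (h : V.map (cjP g) = W) :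
    W.map (cjP g⁻¹) = V := by
  rw [← h, ← map_mul, inv_mul_cancel, cjP_one, Subgroup.map_id]

/-- If the determinant is a square the automorphism is inner. -/
theorem cjP_of_square (g : GL (Fin 2) F) (hg : IsSquare g.1.det) :
    ∃ a : PSL2 F, (MulAut.conj a).toMonoidHom = cjP g := by
  obtain ⟨d, hd⟩ := hg
  have hg0 : g.1.det ≠ 0 := Matrix.GeneralLinearGroup.det_ne_zero g
  have hd0 : d ≠ 0 := by
    rintro rfl
    apply hg0
    rw [hd, mul_zero]
  have hdet : (d⁻¹ • g.1).det = 1 := by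
    rw [det_smul, Fintype.card_fin, hd]
    field_simp
  let S : SL2 F := ⟨d⁻¹ • g.1, hdet⟩
  refine ⟨mk S, ?_⟩
  refine MonoidHom.ext fun a => ?_
  obtain ⟨A, rfl⟩ := QuotientGroup.mk_surjective a
  show mk (S * A * S⁻¹) = mk (cj g A)
  congr 1
  rw [mul_inv_eq_iff_eq_mul]
  apply Subtype.ext
  rw [Matrix.SpecialLinearGroup.coe_mul, Matrix.SpecialLinearGroup.coe_mul, cj_coe]
  show (d⁻¹ • g.1) * A.1 = g.1 * A.1 * g⁻¹.1 * (d⁻¹ • g.1)
  have : g⁻¹.1 * g.1 = 1 := Units.inv_mul g
  rw [mul_smul_comm, smul_mul_assoc, mul_assoc (g.1 * A.1), this, mul_one]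

/-- A homomorphism maps `four` to `four`. -/
theorem map_four {G H : Type*} [Group G] [Group H] (f : G →* H) {x y : G} {x' y' : H}
    (h : CommInv x y) (h' : CommInv x' y') (hx : f x = x') (hy : f y = y') :
    h.four.map f = h'.four := by
  ext a
  rw [Subgroup.mem_map, h'.mem_four]
  constructor
  · rintro ⟨b, hb, rfl⟩
    rcases h.mem_four.mp hb with rfl | rfl | rfl | rfl
    · left; exact map_one f
    · right; left; exact hx
    · right; right; left; exact hy
    · right; right; right; rw [_root_.map_mul, hx, hy]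
  · rintro (rfl | rfl | rfl | rfl)
    · exact ⟨1, h.mem_four.mpr (Or.inl rfl), map_one f⟩
    · exact ⟨x, h.mem_four.mpr (Or.inr (Or.inl rfl)), hx⟩
    · exact ⟨y, h.mem_four.mpr (Or.inr (Or.inr (Or.inl rfl))), hy⟩
    · exact ⟨x * y, h.mem_four.mpr (Or.inr (Or.inr (Or.inr rfl))), by rw [_root_.map_mul, hx, hy]⟩

/-- Klein four-subgroups of PSL₂ in terms of pairs. -/
theorem exists_pair_of_isKleinFour {V : Subgroup (PSL2 F)}
    (hV : IsKleinFour V) : ∃ (A B : SL2 F) (h : CommInv (mk A) (mk B)), h.four = V := by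
  obtain ⟨a, b, h, hab⟩ := exists_commInv_of_isKleinFour hV
  obtain ⟨A, rfl⟩ := QuotientGroup.mk_surjective a
  obtain ⟨B, rfl⟩ := QuotientGroup.mk_surjective b
  exact ⟨A, B, h, hab⟩

theorem cj_eq_of_intertwine {g : GL (Fin 2) F} {A A' : SL2 F} (h : A'.1 * g.1 = g.1 * A.1) :
    cj g A = A' := by
  apply Subtype.ext
  rw [cj_coe, ← h, mul_assoc, Units.mul_inv, mul_one]

/-- `GL₂(F)` is transitive on Klein four-subgroups of `PSL₂(F)`. -/
theorem exists_map_eq (h2 : (2 : F) ≠ 0) {V W : Subgroup (PSL2 F)}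
    (hV : IsKleinFour V) (hW : IsKleinFour W) :
    ∃ g : GL (Fin 2) F, V.map (cjP g) = W := by
  obtain ⟨A, B, h, rfl⟩ := exists_pair_of_isKleinFour hV
  obtain ⟨A', B', h', rfl⟩ := exists_pair_of_isKleinFour hW
  obtain ⟨g, hg, h3, h4⟩ := exists_intertwine h2 ((commInv_iff h2).mp h) ((commInv_iff h2).mp h')
  let g' : GL (Fin 2) F := Matrix.GeneralLinearGroup.mkOfDetNeZero g hg
  refine ⟨g', map_four _ h h' ?_ ?_⟩
  · rw [cjP_mk, cj_eq_of_intertwine (g := g') h3]
  · rw [cjP_mk, cj_eq_of_intertwine (g := g') h4]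

/-- The element `1 + A` normalises `{1, a, b, ab}` and has determinant `2`. -/
theorem exists_normalizer_det_two (h2 : (2 : F) ≠ 0) {A B : SL2 F}
    (h : CommInv (mk A) (mk B)) :
    ∃ g : GL (Fin 2) F, g.1 = 1 + A.1 ∧ g.1.det = 2 ∧ h.four.map (cjP g) = h.four ∧
      cjP g (mk A) = mk A ∧ cjP g (mk B) = mk (A * B) := by
  have hp := (commInv_iff h2).mp h
  have hdet : (1 + A.1).det = 2 := by
    have ht := hp.traceA h2
    have hd := A.2
    rw [trace_fin_two] at ht
    rw [det_fin_two] at hd ⊢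
    simp only [Matrix.add_apply, one_apply_eq, ne_eq, zero_ne_one, not_false_eq_true,
      one_apply_ne, zero_add, one_ne_zero]
    linear_combination ht + hd
  have hd0 : (1 + A.1).det ≠ 0 := by rw [hdet]; exact h2
  let g : GL (Fin 2) F := Matrix.GeneralLinearGroup.mkOfDetNeZero _ hd0
  have hg : g.1 = 1 + A.1 := rfl
  have e1 : cj g A = A := by
    apply cj_eq_of_intertwine
    rw [hg, mul_add, add_mul, mul_one, one_mul]
  have e2 : cj g B = A * B := by
    apply cj_eq_of_intertwine
    rw [hg, Matrix.SpecialLinearGroup.coe_mul, mul_add, add_mul, mul_one, one_mul, mul_assoc,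
      hp.anti', mul_neg, hp.sqA', neg_neg, add_comm]
  have h' : CommInv (mk A) (mk (A * B)) := by
    rw [commInv_iff h2, Matrix.SpecialLinearGroup.coe_mul]
    exact hp.mul
  have e3 : h.four.map (cjP g) = h'.four :=
    map_four _ h h' (by rw [cjP_mk, e1]) (by rw [cjP_mk, e2])
  refine ⟨g, hg, by rw [hg, hdet], ?_, by rw [cjP_mk, e1], by rw [cjP_mk, e2]⟩
  rw [e3]
  exact four_eq_of_isKleinFour h.isKleinFour_four (h.mem_four.mpr (Or.inr (Or.inl rfl)))
    (h.mem_four.mpr (Or.inr (Or.inr (Or.inr rfl)))) h'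

/-- Product of nonsquares is a square in a finite field. -/
theorem isSquare_mul_of_not [Finite F] {a b : F} (ha : ¬ IsSquare a) (hb : ¬ IsSquare b) :
    IsSquare (a * b) := by
  classical
  have := Fintype.ofFinite F
  have hF : ringChar F ≠ 2 := by
    intro h
    exact ha (FiniteField.isSquare_of_char_two h a)
  have ha0 : a ≠ 0 := by rintro rfl; exact ha (IsSquare.zero)
  have hb0 : b ≠ 0 := by rintro rfl; exact hb (IsSquare.zero)
  rw [← quadraticChar_one_iff_isSquare (mul_ne_zero ha0 hb0), _root_.map_mul,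
    (quadraticChar_neg_one_iff_not_isSquare (F := F)).mpr ha,
    (quadraticChar_neg_one_iff_not_isSquare (F := F)).mpr hb]
  norm_num

theorem conj_of_map_square {V W : Subgroup (PSL2 F)} {g : GL (Fin 2) F}
    (h : V.map (cjP g) = W) (hg : IsSquare g.1.det) :
    ∃ a : PSL2 F, W = V.map (MulAut.conj a).toMonoidHom := by
  obtain ⟨a, ha⟩ := cjP_of_square g hg
  exact ⟨a, by rw [ha, h]⟩

/-- One class when `2` is not a square. -/
theorem conj_of_two_not_square [Finite F] (h2 : (2 : F) ≠ 0) (hns : ¬ IsSquare (2 : F))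
    {V W : Subgroup (PSL2 F)} (hV : IsKleinFour V) (hW : IsKleinFour W) :
    ∃ a : PSL2 F, W = V.map (MulAut.conj a).toMonoidHom := by
  obtain ⟨g, hg⟩ := exists_map_eq h2 hV hW
  by_cases hs : IsSquare g.1.det
  · exact conj_of_map_square hg hs
  · obtain ⟨A, B, h, rfl⟩ := exists_pair_of_isKleinFour hV
    obtain ⟨n, -, hn, hmap, -, -⟩ := exists_normalizer_det_two h2 h
    apply conj_of_map_square (g := g * n)
    · rw [map_mul, hmap, hg]
    · rw [Units.val_mul, det_mul, hn]
      exact isSquare_mul_of_not hs hns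

/-- If all Klein four-subgroups are conjugate then their number is the index of the
normaliser. -/
theorem index_normalizer_eq {G : Type*} [Group G] {V : Subgroup G} (hV : IsKleinFour V)
    (hall : ∀ W : Subgroup G, IsKleinFour W → ∃ a : G, W = V.map (MulAut.conj a).toMonoidHom) :
    (Subgroup.normalizer (V : Set G)).index = Nat.card {W : Subgroup G // IsKleinFour W} := by
  have hmapK : ∀ a : G, IsKleinFour (V.map (MulAut.conj a).toMonoidHom) := by
    intro a
    have e : V ≃* V.map (MulAut.conj a).toMonoidHom :=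
      V.equivMapOfInjective _ (MulAut.conj a).injective
    exact ⟨by rw [← Nat.card_congr e.toEquiv, hV.card_four],
      by rw [← Monoid.exponent_eq_of_mulEquiv e, hV.exponent_two]⟩
  have hmm : ∀ a b : G, V.map (MulAut.conj (a * b)).toMonoidHom =
      (V.map (MulAut.conj b).toMonoidHom).map (MulAut.conj a).toMonoidHom := by
    intro a b
    rw [Subgroup.map_map, _root_.map_mul]
    rfl
  have hinj : ∀ a : G, Function.Injective
      (fun W : Subgroup G => W.map (MulAut.conj a).toMonoidHom) := by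
    intro a
    exact Subgroup.map_injective (MulAut.conj a).injective
  have hmem : ∀ a : G, a ∈ Subgroup.normalizer (V : Set G) ↔
      V.map (MulAut.conj a).toMonoidHom = V := by
    intro a
    exact Subgroup.mem_normalizer_iff_map_conj_eq
  rw [Subgroup.index]
  have hwd : ∀ a b : G, (QuotientGroup.leftRel (Subgroup.normalizer (V : Set G))) a b →
      (⟨V.map (MulAut.conj a).toMonoidHom, hmapK a⟩ : {W : Subgroup G // IsKleinFour W}) =
      ⟨V.map (MulAut.conj b).toMonoidHom, hmapK b⟩ := by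
    intro a b hab
    rw [QuotientGroup.leftRel_apply, hmem] at hab
    apply Subtype.ext
    show V.map (MulAut.conj a).toMonoidHom = V.map (MulAut.conj b).toMonoidHom
    have := hmm a (a⁻¹ * b)
    rw [hab, mul_inv_cancel_left] at this
    exact this.symm
  refine Nat.card_eq_of_bijective (fun x => Quotient.liftOn' x (fun a =>
      (⟨V.map (MulAut.conj a).toMonoidHom, hmapK a⟩ : {W : Subgroup G // IsKleinFour W}))
      hwd) ⟨?_, ?_⟩
  · intro x y
    refine Quotient.inductionOn₂' x y fun a b h => ?_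
    have h' : V.map (MulAut.conj a).toMonoidHom = V.map (MulAut.conj b).toMonoidHom :=
      congrArg Subtype.val h
    apply Quotient.sound'
    rw [QuotientGroup.leftRel_apply, hmem]
    apply hinj a
    show (V.map (MulAut.conj (a⁻¹ * b)).toMonoidHom).map (MulAut.conj a).toMonoidHom =
      V.map (MulAut.conj a).toMonoidHom
    rw [← hmm, mul_inv_cancel_left, h']
  · rintro ⟨W, hW⟩
    obtain ⟨a, ha⟩ := hall W hW
    exact ⟨Quotient.mk'' a, Subtype.ext ha.symm⟩

/-- Eight divides the order of the normaliser. -/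
theorem eight_dvd_card_normalizer {G : Type*} [Group G] {V : Subgroup G} (hV : IsKleinFour V)
    {s : G} (hs : s ∈ Subgroup.normalizer (V : Set G)) (hss : s * s ∈ V) (hsV : s ∉ V) :
    8 ∣ Nat.card (Subgroup.normalizer (V : Set G)) := by
  set N := Subgroup.normalizer (V : Set G) with hN
  have hle : V ≤ N := Subgroup.le_normalizer
  have hnorm : (V.subgroupOf N).Normal := Subgroup.normal_in_normalizer
  have h1 := Subgroup.card_eq_card_quotient_mul_card_subgroup (V.subgroupOf N)
  have h2 : Nat.card (V.subgroupOf N) = 4 := by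
    rw [Nat.card_congr (Subgroup.subgroupOfEquivOfLe hle).toEquiv, hV.card_four]
  have h3 : 2 ∣ Nat.card (N ⧸ V.subgroupOf N) := by
    let x : N ⧸ V.subgroupOf N := QuotientGroup.mk ⟨s, hs⟩
    have hx1 : x ≠ 1 := by
      intro h
      rw [QuotientGroup.eq_one_iff, Subgroup.mem_subgroupOf] at h
      exact hsV h
    have hx2 : x ^ 2 = 1 := by
      rw [pow_two]
      show QuotientGroup.mk ((⟨s, hs⟩ : N) * ⟨s, hs⟩) = (1 : N ⧸ V.subgroupOf N)
      rw [QuotientGroup.eq_one_iff, Subgroup.mem_subgroupOf]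
      exact hss
    have := orderOf_eq_prime hx2 hx1
    rw [← this]
    exact orderOf_dvd_natCard x
  rw [h1, h2]
  obtain ⟨k, hk⟩ := h3
  exact ⟨k, by rw [hk]; ring⟩

/-- If `2` is a square then not all Klein four-subgroups are conjugate. -/
theorem exists_not_conj [Finite F] (h2 : (2 : F) ≠ 0) (hs : IsSquare (2 : F))
    {V : Subgroup (PSL2 F)} (hV : IsKleinFour V) :
    ∃ W : Subgroup (PSL2 F), IsKleinFour W ∧
      ¬ ∃ a : PSL2 F, W = V.map (MulAut.conj a).toMonoidHom := by
  by_contra hcon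
  push Not at hcon
  have hidx := index_normalizer_eq hV hcon
  obtain ⟨A, B, h, hAB⟩ := exists_pair_of_isKleinFour hV
  obtain ⟨n, hn1, hn, hmap, hnA, hnB⟩ := exists_normalizer_det_two h2 h
  rw [hAB] at hmap
  obtain ⟨d, hd⟩ := hs
  have hd0 : d ≠ 0 := by
    rintro rfl
    apply h2
    rw [hd, mul_zero]
  have hdet : (d⁻¹ • n.1).det = 1 := by
    rw [det_smul, Fintype.card_fin, hn, hd]
    field_simp
  let S : SL2 F := ⟨d⁻¹ • n.1, hdet⟩
  have hp := (commInv_iff h2).mp h
  -- `S² = A`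
  have hSS : S * S = A := by
    apply Subtype.ext
    rw [Matrix.SpecialLinearGroup.coe_mul]
    show (d⁻¹ • n.1) * (d⁻¹ • n.1) = A.1
    rw [hn1, smul_mul_smul_comm, add_mul, mul_add, mul_add, hp.sqA, one_mul, one_mul, mul_one]
    have : (1 : Matrix (Fin 2) (Fin 2) F) + A.1 + (A.1 + -1) = (2 : F) • A.1 := by
      rw [two_smul]; abel
    rw [this, smul_smul, hd]
    have : d⁻¹ * d⁻¹ * (d * d) = 1 := by field_simp
    rw [this, one_smul]
  -- `S` normalises `V`
  have hmapS : V.map (MulAut.conj (mk S)).toMonoidHom = V := by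
    have he : (MulAut.conj (mk S)).toMonoidHom = cjP n := by
      refine MonoidHom.ext fun a => ?_
      obtain ⟨C, rfl⟩ := QuotientGroup.mk_surjective a
      show mk (S * C * S⁻¹) = mk (cj n C)
      congr 1
      rw [mul_inv_eq_iff_eq_mul]
      apply Subtype.ext
      rw [Matrix.SpecialLinearGroup.coe_mul, Matrix.SpecialLinearGroup.coe_mul, cj_coe]
      show (d⁻¹ • n.1) * C.1 = n.1 * C.1 * n⁻¹.1 * (d⁻¹ • n.1)
      have : n⁻¹.1 * n.1 = 1 := Units.inv_mul n
      rw [mul_smul_comm, smul_mul_assoc, mul_assoc (n.1 * C.1), this, mul_one]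
    rw [he, hmap]
  have hmemN : mk S ∈ Subgroup.normalizer (V : Set (PSL2 F)) :=
    Subgroup.mem_normalizer_iff_map_conj_eq.mpr hmapS
  have hSSV : mk S * mk S ∈ V := by
    show mk (S * S) ∈ V
    rw [hSS, ← hAB, h.mem_four]
    right; left; rfl
  have hSV : mk S ∉ V := by
    intro hmem
    have h3 := sq_of_isKleinFour hV hmem
    have h4 : mk (S * S) = 1 := h3
    rw [hSS] at h4
    exact h.hx h4
  have h8 := eight_dvd_card_normalizer hV hmemN hSSV hSV
  have hc := card_klein (F := F) h2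
  have hm := (Subgroup.normalizer (V : Set (PSL2 F))).card_mul_index
  rw [hidx, ← hc] at hm
  have hpos : 0 < Nat.card {W : Subgroup (PSL2 F) // IsKleinFour W} := by
    have : Nonempty {W : Subgroup (PSL2 F) // IsKleinFour W} := ⟨⟨V, hV⟩⟩
    exact Nat.card_pos
  have h12 := Nat.eq_of_mul_eq_mul_right hpos hm
  rw [h12] at h8
  revert h8
  decide

/-- Existence of Klein four-subgroups in `PSL₂(F)`, `F` finite of characteristic ≠ 2. -/
theorem exists_isKleinFour [Finite F] (h2 : (2 : F) ≠ 0) :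
    ∃ V : Subgroup (PSL2 F), IsKleinFour V := by
  obtain ⟨A, B, h⟩ := exists_isPair (F := F) h2
  have h' : CommInv (mk (⟨A, IsPair.det_left h2 h⟩ : SL2 F))
      (mk (⟨B, IsPair.det_left h2 h.symm⟩ : SL2 F)) := (commInv_iff h2).mpr h
  exact ⟨h'.four, h'.isKleinFour_four⟩

end Cfsg.Agent.ClassicalGeometry.PSL2KleinConj
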