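import Cfsg.Agent.ClassicalGeometry.SL2Line

/-!
# Counting fixed points of subgroups of the Borel subgroup of `SL₂(F)`

For a subgroup `K` of upper triangular matrices containing `-1`, with `u` translations and `d` the
number of `ε ∈ F` with `ε ^ 2 = 1`:
`(∑ k : K, fixP k) + d * u = 2 * |K| + q * d`.
-/

set_option autoImplicit false
set_option linter.unusedSectionVars false
set_option linter.unusedSimpArgs false

namespace Cfsg.Agent.ClassicalGeometry.SL2Borel

open Matrix OnePoint
open Cfsg.Agent.ClassicalGeometry.SL2Line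

variable {F : Type*} [Field F]

/-- The square roots of one. -/
def Sq1 (F : Type*) [Field F] : Type _ := {e : F // e * e = 1}

/-- The number of square roots of one. -/
noncomputable def dd (F : Type*) [Field F] : ℕ := Nat.card (Sq1 F)

/-- The matrix `[[1, b], [0, 1]]`. -/
def uni (b : F) : SpecialLinearGroup (Fin 2) F := mk 1 b 0 1 (by ring)

/-- The scalar matrix of a square root of one. -/
def scal (e : F) (he : e * e = 1) : SpecialLinearGroup (Fin 2) F := mk e 0 0 e (by rw [he]; ring)

theorem uni_add (a b : F) : uni (a + b) = uni a * uni b := by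
  apply sl_ext <;> rw [sl_mul_apply] <;> simp [uni, mk_00, mk_01, mk_10, mk_11, add_comm]

theorem uni_zero : uni (0 : F) = 1 := by
  apply sl_ext <;> rw [sl_one_apply] <;> simp [uni, mk_00, mk_01, mk_10, mk_11]

theorem uni_neg (b : F) : uni (-b) = (uni b)⁻¹ := by
  rw [eq_inv_iff_mul_eq_one, ← uni_add, neg_add_cancel, uni_zero]

/-- The group of translations in a subgroup. -/
def trans (K : Subgroup (SpecialLinearGroup (Fin 2) F)) : AddSubgroup F where
  carrier := {b | uni b ∈ K}
  zero_mem' := by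
    change uni 0 ∈ K
    rw [uni_zero]
    exact K.one_mem
  add_mem' {a b} ha hb := by
    change uni (a + b) ∈ K
    rw [uni_add]
    exact K.mul_mem ha hb
  neg_mem' {a} ha := by
    change uni (-a) ∈ K
    rw [uni_neg]
    exact K.inv_mem ha

theorem mem_trans {K : Subgroup (SpecialLinearGroup (Fin 2) F)} {b : F} :
    b ∈ trans K ↔ uni b ∈ K := Iff.rfl

theorem sq1_cases {e : F} (he : e * e = 1) : e = 1 ∨ e = -1 := by
  have : (e - 1) * (e + 1) = 0 := by linear_combination he
  rcases mul_eq_zero.1 this with h | h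
  · left; exact sub_eq_zero.1 h
  · right; exact eq_neg_of_add_eq_zero_left h

theorem sl_neg_apply (i j : Fin 2) (g : SpecialLinearGroup (Fin 2) F) : (-g) i j = - g i j := by
  rw [Matrix.SpecialLinearGroup.coe_neg, Matrix.neg_apply]

theorem scal_mem {K : Subgroup (SpecialLinearGroup (Fin 2) F)}
    (hneg : (-1 : SpecialLinearGroup (Fin 2) F) ∈ K) {e : F} (he : e * e = 1) :
    scal e he ∈ K := by
  rcases sq1_cases he with rfl | rfl
  · have : scal (1 : F) he = 1 := by
      apply sl_ext <;> rw [sl_one_apply] <;> simp [scal, mk_00, mk_01, mk_10, mk_11]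
    rw [this]
    exact K.one_mem
  · have : scal (-1 : F) he = -1 := by
      apply sl_ext <;> rw [sl_neg_apply, sl_one_apply] <;> simp [scal, mk_00, mk_01, mk_10, mk_11]
    rw [this]
    exact hneg

theorem scal_mul_uni_00 (e b : F) (he : e * e = 1) : (scal e he * uni b) 0 0 = e := by
  rw [sl_mul_apply]; simp [scal, uni, mk_00, mk_01, mk_10, mk_11]
theorem scal_mul_uni_01 (e b : F) (he : e * e = 1) : (scal e he * uni b) 0 1 = e * b := by
  rw [sl_mul_apply]; simp [scal, uni, mk_00, mk_01, mk_10, mk_11]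
theorem scal_mul_uni_10 (e b : F) (he : e * e = 1) : (scal e he * uni b) 1 0 = 0 := by
  rw [sl_mul_apply]; simp [scal, uni, mk_00, mk_01, mk_10, mk_11]
theorem scal_mul_uni_11 (e b : F) (he : e * e = 1) : (scal e he * uni b) 1 1 = e := by
  rw [sl_mul_apply]; simp [scal, uni, mk_00, mk_01, mk_10, mk_11]

theorem card_W {K : Subgroup (SpecialLinearGroup (Fin 2) F)}
    (hneg : (-1 : SpecialLinearGroup (Fin 2) F) ∈ K)
    (hK : ∀ k ∈ K, k 1 0 = 0) :
    Nat.card {k : SpecialLinearGroup (Fin 2) F // k ∈ K ∧ k 0 0 = k 1 1} =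
      dd F * Nat.card (trans K) := by
  rw [dd, ← Nat.card_prod]
  symm
  refine Nat.card_congr (Equiv.ofBijective
    (fun p => ⟨scal p.1.1 p.1.2 * uni p.2.1, K.mul_mem (scal_mem hneg p.1.2) p.2.2, by
      rw [scal_mul_uni_00, scal_mul_uni_11]⟩) ⟨?_, ?_⟩)
  · rintro ⟨⟨e, he⟩, ⟨b, hb⟩⟩ ⟨⟨e', he'⟩, ⟨b', hb'⟩⟩ h
    have h0 := congrArg Subtype.val h
    have h1 := congrArg (fun m : SpecialLinearGroup (Fin 2) F => m 0 0) h0
    have h2 := congrArg (fun m : SpecialLinearGroup (Fin 2) F => m 0 1) h0
    simp only [scal_mul_uni_00, scal_mul_uni_01] at h1 h2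
    subst h1
    have he0 : e ≠ 0 := by
      rintro rfl
      simp at he
    have h3 : b = b' := mul_left_cancel₀ he0 h2
    subst h3
    rfl
  · rintro ⟨k, hk, hkk⟩
    have h10 := hK k hk
    have hdet := det_eq k
    rw [h10, ← hkk, mul_zero, sub_zero] at hdet
    have hk' : k = scal (k 0 0) hdet * uni (k 0 0 * k 0 1) := by
      apply sl_ext
      · rw [scal_mul_uni_00]
      · rw [scal_mul_uni_01, ← mul_assoc, hdet, one_mul]
      · rw [scal_mul_uni_10, h10]
      · rw [scal_mul_uni_11, hkk]
    refine ⟨⟨⟨k 0 0, hdet⟩, ⟨k 0 0 * k 0 1, ?_⟩⟩, ?_⟩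
    · rw [mem_trans]
      have h2 := K.mul_mem (K.inv_mem (scal_mem hneg hdet)) hk
      have h3 : (scal (k 0 0) hdet)⁻¹ * k = uni (k 0 0 * k 0 1) := by
        rw [inv_mul_eq_iff_eq_mul]
        exact hk'
      rwa [h3] at h2
    · apply Subtype.ext
      exact hk'.symm

theorem card_scal {K : Subgroup (SpecialLinearGroup (Fin 2) F)}
    (hneg : (-1 : SpecialLinearGroup (Fin 2) F) ∈ K)
    (hK : ∀ k ∈ K, k 1 0 = 0) :
    Nat.card {k : SpecialLinearGroup (Fin 2) F // k ∈ K ∧ (k 0 0 = k 1 1 ∧ k 0 1 = 0)} = dd F := by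
  rw [dd]
  symm
  refine Nat.card_congr (Equiv.ofBijective
    (fun p => ⟨scal p.1 p.2, scal_mem hneg p.2, rfl, rfl⟩) ⟨?_, ?_⟩)
  · rintro ⟨e, he⟩ ⟨e', he'⟩ h
    have h0 := congrArg Subtype.val h
    have h1 := congrArg (fun m : SpecialLinearGroup (Fin 2) F => m 0 0) h0
    simp only [scal, mk_00] at h1
    subst h1
    rfl
  · rintro ⟨k, hk, hkk, h01⟩
    have h10 := hK k hk
    have hdet := det_eq k
    rw [h10, ← hkk, mul_zero, sub_zero] at hdet
    refine ⟨⟨k 0 0, hdet⟩, ?_⟩
    apply Subtype.ext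
    apply sl_ext
    · rfl
    · exact h01.symm
    · exact h10.symm
    · exact hkk

/-- `dd F` is one for `q` even and two for `q` odd. -/
theorem dd_cases [Finite F] :
    (dd F = 1 ∧ Even (Nat.card F)) ∨ (dd F = 2 ∧ Odd (Nat.card F)) := by
  have := Fintype.ofFinite F
  by_cases h : (1 : F) = -1
  · left
    constructor
    · rw [dd, Nat.card_eq_one_iff_unique]
      refine ⟨⟨?_⟩, ⟨⟨1, one_mul 1⟩⟩⟩
      rintro ⟨a, ha⟩ ⟨b, hb⟩
      apply Subtype.ext
      change a = b
      rcases sq1_cases ha with rfl | rfl <;> rcases sq1_cases hb with rfl | rfl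
      · rfl
      · exact h
      · exact h.symm
      · rfl
    · rw [Nat.card_eq_fintype_card, Nat.even_iff]
      have h2 : ringChar F = 2 := by
        by_contra h2
        exact Ring.neg_one_ne_one_of_char_ne_two h2 h.symm
      exact FiniteField.even_card_iff_char_two.1 h2
  · right
    constructor
    · rw [dd, Nat.card_eq_two_iff]
      refine ⟨⟨1, one_mul 1⟩, ⟨-1, by ring⟩, ?_, ?_⟩
      · intro h'
        exact h (congrArg Subtype.val h')
      · refine Set.eq_univ_of_forall ?_
        rintro ⟨a, ha⟩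
        rcases sq1_cases ha with rfl | rfl
        · exact Or.inl rfl
        · exact Or.inr rfl
    · rw [Nat.card_eq_fintype_card, ← Nat.not_even_iff_odd, Nat.even_iff]
      intro h2
      rw [← FiniteField.even_card_iff_char_two] at h2
      apply h
      have : CharP F 2 := by rw [← h2]; exact ringChar.charP F
      exact (CharTwo.neg_eq 1).symm

theorem card_trans_dvd [Finite F] (K : Subgroup (SpecialLinearGroup (Fin 2) F)) :
    Nat.card (trans K) ∣ Nat.card F :=
  AddSubgroup.card_addSubgroup_dvd_card _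

/-- If `K` has no translation, then `K` embeds in the multiplicative group. -/
theorem card_le_of_trans_eq_one [Finite F] {K : Subgroup (SpecialLinearGroup (Fin 2) F)}
    (hK : ∀ k ∈ K, k 1 0 = 0) (h1 : Nat.card (trans K) = 1) : Nat.card K ≤ Nat.card F - 1 := by
  have hne : ∀ k ∈ K, k 0 0 ≠ 0 := by
    intro k hk h0
    have := det_eq k
    rw [h0, hK k hk] at this
    simp at this
  let f : K → Fˣ := fun k => Units.mk0 (k.1 0 0) (hne k.1 k.2)
  have hf : Function.Injective f := by
    rintro ⟨k, hk⟩ ⟨k', hk'⟩ h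
    have h00 : k 0 0 = k' 0 0 := congrArg Units.val h
    have hd := det_eq k
    have hd' := det_eq k'
    rw [hK k hk, mul_zero, sub_zero] at hd
    rw [hK k' hk', mul_zero, sub_zero, ← h00] at hd'
    have h11 : k 1 1 = k' 1 1 := mul_left_cancel₀ (hne k hk) (hd.trans hd'.symm)
    -- `k' = k * uni b`
    have key : k' = k * uni (k 1 1 * (k' 0 1 - k 0 1)) := by
      apply sl_ext <;> rw [sl_mul_apply] <;> simp only [uni, mk_00, mk_01, mk_10, mk_11]
      · rw [h00]; ring
      · linear_combination (-(k' 0 1 - k 0 1)) * hd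
      · rw [hK k hk, hK k' hk']; ring
      · rw [hK k hk, h11]; ring
    have hmem : k 1 1 * (k' 0 1 - k 0 1) ∈ trans K := by
      rw [mem_trans]
      have h2 := K.mul_mem (K.inv_mem hk) hk'
      have h3 : k⁻¹ * k' = uni (k 1 1 * (k' 0 1 - k 0 1)) := by
        rw [inv_mul_eq_iff_eq_mul]
        exact key
      rwa [h3] at h2
    have h4 : k 1 1 * (k' 0 1 - k 0 1) = 0 := by
      have := (AddSubgroup.card_eq_one.1 h1) ▸ hmem
      exact this
    apply Subtype.ext
    change k = k'
    rw [key, h4, uni_zero, mul_one]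
  have h2 := Nat.card_le_card_of_injective f hf
  rwa [Nat.card_units] at h2

theorem sum_subgroup {G M : Type*} [Group G] [Fintype G] [AddCommMonoid M] (H : Subgroup G)
    [DecidablePred (· ∈ H)] [Fintype H] (f : G → M) :
    ∑ h : H, f h = ∑ g : G, if g ∈ H then f g else 0 := by
  rw [← Finset.sum_filter]
  exact (Finset.sum_subtype (p := fun g => g ∈ H) (Finset.univ.filter (· ∈ H)) (by simp) f).symm

theorem sum_indicator {G : Type*} [Fintype G] (p r : G → Prop) [DecidablePred p] [DecidablePred r]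
    (c : ℕ) : ∑ g : G, (if p g then (if r g then c else 0) else 0) =
      Nat.card {g : G // p g ∧ r g} * c := by
  simp_rw [← ite_and]
  rw [← Finset.sum_filter, Finset.sum_const, smul_eq_mul, Nat.card_eq_fintype_card,
    Fintype.card_subtype]

variable [DecidableEq F] [Finite F]

/-- The sum of the fixed point numbers over a subgroup of the Borel subgroup. -/
theorem sum_fixP {K : Subgroup (SpecialLinearGroup (Fin 2) F)} [Fintype K]
    (hneg : (-1 : SpecialLinearGroup (Fin 2) F) ∈ K)
    (hK : ∀ k ∈ K, k 1 0 = 0) :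
    ∑ k : K, fixP (k : SpecialLinearGroup (Fin 2) F) + dd F * Nat.card (trans K) =
      2 * Nat.card K + Nat.card F * dd F := by
  classical
  have := Fintype.ofFinite (SpecialLinearGroup (Fin 2) F)
  rw [← card_W hneg hK]
  have h1 := sum_subgroup K (fun g => fixP g + (if g 0 0 = g 1 1 then 1 else 0))
  have h2 : ∀ g : SpecialLinearGroup (Fin 2) F,
      (if g ∈ K then (fixP g + (if g 0 0 = g 1 1 then 1 else 0)) else 0) =
      (if g ∈ K then 2 else 0) + (if g ∈ K then
        (if g 0 0 = g 1 1 ∧ g 0 1 = 0 then Nat.card F else 0) else 0) := by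
    intro g
    by_cases hg : g ∈ K
    · rw [if_pos hg, if_pos hg, if_pos hg]
      exact fixP_of_upper g (hK g hg)
    · rw [if_neg hg, if_neg hg, if_neg hg]
  simp_rw [h2] at h1
  rw [Finset.sum_add_distrib, Finset.sum_add_distrib, sum_indicator, card_scal hneg hK,
    sum_subgroup K (fun g => if g 0 0 = g 1 1 then 1 else 0), sum_indicator, mul_one,
    ← Finset.sum_filter, Finset.sum_const, smul_eq_mul] at h1
  rw [h1, mul_comm (dd F)]
  congr 1
  rw [mul_comm, Nat.card_eq_fintype_card, Fintype.card_subtype]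

end Cfsg.Agent.ClassicalGeometry.SL2Borel
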