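import Mathlib

/-!
# Fixed points of `SL₂(F)` on the projective line and on `E ∖ F`, `E/F` quadratic

`F` a finite field with `q` elements, `E` a quadratic extension.
* `slLineAction`: the Möbius action of `SL₂(F)` on `OnePoint F`;
* `Outer F E`: the elements of `E` outside `F`, with the Möbius action `outerAction`;
* `card_fix_sq_add_two`: for every `g ∈ SL₂(F)`, with `a` fixed points on the projective line and
  `b` fixed points on `E ∖ F`:  `a ^ 2 + 2 = 3 * a + b`.
-/

set_option autoImplicit false
set_option linter.unusedSectionVars false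

namespace Cfsg.Agent.ClassicalGeometry.SL2Line

open Matrix OnePoint

section Line

variable {F : Type*} [Field F]

theorem det_eq (g : SpecialLinearGroup (Fin 2) F) : g 0 0 * g 1 1 - g 0 1 * g 1 0 = 1 := by
  rw [← Matrix.det_fin_two, g.det_coe]

theorem sl_mul_apply (g h : SpecialLinearGroup (Fin 2) F) (i j : Fin 2) :
    (g * h) i j = g i 0 * h 0 j + g i 1 * h 1 j := by
  rw [Matrix.SpecialLinearGroup.coe_mul, Matrix.mul_apply, Fin.sum_univ_two]

theorem sl_one_apply (i j : Fin 2) :
    (1 : SpecialLinearGroup (Fin 2) F) i j = if i = j then 1 else 0 := by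
  rw [Matrix.SpecialLinearGroup.coe_one, Matrix.one_apply]

/-- The element of `SL₂(F)` with given entries. -/
def mk (a b c d : F) (h : a * d - b * c = 1) : SpecialLinearGroup (Fin 2) F :=
  ⟨!![a, b; c, d], by rw [Matrix.det_fin_two_of, h]⟩

theorem mk_00 (a b c d : F) (h : a * d - b * c = 1) : mk a b c d h 0 0 = a := rfl
theorem mk_01 (a b c d : F) (h : a * d - b * c = 1) : mk a b c d h 0 1 = b := rfl
theorem mk_10 (a b c d : F) (h : a * d - b * c = 1) : mk a b c d h 1 0 = c := rfl
theorem mk_11 (a b c d : F) (h : a * d - b * c = 1) : mk a b c d h 1 1 = d := rfl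

theorem sl_ext {g h : SpecialLinearGroup (Fin 2) F} (h00 : g 0 0 = h 0 0) (h01 : g 0 1 = h 0 1)
    (h10 : g 1 0 = h 1 0) (h11 : g 1 1 = h 1 1) : g = h := by
  apply Matrix.SpecialLinearGroup.ext
  intro i j
  fin_cases i <;> fin_cases j <;> assumption

variable [DecidableEq F]

/-- Möbius action of `SL₂(F)` on the projective line `OnePoint F`. -/
abbrev slLineAction : MulAction (SpecialLinearGroup (Fin 2) F) (OnePoint F) :=
  MulAction.compHom (OnePoint F) (SpecialLinearGroup.toGL (n := Fin 2) (R := F))

attribute [local instance] slLineAction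

theorem sl_smul_def (g : SpecialLinearGroup (Fin 2) F) (x : OnePoint F) :
    g • x = (SpecialLinearGroup.toGL g : GL (Fin 2) F) • x := rfl

theorem sl_smul_infty (g : SpecialLinearGroup (Fin 2) F) :
    g • (∞ : OnePoint F) = if g 1 0 = 0 then (∞ : OnePoint F) else ((g 0 0 / g 1 0 : F) : OnePoint F) := by
  rw [sl_smul_def, OnePoint.smul_infty_eq_ite]
  rfl

theorem sl_smul_infty_eq_iff (g : SpecialLinearGroup (Fin 2) F) :
    g • (∞ : OnePoint F) = ∞ ↔ g 1 0 = 0 := by
  rw [sl_smul_infty]
  split_ifs with h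
  · simp [h]
  · simp [h]

theorem sl_smul_coe_eq_iff (g : SpecialLinearGroup (Fin 2) F) (t : F) :
    g • (t : OnePoint F) = t ↔ g 1 0 * t ^ 2 + (g 1 1 - g 0 0) * t - g 0 1 = 0 := by
  rw [sl_smul_def, ← Matrix.GeneralLinearGroup.fixpointPolynomial_aeval_eq_zero_iff]
  simp only [Matrix.GeneralLinearGroup.fixpointPolynomial, map_sub, map_mul, map_add,
    Polynomial.aeval_X_pow, Polynomial.aeval_C, Polynomial.aeval_X,
    Algebra.algebraMap_self_apply]
  rfl

theorem exists_smul_infty (x : OnePoint F) :
    ∃ g : SpecialLinearGroup (Fin 2) F, g • (∞ : OnePoint F) = x := by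
  cases x with
  | infty => exact ⟨1, one_smul _ _⟩
  | coe t =>
    refine ⟨mk t (-1) 1 0 (by ring), ?_⟩
    rw [sl_smul_infty, mk_10, mk_00, if_neg one_ne_zero, div_one]

end Line

section Outer

variable (F E : Type*) [Field F] [Field E] [Algebra F E]

/-- The elements of `E` outside `F`. -/
def Outer : Type _ := {z : E // ∀ t : F, algebraMap F E t ≠ z}

variable {F E}

theorem lin_ne_zero {z : E} (hz : ∀ t : F, algebraMap F E t ≠ z) {c d : F}
    (h : c ≠ 0 ∨ d ≠ 0) : algebraMap F E c * z + algebraMap F E d ≠ 0 := by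
  intro h0
  by_cases hc : c = 0
  · subst hc
    rw [map_zero, zero_mul, zero_add, map_eq_zero] at h0
    simp [h0] at h
  · apply hz (-d / c)
    have hc' : algebraMap F E c ≠ 0 := by simpa using hc
    rw [map_div₀, map_neg]
    field_simp
    linear_combination -h0

theorem lin_eq_zero {z : E} (hz : ∀ t : F, algebraMap F E t ≠ z) {c d : F}
    (h : algebraMap F E c * z + algebraMap F E d = 0) : c = 0 ∧ d = 0 := by
  by_contra hcd
  exact lin_ne_zero hz (by tauto) h

theorem denom_ne_zero (g : SpecialLinearGroup (Fin 2) F) {z : E}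
    (hz : ∀ t : F, algebraMap F E t ≠ z) :
    algebraMap F E (g 1 0) * z + algebraMap F E (g 1 1) ≠ 0 := by
  apply lin_ne_zero hz
  by_contra h
  push Not at h
  have := det_eq g
  rw [h.1, h.2] at this
  simp at this

theorem moebius_outer (g : SpecialLinearGroup (Fin 2) F) {z : E}
    (hz : ∀ t : F, algebraMap F E t ≠ z) (t : F) :
    algebraMap F E t ≠ (algebraMap F E (g 0 0) * z + algebraMap F E (g 0 1)) /
      (algebraMap F E (g 1 0) * z + algebraMap F E (g 1 1)) := by
  intro h
  rw [eq_div_iff (denom_ne_zero g hz)] at h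
  have h2 := lin_eq_zero hz (c := t * g 1 0 - g 0 0) (d := t * g 1 1 - g 0 1) (by
    simp only [map_sub, map_mul]
    linear_combination h)
  have := det_eq g
  rw [← sub_eq_zero.1 h2.1, ← sub_eq_zero.1 h2.2] at this
  have h3 : (0 : F) = 1 := by linear_combination this
  exact zero_ne_one h3

/-- Möbius action of `SL₂(F)` on `E ∖ F`. -/
abbrev outerAction : MulAction (SpecialLinearGroup (Fin 2) F) (Outer F E) where
  smul g z := ⟨(algebraMap F E (g 0 0) * z.1 + algebraMap F E (g 0 1)) /
      (algebraMap F E (g 1 0) * z.1 + algebraMap F E (g 1 1)), moebius_outer g z.2⟩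
  one_smul z := by
    apply Subtype.ext
    change (algebraMap F E ((1 : SpecialLinearGroup (Fin 2) F) 0 0) * z.1 +
      algebraMap F E ((1 : SpecialLinearGroup (Fin 2) F) 0 1)) /
      (algebraMap F E ((1 : SpecialLinearGroup (Fin 2) F) 1 0) * z.1 +
        algebraMap F E ((1 : SpecialLinearGroup (Fin 2) F) 1 1)) = z.1
    simp
  mul_smul g h z := by
    apply Subtype.ext
    have h1 := denom_ne_zero h z.2
    have h2 := denom_ne_zero (g * h) z.2
    have h3 := denom_ne_zero g (moebius_outer h z.2)
    change (algebraMap F E ((g * h) 0 0) * z.1 + algebraMap F E ((g * h) 0 1)) /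
      (algebraMap F E ((g * h) 1 0) * z.1 + algebraMap F E ((g * h) 1 1)) =
      (algebraMap F E (g 0 0) * ((algebraMap F E (h 0 0) * z.1 + algebraMap F E (h 0 1)) /
      (algebraMap F E (h 1 0) * z.1 + algebraMap F E (h 1 1))) + algebraMap F E (g 0 1)) /
      (algebraMap F E (g 1 0) * ((algebraMap F E (h 0 0) * z.1 + algebraMap F E (h 0 1)) /
      (algebraMap F E (h 1 0) * z.1 + algebraMap F E (h 1 1))) + algebraMap F E (g 1 1))
    rw [div_eq_div_iff h2 h3, sl_mul_apply, sl_mul_apply, sl_mul_apply, sl_mul_apply]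
    simp only [map_add, map_mul]
    field_simp
    ring

attribute [local instance] outerAction

theorem outer_smul_val (g : SpecialLinearGroup (Fin 2) F) (z : Outer F E) :
    (g • z).1 = (algebraMap F E (g 0 0) * z.1 + algebraMap F E (g 0 1)) /
      (algebraMap F E (g 1 0) * z.1 + algebraMap F E (g 1 1)) := rfl

theorem outer_smul_eq_iff (g : SpecialLinearGroup (Fin 2) F) (z : Outer F E) :
    g • z = z ↔ algebraMap F E (g 1 0) * z.1 ^ 2 + algebraMap F E (g 1 1 - g 0 0) * z.1
      - algebraMap F E (g 0 1) = 0 := by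
  have : g • z = z ↔ (g • z).1 = z.1 := ⟨fun h => by rw [h], fun h => Subtype.ext h⟩
  rw [this, outer_smul_val, div_eq_iff (denom_ne_zero g z.2), map_sub]
  constructor
  · intro h
    linear_combination -h
  · intro h
    linear_combination -h

end Outer

section Count

variable {F : Type*} [Field F] [Finite F] [DecidableEq F]

attribute [local instance] slLineAction outerAction

/-- The number of fixed points of `g` on the projective line. -/
noncomputable def fixP (g : SpecialLinearGroup (Fin 2) F) : ℕ :=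
  Nat.card (MulAction.fixedBy (OnePoint F) g)

omit [Finite F] in
theorem fixP_def (g : SpecialLinearGroup (Fin 2) F) :
    fixP g = Nat.card (MulAction.fixedBy (OnePoint F) g) := rfl

/-- The roots in `F` of the fixed point polynomial of `g`. -/
def rootsF (g : SpecialLinearGroup (Fin 2) F) : Set F :=
  {t | g 1 0 * t ^ 2 + (g 1 1 - g 0 0) * t - g 0 1 = 0}

omit [Finite F] [DecidableEq F] in
theorem mem_rootsF (g : SpecialLinearGroup (Fin 2) F) (t : F) :
    t ∈ rootsF g ↔ g 1 0 * t ^ 2 + (g 1 1 - g 0 0) * t - g 0 1 = 0 := Iff.rfl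

theorem fixP_eq (g : SpecialLinearGroup (Fin 2) F) :
    fixP g = (if g 1 0 = 0 then 1 else 0) + (rootsF g).ncard := by
  have hinj : Function.Injective ((↑) : F → OnePoint F) := OnePoint.coe_injective
  rw [fixP, Nat.card_coe_set_eq]
  by_cases h : g 1 0 = 0
  · have : MulAction.fixedBy (OnePoint F) g = insert ∞ (((↑) : F → OnePoint F) '' rootsF g) := by
      ext x
      cases x with
      | infty => simp [MulAction.mem_fixedBy, sl_smul_infty_eq_iff, h]
      | coe t =>
        rw [MulAction.mem_fixedBy, sl_smul_coe_eq_iff, Set.mem_insert_iff,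
          Function.Injective.mem_set_image hinj, mem_rootsF]
        simp
    rw [this, Set.ncard_insert_of_notMem _ (Set.toFinite _), Set.ncard_image_of_injective _ hinj,
      if_pos h, add_comm]
    rintro ⟨t, _, ht⟩
    exact OnePoint.coe_ne_infty t ht
  · have : MulAction.fixedBy (OnePoint F) g = (((↑) : F → OnePoint F) '' rootsF g) := by
      ext x
      cases x with
      | infty =>
        rw [MulAction.mem_fixedBy, sl_smul_infty_eq_iff]
        refine ⟨fun h' => absurd h' h, ?_⟩
        rintro ⟨t, _, ht⟩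
        exact absurd ht (OnePoint.coe_ne_infty t)
      | coe t =>
        rw [MulAction.mem_fixedBy, sl_smul_coe_eq_iff,
          Function.Injective.mem_set_image hinj, mem_rootsF]
    rw [this, Set.ncard_image_of_injective _ hinj, if_neg h, zero_add]

omit [DecidableEq F] in
theorem rootsF_scalar (g : SpecialLinearGroup (Fin 2) F) (h10 : g 1 0 = 0) (h : g 0 0 = g 1 1)
    (h01 : g 0 1 = 0) : (rootsF g).ncard = Nat.card F := by
  have : rootsF g = Set.univ := by
    ext t
    simp [mem_rootsF, h10, h, h01]
  rw [this, Set.ncard_univ]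

omit [Finite F] [DecidableEq F] in
theorem rootsF_unip (g : SpecialLinearGroup (Fin 2) F) (h10 : g 1 0 = 0) (h : g 0 0 = g 1 1)
    (h01 : g 0 1 ≠ 0) : (rootsF g).ncard = 0 := by
  have : rootsF g = ∅ := by
    ext t
    simp [mem_rootsF, h10, h, h01]
  rw [this, Set.ncard_empty]

omit [Finite F] [DecidableEq F] in
theorem rootsF_split (g : SpecialLinearGroup (Fin 2) F) (h10 : g 1 0 = 0) (h : g 0 0 ≠ g 1 1) :
    (rootsF g).ncard = 1 := by
  have h' : g 1 1 - g 0 0 ≠ 0 := sub_ne_zero.2 (Ne.symm h)
  have : rootsF g = {g 0 1 / (g 1 1 - g 0 0)} := by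
    ext t
    rw [mem_rootsF, Set.mem_singleton_iff, eq_div_iff h', h10]
    constructor <;> intro h1 <;> linear_combination h1
  rw [this, Set.ncard_singleton]

/-- Fixed points of an upper triangular matrix. -/
theorem fixP_of_upper (g : SpecialLinearGroup (Fin 2) F) (h10 : g 1 0 = 0) :
    fixP g + (if g 0 0 = g 1 1 then 1 else 0) =
      2 + (if g 0 0 = g 1 1 ∧ g 0 1 = 0 then Nat.card F else 0) := by
  rw [fixP_eq, if_pos h10]
  by_cases h : g 0 0 = g 1 1
  · by_cases h01 : g 0 1 = 0
    · rw [rootsF_scalar g h10 h h01, if_pos h, if_pos ⟨h, h01⟩]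
      ring
    · rw [rootsF_unip g h10 h h01, if_pos h, if_neg (by tauto)]
  · rw [rootsF_split g h10 h, if_neg h, if_neg (by tauto)]

variable {E : Type*} [Field E] [Algebra F E] [Finite E]

variable (E) in
/-- The number of fixed points of `g` on `E ∖ F`. -/
noncomputable def fixX (g : SpecialLinearGroup (Fin 2) F) : ℕ :=
  Nat.card (MulAction.fixedBy (Outer F E) g)

omit [Finite F] [DecidableEq F] [Finite E] in
theorem fixX_def (g : SpecialLinearGroup (Fin 2) F) :
    fixX E g = Nat.card (MulAction.fixedBy (Outer F E) g) := rfl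

omit [Finite F] [DecidableEq F] in
theorem finite_outer : Finite (Outer F E) := by
  unfold Outer
  infer_instance

omit [DecidableEq F] in
theorem card_outer_add : Nat.card (Outer F E) + Nat.card F = Nat.card E := by
  have h1 := Set.ncard_add_ncard_compl (Set.range (algebraMap F E))
  rw [← Set.image_univ, Set.ncard_image_of_injective _ (algebraMap F E).injective,
    Set.ncard_univ] at h1
  rw [← h1, add_comm]
  congr 1
  rw [← Nat.card_coe_set_eq]
  apply Nat.card_congr
  apply Equiv.subtypeEquivRight
  intro z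
  simp

/-- The number of roots in `E ∖ F`, for polynomial without root in `F`. -/
theorem fixX_eq_zero_of_root (g : SpecialLinearGroup (Fin 2) F)
    (hns : ¬ (g 1 0 = 0 ∧ g 0 0 = g 1 1 ∧ g 0 1 = 0))
    (h : g 1 0 = 0 ∨ (rootsF g).Nonempty) : fixX E g = 0 := by
  rw [fixX, Nat.card_eq_zero]
  left
  refine ⟨fun z => ?_⟩
  obtain ⟨z, hz⟩ := z
  rw [MulAction.mem_fixedBy, outer_smul_eq_iff] at hz
  rcases h with h | ⟨t, ht⟩
  · rw [h, map_zero, zero_mul, zero_add] at hz
    have := lin_eq_zero z.2 (c := g 1 1 - g 0 0) (d := - g 0 1) (by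
      rw [map_neg]; linear_combination hz)
    apply hns
    refine ⟨h, (sub_eq_zero.1 this.1).symm, neg_eq_zero.1 this.2⟩
  · by_cases hc : g 1 0 = 0
    · rw [hc, map_zero, zero_mul, zero_add] at hz
      have := lin_eq_zero z.2 (c := g 1 1 - g 0 0) (d := - g 0 1) (by
        rw [map_neg]; linear_combination hz)
      apply hns
      refine ⟨hc, (sub_eq_zero.1 this.1).symm, neg_eq_zero.1 this.2⟩
    · rw [mem_rootsF] at ht
      -- `c (z - t) (z - t') = 0`
      have h1 : (z.1 - algebraMap F E t) *
          (algebraMap F E (g 1 0) * z.1 + algebraMap F E (g 1 0 * t + g 1 1 - g 0 0)) = 0 := by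
        have ht' := congrArg (algebraMap F E) ht
        simp only [map_sub, map_add, map_mul, map_pow, map_zero] at ht' hz ⊢
        linear_combination hz - ht'
      rcases mul_eq_zero.1 h1 with h2 | h2
      · exact z.2 t (sub_eq_zero.1 h2).symm
      · exact hc (lin_eq_zero z.2 h2).1

open Polynomial in
/-- An elliptic element has exactly two fixed points on `E ∖ F`. -/
theorem fixX_eq_two (hE : Nat.card E = Nat.card F ^ 2) (g : SpecialLinearGroup (Fin 2) F)
    (hc : g 1 0 ≠ 0) (h : ¬ (rootsF g).Nonempty) : fixX E g = 2 := by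
  classical
  set f : F[X] := C (g 1 0) * X ^ 2 + C (g 1 1 - g 0 0) * X + C (- g 0 1) with hf
  have hdeg : f.natDegree = 2 := natDegree_quadratic hc
  have hf0 : f ≠ 0 := by
    intro h0
    rw [h0] at hdeg
    simp at hdeg
  have heval : ∀ t : F, f.eval t = g 1 0 * t ^ 2 + (g 1 1 - g 0 0) * t - g 0 1 := by
    intro t
    rw [hf]
    simp only [eval_add, eval_mul, eval_C, eval_pow, eval_X]
    ring
  have hirr : Irreducible f := by
    apply irreducible_of_degree_le_three_of_not_isRoot
    · rw [hdeg]
      simp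
    · intro t ht
      apply h
      refine ⟨t, ?_⟩
      rw [mem_rootsF, ← heval]
      exact ht
  have hsep : f.Separable := PerfectField.separable_of_irreducible hirr
  have hdvd : f ∣ X ^ (Nat.card F) ^ 2 - X :=
    hirr.natDegree_dvd_iff_dvd_X_pow_card_pow_sub_X.1 (by rw [hdeg])
  have hsplit : (f.map (algebraMap F E)).Splits := by
    have := Fintype.ofFinite E
    have h1 := (FiniteField.isSplittingField_sub E F).splits
    refine Polynomial.Splits.of_dvd h1 ?_ (Polynomial.map_dvd _ ?_)
    · rw [Polynomial.map_ne_zero_iff (algebraMap F E).injective]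
      exact FiniteField.X_pow_card_sub_X_ne_zero F Fintype.one_lt_card
    · rwa [Fintype.card_eq_nat_card, hE]
  have hcard := card_rootSet_eq_natDegree (K := E) hsep hsplit
  rw [hdeg, Fintype.card_eq_nat_card] at hcard
  rw [fixX]
  refine Eq.trans ?_ hcard
  have hmem : ∀ z : E, z ∈ f.rootSet E ↔ algebraMap F E (g 1 0) * z ^ 2 +
      algebraMap F E (g 1 1 - g 0 0) * z - algebraMap F E (g 0 1) = 0 := by
    intro z
    rw [mem_rootSet_of_ne hf0, hf]
    simp only [map_add, map_mul, map_pow, aeval_X, aeval_C, map_neg]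
    rw [← sub_eq_add_neg]
  refine Nat.card_congr ⟨fun z => ⟨z.1.1, ?_⟩, fun z => ⟨⟨z.1, ?_⟩, ?_⟩, fun _ => rfl, fun _ => rfl⟩
  · rw [hmem]
    exact (outer_smul_eq_iff g z.1).1 z.2
  · intro t ht
    apply h
    refine ⟨t, ?_⟩
    rw [mem_rootsF]
    have := (hmem z.1).1 z.2
    rw [← ht] at this
    apply (algebraMap F E).injective
    rw [map_zero, ← this]
    simp only [map_sub, map_add, map_mul, map_pow]
  · exact (outer_smul_eq_iff g ⟨z.1, _⟩).2 ((hmem z.1).1 z.2)

/-- The number of roots in `F` of a quadratic polynomial having a root. -/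
theorem rootsF_ncard (g : SpecialLinearGroup (Fin 2) F) (hc : g 1 0 ≠ 0)
    (h : (rootsF g).Nonempty) : (rootsF g).ncard = 1 ∨ (rootsF g).ncard = 2 := by
  obtain ⟨t, ht⟩ := h
  rw [mem_rootsF] at ht
  have : rootsF g = {t, (g 0 0 - g 1 1) / g 1 0 - t} := by
    ext x
    rw [mem_rootsF, Set.mem_insert_iff, Set.mem_singleton_iff]
    have key : g 1 0 * x ^ 2 + (g 1 1 - g 0 0) * x - g 0 1 =
        g 1 0 * ((x - t) * (x - ((g 0 0 - g 1 1) / g 1 0 - t))) := by
      field_simp
      linear_combination ht
    rw [key, mul_eq_zero, mul_eq_zero, sub_eq_zero, sub_eq_zero]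
    tauto
  rw [this]
  by_cases h2 : t = (g 0 0 - g 1 1) / g 1 0 - t
  · left
    rw [← h2]
    simp
  · right
    exact Set.ncard_pair h2

/-- The basic relation between the numbers of fixed points. -/
theorem fixP_sq_add_two (hE : Nat.card E = Nat.card F ^ 2) (g : SpecialLinearGroup (Fin 2) F) :
    fixP g ^ 2 + 2 = 3 * fixP g + fixX E g := by
  by_cases hc : g 1 0 = 0
  · have h1 := fixP_of_upper g hc
    by_cases h : g 0 0 = g 1 1 ∧ g 0 1 = 0
    · rw [if_pos h, if_pos h.1] at h1
      have h2 : fixX E g = Nat.card (Outer F E) := by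
        rw [fixX]
        have : MulAction.fixedBy (Outer F E) g = Set.univ := by
          ext z
          rw [MulAction.mem_fixedBy, outer_smul_eq_iff, hc, h.1, h.2]
          simp
        rw [this]
        exact Nat.card_congr (Equiv.Set.univ _)
      have h3 := card_outer_add (F := F) (E := E)
      rw [h2]
      have h4 : fixP g = Nat.card F + 1 := by omega
      rw [h4]
      nlinarith [h3, hE]
    · rw [if_neg h] at h1
      rw [fixX_eq_zero_of_root g (by tauto) (Or.inl hc)]
      split_ifs at h1 with h5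
      · have : fixP g = 1 := by omega
        rw [this]; norm_num
      · have : fixP g = 2 := by omega
        rw [this]; norm_num
  · have h1 := fixP_eq g
    rw [if_neg hc, zero_add] at h1
    by_cases h : (rootsF g).Nonempty
    · rw [fixX_eq_zero_of_root g (by tauto) (Or.inr h), h1]
      rcases rootsF_ncard g hc h with h2 | h2 <;> rw [h2] <;> norm_num
    · rw [fixX_eq_two hE g hc h, h1, Set.not_nonempty_iff_eq_empty.1 h, Set.ncard_empty]
      norm_num

end Count

end Cfsg.Agent.ClassicalGeometry.SL2Line
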