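import Cfsg.Agent.ClassicalGeometry.SL2Borel

/-!
# Stabilisers in `SL₂(F)` of points of `E ∖ F`: cyclic of order dividing `q + 1`
-/

set_option autoImplicit false
set_option linter.unusedSectionVars false

namespace Cfsg.Agent.ClassicalGeometry.SL2Outer

open Matrix OnePoint Polynomial
open Cfsg.Agent.ClassicalGeometry.SL2Line Cfsg.Agent.ClassicalGeometry.SL2Borel

theorem exists_of_pow_card_eq {F E : Type*} [Field F] [Finite F] [Field E] [Algebra F E] {w : E}
    (hw : w ^ Nat.card F = w) : ∃ t : F, algebraMap F E t = w := by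
  classical
  have := Fintype.ofFinite F
  by_contra hcon
  push Not at hcon
  rw [Nat.card_eq_fintype_card] at hw
  have h1 : 1 < Fintype.card F := Fintype.one_lt_card
  have hne : (X ^ Fintype.card F - X : E[X]) ≠ 0 := FiniteField.X_pow_card_sub_X_ne_zero E h1
  have h2 := Polynomial.card_roots' (X ^ Fintype.card F - X : E[X])
  rw [FiniteField.X_pow_card_sub_X_natDegree_eq E h1] at h2
  have h3 : insert w (Finset.univ.image (algebraMap F E)) ⊆
      (X ^ Fintype.card F - X : E[X]).roots.toFinset := by
    intro x hx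
    rw [Multiset.mem_toFinset, mem_roots hne]
    rw [Finset.mem_insert] at hx
    rcases hx with rfl | hx
    · simp [hw]
    · obtain ⟨t, _, rfl⟩ := Finset.mem_image.1 hx
      simp [← map_pow, FiniteField.pow_card]
  have h4 := Finset.card_le_card h3
  rw [Finset.card_insert_of_notMem, Finset.card_image_of_injective _ (algebraMap F E).injective,
    Finset.card_univ] at h4
  · have := (Multiset.toFinset_card_le (X ^ Fintype.card F - X : E[X]).roots)
    omega
  · intro h
    obtain ⟨t, _, ht⟩ := Finset.mem_image.1 h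
    exact hcon t ht

variable {F E : Type*} [Field F] [Field E] [Algebra F E]

attribute [local instance] outerAction

/-- The eigenvalue of an element fixing `z`. -/
def eig (z : E) (g : SpecialLinearGroup (Fin 2) F) : E :=
  algebraMap F E (g 1 0) * z + algebraMap F E (g 1 1)

theorem eig_top {z : Outer F E} {g : SpecialLinearGroup (Fin 2) F} (hg : g • z = z) :
    algebraMap F E (g 0 0) * z.1 + algebraMap F E (g 0 1) = eig z.1 g * z.1 := by
  rw [outer_smul_eq_iff, map_sub] at hg
  rw [eig]
  linear_combination -hg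

theorem eig_mul {z : Outer F E} {g h : SpecialLinearGroup (Fin 2) F} (hh : h • z = z) :
    eig z.1 (g * h) = eig z.1 g * eig z.1 h := by
  have h1 := eig_top hh
  have h2 : eig z.1 (g * h) = algebraMap F E (g 1 0) *
      (algebraMap F E (h 0 0) * z.1 + algebraMap F E (h 0 1)) +
      algebraMap F E (g 1 1) * eig z.1 h := by
    rw [eig, eig, sl_mul_apply, sl_mul_apply]
    simp only [map_add, map_mul]
    ring
  rw [h2, h1, eig, eig]
  ring

theorem eig_one (z : E) : eig z (1 : SpecialLinearGroup (Fin 2) F) = 1 := by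
  rw [eig, sl_one_apply, sl_one_apply]
  simp

theorem eq_one_of_eig {z : Outer F E} {g : SpecialLinearGroup (Fin 2) F} (hg : g • z = z)
    (h : eig z.1 g = 1) : g = 1 := by
  have h1 := eig_top hg
  rw [h, one_mul] at h1
  rw [eig] at h
  have h2 := lin_eq_zero z.2 (c := g 1 0) (d := g 1 1 - 1) (by
    rw [map_sub, map_one]; linear_combination h)
  have h3 := lin_eq_zero z.2 (c := g 0 0 - 1) (d := g 0 1) (by
    rw [map_sub, map_one]; linear_combination h1)
  apply sl_ext <;> rw [sl_one_apply]
  · simpa using sub_eq_zero.1 h3.1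
  · simpa using h3.2
  · simpa using h2.1
  · simpa using sub_eq_zero.1 h2.2

theorem eig_charpoly {z : Outer F E} {g : SpecialLinearGroup (Fin 2) F} (hg : g • z = z) :
    eig z.1 g ^ 2 - algebraMap F E (g 0 0 + g 1 1) * eig z.1 g + 1 = 0 := by
  have h1 := eig_top hg
  have hdet := congrArg (algebraMap F E) (det_eq g)
  simp only [map_sub, map_mul, map_one] at hdet
  rw [map_add]
  have h2 : eig z.1 g = algebraMap F E (g 1 0) * z.1 + algebraMap F E (g 1 1) := rfl
  have h3 : eig z.1 g ^ 2 - (algebraMap F E (g 0 0) + algebraMap F E (g 1 1)) * eig z.1 g + 1 =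
      (eig z.1 g - algebraMap F E (g 1 1)) * (eig z.1 g - algebraMap F E (g 0 0)) -
      algebraMap F E (g 0 1) * algebraMap F E (g 1 0) := by
    linear_combination -hdet
  rw [h3]
  have h4 : eig z.1 g - algebraMap F E (g 1 1) = algebraMap F E (g 1 0) * z.1 := by
    rw [h2]; ring
  rw [h4]
  linear_combination -algebraMap F E (g 1 0) * h1

theorem eig_pow [Finite F] {z : Outer F E} {g : SpecialLinearGroup (Fin 2) F} (hg : g • z = z) :
    eig z.1 g ^ (Nat.card F + 1) = 1 := by
  have := Fintype.ofFinite F
  set w := eig z.1 g with hw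
  have h1 := eig_charpoly hg
  rw [← hw] at h1
  have h2 : (w ^ Nat.card F) ^ 2 - algebraMap F E (g 0 0 + g 1 1) * w ^ Nat.card F + 1 = 0 := by
    have h3 := congrArg (FiniteField.frobeniusAlgHom F E) h1
    rw [map_add, map_sub, map_mul, map_pow, map_one, map_zero, AlgHom.commutes,
      FiniteField.coe_frobeniusAlgHom, Fintype.card_eq_nat_card] at h3
    exact h3
  have hw0 : w ≠ 0 := by
    rintro h0
    rw [h0] at h1
    simp at h1
  by_cases hq : w ^ Nat.card F = w
  · obtain ⟨t, ht⟩ := exists_of_pow_card_eq hq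
    have h3 : eig z.1 g = algebraMap F E t := by rw [← hw, ht]
    have h4 := lin_eq_zero z.2 (c := g 1 0) (d := g 1 1 - t) (by
      rw [map_sub]
      rw [eig] at h3
      linear_combination h3)
    have h5 := eig_top hg
    rw [h3] at h5
    have h6 := lin_eq_zero z.2 (c := g 0 0 - t) (d := g 0 1) (by
      rw [map_sub]
      linear_combination h5)
    have hdet := det_eq g
    rw [h4.1, h6.2, sub_eq_zero.1 h4.2, sub_eq_zero.1 h6.1, mul_zero, sub_zero] at hdet
    rw [pow_succ, hq, ← ht, ← map_mul, hdet, map_one]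
  · have h3 : (w ^ Nat.card F - w) * (w ^ (Nat.card F + 1) - 1) = 0 := by
      rw [pow_succ]
      linear_combination w * h2 - w ^ Nat.card F * h1
    rcases mul_eq_zero.1 h3 with h4 | h4
    · exact absurd (sub_eq_zero.1 h4) hq
    · exact sub_eq_zero.1 h4

/-- A subgroup of `SL₂(F)` fixing a point of `E ∖ F` has order dividing `q + 1`. -/
theorem card_dvd [Finite F] {z : Outer F E} (S : Subgroup (SpecialLinearGroup (Fin 2) F))
    (hS : ∀ s ∈ S, s • z = z) : Nat.card S ∣ Nat.card F + 1 := by
  let φ : S →* E :=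
    { toFun := fun s => eig z.1 s.1
      map_one' := eig_one z.1
      map_mul' := fun s t => eig_mul (hS t.1 t.2) }
  have hφ : Function.Injective φ := by
    rw [injective_iff_map_eq_one]
    intro s hs
    exact Subtype.ext (eq_one_of_eig (hS s.1 s.2) hs)
  have hcyc : IsCyclic S := isCyclic_of_injective_ringHom φ hφ
  rw [← IsCyclic.exponent_eq_card]
  apply Monoid.exponent_dvd_of_forall_pow_eq_one
  intro s
  apply hφ
  rw [map_pow, map_one]
  exact eig_pow (hS s.1 s.2)

theorem neg_one_smul (z : Outer F E) : (-1 : SpecialLinearGroup (Fin 2) F) • z = z := by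
  rw [outer_smul_eq_iff, sl_neg_apply, sl_neg_apply, sl_neg_apply, sl_neg_apply, sl_one_apply,
    sl_one_apply, sl_one_apply, sl_one_apply]
  simp

/-- A subgroup containing `-1` has order divisible by `dd F`. -/
theorem dd_dvd_card [Finite F] (S : Subgroup (SpecialLinearGroup (Fin 2) F))
    (hneg : (-1 : SpecialLinearGroup (Fin 2) F) ∈ S) : dd F ∣ Nat.card S := by
  rcases dd_cases (F := F) with ⟨h, _⟩ | ⟨h, hodd⟩
  · rw [h]
    exact one_dvd _
  · rw [h]
    have h2 : orderOf (⟨-1, hneg⟩ : S) = 2 := by
      rw [orderOf_eq_prime_iff]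
      constructor
      · apply Subtype.ext
        change (-1 : SpecialLinearGroup (Fin 2) F) ^ 2 = 1
        rw [neg_one_sq]
      · intro h1
        have h1' := congrArg Subtype.val h1
        have h3 := congrArg (fun m : SpecialLinearGroup (Fin 2) F => m 0 0) h1'
        change (-1 : SpecialLinearGroup (Fin 2) F) 0 0 = (1 : SpecialLinearGroup (Fin 2) F) 0 0 at h3
        rw [sl_neg_apply, sl_one_apply, if_pos rfl] at h3
        have := Fintype.ofFinite F
        have hchar : ringChar F = 2 := by
          by_contra h4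
          exact Ring.neg_one_ne_one_of_char_ne_two h4 h3
        rw [Nat.card_eq_fintype_card, ← Nat.not_even_iff_odd, Nat.even_iff] at hodd
        exact hodd (FiniteField.even_card_iff_char_two.1 hchar)
    have h5 := orderOf_dvd_natCard (⟨-1, hneg⟩ : S)
    rwa [h2] at h5

end Cfsg.Agent.ClassicalGeometry.SL2Outer
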