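import Cfsg.Prelude.Def_Classical
import Cfsg.Agent.Lib.FieldFour
import Cfsg.Agent.LieClassical.SUBasic

/-!
The group `SU_3(2)` over the explicit field `F4` with four elements: a kernel-friendly model of its
elements as 9-tuples, and a checking principle "a Boolean property of all elements can be decided by
running through orthonormal frames".
-/

set_option autoImplicit false
open Cfsg

namespace Cfsg.Agent.ClassicalGeometry.SU32

open Cfsg.Agent.Lib.FieldFour
open Cfsg.Agent.Lib.FieldFour.F4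
open Matrix

/-- 9-tuples: 3x3 matrices over `F4`, by rows. -/
structure M where
  (a b c d e f g h k : F4)
  deriving DecidableEq

/-- conjugation `x ↦ x ^ 2` -/
def sq : F4 → F4
  | o => o
  | i => i
  | w => v
  | v => w

/-- Boolean equality on `F4`. -/
def beq : F4 → F4 → Bool
  | o, o => true
  | i, i => true
  | w, w => true
  | v, v => true
  | _, _ => false

theorem beq_iff (x y : F4) : beq x y = true ↔ x = y := by
  cases x <;> cases y <;> simp [beq]

/-- sum of three products -/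
def dot3 (a b c x y z : F4) : F4 := add (mul a x) (add (mul b y) (mul c z))

/-- the Hermitian form -/
def h3 (a b c x y z : F4) : F4 := dot3 a b c (sq x) (sq y) (sq z)

/-- matrix product -/
def mulM (A B : M) : M where
  a := dot3 A.a A.b A.c B.a B.d B.g
  b := dot3 A.a A.b A.c B.b B.e B.h
  c := dot3 A.a A.b A.c B.c B.f B.k
  d := dot3 A.d A.e A.f B.a B.d B.g
  e := dot3 A.d A.e A.f B.b B.e B.h
  f := dot3 A.d A.e A.f B.c B.f B.k
  g := dot3 A.g A.h A.k B.a B.d B.g
  h := dot3 A.g A.h A.k B.b B.e B.h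
  k := dot3 A.g A.h A.k B.c B.f B.k

/-- scalar multiple -/
def smulM (x : F4) (A : M) : M :=
  ⟨mul x A.a, mul x A.b, mul x A.c, mul x A.d, mul x A.e, mul x A.f, mul x A.g, mul x A.h,
    mul x A.k⟩

/-- Boolean equality of 9-tuples -/
def beqM (A B : M) : Bool :=
  beq A.a B.a && beq A.b B.b && beq A.c B.c && beq A.d B.d && beq A.e B.e && beq A.f B.f &&
    beq A.g B.g && beq A.h B.h && beq A.k B.k

theorem beqM_iff (A B : M) : beqM A B = true ↔ A = B := by
  cases A; cases B
  simp only [beqM, Bool.and_eq_true, beq_iff, M.mk.injEq]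
  tauto

/-- identity -/
def oneM : M := ⟨i, o, o, o, i, o, o, o, i⟩

/-- determinant -/
def detM (A : M) : F4 :=
  add (mul A.a (add (mul A.e A.k) (mul A.f A.h)))
    (add (mul A.b (add (mul A.d A.k) (mul A.f A.g))) (mul A.c (add (mul A.d A.h) (mul A.e A.g))))

/-- the 9-tuple of a matrix -/
def toM (A : Matrix (Fin 3) (Fin 3) F4) : M :=
  ⟨A 0 0, A 0 1, A 0 2, A 1 0, A 1 1, A 1 2, A 2 0, A 2 1, A 2 2⟩

/-- the matrix of a 9-tuple -/
def ofM (A : M) : Matrix (Fin 3) (Fin 3) F4 :=
  !![A.a, A.b, A.c; A.d, A.e, A.f; A.g, A.h, A.k]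

theorem toM_ofM (A : M) : toM (ofM A) = A := rfl

theorem ofM_toM (A : Matrix (Fin 3) (Fin 3) F4) : ofM (toM A) = A := by
  ext i j
  fin_cases i <;> fin_cases j <;> rfl

theorem toM_injective : Function.Injective toM := fun A B h => by
  rw [← ofM_toM A, h, ofM_toM]

theorem add_eq (x y : F4) : x + y = add x y := rfl
theorem mul_eq (x y : F4) : x * y = mul x y := rfl
theorem sq_eq (x : F4) : x ^ 2 = sq x := by
  cases x <;> decide

theorem toM_mul (A B : Matrix (Fin 3) (Fin 3) F4) : toM (A * B) = mulM (toM A) (toM B) := by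
  have key : ∀ r s, (A * B) r s = dot3 (A r 0) (A r 1) (A r 2) (B 0 s) (B 1 s) (B 2 s) := by
    intro r s
    rw [Matrix.mul_apply, Fin.sum_univ_three, dot3, ← mul_eq, ← mul_eq, ← mul_eq, ← add_eq,
      ← add_eq, add_assoc]
  simp only [toM, mulM, key]

theorem toM_smul (x : F4) (A : Matrix (Fin 3) (Fin 3) F4) :
    toM (x • A) = smulM x (toM A) := rfl

theorem toM_one : toM 1 = oneM := by decide

theorem detM_toM (A : Matrix (Fin 3) (Fin 3) F4) : A.det = detM (toM A) := by
  rw [Matrix.det_fin_three]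
  have hneg : ∀ x : F4, -x = x := fun _ => rfl
  simp only [detM, toM, ← mul_eq, ← add_eq, sub_eq_add_neg, hneg]
  ring

theorem herm_eq (u v : Fin 3 → F4) :
    hermForm 3 F4 2 u v = h3 (u 0) (u 1) (u 2) (v 0) (v 1) (v 2) := by
  rw [hermForm, Fin.sum_univ_three, h3, dot3, sq_eq, sq_eq, sq_eq, ← mul_eq, ← mul_eq, ← mul_eq,
    ← add_eq, ← add_eq, add_assoc]

/-- Quantifier over `F4` as a Boolean. -/
def all4 (p : F4 → Bool) : Bool := p o && (p i && (p w && p v))

theorem all4_spec {p : F4 → Bool} (h : all4 p = true) (x : F4) : p x = true := by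
  simp only [all4, Bool.and_eq_true] at h
  obtain ⟨h1, h2, h3, h4⟩ := h
  cases x <;> assumption

/-- Implication on Booleans, lazy in the second argument. -/
def imp (a b : Bool) : Bool := !a || b

theorem imp_spec {a b : Bool} (h : imp a b = true) (ha : a = true) : b = true := by
  subst ha
  simpa [imp] using h

/-- Run through all matrices with orthonormal columns and determinant one. -/
def check (P : M → Bool) : Bool :=
  all4 fun a => all4 fun d => all4 fun g => imp (beq (h3 a d g a d g) i) <|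
  all4 fun b => all4 fun e => all4 fun h => imp (beq (h3 b e h b e h) i) <|
    imp (beq (h3 a d g b e h) o) <|
  all4 fun c => all4 fun f => all4 fun k => imp (beq (h3 a d g c f k) o) <|
    imp (beq (h3 b e h c f k) o) <| imp (beq (detM ⟨a, b, c, d, e, f, g, h, k⟩) i) <|
    P ⟨a, b, c, d, e, f, g, h, k⟩

theorem check_spec {P : M → Bool} (hP : check P = true) (A : M)
    (h11 : h3 A.a A.d A.g A.a A.d A.g = i) (h22 : h3 A.b A.e A.h A.b A.e A.h = i)
    (h12 : h3 A.a A.d A.g A.b A.e A.h = o) (h13 : h3 A.a A.d A.g A.c A.f A.k = o)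
    (h23 : h3 A.b A.e A.h A.c A.f A.k = o) (hd : detM A = i) : P A = true := by
  have h1 := imp_spec (all4_spec (all4_spec (all4_spec hP A.a) A.d) A.g) ((beq_iff _ _).2 h11)
  have h2 := imp_spec (all4_spec (all4_spec (all4_spec h1 A.b) A.e) A.h) ((beq_iff _ _).2 h22)
  have h3 := imp_spec h2 ((beq_iff _ _).2 h12)
  have h4 := imp_spec (all4_spec (all4_spec (all4_spec h3 A.c) A.f) A.k) ((beq_iff _ _).2 h13)
  have h5 := imp_spec h4 ((beq_iff _ _).2 h23)
  exact imp_spec h5 ((beq_iff _ _).2 hd)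

/-- The matrix of an element of `SU_3(2)`. -/
abbrev mat (A : SU 3 F4 2) : Matrix (Fin 3) (Fin 3) F4 :=
  ((A : Matrix.SpecialLinearGroup (Fin 3) F4) : Matrix (Fin 3) (Fin 3) F4)

theorem mat_injective : Function.Injective mat := fun _ _ h =>
  Subtype.ext (Subtype.ext h)

/-- The 9-tuple of an element of `SU_3(2)`. -/
def tup (A : SU 3 F4 2) : M := toM (mat A)

theorem tup_injective : Function.Injective tup := toM_injective.comp mat_injective

theorem tup_mul (A B : SU 3 F4 2) : tup (A * B) = mulM (tup A) (tup B) := by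
  rw [tup, tup, tup, ← toM_mul]
  rfl

theorem tup_one : tup 1 = oneM := by
  rw [tup, ← toM_one]
  rfl

theorem herm_cols (A : SU 3 F4 2) (r s : Fin 3) :
    h3 (mat A 0 r) (mat A 1 r) (mat A 2 r) (mat A 0 s) (mat A 1 s) (mat A 2 s) =
      if r = s then 1 else 0 := by
  have h := A.2 (Pi.single r 1) (Pi.single s 1)
  rw [herm_eq, herm_eq] at h
  have key : ∀ t : Fin 3, (slToMat 3 F4 A.1) *ᵥ (Pi.single t 1) = fun j => mat A j t := by
    intro t
    rw [Matrix.mulVec_single_one]
    rfl
  rw [key, key] at h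
  rw [h]
  clear h key
  revert r s
  decide

/-- Checking principle: a Boolean property of 9-tuples holds for all elements of `SU_3(2)` if the
Boolean computation `check P` gives `true`. -/
theorem forall_of_check {P : M → Bool} (hP : check P = true) (A : SU 3 F4 2) :
    P (tup A) = true := by
  apply check_spec hP
  · exact herm_cols A 0 0
  · exact herm_cols A 1 1
  · exact herm_cols A 0 1
  · exact herm_cols A 0 2
  · exact herm_cols A 1 2
  · have h : (mat A).det = 1 := (A : Matrix.SpecialLinearGroup (Fin 3) F4).2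
    rw [detM_toM] at h
    exact h

/-- Columns orthonormal. -/
def isU (A : M) : Bool :=
  beq (h3 A.a A.d A.g A.a A.d A.g) i && (beq (h3 A.b A.e A.h A.b A.e A.h) i &&
  (beq (h3 A.c A.f A.k A.c A.f A.k) i && (beq (h3 A.a A.d A.g A.b A.e A.h) o &&
  (beq (h3 A.a A.d A.g A.c A.f A.k) o && (beq (h3 A.b A.e A.h A.c A.f A.k) o &&
  beq (detM A) i)))))

theorem sq_add (x y : F4) : (x + y) ^ 2 = x ^ 2 + y ^ 2 := by
  revert x y; decide

/-- The element of `SU_3(2)` with given 9-tuple. -/
def mk (A : M) (h : isU A = true) : SU 3 F4 2 :=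
  ⟨⟨ofM A, by
    rw [detM_toM, toM_ofM]
    simp only [isU, Bool.and_eq_true, beq_iff] at h
    exact h.2.2.2.2.2.2⟩, by
    simp only [isU, Bool.and_eq_true, beq_iff, h3, dot3, ← mul_eq, ← add_eq, ← sq_eq] at h
    obtain ⟨h11, h22, h33, h12, h13, h23, -⟩ := h
    have h21 : A.b * A.a ^ 2 + (A.e * A.d ^ 2 + A.h * A.g ^ 2) = o := by
      have := congrArg (fun x => x ^ 2) h12
      simp only [sq_add, mul_pow] at this
      have h4 : ∀ x : F4, (x ^ 2) ^ 2 = x := by decide
      rw [h4, h4, h4] at this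
      rw [show (o : F4) = o ^ 2 by decide, ← this]
      ring
    have h31 : A.c * A.a ^ 2 + (A.f * A.d ^ 2 + A.k * A.g ^ 2) = o := by
      have := congrArg (fun x => x ^ 2) h13
      simp only [sq_add, mul_pow] at this
      have h4 : ∀ x : F4, (x ^ 2) ^ 2 = x := by decide
      rw [h4, h4, h4] at this
      rw [show (o : F4) = o ^ 2 by decide, ← this]
      ring
    have h32 : A.c * A.b ^ 2 + (A.f * A.e ^ 2 + A.k * A.h ^ 2) = o := by
      have := congrArg (fun x => x ^ 2) h23
      simp only [sq_add, mul_pow] at this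
      have h4 : ∀ x : F4, (x ^ 2) ^ 2 = x := by decide
      rw [h4, h4, h4] at this
      rw [show (o : F4) = o ^ 2 by decide, ← this]
      ring
    refine (Cfsg.Agent.LieClassical.SUBasic.mem_SU_iff _).2 fun u v => ?_
    change hermForm 3 F4 2 (ofM A *ᵥ u) (ofM A *ᵥ v) = hermForm 3 F4 2 u v
    have key : ∀ (u : Fin 3 → F4),
        (ofM A *ᵥ u) 0 = A.a * u 0 + A.b * u 1 + A.c * u 2 ∧
        (ofM A *ᵥ u) 1 = A.d * u 0 + A.e * u 1 + A.f * u 2 ∧
        (ofM A *ᵥ u) 2 = A.g * u 0 + A.h * u 1 + A.k * u 2 := by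
      intro u
      refine ⟨?_, ?_, ?_⟩ <;>
      · rw [Matrix.mulVec, dotProduct, Fin.sum_univ_three]
        rfl
    obtain ⟨k0, k1, k2⟩ := key u
    obtain ⟨l0, l1, l2⟩ := key v
    rw [hermForm, hermForm, Fin.sum_univ_three, Fin.sum_univ_three, k0, k1, k2, l0, l1, l2]
    simp only [sq_add, mul_pow]
    have hi : (i : F4) = 1 := rfl
    have ho : (o : F4) = 0 := rfl
    rw [hi] at h11 h22 h33
    rw [ho] at h12 h13 h23 h21 h31 h32
    linear_combination (u 0 * v 0 ^ 2) * h11 + (u 1 * v 1 ^ 2) * h22 + (u 2 * v 2 ^ 2) * h33 +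
      (u 0 * v 1 ^ 2) * h12 + (u 0 * v 2 ^ 2) * h13 + (u 1 * v 2 ^ 2) * h23 +
      (u 1 * v 0 ^ 2) * h21 + (u 2 * v 0 ^ 2) * h31 + (u 2 * v 1 ^ 2) * h32⟩

theorem tup_mk (A : M) (h : isU A = true) : tup (mk A h) = A := rfl

end Cfsg.Agent.ClassicalGeometry.SU32
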