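import Mathlib
import Cfsg.Prelude.Def_ClassicalGeometry
import Cfsg.Agent.ClassicalGeometry.Reflection
import Cfsg.Agent.ClassicalGeometry.CartanDieudonne

/-!
# Siegel elements of the isometry group of a quadratic form (characteristic not two)

`siegelIso`: the Siegel transformation attached to two orthogonal singular vectors, as an element of the isometry
group; additivity, conjugation; squares of isometries lie in the commutator subgroup; the subgroup generated by the
Siegel elements is transitive on vectors of a given nonzero norm as soon as there are two orthogonal hyperbolic pairs,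
and is then equal to the commutator subgroup.
-/

set_option autoImplicit false
set_option linter.unusedSectionVars false

namespace Cfsg.Agent.ClassicalGeometry.SiegelGen

open QuadraticMap Matrix Module
open scoped commutatorElement
open Cfsg.Agent.ClassicalGeometry.Reflection Cfsg.Agent.ClassicalGeometry.CartanDieudonne

section Siegel

variable {ι : Type} [Fintype ι] [DecidableEq ι] {F : Type*} [Field F]

/-- A Siegel matrix attached to orthogonal singular vectors preserves the form. -/
theorem siegelMatrix_isometry (Q : QuadraticForm F (ι → F)) (u v : ι → F) (hu : Q u = 0)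
    (hv : Q v = 0) (huv : polar (⇑Q) u v = 0) (c : F) (x : ι → F) :
    Q (Cfsg.siegelMatrix (⇑Q) u v c *ᵥ x) = Q x := by
  have hvu : polar (⇑Q) v u = 0 := by rw [polar_comm, huv]
  rw [siegelMatrix_mulVec, map_add', QuadraticMap.map_smul, sub_eq_add_neg, ← neg_smul,
    map_add', QuadraticMap.map_smul, QuadraticMap.map_smul]
  simp only [QuadraticMap.polar_smul_right, QuadraticMap.polar_add_right,
    QuadraticMap.polar_smul_left, smul_eq_mul, hu, hv, hvu,
    QuadraticMap.polar_comm (⇑Q) x v, QuadraticMap.polar_comm (⇑Q) x u]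
  ring

theorem siegelMatrix_mul (Q : QuadraticForm F (ι → F)) (u v : ι → F) (hu : Q u = 0)
    (hv : Q v = 0) (huv : polar (⇑Q) u v = 0) (c d : F) :
    Cfsg.siegelMatrix (⇑Q) u v c * Cfsg.siegelMatrix (⇑Q) u v d
      = Cfsg.siegelMatrix (⇑Q) u v (c + d) := by
  have huu : polar (⇑Q) u u = 0 := by rw [polar_self', hu, mul_zero]
  have hvv : polar (⇑Q) v v = 0 := by rw [polar_self', hv, mul_zero]
  have hvu : polar (⇑Q) v u = 0 := by rw [polar_comm, huv]
  have hTu : ∀ c, Cfsg.siegelMatrix (⇑Q) u v c *ᵥ u = u := by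
    intro c
    rw [siegelMatrix_mulVec, huu, hvu]
    simp
  have hTv : ∀ c, Cfsg.siegelMatrix (⇑Q) u v c *ᵥ v = v := by
    intro c
    rw [siegelMatrix_mulVec, huv, hvv]
    simp
  apply Matrix.mulVec_injective
  funext x
  rw [← Matrix.mulVec_mulVec, siegelMatrix_mulVec Q u v d x, Matrix.mulVec_add,
    Matrix.mulVec_smul, Matrix.mulVec_sub, Matrix.mulVec_smul, Matrix.mulVec_smul, hTu, hTv,
    siegelMatrix_mulVec, siegelMatrix_mulVec, add_smul, add_assoc]

theorem siegelMatrix_zero (Q : (ι → F) → F) (u v : ι → F) :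
    Cfsg.siegelMatrix Q u v 0 = 1 := by
  rw [siegelMatrix_def, zero_smul, add_zero]

/-- The Siegel transformation as an element of `GL`. -/
def siegelGL (Q : QuadraticForm F (ι → F)) (u v : ι → F) (hu : Q u = 0)
    (hv : Q v = 0) (huv : polar (⇑Q) u v = 0) (c : F) : Matrix.GeneralLinearGroup ι F :=
  ⟨Cfsg.siegelMatrix (⇑Q) u v c, Cfsg.siegelMatrix (⇑Q) u v (-c),
    by rw [siegelMatrix_mul Q u v hu hv huv, add_neg_cancel, siegelMatrix_zero],
    by rw [siegelMatrix_mul Q u v hu hv huv, neg_add_cancel, siegelMatrix_zero]⟩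

/-- The Siegel transformation as an element of the isometry group. -/
def siegelIso (Q : QuadraticForm F (ι → F)) (u v : ι → F) (hu : Q u = 0)
    (hv : Q v = 0) (huv : polar (⇑Q) u v = 0) (c : F) : Cfsg.isometryGroup F (⇑Q) :=
  ⟨siegelGL Q u v hu hv huv c,
    (mem_isometryGroup_iff _ _).2 fun x => siegelMatrix_isometry Q u v hu hv huv c x⟩

@[simp] theorem coe_siegelIso (Q : QuadraticForm F (ι → F)) (u v : ι → F) (hu : Q u = 0)
    (hv : Q v = 0) (huv : polar (⇑Q) u v = 0) (c : F) :
    ((siegelIso Q u v hu hv huv c : Matrix.GeneralLinearGroup ι F) : Matrix ι ι F)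
      = Cfsg.siegelMatrix (⇑Q) u v c := rfl

theorem siegelIso_mul (Q : QuadraticForm F (ι → F)) (u v : ι → F) (hu : Q u = 0)
    (hv : Q v = 0) (huv : polar (⇑Q) u v = 0) (c d : F) :
    siegelIso Q u v hu hv huv c * siegelIso Q u v hu hv huv d
      = siegelIso Q u v hu hv huv (c + d) := by
  apply Subtype.ext
  apply Units.ext
  exact siegelMatrix_mul Q u v hu hv huv c d

/-- An element of the isometry group whose matrix is a Siegel matrix is `siegelIso`. -/
theorem eq_siegelIso (Q : QuadraticForm F (ι → F)) (g : Cfsg.isometryGroup F (⇑Q)) (u v : ι → F)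
    (hu : Q u = 0) (hv : Q v = 0) (huv : polar (⇑Q) u v = 0) (c : F)
    (h : ((g : Matrix.GeneralLinearGroup ι F) : Matrix ι ι F) = Cfsg.siegelMatrix (⇑Q) u v c) :
    g = siegelIso Q u v hu hv huv c := by
  apply Subtype.ext
  apply Units.ext
  exact h

/-- Conjugate of a Siegel matrix by an isometry. -/
theorem conj_siegel (Q : QuadraticForm F (ι → F)) (g h : Cfsg.isometryGroup F (⇑Q))
    (u v : ι → F) (c : F)
    (hh : ((h : Matrix.GeneralLinearGroup ι F) : Matrix ι ι F) = Cfsg.siegelMatrix (⇑Q) u v c) :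
    (((g * h * g⁻¹ : Cfsg.isometryGroup F (⇑Q)) : Matrix.GeneralLinearGroup ι F) : Matrix ι ι F)
      = Cfsg.siegelMatrix (⇑Q) (((g : Matrix.GeneralLinearGroup ι F) : Matrix ι ι F) *ᵥ u)
          (((g : Matrix.GeneralLinearGroup ι F) : Matrix ι ι F) *ᵥ v) c := by
  have hg := (mem_isometryGroup_iff _ _).1 g.2
  apply Matrix.mulVec_injective
  funext x
  obtain ⟨y, rfl⟩ : ∃ y, x = ((g : Matrix.GeneralLinearGroup ι F) : Matrix ι ι F) *ᵥ y := by
    refine ⟨((g⁻¹ : Cfsg.isometryGroup F (⇑Q)) : Matrix.GeneralLinearGroup ι F).val *ᵥ x, ?_⟩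
    rw [← coe_mul_mulVec, mul_inv_cancel]
    simp
  rw [← coe_mul_mulVec, inv_mul_cancel_right, coe_mul_mulVec, hh, siegelMatrix_mulVec,
    siegelMatrix_mulVec, polar_mulVec_of_isometry Q _ hg, polar_mulVec_of_isometry Q _ hg,
    Matrix.mulVec_add, Matrix.mulVec_smul, Matrix.mulVec_sub, Matrix.mulVec_smul,
    Matrix.mulVec_smul]

/-- In characteristic not two the square of any isometry of a non-degenerate quadratic form lies in
the commutator subgroup. -/
theorem mul_self_mem_commutator (h2 : (2 : F) ≠ 0) (Q : QuadraticForm F (ι → F))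
    (hQ : (polarBilin Q).Nondegenerate) (g : Cfsg.isometryGroup F (⇑Q)) :
    g * g ∈ commutator (Cfsg.isometryGroup F (⇑Q)) := by
  refine isometry_induction h2 Q hQ (fun g => g * g ∈ commutator (Cfsg.isometryGroup F (⇑Q)))
    ?_ ?_ g
  · rw [mul_one]; exact one_mem _
  · intro v hv g hg
    have h1 : reflIso Q v hv * g * (reflIso Q v hv * g) = ⁅reflIso Q v hv, g⁆ * (g * g) := by
      rw [commutatorElement_def, reflIso_inv]
      group
    rw [h1]
    exact mul_mem (Subgroup.commutator_mem_commutator (Subgroup.mem_top _) (Subgroup.mem_top _)) hg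

/-- In characteristic not two every Siegel element lies in the commutator subgroup. -/
theorem mem_commutator_of_siegel (h2 : (2 : F) ≠ 0) (Q : QuadraticForm F (ι → F))
    (hQ : (polarBilin Q).Nondegenerate) (g : Cfsg.isometryGroup F (⇑Q)) (u v : ι → F)
    (hu : Q u = 0) (hv : Q v = 0) (huv : polar (⇑Q) u v = 0) (c : F)
    (h : ((g : Matrix.GeneralLinearGroup ι F) : Matrix ι ι F) = Cfsg.siegelMatrix (⇑Q) u v c) :
    g ∈ commutator (Cfsg.isometryGroup F (⇑Q)) := by
  have h1 : g = siegelIso Q u v hu hv huv (c / 2) * siegelIso Q u v hu hv huv (c / 2) := by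
    rw [siegelIso_mul, eq_siegelIso Q g u v hu hv huv c h]
    congr 1
    field_simp
    ring
  rw [h1]
  exact mul_self_mem_commutator h2 Q hQ _

/-- The set of Siegel elements. -/
def siegelSet (Q : QuadraticForm F (ι → F)) : Set (Cfsg.isometryGroup F (⇑Q)) :=
  {g | ∃ (u v : ι → F) (c : F), Q u = 0 ∧ Q v = 0 ∧ polar (⇑Q) u v = 0 ∧
    ((g : Matrix.GeneralLinearGroup ι F) : Matrix ι ι F) = Cfsg.siegelMatrix (⇑Q) u v c}

/-- The subgroup generated by the Siegel elements. -/
def siegelGroup (Q : QuadraticForm F (ι → F)) : Subgroup (Cfsg.isometryGroup F (⇑Q)) :=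
  Subgroup.closure (siegelSet Q)

theorem siegelGroup_def (Q : QuadraticForm F (ι → F)) :
    siegelGroup Q = Subgroup.closure {g : Cfsg.isometryGroup F (⇑Q) |
      ∃ (u v : ι → F) (c : F), Q u = 0 ∧ Q v = 0 ∧ polar (⇑Q) u v = 0 ∧
      ((g : Matrix.GeneralLinearGroup ι F) : Matrix ι ι F) = Cfsg.siegelMatrix (⇑Q) u v c} := rfl

theorem siegelIso_mem (Q : QuadraticForm F (ι → F)) (u v : ι → F) (hu : Q u = 0)
    (hv : Q v = 0) (huv : polar (⇑Q) u v = 0) (c : F) :
    siegelIso Q u v hu hv huv c ∈ siegelGroup Q :=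
  Subgroup.subset_closure ⟨u, v, c, hu, hv, huv, rfl⟩

theorem siegelGroup_normal (Q : QuadraticForm F (ι → F)) : (siegelGroup Q).Normal := by
  refine ⟨fun n hn g => ?_⟩
  have : siegelGroup Q ≤ (siegelGroup Q).comap (MulAut.conj g).toMonoidHom := by
    rw [siegelGroup, Subgroup.closure_le]
    rintro h ⟨u, v, c, hu, hv, huv, hh⟩
    have hg := (mem_isometryGroup_iff _ _).1 g.2
    apply Subgroup.subset_closure
    refine ⟨_, _, c, ?_, ?_, ?_, conj_siegel Q g h u v c hh⟩
    · rw [hg, hu]
    · rw [hg, hv]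
    · rw [polar_mulVec_of_isometry Q _ hg, huv]
  exact this hn

/-- Inclusion of the group generated by the Siegel elements in the commutator subgroup. -/
theorem siegelGroup_le_commutator (h2 : (2 : F) ≠ 0) (Q : QuadraticForm F (ι → F))
    (hQ : (polarBilin Q).Nondegenerate) :
    siegelGroup Q ≤ commutator (Cfsg.isometryGroup F (⇑Q)) := by
  rw [siegelGroup, Subgroup.closure_le]
  rintro g ⟨u, v, c, hu, hv, huv, h⟩
  exact mem_commutator_of_siegel h2 Q hQ g u v hu hv huv c h

/-! ### Transitivity -/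

/-- `Reach Q v w`: some element of the group generated by the Siegel elements maps `v` to `w`. -/
def Reach (Q : QuadraticForm F (ι → F)) (v w : ι → F) : Prop :=
  ∃ g ∈ siegelGroup Q, ((g : Matrix.GeneralLinearGroup ι F) : Matrix ι ι F) *ᵥ v = w

theorem Reach.refl (Q : QuadraticForm F (ι → F)) (v : ι → F) : Reach Q v v :=
  ⟨1, one_mem _, by simp⟩

theorem Reach.trans {Q : QuadraticForm F (ι → F)} {u v w : ι → F} (h1 : Reach Q u v)
    (h2 : Reach Q v w) : Reach Q u w := by
  obtain ⟨g, hg, rfl⟩ := h1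
  obtain ⟨h, hh, rfl⟩ := h2
  exact ⟨h * g, mul_mem hh hg, coe_mul_mulVec _ _ _ _⟩

theorem Reach.symm {Q : QuadraticForm F (ι → F)} {u v : ι → F} (h1 : Reach Q u v) :
    Reach Q v u := by
  obtain ⟨g, hg, rfl⟩ := h1
  refine ⟨g⁻¹, inv_mem hg, ?_⟩
  rw [← coe_mul_mulVec, inv_mul_cancel]
  simp

theorem Reach.map_eq {Q : QuadraticForm F (ι → F)} {u v : ι → F} (h1 : Reach Q u v) :
    Q v = Q u := by
  obtain ⟨g, hg, rfl⟩ := h1
  exact (mem_isometryGroup_iff _ _).1 g.2 u

/-- One step: apply a Siegel element. -/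
theorem Reach.siegel (Q : QuadraticForm F (ι → F)) {u v : ι → F} (hu : Q u = 0)
    (hv : Q v = 0) (huv : polar (⇑Q) u v = 0) (c : F) (x : ι → F) :
    Reach Q x (x + c • (polar (⇑Q) u x • v - polar (⇑Q) v x • u)) :=
  ⟨siegelIso Q u v hu hv huv c, siegelIso_mem Q u v hu hv huv c, by
    rw [coe_siegelIso, siegelMatrix_mulVec]⟩

/-- Moving along a hyperbolic pair: if `e, f` is a hyperbolic pair, `w` is a singular vector
orthogonal to both, then `a • e + b • f + x` with `x` orthogonal to `e` and `f` can be moved to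
`a' • e + b • f + (x + (b * c) • w)`. -/
theorem Reach.step (Q : QuadraticForm F (ι → F)) {e f : ι → F} (he : Q e = 0)
    (hef : polar (⇑Q) e f = 1) {w : ι → F} (hw : Q w = 0) (hwe : polar (⇑Q) w e = 0)
    (hwf : polar (⇑Q) w f = 0) (a b c : F) (x : ι → F) (hxe : polar (⇑Q) x e = 0) :
    Reach Q (a • e + b • f + x)
      ((a - c * polar (⇑Q) w x) • e + b • f + (x + (b * c) • w)) := by
  have h := Reach.siegel Q he hw (by rw [polar_comm]; exact hwe) c (a • e + b • f + x)
  have hee : polar (⇑Q) e e = 0 := by rw [polar_self', he, mul_zero]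
  have h1 : polar (⇑Q) e (a • e + b • f + x) = b := by
    simp only [QuadraticMap.polar_add_right, QuadraticMap.polar_smul_right, hee, hef,
      polar_comm (⇑Q) e x, hxe, smul_eq_mul]
    ring
  have h3 : polar (⇑Q) w (a • e + b • f + x) = polar (⇑Q) w x := by
    simp only [QuadraticMap.polar_add_right, QuadraticMap.polar_smul_right, hwe, hwf,
      smul_eq_mul]
    ring
  rw [h1, h3] at h
  convert h using 1
  module

/-- Two mutually orthogonal hyperbolic pairs. -/
structure HypPairs (Q : QuadraticForm F (ι → F)) (e f e' f' : ι → F) : Prop where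
  qe : Q e = 0
  qf : Q f = 0
  qe' : Q e' = 0
  qf' : Q f' = 0
  ef : polar (⇑Q) e f = 1
  ef' : polar (⇑Q) e' f' = 1
  o1 : polar (⇑Q) e e' = 0
  o2 : polar (⇑Q) e f' = 0
  o3 : polar (⇑Q) f e' = 0
  o4 : polar (⇑Q) f f' = 0

theorem HypPairs.swap {Q : QuadraticForm F (ι → F)} {e f e' f' : ι → F}
    (H : HypPairs Q e f e' f') : HypPairs Q f e e' f' :=
  ⟨H.qf, H.qe, H.qe', H.qf', by rw [polar_comm]; exact H.ef, H.ef', H.o3, H.o4, H.o1, H.o2⟩

theorem HypPairs.symm {Q : QuadraticForm F (ι → F)} {e f e' f' : ι → F}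
    (H : HypPairs Q e f e' f') : HypPairs Q e' f' e f :=
  ⟨H.qe', H.qf', H.qe, H.qf, H.ef', H.ef, by rw [polar_comm]; exact H.o1,
    by rw [polar_comm]; exact H.o3, by rw [polar_comm]; exact H.o2,
    by rw [polar_comm]; exact H.o4⟩

/-- A vector orthogonal to a hyperbolic pair is the sum of three singular vectors orthogonal to
that pair, when there is another orthogonal hyperbolic pair. -/
theorem HypPairs.exists_sum {Q : QuadraticForm F (ι → F)} {e f e' f' : ι → F}
    (H : HypPairs Q e f e' f') (x : ι → F) (hxe : polar (⇑Q) x e = 0)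
    (hxf : polar (⇑Q) x f = 0) :
    ∃ s₁ s₂ s₃ : ι → F, x = s₁ + s₂ + s₃ ∧ (Q s₁ = 0 ∧ polar (⇑Q) s₁ e = 0 ∧ polar (⇑Q) s₁ f = 0) ∧
      (Q s₂ = 0 ∧ polar (⇑Q) s₂ e = 0 ∧ polar (⇑Q) s₂ f = 0) ∧
      (Q s₃ = 0 ∧ polar (⇑Q) s₃ e = 0 ∧ polar (⇑Q) s₃ f = 0) := by
  have ee' : polar (⇑Q) e' e' = 0 := by rw [polar_self', H.qe', mul_zero]
  have ff' : polar (⇑Q) f' f' = 0 := by rw [polar_self', H.qf', mul_zero]
  have fe' : polar (⇑Q) f' e' = 1 := by rw [polar_comm]; exact H.ef'
  have o1 : polar (⇑Q) e' e = 0 := by rw [polar_comm]; exact H.o1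
  have o2 : polar (⇑Q) f' e = 0 := by rw [polar_comm]; exact H.o2
  have o3 : polar (⇑Q) e' f = 0 := by rw [polar_comm]; exact H.o3
  have o4 : polar (⇑Q) f' f = 0 := by rw [polar_comm]; exact H.o4
  set a := polar (⇑Q) x f' with ha
  set b := polar (⇑Q) x e' with hb
  set y := x - a • e' - b • f' with hy
  have hye' : polar (⇑Q) y e' = 0 := by
    rw [hy, QuadraticMap.polar_sub_left, QuadraticMap.polar_sub_left,
      QuadraticMap.polar_smul_left, QuadraticMap.polar_smul_left, ee', fe', ← hb]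
    simp
  have hyf' : polar (⇑Q) y f' = 0 := by
    rw [hy, QuadraticMap.polar_sub_left, QuadraticMap.polar_sub_left,
      QuadraticMap.polar_smul_left, QuadraticMap.polar_smul_left, H.ef', ff', ← ha]
    simp
  have hye : polar (⇑Q) y e = 0 := by
    rw [hy, QuadraticMap.polar_sub_left, QuadraticMap.polar_sub_left,
      QuadraticMap.polar_smul_left, QuadraticMap.polar_smul_left, o1, o2, hxe]
    simp
  have hyf : polar (⇑Q) y f = 0 := by
    rw [hy, QuadraticMap.polar_sub_left, QuadraticMap.polar_sub_left,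
      QuadraticMap.polar_smul_left, QuadraticMap.polar_smul_left, o3, o4, hxf]
    simp
  refine ⟨y + e' + (-Q y) • f', (a - 1) • e', (b + Q y) • f', ?_, ⟨?_, ?_, ?_⟩, ⟨?_, ?_, ?_⟩,
    ⟨?_, ?_, ?_⟩⟩
  · rw [hy]; module
  · rw [map_add', map_add', QuadraticMap.map_smul, H.qe', H.qf', QuadraticMap.polar_smul_right,
      QuadraticMap.polar_add_left, hye', hyf', H.ef']
    simp
  · rw [QuadraticMap.polar_add_left, QuadraticMap.polar_add_left, QuadraticMap.polar_smul_left,
      hye, o1, o2]
    simp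
  · rw [QuadraticMap.polar_add_left, QuadraticMap.polar_add_left, QuadraticMap.polar_smul_left,
      hyf, o3, o4]
    simp
  · rw [QuadraticMap.map_smul, H.qe']; simp
  · rw [QuadraticMap.polar_smul_left, o1]; simp
  · rw [QuadraticMap.polar_smul_left, o3]; simp
  · rw [QuadraticMap.map_smul, H.qf']; simp
  · rw [QuadraticMap.polar_smul_left, o2]; simp
  · rw [QuadraticMap.polar_smul_left, o4]; simp

theorem HypPairs.clear {Q : QuadraticForm F (ι → F)} {e f e' f' : ι → F}
    (H : HypPairs Q e f e' f') (a b : F) (hb : b ≠ 0) (x : ι → F) (hxe : polar (⇑Q) x e = 0)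
    (hxf : polar (⇑Q) x f = 0) : ∃ a' : F, Reach Q (a • e + b • f + x) (a' • e + b • f) := by
  have step1 : ∀ w, Q w = 0 → polar (⇑Q) w e = 0 → polar (⇑Q) w f = 0 → ∀ (a : F) (x : ι → F),
      polar (⇑Q) x e = 0 → ∃ a' : F, Reach Q (a • e + b • f + x) (a' • e + b • f + (x - w)) := by
    intro w hw hwe hwf a x hx
    refine ⟨a - (-b⁻¹) * polar (⇑Q) w x, ?_⟩
    have := Reach.step Q H.qe H.ef hw hwe hwf a b (-b⁻¹) x hx
    have h1 : b * -b⁻¹ = -1 := by field_simp
    rwa [h1, neg_one_smul, ← sub_eq_add_neg x w] at this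
  obtain ⟨s₁, s₂, s₃, hx, ⟨q1, e1, f1⟩, ⟨q2, e2, f2⟩, ⟨q3, e3, f3⟩⟩ := H.exists_sum x hxe hxf
  obtain ⟨a1, h1⟩ := step1 s₁ q1 e1 f1 a x hxe
  obtain ⟨a2, h2⟩ := step1 s₂ q2 e2 f2 a1 (x - s₁)
    (by rw [QuadraticMap.polar_sub_left, hxe, e1, sub_zero])
  obtain ⟨a3, h3⟩ := step1 s₃ q3 e3 f3 a2 (x - s₁ - s₂)
    (by rw [QuadraticMap.polar_sub_left, QuadraticMap.polar_sub_left, hxe, e1, e2]; simp)
  refine ⟨a3, (h1.trans h2).trans ?_⟩
  convert h3 using 1
  rw [hx]
  module

theorem HypPairs.map_comb {Q : QuadraticForm F (ι → F)} {e f e' f' : ι → F}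
    (H : HypPairs Q e f e' f') (a b : F) : Q (a • e + b • f) = a * b := by
  rw [map_add', QuadraticMap.map_smul, QuadraticMap.map_smul, H.qe, H.qf,
    QuadraticMap.polar_smul_left, QuadraticMap.polar_smul_right, H.ef]
  simp

theorem HypPairs.reach_aux {Q : QuadraticForm F (ι → F)} {e f e' f' : ι → F}
    (H : HypPairs Q e f e' f') (c : F) (v : ι → F) (hv : Q v = c) (hve : polar (⇑Q) v e ≠ 0) :
    Reach Q v (e + c • f) := by
  have ee : polar (⇑Q) e e = 0 := by rw [polar_self', H.qe, mul_zero]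
  have ff : polar (⇑Q) f f = 0 := by rw [polar_self', H.qf, mul_zero]
  have fe : polar (⇑Q) f e = 1 := by rw [polar_comm]; exact H.ef
  set a := polar (⇑Q) v f with ha
  set b := polar (⇑Q) v e with hb
  obtain ⟨x, hx⟩ : ∃ x, x = v - a • e - b • f := ⟨_, rfl⟩
  have hvx : v = a • e + b • f + x := by rw [hx]; module
  have hxe : polar (⇑Q) x e = 0 := by
    rw [hx, QuadraticMap.polar_sub_left, QuadraticMap.polar_sub_left,
      QuadraticMap.polar_smul_left, QuadraticMap.polar_smul_left, ee, fe, ← hb]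
    simp
  have hxf : polar (⇑Q) x f = 0 := by
    rw [hx, QuadraticMap.polar_sub_left, QuadraticMap.polar_sub_left,
      QuadraticMap.polar_smul_left, QuadraticMap.polar_smul_left, H.ef, ff, ← ha]
    simp
  obtain ⟨a', h1⟩ := H.clear a b hve x hxe hxf
  rw [← hvx] at h1
  refine h1.trans ?_
  -- `a' • e + b • f` goes to `e + b • f + x'`
  have e'e : polar (⇑Q) e' e = 0 := by rw [polar_comm]; exact H.o1
  have f'e : polar (⇑Q) f' e = 0 := by rw [polar_comm]; exact H.o2
  have e'f : polar (⇑Q) e' f = 0 := by rw [polar_comm]; exact H.o3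
  have f'f : polar (⇑Q) f' f = 0 := by rw [polar_comm]; exact H.o4
  have s1 := Reach.step Q H.qe H.ef H.qe' e'e e'f a' b 1 0 (QuadraticMap.polar_zero_left Q e)
  have s2 := Reach.step Q H.qe H.ef H.qf' f'e f'f a' b ((a' - 1) / b) (b • e')
    (by rw [QuadraticMap.polar_smul_left, e'e, smul_zero])
  have h3 : a' - (a' - 1) / b * polar (⇑Q) f' (b • e') = 1 := by
    rw [QuadraticMap.polar_smul_right, polar_comm (⇑Q) f' e', H.ef']
    field_simp
    ring
  rw [h3] at s2
  rw [QuadraticMap.polar_zero_right, mul_zero, sub_zero, mul_one, add_zero, zero_add] at s1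
  obtain ⟨b', h4⟩ := H.swap.clear b 1 one_ne_zero (b • e' + (b * ((a' - 1) / b)) • f')
    (by rw [QuadraticMap.polar_add_left, QuadraticMap.polar_smul_left,
          QuadraticMap.polar_smul_left, e'f, f'f]; simp)
    (by rw [QuadraticMap.polar_add_left, QuadraticMap.polar_smul_left,
          QuadraticMap.polar_smul_left, e'e, f'e]; simp)
  rw [add_comm (b • f) ((1 : F) • e)] at h4
  have h5 := (s1.trans s2).trans h4
  have h6 : b' = c := by
    have h7 := (h1.trans h5).map_eq
    rw [hv, H.swap.map_comb, mul_one] at h7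
    exact h7
  rw [h6, one_smul, add_comm (c • f) e] at h5
  exact h5

/-- The group generated by the Siegel elements is transitive on the vectors of a given nonzero
norm. -/
theorem HypPairs.reach {Q : QuadraticForm F (ι → F)} {e f e' f' : ι → F} (h2 : (2 : F) ≠ 0)
    (H : HypPairs Q e f e' f') (c : F) (hc : c ≠ 0) (v : ι → F) (hv : Q v = c) :
    Reach Q v (e + c • f) := by
  have ee : polar (⇑Q) e e = 0 := by rw [polar_self', H.qe, mul_zero]
  have fe : polar (⇑Q) f e = 1 := by rw [polar_comm]; exact H.ef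
  by_cases hve : polar (⇑Q) v e = 0
  swap
  · exact H.reach_aux c v hv hve
  -- second case
  have key : ∀ v, Q v = c → polar (⇑Q) v f ≠ 0 → Reach Q v (e + c • f) := by
    intro v hv hvf
    have h1 := H.swap.reach_aux c v hv hvf
    refine h1.trans (H.reach_aux c _ (by rw [h1.map_eq, hv]) ?_)
    rw [QuadraticMap.polar_add_left, QuadraticMap.polar_smul_left, ee, fe]
    simp
  by_cases hvf : polar (⇑Q) v f = 0
  swap
  · exact key v hv hvf
  obtain ⟨s₁, s₂, s₃, hx, ⟨q1, e1, f1⟩, ⟨q2, e2, f2⟩, ⟨q3, e3, f3⟩⟩ := H.exists_sum v hve hvf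
  have hne : ∃ w, Q w = 0 ∧ polar (⇑Q) w e = 0 ∧ polar (⇑Q) w f = 0 ∧ polar (⇑Q) w v ≠ 0 := by
    by_contra hcon
    push Not at hcon
    have h3 : polar (⇑Q) v v = 0 := by
      conv_lhs => rw [hx]
      rw [QuadraticMap.polar_add_left, QuadraticMap.polar_add_left, ← hx, hcon s₁ q1 e1 f1,
        hcon s₂ q2 e2 f2, hcon s₃ q3 e3 f3]
      simp
    rw [polar_self', hv] at h3
    exact (mul_ne_zero h2 hc) h3
  obtain ⟨w, hw, hwe, hwf, hwv⟩ := hne
  have h4 := Reach.step Q H.qe H.ef hw hwe hwf 0 0 1 v hve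
  have h5 : (0 : F) • e + (0 : F) • f + v = v := by module
  rw [h5] at h4
  refine h4.trans (key _ (by rw [h4.map_eq, hv]) ?_)
  have ff : polar (⇑Q) f f = 0 := by rw [polar_self', H.qf, mul_zero]
  rw [QuadraticMap.polar_add_left, QuadraticMap.polar_add_left, QuadraticMap.polar_add_left,
    QuadraticMap.polar_smul_left, QuadraticMap.polar_smul_left, QuadraticMap.polar_smul_left,
    hvf, hwf, ff, H.ef]
  simpa using hwv

/-- If there are two mutually orthogonal hyperbolic pairs, the group generated by the Siegel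
elements contains the commutator subgroup of the isometry group. -/
theorem HypPairs.commutator_le {Q : QuadraticForm F (ι → F)} {e f e' f' : ι → F}
    (h2 : (2 : F) ≠ 0) (hQ : (polarBilin Q).Nondegenerate) (H : HypPairs Q e f e' f') :
    commutator (Cfsg.isometryGroup F (⇑Q)) ≤ siegelGroup Q := by
  have := siegelGroup_normal Q
  -- all reflections commute modulo the Siegel group
  have hmk : ∀ (v w : ι → F) (hv : Q v ≠ 0) (hw : Q w ≠ 0), Reach Q v w →
      (QuotientGroup.mk (reflIso Q v hv) : Cfsg.isometryGroup F (⇑Q) ⧸ siegelGroup Q)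
        = QuotientGroup.mk (reflIso Q w hw) := by
    rintro v w hv hw ⟨g, hg, rfl⟩
    rw [← conj_reflIso Q v hv g hw, QuotientGroup.mk_mul, QuotientGroup.mk_mul,
      QuotientGroup.mk_inv, (QuotientGroup.eq_one_iff g).2 hg]
    simp
  have hcomm : ∀ (v w : ι → F) (hv : Q v ≠ 0) (hw : Q w ≠ 0),
      Commute (QuotientGroup.mk (reflIso Q v hv) : Cfsg.isometryGroup F (⇑Q) ⧸ siegelGroup Q)
        (QuotientGroup.mk (reflIso Q w hw)) := by
    intro v w hv hw
    have h1 := H.reach h2 (Q v) hv v rfl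
    have h3 := H.symm.reach h2 (Q w) hw w rfl
    have hv' : Q (e + Q v • f) ≠ 0 := by rw [h1.map_eq]; exact hv
    have hw' : Q (e' + Q w • f') ≠ 0 := by rw [h3.map_eq]; exact hw
    rw [hmk v _ hv hv' h1, hmk w _ hw hw' h3]
    have hpol : polar (⇑Q) (e + Q v • f) (e' + Q w • f') = 0 := by
      rw [QuadraticMap.polar_add_left, QuadraticMap.polar_add_right, QuadraticMap.polar_add_right,
        QuadraticMap.polar_smul_left, QuadraticMap.polar_smul_left,
        QuadraticMap.polar_smul_right, QuadraticMap.polar_smul_right, H.o1, H.o2, H.o3, H.o4]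
      simp
    have hfix : ((reflIso Q _ hv' : Matrix.GeneralLinearGroup ι F) : Matrix ι ι F) *ᵥ
        (e' + Q w • f') = e' + Q w • f' := by
      rw [coe_reflIso]
      exact reflectionMatrix_mulVec_of_polar_eq_zero Q _ _ hpol
    have hconj : reflIso Q _ hv' * reflIso Q _ hw' * (reflIso Q _ hv')⁻¹ = reflIso Q _ hw' := by
      have h5 : Q (((reflIso Q _ hv' : Matrix.GeneralLinearGroup ι F) : Matrix ι ι F) *ᵥ
        (e' + Q w • f')) ≠ 0 := by rw [hfix]; exact hw'
      rw [conj_reflIso Q _ hw' (reflIso Q _ hv') h5]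
      congr 1
    rw [mul_inv_eq_iff_eq_mul] at hconj
    change (QuotientGroup.mk (reflIso Q _ hv') : Cfsg.isometryGroup F (⇑Q) ⧸ siegelGroup Q)
      * QuotientGroup.mk (reflIso Q _ hw') = QuotientGroup.mk (reflIso Q _ hw') *
      QuotientGroup.mk (reflIso Q _ hv')
    rw [← QuotientGroup.mk_mul, ← QuotientGroup.mk_mul, hconj]
  have hcomm2 : ∀ (g : Cfsg.isometryGroup F (⇑Q)) (w : ι → F) (hw : Q w ≠ 0),
      Commute (QuotientGroup.mk g : Cfsg.isometryGroup F (⇑Q) ⧸ siegelGroup Q)
        (QuotientGroup.mk (reflIso Q w hw)) := by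
    intro g w hw
    refine isometry_induction h2 Q hQ (fun g =>
      Commute (QuotientGroup.mk g : Cfsg.isometryGroup F (⇑Q) ⧸ siegelGroup Q)
        (QuotientGroup.mk (reflIso Q w hw))) (Commute.one_left _) ?_ g
    intro v hv g hg
    rw [QuotientGroup.mk_mul]
    exact (hcomm v w hv hw).mul_left hg
  have hcomm3 : ∀ (g h : Cfsg.isometryGroup F (⇑Q)),
      Commute (QuotientGroup.mk g : Cfsg.isometryGroup F (⇑Q) ⧸ siegelGroup Q)
        (QuotientGroup.mk h) := by
    intro g h
    refine isometry_induction h2 Q hQ (fun h =>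
      Commute (QuotientGroup.mk g : Cfsg.isometryGroup F (⇑Q) ⧸ siegelGroup Q)
        (QuotientGroup.mk h)) (Commute.one_right _) ?_ h
    intro v hv h hh
    rw [QuotientGroup.mk_mul]
    exact (hcomm2 g v hv).mul_right hh
  rw [commutator_def, Subgroup.commutator_le]
  intro g _ h _
  rw [← QuotientGroup.eq_one_iff, commutatorElement_def, QuotientGroup.mk_mul,
    QuotientGroup.mk_mul, QuotientGroup.mk_mul, (hcomm3 g h).eq, QuotientGroup.mk_inv,
    QuotientGroup.mk_inv]
  group

end Siegel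

section Existence

variable {F : Type*} [Field F]

/-- A quadratic form in at least three dimensions over a finite field of odd order has a nonzero
singular vector. -/
theorem exists_singular [Finite F] {V : Type*} [AddCommGroup V] [Module F V]
    [FiniteDimensional F V] (h2 : (2 : F) ≠ 0) (Q : QuadraticForm F V)
    (h3 : 3 ≤ finrank F V) : ∃ v : V, v ≠ 0 ∧ Q v = 0 := by
  have := Fintype.ofFinite F
  have : Invertible (2 : F) := invertibleOfNonzero h2
  have hsymm : LinearMap.IsSymm (polarBilin Q) :=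
    ⟨fun x y => by
      simp only [polarBilin_apply_apply, RingHom.id_apply]
      exact polar_comm (⇑Q) x y⟩
  obtain ⟨b, hb⟩ := LinearMap.BilinForm.exists_orthogonal_basis hsymm
  have hbo : ∀ i j, i ≠ j → polar (⇑Q) (b i) (b j) = 0 := by
    intro i j hij
    have := hb hij
    simpa [Function.onFun] using this
  by_cases hsing : ∃ i, Q (b i) = 0
  · obtain ⟨i, hi⟩ := hsing
    exact ⟨b i, b.ne_zero i, hi⟩
  push Not at hsing
  let i0 : Fin (finrank F V) := ⟨0, by omega⟩
  let i1 : Fin (finrank F V) := ⟨1, by omega⟩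
  let i2 : Fin (finrank F V) := ⟨2, by omega⟩
  have h01 : i0 ≠ i1 := by simp [i0, i1, Fin.ext_iff]
  have h02 : i0 ≠ i2 := by simp [i0, i2, Fin.ext_iff]
  have h12 : i1 ≠ i2 := by simp [i1, i2, Fin.ext_iff]
  obtain ⟨x, y, hxy⟩ : ∃ x y : F, Q (b i0) * x ^ 2 + Q (b i1) * y ^ 2 + Q (b i2) = 0 := by
    have hf : (Polynomial.C (Q (b i0)) * Polynomial.X ^ 2 : Polynomial F).degree = 2 :=
      Polynomial.degree_C_mul_X_pow 2 (hsing i0)
    have hg : (Polynomial.C (Q (b i1)) * Polynomial.X ^ 2 + Polynomial.C (Q (b i2)) :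
        Polynomial F).degree = 2 := by
      have := Polynomial.degree_quadratic (b := 0) (c := Q (b i2)) (hsing i1)
      simpa using this
    have hR : Fintype.card F % 2 = 1 := by
      apply FiniteField.odd_card_of_char_ne_two
      intro hchar
      apply h2
      have : CharP F 2 := by rw [← hchar]; exact ringChar.charP F
      exact CharTwo.two_eq_zero
    obtain ⟨x, y, h⟩ := FiniteField.exists_root_sum_quadratic hf hg hR
    refine ⟨x, y, ?_⟩
    simp only [Polynomial.eval_mul, Polynomial.eval_C, Polynomial.eval_pow, Polynomial.eval_X,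
      Polynomial.eval_add] at h
    rw [← h]; ring
  refine ⟨x • b i0 + y • b i1 + b i2, ?_, ?_⟩
  · intro h0
    have h4 := congrArg (fun v => b.repr v i2) h0
    simp [h02, h12] at h4
  · rw [QuadraticMap.map_add Q, QuadraticMap.map_add Q, QuadraticMap.map_smul,
      QuadraticMap.map_smul, QuadraticMap.polar_add_left, QuadraticMap.polar_smul_left,
      QuadraticMap.polar_smul_left, QuadraticMap.polar_smul_left, QuadraticMap.polar_smul_right,
      hbo _ _ h01, hbo _ _ h02, hbo _ _ h12]
    simp only [smul_eq_mul]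
    linear_combination hxy

variable {ι : Type} [Fintype ι] [DecidableEq ι]

theorem exists_polar_eq_one (Q : QuadraticForm F (ι → F)) (hQ : (polarBilin Q).Nondegenerate)
    (e : ι → F) (he : e ≠ 0) : ∃ w, polar (⇑Q) e w = 1 := by
  obtain ⟨w, hw⟩ : ∃ w, polar (⇑Q) e w ≠ 0 := by
    by_contra hcon
    push Not at hcon
    exact he (hQ.1 e fun w => by rw [polarBilin_apply_apply]; exact hcon w)
  refine ⟨(polar (⇑Q) e w)⁻¹ • w, ?_⟩
  rw [QuadraticMap.polar_smul_right, smul_eq_mul, inv_mul_cancel₀ hw]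

/-- A nonzero singular vector of a non-degenerate quadratic form lies in a hyperbolic pair. -/
theorem exists_hyperbolic_partner (Q : QuadraticForm F (ι → F))
    (hQ : (polarBilin Q).Nondegenerate) (e : ι → F) (he : e ≠ 0) (hqe : Q e = 0) :
    ∃ f, Q f = 0 ∧ polar (⇑Q) e f = 1 := by
  obtain ⟨w, hw⟩ := exists_polar_eq_one Q hQ e he
  have ee : polar (⇑Q) e e = 0 := by rw [polar_self', hqe, mul_zero]
  refine ⟨w + (-Q w) • e, ?_, ?_⟩
  · rw [map_add', QuadraticMap.map_smul, QuadraticMap.polar_smul_right, polar_comm (⇑Q) w e, hw,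
      hqe]
    simp
  · rw [QuadraticMap.polar_add_right, QuadraticMap.polar_smul_right, hw, ee]
    simp

/-- In dimension at least five over a finite field of odd order there are two mutually orthogonal
hyperbolic pairs. -/
theorem exists_hypPairs [Finite F] (h2 : (2 : F) ≠ 0) (Q : QuadraticForm F (ι → F))
    (hQ : (polarBilin Q).Nondegenerate) (hn : 5 ≤ Fintype.card ι) :
    ∃ e f e' f' : ι → F, HypPairs Q e f e' f' := by
  obtain ⟨e, he, hqe⟩ := exists_singular h2 Q (by rw [Module.finrank_fintype_fun_eq_card]; omega)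
  obtain ⟨f, hqf, hef⟩ := exists_hyperbolic_partner Q hQ e he hqe
  have ee : polar (⇑Q) e e = 0 := by rw [polar_self', hqe, mul_zero]
  have ff : polar (⇑Q) f f = 0 := by rw [polar_self', hqf, mul_zero]
  have fe : polar (⇑Q) f e = 1 := by rw [polar_comm]; exact hef
  -- the orthogonal complement of the hyperbolic pair
  let L : (ι → F) →ₗ[F] F × F := (polarBilin Q e).prod (polarBilin Q f)
  have hL : 3 ≤ finrank F (LinearMap.ker L) := by
    have h1 := LinearMap.finrank_range_add_finrank_ker L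
    have h3 : finrank F (LinearMap.range L) ≤ 2 := by
      have := Submodule.finrank_le (LinearMap.range L)
      rw [Module.finrank_prod, Module.finrank_self] at this
      omega
    rw [Module.finrank_fintype_fun_eq_card] at h1
    omega
  obtain ⟨⟨e', he'L⟩, he', hqe'⟩ := exists_singular h2 (Q.comp (LinearMap.ker L).subtype) hL
  have he'0 : e' ≠ 0 := fun h => he' (Subtype.ext h)
  have hqe'' : Q e' = 0 := hqe'
  rw [LinearMap.mem_ker] at he'L
  have o1 : polar (⇑Q) e e' = 0 := congrArg Prod.fst he'L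
  have o3 : polar (⇑Q) f e' = 0 := congrArg Prod.snd he'L
  have o1' : polar (⇑Q) e' e = 0 := by rw [polar_comm]; exact o1
  have o3' : polar (⇑Q) e' f = 0 := by rw [polar_comm]; exact o3
  obtain ⟨w, hw⟩ := exists_polar_eq_one Q hQ e' he'0
  have e'e' : polar (⇑Q) e' e' = 0 := by rw [polar_self', hqe'', mul_zero]
  obtain ⟨w', hw'def⟩ : ∃ w', w' = w - polar (⇑Q) w f • e - polar (⇑Q) w e • f := ⟨_, rfl⟩
  have h1 : polar (⇑Q) e' w' = 1 := by
    rw [hw'def, QuadraticMap.polar_sub_right, QuadraticMap.polar_sub_right,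
      QuadraticMap.polar_smul_right, QuadraticMap.polar_smul_right, hw, o1', o3']
    simp
  have h3 : polar (⇑Q) e w' = 0 := by
    rw [hw'def, QuadraticMap.polar_sub_right, QuadraticMap.polar_sub_right,
      QuadraticMap.polar_smul_right, QuadraticMap.polar_smul_right, ee, hef,
      polar_comm (⇑Q) e w]
    simp
  have h4 : polar (⇑Q) f w' = 0 := by
    rw [hw'def, QuadraticMap.polar_sub_right, QuadraticMap.polar_sub_right,
      QuadraticMap.polar_smul_right, QuadraticMap.polar_smul_right, fe, ff,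
      polar_comm (⇑Q) f w]
    simp
  refine ⟨e, f, e', w' + (-Q w') • e', hqe, hqf, hqe'', ?_, hef, ?_, o1, ?_, o3, ?_⟩
  · rw [map_add', QuadraticMap.map_smul, QuadraticMap.polar_smul_right, polar_comm (⇑Q) w' e', h1,
      hqe'']
    simp
  · rw [QuadraticMap.polar_add_right, QuadraticMap.polar_smul_right, h1, e'e']
    simp
  · rw [QuadraticMap.polar_add_right, QuadraticMap.polar_smul_right, h3, o1]
    simp
  · rw [QuadraticMap.polar_add_right, QuadraticMap.polar_smul_right, h4, o3]
    simp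

/-- In dimension at least five over a finite field of odd order the commutator subgroup of the
isometry group is generated by the Siegel elements. -/
theorem commutator_eq_siegelGroup [Finite F] (h2 : (2 : F) ≠ 0) (Q : QuadraticForm F (ι → F))
    (hQ : (polarBilin Q).Nondegenerate) (hn : 5 ≤ Fintype.card ι) :
    commutator (Cfsg.isometryGroup F (⇑Q)) = siegelGroup Q := by
  obtain ⟨e, f, e', f', H⟩ := exists_hypPairs h2 Q hQ hn
  exact le_antisymm (H.commutator_le h2 hQ) (siegelGroup_le_commutator h2 Q hQ)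

/-- In dimension at least five over a finite field of odd order the commutator subgroup of the
isometry group is transitive on the vectors of a given nonzero norm. -/
theorem exists_mem_commutator_mulVec_eq [Finite F] (h2 : (2 : F) ≠ 0)
    (Q : QuadraticForm F (ι → F)) (hQ : (polarBilin Q).Nondegenerate) (hn : 5 ≤ Fintype.card ι)
    (v w : ι → F) (hv : Q v ≠ 0) (hvw : Q v = Q w) :
    ∃ g ∈ commutator (Cfsg.isometryGroup F (⇑Q)),
      ((g : Matrix.GeneralLinearGroup ι F) : Matrix ι ι F) *ᵥ v = w := by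
  obtain ⟨e, f, e', f', H⟩ := exists_hypPairs h2 Q hQ hn
  rw [commutator_eq_siegelGroup h2 Q hQ hn]
  exact (H.reach h2 (Q v) hv v rfl).trans (H.reach h2 (Q v) hv w hvw.symm).symm

end Existence

end Cfsg.Agent.ClassicalGeometry.SiegelGen
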