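import Mathlib

set_option autoImplicit false

/-!
Totally singular subspaces of a quadratic form `Q : V → F` (given as a function with bilinear polar form `B`)
on a space of dimension `2m` which has a totally singular subspace of dimension `m` (plus type):
* `exists_maximal`: every totally singular subspace lies in one of dimension `m`;
* `card_eq_two`: every totally singular `(m-1)`-subspace lies in exactly two of dimension `m`.
-/

namespace Cfsg.Agent.ClassicalGeometry.SubmaximalCount

open Module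

variable {F V : Type*} [Field F] [AddCommGroup V] [Module F V]

theorem polar_eq_zero (Q : V → F) (B : LinearMap.BilinForm F V)
    (hQ : ∀ u v, Q (u + v) = Q u + Q v + B u v) {W : Submodule F V} (hW : ∀ w ∈ W, Q w = 0)
    {u v : V} (hu : u ∈ W) (hv : v ∈ W) : B u v = 0 := by
  have h := hQ u v
  rw [hW _ (W.add_mem hu hv), hW _ hu, hW _ hv, zero_add, zero_add] at h
  exact h.symm

theorem le_orthogonal_self (Q : V → F) (B : LinearMap.BilinForm F V)
    (hQ : ∀ u v, Q (u + v) = Q u + Q v + B u v) {W : Submodule F V} (hW : ∀ w ∈ W, Q w = 0) :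
    W ≤ B.orthogonal W := by
  intro v hv
  rw [LinearMap.BilinForm.mem_orthogonal_iff]
  intro u hu
  exact polar_eq_zero Q B hQ hW hu hv

variable [FiniteDimensional F V]

/-- a totally singular subspace of half the dimension is its own orthogonal -/
theorem orthogonal_eq_self (Q : V → F) (B : LinearMap.BilinForm F V)
    (hQ : ∀ u v, Q (u + v) = Q u + Q v + B u v) (hB : B.Nondegenerate)
    {m : ℕ} (hm : finrank F V = 2 * m) {W : Submodule F V} (hW : ∀ w ∈ W, Q w = 0)
    (hWm : finrank F W = m) : B.orthogonal W = W := by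
  symm
  apply Submodule.eq_of_le_of_finrank_eq (le_orthogonal_self Q B hQ hW)
  rw [LinearMap.BilinForm.finrank_orthogonal hB]
  omega

/-- every totally singular subspace of a form of plus type lies in a maximal one of half the dimension -/
theorem exists_maximal (Q : V → F) (B : LinearMap.BilinForm F V)
    (hQ : ∀ u v, Q (u + v) = Q u + Q v + B u v) (hB : B.Nondegenerate)
    {m : ℕ} (hm : finrank F V = 2 * m) {W₀ : Submodule F V} (hW₀ : ∀ w ∈ W₀, Q w = 0)
    (hWm : finrank F W₀ = m) {U : Submodule F V} (hU : ∀ u ∈ U, Q u = 0) :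
    ∃ W : Submodule F V, finrank F W = m ∧ (∀ w ∈ W, Q w = 0) ∧ U ≤ W := by
  have hUU := le_orthogonal_self Q B hQ hU
  have hWW := orthogonal_eq_self Q B hQ hB hm hW₀ hWm
  refine ⟨(W₀ ⊓ B.orthogonal U) ⊔ U, ?_, ?_, le_sup_right⟩
  · have h1 := Submodule.finrank_sup_add_finrank_inf_eq (W₀ ⊓ B.orthogonal U) U
    have h2 := Submodule.finrank_sup_add_finrank_inf_eq W₀ U
    have h3 : (W₀ ⊓ B.orthogonal U) ⊓ U = W₀ ⊓ U := by
      apply le_antisymm
      · exact inf_le_inf_right _ inf_le_left
      · exact le_inf (le_inf inf_le_left (inf_le_right.trans hUU)) inf_le_right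
    have h4 : W₀ ⊓ B.orthogonal U = B.orthogonal (W₀ ⊔ U) := by
      ext v
      constructor
      · rintro ⟨hv1, hv2⟩
        rw [← hWW] at hv1
        rw [LinearMap.BilinForm.mem_orthogonal_iff]
        intro n hn
        obtain ⟨a, ha, b, hb, rfl⟩ := Submodule.mem_sup.mp hn
        rw [map_add, LinearMap.add_apply]
        have e1 : B a v = 0 := (LinearMap.BilinForm.mem_orthogonal_iff.mp hv1) a ha
        have e2 : B b v = 0 := (LinearMap.BilinForm.mem_orthogonal_iff.mp hv2) b hb
        rw [e1, e2, add_zero]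
      · intro hv
        refine ⟨?_, ?_⟩
        · have := LinearMap.BilinForm.orthogonal_le (B := B) (le_sup_left : W₀ ≤ W₀ ⊔ U) hv
          rwa [hWW] at this
        · exact LinearMap.BilinForm.orthogonal_le (B := B) (le_sup_right : U ≤ W₀ ⊔ U) hv
    have h5 := LinearMap.BilinForm.finrank_orthogonal hB (W₀ ⊔ U)
    have h6 := Submodule.finrank_le (W₀ ⊔ U)
    rw [h3] at h1
    rw [← h4] at h5
    omega
  · intro w hw
    obtain ⟨a, ha, b, hb, rfl⟩ := Submodule.mem_sup.mp hw
    have e1 : B b a = 0 := (LinearMap.BilinForm.mem_orthogonal_iff.mp ha.2) b hb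
    rw [add_comm, hQ, hW₀ _ ha.1, hU _ hb, e1, add_zero, add_zero]

/-- every totally singular subspace of dimension `m-1` lies in exactly two of dimension `m` -/
theorem card_eq_two (Q : V → F) (B : LinearMap.BilinForm F V)
    (hQ : ∀ u v, Q (u + v) = Q u + Q v + B u v) (hQs : ∀ (a : F) v, Q (a • v) = a * a * Q v)
    (hB : B.Nondegenerate)
    {m : ℕ} (hm : finrank F V = 2 * m) {W₀ : Submodule F V} (hW₀ : ∀ w ∈ W₀, Q w = 0)
    (hWm : finrank F W₀ = m) {U : Submodule F V} (hUm : finrank F U + 1 = m)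
    (hU : ∀ u ∈ U, Q u = 0) :
    Nat.card {W : Submodule F V // finrank F W = m ∧ (∀ w ∈ W, Q w = 0) ∧ U ≤ W} = 2 := by
  have hsym : ∀ u v, B u v = B v u := by
    intro u v
    have h1 := hQ u v
    have h2 := hQ v u
    rw [add_comm v u] at h2
    have : Q u + Q v + B u v = Q u + Q v + B v u := by
      rw [← h1, h2]; ring
    exact add_left_cancel this
  obtain ⟨W₁, hW₁m, hW₁Q, hUW₁⟩ := exists_maximal Q B hQ hB hm hW₀ hWm hU
  have hUU := le_orthogonal_self Q B hQ hU
  have hperp := orthogonal_eq_self Q B hQ hB hm hW₁Q hW₁m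
  have hUlt : U < W₁ := lt_of_le_of_ne hUW₁ (fun h => by rw [h] at hUm; omega)
  obtain ⟨e, heW, heU⟩ := SetLike.exists_of_lt hUlt
  have hUp : finrank F (B.orthogonal U) = m + 1 := by
    rw [LinearMap.BilinForm.finrank_orthogonal hB]; omega
  have hW₁U : W₁ ≤ B.orthogonal U := by
    rw [← hperp]; exact LinearMap.BilinForm.orthogonal_le hUW₁
  have hW₁lt : W₁ < B.orthogonal U := lt_of_le_of_ne hW₁U (fun h => by rw [h] at hW₁m; omega)
  obtain ⟨f, hfU, hfW⟩ := SetLike.exists_of_lt hW₁lt
  -- `W₁ = U ⊔ span {e}`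
  have span_fr : ∀ v : V, v ∉ U → finrank F ↥(U ⊔ Submodule.span F {v}) = m := by
    intro v hv
    have hv0 : v ≠ 0 := fun h => hv (h ▸ U.zero_mem)
    have h1 := Submodule.finrank_sup_add_finrank_inf_eq U (Submodule.span F {v})
    have h2 : U ⊓ Submodule.span F {v} = ⊥ := by
      rw [eq_bot_iff]
      rintro x ⟨hx1, hx2⟩
      obtain ⟨c, rfl⟩ := Submodule.mem_span_singleton.mp hx2
      rcases eq_or_ne c 0 with hc | hc
      · simp [hc]
      · exact absurd ((Submodule.smul_mem_iff U hc).mp hx1) hv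
    rw [h2, finrank_bot, finrank_span_singleton hv0] at h1
    omega
  have hW₁e : U ⊔ Submodule.span F {e} = W₁ := by
    apply Submodule.eq_of_le_of_finrank_eq
    · exact sup_le hUW₁ (by rw [Submodule.span_singleton_le_iff_mem]; exact heW)
    · rw [span_fr e heU, hW₁m]
  have hBef : B e f ≠ 0 := by
    intro h0
    apply hfW
    rw [← hperp, LinearMap.BilinForm.mem_orthogonal_iff]
    intro n hn
    rw [← hW₁e] at hn
    obtain ⟨a, ha, b, hb, rfl⟩ := Submodule.mem_sup.mp hn
    obtain ⟨c, rfl⟩ := Submodule.mem_span_singleton.mp hb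
    have e1 : B a f = 0 := (LinearMap.BilinForm.mem_orthogonal_iff.mp hfU) a ha
    simp [e1, h0]
  -- the second singular vector
  obtain ⟨g, hgdef⟩ : ∃ g, g = f + (-(Q f / B e f)) • e := ⟨_, rfl⟩
  have hgW : g ∉ W₁ := by
    intro h
    apply hfW
    have : f = g - (-(Q f / B e f)) • e := by rw [hgdef]; abel
    rw [this]
    exact W₁.sub_mem h (W₁.smul_mem _ heW)
  have hgU : g ∉ U := fun h => hgW (hUW₁ h)
  have heUp : e ∈ B.orthogonal U := hW₁U heW
  have hgUp : g ∈ B.orthogonal U := by
    rw [hgdef]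
    exact Submodule.add_mem _ hfU (Submodule.smul_mem _ _ heUp)
  have hQe : Q e = 0 := hW₁Q e heW
  have hQg : Q g = 0 := by
    rw [hgdef, hQ, hQs, hQe, map_smul, smul_eq_mul, hsym f e]
    field_simp
    ring
  have hBeg : B e g ≠ 0 := by
    rw [hgdef, map_add, map_smul, polar_eq_zero Q B hQ hW₁Q heW heW, smul_zero, add_zero]
    exact hBef
  have hperp_U : ∀ u ∈ U, ∀ v ∈ B.orthogonal U, B u v = 0 := fun u hu v hv =>
    (LinearMap.BilinForm.mem_orthogonal_iff.mp hv) u hu
  -- `U^⊥ = U + ⟨e⟩ + ⟨g⟩`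
  have hspan : W₁ ⊔ Submodule.span F {g} = B.orthogonal U := by
    have hg0 : g ≠ 0 := fun h => hgU (h ▸ U.zero_mem)
    apply Submodule.eq_of_le_of_finrank_eq
    · exact sup_le hW₁U (by rw [Submodule.span_singleton_le_iff_mem]; exact hgUp)
    · have h1 := Submodule.finrank_sup_add_finrank_inf_eq W₁ (Submodule.span F {g})
      have h2 : W₁ ⊓ Submodule.span F {g} = ⊥ := by
        rw [eq_bot_iff]
        rintro x ⟨hx1, hx2⟩
        obtain ⟨c, rfl⟩ := Submodule.mem_span_singleton.mp hx2
        rcases eq_or_ne c 0 with hc | hc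
        · simp [hc]
        · exact absurd ((Submodule.smul_mem_iff W₁ hc).mp hx1) hgW
      rw [h2, finrank_bot, finrank_span_singleton hg0] at h1
      omega
  -- the second maximal subspace
  have hW₂Q : ∀ w ∈ U ⊔ Submodule.span F {g}, Q w = 0 := by
    intro w hw
    obtain ⟨a, ha, b, hb, rfl⟩ := Submodule.mem_sup.mp hw
    obtain ⟨c, rfl⟩ := Submodule.mem_span_singleton.mp hb
    rw [hQ, hU a ha, hQs, hQg, map_smul, hperp_U a ha g hgUp]
    simp
  have hgW₂ : g ∈ U ⊔ Submodule.span F {g} :=
    Submodule.mem_sup_right (Submodule.mem_span_singleton_self g)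
  rw [Nat.card_eq_two_iff]
  refine ⟨⟨W₁, hW₁m, hW₁Q, hUW₁⟩, ⟨U ⊔ Submodule.span F {g}, span_fr g hgU, hW₂Q, le_sup_left⟩,
    ?_, ?_⟩
  · intro h
    have h' := congrArg Subtype.val h
    simp only at h'
    apply hgW
    rw [h']
    exact hgW₂
  · rw [Set.eq_univ_iff_forall]
    rintro ⟨W, hWm', hWQ, hUW⟩
    simp only [Set.mem_insert_iff, Set.mem_singleton_iff, Subtype.mk.injEq]
    have hUltW : U < W := lt_of_le_of_ne hUW (fun h => by rw [h] at hUm; omega)
    obtain ⟨w, hwW, hwU⟩ := SetLike.exists_of_lt hUltW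
    have hWperp := orthogonal_eq_self Q B hQ hB hm hWQ hWm'
    have hWU : W ≤ B.orthogonal U := by
      rw [← hWperp]; exact LinearMap.BilinForm.orthogonal_le hUW
    have hw' := hWU hwW
    rw [← hspan, ← hW₁e] at hw'
    obtain ⟨a, ha, b, hb, hab⟩ := Submodule.mem_sup.mp hw'
    obtain ⟨u, hu, c, hc, rfl⟩ := Submodule.mem_sup.mp ha
    obtain ⟨β, rfl⟩ := Submodule.mem_span_singleton.mp hb
    obtain ⟨α, rfl⟩ := Submodule.mem_span_singleton.mp hc
    have hwu : U ⊔ Submodule.span F {w} = W := by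
      apply Submodule.eq_of_le_of_finrank_eq
      · exact sup_le hUW (by rw [Submodule.span_singleton_le_iff_mem]; exact hwW)
      · rw [span_fr w hwU, hWm']
    have hQw : Q w = 0 := hWQ w hwW
    have hcalc : Q w = α * β * B e g := by
      rw [← hab, add_assoc, hQ u, hU u hu, map_add, map_smul, map_smul, hperp_U u hu e heUp,
        hperp_U u hu g hgUp, hQ (α • e), hQs, hQs, hQe, hQg, map_smul, LinearMap.map_smul₂]
      simp only [smul_eq_mul]
      ring
    rw [hcalc] at hQw
    have hαβ : α = 0 ∨ β = 0 := by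
      rcases mul_eq_zero.mp hQw with h | h
      · exact mul_eq_zero.mp h
      · exact absurd h hBeg
    rcases hαβ with h | h
    · right
      rw [← hwu]
      apply Submodule.eq_of_le_of_finrank_eq
      · apply sup_le le_sup_left
        rw [Submodule.span_singleton_le_iff_mem, ← hab, h, zero_smul, add_zero]
        exact Submodule.add_mem _ (Submodule.mem_sup_left hu) (Submodule.smul_mem _ _ hgW₂)
      · rw [span_fr w hwU, span_fr g hgU]
    · left
      rw [← hwu]
      apply Submodule.eq_of_le_of_finrank_eq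
      · apply sup_le hUW₁
        rw [Submodule.span_singleton_le_iff_mem, ← hab, h, zero_smul, add_zero]
        exact Submodule.add_mem _ (hUW₁ hu) (Submodule.smul_mem _ _ heW)
      · rw [span_fr w hwU, hW₁m]

end Cfsg.Agent.ClassicalGeometry.SubmaximalCount
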