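import Mathlib
import Cfsg.Prelude.Def_ClassicalGeometry
import Cfsg.Agent.ClassicalGeometry.SympBasic
import Cfsg.Agent.Lib.TowerCount

/-!
Counting symplectic frames (the columns of the elements of `Sp_2m(q)`), with constraints on the
first `m` vectors.
-/

set_option autoImplicit false
open Cfsg
open scoped Matrix

namespace Cfsg.Agent.ClassicalGeometry.SympFrames

open Cfsg.Agent.ClassicalGeometry.SympBasic Cfsg.Agent.Lib.TowerCount

variable {F : Type*} [Field F] {m : ℕ}

/-- Entries of the Gram matrix of a symplectic frame `(e_0, …, e_{m-1}, f_0, …, f_{m-1})`. -/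
def gram (F : Type*) [Field F] (m i j : ℕ) : F :=
  if j = i + m then -1 else if i = j + m then 1 else 0

/-- Partial symplectic frames of length `n` whose `i`-th vector lies in `W i`. -/
def IsFrame (W : ℕ → Submodule F (Fin m ⊕ Fin m → F)) (n : ℕ)
    (v : Fin n → (Fin m ⊕ Fin m → F)) : Prop :=
  (∀ i : Fin n, v i ∈ W i) ∧ LinearIndependent F v ∧
    ∀ i j : Fin n, sympForm m F (v i) (v j) = gram F m i j

/-- The functionals `f(v_i, ·)`. -/
def functionals {n : ℕ} (v : Fin n → (Fin m ⊕ Fin m → F)) :
    Fin n → Module.Dual F (Fin m ⊕ Fin m → F) :=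
  fun i => sympBilin m F (v i)

theorem functionals_apply {n : ℕ} (v : Fin n → (Fin m ⊕ Fin m → F)) (i : Fin n)
    (x : Fin m ⊕ Fin m → F) : functionals v i x = sympForm m F (v i) x := rfl

/-- The vectors orthogonal to all entries of a tuple. -/
def perp {n : ℕ} (v : Fin n → (Fin m ⊕ Fin m → F)) : Submodule F (Fin m ⊕ Fin m → F) :=
  LinearMap.ker (LinearMap.pi (functionals v))

theorem mem_perp {n : ℕ} {v : Fin n → (Fin m ⊕ Fin m → F)} {x : Fin m ⊕ Fin m → F} :
    x ∈ perp v ↔ ∀ i, sympForm m F (v i) x = 0 := by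
  rw [perp, LinearMap.mem_ker, funext_iff]
  rfl

theorem ker_sympBilin : LinearMap.ker (sympBilin m F) = ⊥ := by
  rw [LinearMap.ker_eq_bot']
  intro v hv
  refine eq_zero_of_forall_sympForm_right fun w => ?_
  rw [← sympBilin_apply, hv]
  rfl

theorem linearIndependent_functionals {n : ℕ} {v : Fin n → (Fin m ⊕ Fin m → F)}
    (hv : LinearIndependent F v) :
    LinearIndependent F (functionals v) :=
  hv.map' (sympBilin m F) ker_sympBilin

theorem finrank_space : Module.finrank F (Fin m ⊕ Fin m → F) = 2 * m := by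
  rw [Module.finrank_fintype_fun_eq_card, Fintype.card_sum, Fintype.card_fin]
  ring

theorem finrank_perp {n : ℕ} {v : Fin n → (Fin m ⊕ Fin m → F)} (hv : LinearIndependent F v) :
    Module.finrank F (perp v) = 2 * m - n := by
  have h := linearIndependent_functionals hv
  have h2 := finrank_ker_pi h
  rw [perp, h2, finrank_space, Fintype.card_fin]

theorem isFrame_zero (W : ℕ → Submodule F (Fin m ⊕ Fin m → F))
    (v : Fin 0 → (Fin m ⊕ Fin m → F)) : IsFrame W 0 v :=
  ⟨fun i => i.elim0, linearIndependent_empty_type, fun i => i.elim0⟩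

theorem isFrame_init {W : ℕ → Submodule F (Fin m ⊕ Fin m → F)} {n : ℕ}
    {v : Fin (n + 1) → (Fin m ⊕ Fin m → F)} (h : IsFrame W (n + 1) v) :
    IsFrame W n (Fin.init v) :=
  ⟨fun i => h.1 i.castSucc, h.2.1.comp _ (Fin.castSucc_injective n),
    fun i j => h.2.2 i.castSucc j.castSucc⟩

theorem gram_self (i : ℕ) (hi : i < m + m) : gram F m i i = 0 := by
  rw [gram, if_neg (by omega), if_neg (by omega)]

theorem gram_swap (hm : 0 < m) (i j : ℕ) : gram F m i j = - gram F m j i := by
  unfold gram
  split_ifs <;> first | omega | simp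

/-- Extension of a frame by one vector. -/
theorem isFrame_snoc_iff {W : ℕ → Submodule F (Fin m ⊕ Fin m → F)} {n : ℕ} (hn : n < m + m)
    {v : Fin n → (Fin m ⊕ Fin m → F)} (hv : IsFrame W n v) (x : Fin m ⊕ Fin m → F) :
    IsFrame W (n + 1) (Fin.snoc (α := fun _ => (Fin m ⊕ Fin m → F)) v x) ↔
      x ∈ W n ∧ x ∉ Submodule.span F (Set.range v) ∧
        ∀ i : Fin n, sympForm m F (v i) x = gram F m i n := by
  have hm : 0 < m := by omega
  constructor
  · rintro ⟨h1, h2, h3⟩
    refine ⟨?_, ?_, ?_⟩
    · have := h1 (Fin.last n)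
      rwa [Fin.snoc_last] at this
    · exact (linearIndependent_finSnoc.1 h2).2
    · intro i
      have := h3 i.castSucc (Fin.last n)
      rwa [Fin.snoc_castSucc, Fin.snoc_last] at this
  · rintro ⟨h1, h2, h3⟩
    refine ⟨?_, ?_, ?_⟩
    · intro i
      induction i using Fin.lastCases with
      | last => rw [Fin.snoc_last]; exact h1
      | cast i => rw [Fin.snoc_castSucc]; exact hv.1 i
    · exact linearIndependent_finSnoc.2 ⟨hv.2.1, h2⟩
    · intro i j
      induction i using Fin.lastCases with
      | last =>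
        induction j using Fin.lastCases with
        | last =>
          rw [Fin.snoc_last, sympForm_self, Fin.val_last, gram_self _ hn]
        | cast j =>
          rw [Fin.snoc_last, Fin.snoc_castSucc, sympForm_swap, h3, gram_swap hm]
          simp
      | cast i =>
        induction j using Fin.lastCases with
        | last => rw [Fin.snoc_last, Fin.snoc_castSucc, h3]; rfl
        | cast j => rw [Fin.snoc_castSucc, Fin.snoc_castSucc]; exact hv.2.2 i j

/-- In the second half, linear independence is automatic. -/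
theorem notMem_span_of_gram {W : ℕ → Submodule F (Fin m ⊕ Fin m → F)} {n : ℕ} (hn : n < m + m)
    (hmn : m ≤ n) {v : Fin n → (Fin m ⊕ Fin m → F)} (hv : IsFrame W n v)
    {x : Fin m ⊕ Fin m → F} (hx : ∀ i : Fin n, sympForm m F (v i) x = gram F m i n) :
    x ∉ Submodule.span F (Set.range v) := by
  have hm : 0 < m := by omega
  intro hmem
  have h1 : ∀ y ∈ Submodule.span F (Set.range v),
      sympForm m F (v ⟨n - m, by omega⟩) y = 0 := by
    intro y hy
    refine Submodule.span_induction ?_ ?_ ?_ ?_ hy
    · rintro _ ⟨j, rfl⟩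
      rw [hv.2.2, gram, if_neg, if_neg]
      · have := j.2; simp only; omega
      · have := j.2; simp only; omega
    · exact sympForm_zero_right _
    · intro a b _ _ ha hb
      rw [sympForm_add_right, ha, hb, add_zero]
    · intro c a _ ha
      rw [sympForm_smul_right, ha, mul_zero]
  have h2 := h1 x hmem
  rw [hx, gram, if_pos (by simp only; omega)] at h2
  exact one_ne_zero (neg_eq_zero.1 h2)

section Count

variable [Fintype F]

/-- Number of extensions of a frame of length `< m`. -/
theorem card_ext_low {W : ℕ → Submodule F (Fin m ⊕ Fin m → F)} {n d : ℕ} (hn : n < m)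
    {v : Fin n → (Fin m ⊕ Fin m → F)} (hv : IsFrame W n v)
    (hvW : ∀ i, v i ∈ W n) (hd : Module.finrank F ↥(W n ⊓ perp v) = d) :
    Nat.card {x // IsFrame W (n + 1) (Fin.snoc (α := fun _ => (Fin m ⊕ Fin m → F)) v x)} =
      Fintype.card F ^ d - Fintype.card F ^ n := by
  classical
  have hle : Submodule.span F (Set.range v) ≤ W n ⊓ perp v := by
    rw [Submodule.span_le]
    rintro _ ⟨j, rfl⟩
    refine ⟨hvW j, mem_perp.2 fun i => ?_⟩
    rw [hv.2.2, gram, if_neg, if_neg]
    · have := j.2; have := i.2; omega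
    · have := j.2; have := i.2; omega
  have hset : {x | IsFrame W (n + 1) (Fin.snoc (α := fun _ => (Fin m ⊕ Fin m → F)) v x)} =
      ((W n ⊓ perp v : Submodule F _) : Set (Fin m ⊕ Fin m → F)) \
        ((Submodule.span F (Set.range v) : Submodule F _) : Set (Fin m ⊕ Fin m → F)) := by
    ext x
    rw [Set.mem_ofPred_eq, isFrame_snoc_iff (by omega) hv, Set.mem_sdiff, SetLike.mem_coe,
      SetLike.mem_coe, Submodule.mem_inf, mem_perp]
    have hg : ∀ i : Fin n, gram F m i n = 0 := by
      intro i
      rw [gram, if_neg, if_neg]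
      · have := i.2; omega
      · have := i.2; omega
    simp only [hg]
    tauto
  have hfin : (((W n ⊓ perp v : Submodule F _) : Set (Fin m ⊕ Fin m → F))).Finite :=
    Set.toFinite _
  change Nat.card ↥{x | IsFrame W (n + 1) (Fin.snoc (α := fun _ => (Fin m ⊕ Fin m → F)) v x)} = _
  rw [hset, Nat.card_coe_set_eq, Set.ncard_sdiff (by exact hle) (Set.toFinite _),
    ← Nat.card_coe_set_eq, ← Nat.card_coe_set_eq]
  have e1 : Nat.card ↥((W n ⊓ perp v : Submodule F _) : Set (Fin m ⊕ Fin m → F)) =
      Fintype.card F ^ d := by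
    rw [← hd]
    exact card_eq_pow F ↥(W n ⊓ perp v)
  have e2 : Nat.card ↥((Submodule.span F (Set.range v) : Submodule F _) :
      Set (Fin m ⊕ Fin m → F)) = Fintype.card F ^ n := by
    have := card_eq_pow F ↥(Submodule.span F (Set.range v))
    rw [finrank_span_eq_card hv.2.1, Fintype.card_fin] at this
    exact this
  rw [e1, e2]

/-- Number of extensions of a frame of length `≥ m`. -/
theorem card_ext_high {W : ℕ → Submodule F (Fin m ⊕ Fin m → F)} {n : ℕ} (hn : n < m + m)
    (hmn : m ≤ n) {v : Fin n → (Fin m ⊕ Fin m → F)} (hv : IsFrame W n v) (hW : W n = ⊤) :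
    Nat.card {x // IsFrame W (n + 1) (Fin.snoc (α := fun _ => (Fin m ⊕ Fin m → F)) v x)} =
      Fintype.card F ^ (2 * m - n) := by
  have h0 := linearIndependent_functionals hv.2.1
  have h := card_dual_solutions h0 (fun i : Fin n => gram F m i n)
  rw [finrank_space, Fintype.card_fin] at h
  rw [← h]
  refine Nat.card_congr (Equiv.subtypeEquivRight fun x => ?_)
  rw [isFrame_snoc_iff hn hv, hW]
  constructor
  · rintro ⟨-, -, h3⟩ i
    exact h3 i
  · intro h3
    exact ⟨Submodule.mem_top, notMem_span_of_gram hn hmn hv h3, h3⟩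

theorem prod_high (q m : ℕ) :
    ∏ x ∈ Finset.range m, q ^ (2 * m - (m + x)) = q ^ (m * (m + 1) / 2) := by
  have h1 : ∀ x, 2 * m - (m + x) = m - x := fun x => by omega
  simp only [h1]
  rw [Finset.prod_pow_eq_pow_sum]
  congr 1
  have h2 : ∑ i ∈ Finset.range m, (m - i) = ∑ i ∈ Finset.range (m + 1), i := by
    rw [Finset.sum_range_succ']
    rw [← Finset.sum_range_reflect]
    simp only [add_zero]
    refine Finset.sum_congr rfl fun i hi => ?_
    have := Finset.mem_range.1 hi
    omega
  rw [h2, Finset.sum_range_id]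
  rw [Nat.add_sub_cancel, mul_comm]

/-- **The number of constrained symplectic frames.** -/
theorem card_isFrame (W : ℕ → Submodule F (Fin m ⊕ Fin m → F)) (d : ℕ → ℕ)
    (hd : ∀ n < m, ∀ v : Fin n → (Fin m ⊕ Fin m → F), IsFrame W n v →
      (∀ i, v i ∈ W n) ∧ Module.finrank F ↥(W n ⊓ perp v) = d n)
    (hW : ∀ n, m ≤ n → W n = ⊤) :
    Nat.card {v : Fin (m + m) → (Fin m ⊕ Fin m → F) // IsFrame W (m + m) v} =
      (∏ n ∈ Finset.range m, (Fintype.card F ^ d n - Fintype.card F ^ n)) *
        Fintype.card F ^ (m * (m + 1) / 2) := by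
  have h := card_tower (V := (Fin m ⊕ Fin m → F)) (fun n v => IsFrame W n v)
    (fun n => if n < m then Fintype.card F ^ d n - Fintype.card F ^ n
      else Fintype.card F ^ (2 * m - n)) (m + m) (isFrame_zero W)
    (fun n _ v hv => isFrame_init hv) ?_
  · rw [h, Finset.prod_range_add]
    congr 1
    · refine Finset.prod_congr rfl fun n hn => ?_
      rw [if_pos (Finset.mem_range.1 hn)]
    · rw [← prod_high]
      refine Finset.prod_congr rfl fun n _ => ?_
      rw [if_neg (by omega)]
  · intro n hn v hv
    split_ifs with hnm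
    · exact card_ext_low hnm hv (hd n hnm v hv).1 (hd n hnm v hv).2
    · exact card_ext_high hn (by omega) hv (hW n (by omega))

end Count

/-! ### Frames and symplectic matrices -/

theorem J_eq_gram (i j : Fin (m + m)) :
    Matrix.J (Fin m) F (finSumFinEquiv.symm i) (finSumFinEquiv.symm j) = gram F m i j := by
  obtain ⟨a, rfl⟩ := finSumFinEquiv.surjective i
  obtain ⟨b, rfl⟩ := finSumFinEquiv.surjective j
  rw [Equiv.symm_apply_apply, Equiv.symm_apply_apply]
  rcases a with a | a <;> rcases b with b | b
  · have ha := a.2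
    have hb := b.2
    rw [Matrix.J, Matrix.fromBlocks_apply₁₁, Matrix.zero_apply, finSumFinEquiv_apply_left,
      finSumFinEquiv_apply_left, gram, if_neg, if_neg]
    · simp only [Fin.val_castAdd]; omega
    · simp only [Fin.val_castAdd]; omega
  · have ha := a.2
    have hb := b.2
    rw [Matrix.J, Matrix.fromBlocks_apply₁₂, Matrix.neg_apply, finSumFinEquiv_apply_left,
      finSumFinEquiv_apply_right, gram]
    simp only [Fin.val_castAdd, Fin.val_natAdd]
    by_cases hab : a = b
    · subst hab
      rw [Matrix.one_apply_eq, if_pos (by omega)]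
    · have hab' : (a : ℕ) ≠ b := fun h => hab (Fin.ext h)
      rw [Matrix.one_apply_ne hab, if_neg (by omega), if_neg (by omega), neg_zero]
  · have ha := a.2
    have hb := b.2
    rw [Matrix.J, Matrix.fromBlocks_apply₂₁, finSumFinEquiv_apply_left,
      finSumFinEquiv_apply_right, gram]
    simp only [Fin.val_castAdd, Fin.val_natAdd]
    by_cases hab : a = b
    · subst hab
      rw [Matrix.one_apply_eq, if_neg (by omega), if_pos (by omega)]
    · have hab' : (a : ℕ) ≠ b := fun h => hab (Fin.ext h)
      rw [Matrix.one_apply_ne hab, if_neg (by omega), if_neg (by omega)]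
  · have ha := a.2
    have hb := b.2
    rw [Matrix.J, Matrix.fromBlocks_apply₂₂, Matrix.zero_apply, finSumFinEquiv_apply_right,
      finSumFinEquiv_apply_right, gram, if_neg, if_neg]
    · simp only [Fin.val_natAdd]; omega
    · simp only [Fin.val_natAdd]; omega

theorem sympForm_single_single (a b : Fin m ⊕ Fin m) :
    sympForm m F (Pi.single a 1) (Pi.single b 1) = Matrix.J (Fin m) F a b := by
  rw [sympForm_def, single_one_dotProduct, Matrix.mulVec_single_one]
  rfl

/-- A matrix is symplectic iff the Gram matrix of its columns is `J`. -/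
theorem mem_symplecticGroup_iff_col {A : Matrix (Fin m ⊕ Fin m) (Fin m ⊕ Fin m) F} :
    A ∈ Matrix.symplecticGroup (Fin m) F ↔
      ∀ a b, sympForm m F (A.col a) (A.col b) = Matrix.J (Fin m) F a b := by
  constructor
  · intro h a b
    rw [← sympForm_single_single, ← mem_symplecticGroup_iff.1 h (Pi.single a 1),
      Matrix.mulVec_single_one, Matrix.mulVec_single_one]
  · intro h
    rw [SymplecticGroup.mem_iff']
    ext a b
    rw [← h a b, sympForm_def, Matrix.mul_assoc]
    simp only [Matrix.mul_apply, dotProduct, Matrix.mulVec, Matrix.transpose_apply, Matrix.col_apply]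

/-- The columns of a symplectic matrix, as a tuple. -/
def cols (A : Matrix (Fin m ⊕ Fin m) (Fin m ⊕ Fin m) F) : Fin (m + m) → (Fin m ⊕ Fin m → F) :=
  fun i => A.col (finSumFinEquiv.symm i)

theorem linearIndependent_of_gram {v : Fin (m + m) → (Fin m ⊕ Fin m → F)}
    (h : ∀ i j, sympForm m F (v i) (v j) = gram F m i j) : LinearIndependent F v := by
  rw [Fintype.linearIndependent_iff]
  intro g hg i
  obtain ⟨j, hj, hj'⟩ : ∃ j : Fin (m + m), gram F m i j ≠ 0 ∧
      ∀ k : Fin (m + m), k ≠ i → gram F m k j = 0 := by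
    have hi := i.2
    by_cases him : (i : ℕ) < m
    · refine ⟨⟨i + m, by omega⟩, ?_, ?_⟩
      · rw [gram, if_pos rfl]
        exact neg_ne_zero.2 one_ne_zero
      · intro k hk
        have hk' : (k : ℕ) ≠ i := fun h => hk (Fin.ext h)
        have := k.2
        simp only [gram]
        rw [if_neg (by omega), if_neg (by omega)]
    · refine ⟨⟨i - m, by omega⟩, ?_, ?_⟩
      · simp only [gram]
        rw [if_neg (by omega), if_pos (by omega)]
        exact one_ne_zero
      · intro k hk
        have hk' : (k : ℕ) ≠ i := fun h => hk (Fin.ext h)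
        have := k.2
        simp only [gram]
        rw [if_neg (by omega), if_neg (by omega)]
  have h1 : sympForm m F (∑ k, g k • v k) (v j) = g i * gram F m i j := by
    rw [← sympBilin_apply, map_sum, LinearMap.sum_apply, Finset.sum_eq_single i]
    · rw [map_smul, LinearMap.smul_apply, sympBilin_apply, h, smul_eq_mul]
    · intro k _ hk
      rw [map_smul, LinearMap.smul_apply, sympBilin_apply, h, hj' k hk, smul_zero]
    · intro hi
      exact absurd (Finset.mem_univ i) hi
  rw [hg, sympForm_zero_left] at h1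
  exact (mul_eq_zero.1 h1.symm).resolve_right hj

/-- Symplectic matrices whose columns satisfy constraints correspond to constrained frames. -/
def frameEquiv (W : ℕ → Submodule F (Fin m ⊕ Fin m → F)) :
    {A : Matrix.symplecticGroup (Fin m) F //
      ∀ i : Fin (m + m), cols (A : Matrix (Fin m ⊕ Fin m) (Fin m ⊕ Fin m) F) i ∈ W i} ≃
    {v : Fin (m + m) → (Fin m ⊕ Fin m → F) // IsFrame W (m + m) v} where
  toFun A := ⟨cols (A.1 : Matrix (Fin m ⊕ Fin m) (Fin m ⊕ Fin m) F), by
    have hg : ∀ i j, sympForm m F (cols (A.1 : Matrix (Fin m ⊕ Fin m) (Fin m ⊕ Fin m) F) i)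
        (cols (A.1 : Matrix (Fin m ⊕ Fin m) (Fin m ⊕ Fin m) F) j) = gram F m i j := by
      intro i j
      rw [← J_eq_gram]
      exact mem_symplecticGroup_iff_col.1 A.1.2 _ _
    exact ⟨A.2, linearIndependent_of_gram hg, hg⟩⟩
  invFun v := ⟨⟨Matrix.of fun a b => v.1 (finSumFinEquiv b) a, by
      rw [mem_symplecticGroup_iff_col]
      intro a b
      have := v.2.2.2 (finSumFinEquiv a) (finSumFinEquiv b)
      rw [← J_eq_gram, Equiv.symm_apply_apply, Equiv.symm_apply_apply] at this
      exact this⟩, by
      intro i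
      have := v.2.1 i
      have h2 : cols (Matrix.of fun a b => v.1 (finSumFinEquiv b) a) i = v.1 i := by
        funext a
        simp [cols, Matrix.col_apply]
      rw [h2]
      exact this⟩
  left_inv A := by
    apply Subtype.ext
    apply Subtype.ext
    ext a b
    simp [cols, Matrix.col_apply]
  right_inv v := by
    apply Subtype.ext
    funext i a
    simp [cols, Matrix.col_apply]

section Count2

variable [Fintype F]

/-- **Number of symplectic matrices with constraints on the first `m` columns.** -/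
theorem card_constrained (W : ℕ → Submodule F (Fin m ⊕ Fin m → F)) (d : ℕ → ℕ)
    (hd : ∀ n < m, ∀ v : Fin n → (Fin m ⊕ Fin m → F), IsFrame W n v →
      (∀ i, v i ∈ W n) ∧ Module.finrank F ↥(W n ⊓ perp v) = d n) :
    Nat.card {A : Matrix.symplecticGroup (Fin m) F //
      ∀ i : Fin m, (A : Matrix (Fin m ⊕ Fin m) (Fin m ⊕ Fin m) F).col (Sum.inl i) ∈ W i} =
      (∏ n ∈ Finset.range m, (Fintype.card F ^ d n - Fintype.card F ^ n)) *
        Fintype.card F ^ (m * (m + 1) / 2) := by
  classical
  let W' : ℕ → Submodule F (Fin m ⊕ Fin m → F) := fun n => if n < m then W n else ⊤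
  have hW' : ∀ n < m, W' n = W n := fun n hn => if_pos hn
  have hfr : ∀ n < m, ∀ v : Fin n → (Fin m ⊕ Fin m → F), IsFrame W' n v → IsFrame W n v := by
    intro n hn v hv
    refine ⟨fun i => ?_, hv.2⟩
    rw [← hW' i (i.2.trans hn)]
    exact hv.1 i
  rw [← card_isFrame W' d ?_ (fun n hn => if_neg (by omega)),
    ← Nat.card_congr (frameEquiv W')]
  · refine Nat.card_congr (Equiv.subtypeEquivRight fun A => ?_)
    constructor
    · intro h i
      by_cases hi : (i : ℕ) < m
      · rw [hW' _ hi]
        have h1 := h ⟨i, hi⟩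
        have h2 : cols (A : Matrix (Fin m ⊕ Fin m) (Fin m ⊕ Fin m) F) i =
            (A : Matrix (Fin m ⊕ Fin m) (Fin m ⊕ Fin m) F).col (Sum.inl ⟨i, hi⟩) := by
          have h3 : finSumFinEquiv.symm i = Sum.inl ⟨i, hi⟩ := by
            rw [Equiv.symm_apply_eq, finSumFinEquiv_apply_left]
            exact Fin.ext rfl
          rw [cols, h3]
        rw [h2]
        exact h1
      · have : W' i = ⊤ := if_neg hi
        rw [this]
        exact Submodule.mem_top
    · intro h i
      have h1 := h (Fin.castAdd m i)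
      have h3 : finSumFinEquiv.symm (Fin.castAdd m i) = (Sum.inl i : Fin m ⊕ Fin m) := by
        rw [Equiv.symm_apply_eq, finSumFinEquiv_apply_left]
      rw [cols, h3, Fin.val_castAdd, hW' _ i.2] at h1
      exact h1
  · intro n hn v hv
    rw [hW' n hn]
    exact hd n hn v (hfr n hn v hv)

end Count2

end Cfsg.Agent.ClassicalGeometry.SympFrames
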