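import Mathlib
import Cfsg.Prelude.Def_ClassicalGeometry
import Cfsg.Agent.ClassicalGeometry.SympSiegel
import Cfsg.Agent.ClassicalGeometry.SympAutCentral

/-!
Characteristic two: a product of two orthogonal independent transvections has a conjugate such that the product
of the two has order four.
-/

set_option autoImplicit false
open Cfsg
open scoped Matrix

namespace Cfsg.Agent.ClassicalGeometry.SympNotOdd

open Cfsg.Agent.ClassicalGeometry.SympBasic Cfsg.Agent.ClassicalGeometry.SympSiegel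

variable {F : Type*} [Field F] {m : ℕ}

local notation "V" => (Fin m ⊕ Fin m → F)
local notation "G" => Matrix.symplecticGroup (Fin m) F
local notation "f" => sympForm m F

theorem comm2 (h2 : (2 : F) = 0) (u v : V) : f u v = f v u := by
  rw [sympForm_swap]
  linear_combination (-f v u) * h2

theorem add_self2 (h2 : (2 : F) = 0) (v : V) : v + v = 0 := by
  rw [← two_smul F v, h2, zero_smul]

/-- The square of the product. -/
theorem sq_smul (h2 : (2 : F) = 0) {v₁ v₂ u₁ u₂ : V} (hv : f v₁ v₂ = 0) 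
    (h11 : f u₁ v₁ = 1) (h12 : f u₁ v₂ = 0) (h21 : f u₂ v₁ = 0) (h22 : f u₂ v₂ = 1) (x : V) :
    ((transv v₁ (1 : F) * transv v₂ 1) * (transv (u₁ + u₂) 1 * transv (v₁ + v₂) 1)) •
      ((transv v₁ (1 : F) * transv v₂ 1) * (transv (u₁ + u₂) 1 * transv (v₁ + v₂) 1)) • x =
    x + (f x v₁ + f x v₂ + f x u₁ + f x u₂) • (v₁ + v₂) + (f x v₁ + f x v₂) • (u₁ + u₂) := by
  have hv' : f v₂ v₁ = 0 := by rw [comm2 h2, hv]
  have h11' : f v₁ u₁ = 1 := by rw [comm2 h2, h11]
  have h12' : f v₂ u₁ = 0 := by rw [comm2 h2, h12]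
  have h21' : f v₁ u₂ = 0 := by rw [comm2 h2, h21]
  have h22' : f v₂ u₂ = 1 := by rw [comm2 h2, h22]
  have hu' : f u₂ u₁ = f u₁ u₂ := comm2 h2 _ _
  obtain ⟨k, hk⟩ : ∃ k, k = f u₁ u₂ := ⟨_, rfl⟩
  rw [← hk] at hu'
  simp only [mul_smul, transv_smul, sympForm_add_left, sympForm_add_right, sympForm_smul_left,
      sympForm_self, hv, hv', h11, h11', h12, h12', h21, h21', h22, h22', one_mul, mul_one,
      mul_zero, add_zero, zero_add, hu', ← hk]
  generalize f x v₁ = p1
  generalize f x v₂ = p2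
  generalize f x u₁ = r1
  generalize f x u₂ = r2
  funext i
  simp only [Pi.add_apply, Pi.smul_apply, smul_eq_mul]
  generalize v₁ i = a1
  generalize v₂ i = a2
  generalize u₁ i = b1
  generalize u₂ i = b2
  generalize x i = xi
  linear_combination (2*a1*k*p1 + 2*a1*k*p2 + 1*a1*k*r1 + 1*a1*k*r2 + 14*a1*p1 + 13*a1*p2 + 5*a1*r1 + 5*a1*r2 + 2*a2*k*p1 + 2*a2*k*p2 + 1*a2*k*r1 + 1*a2*k*r2 + 13*a2*p1 + 14*a2*p2 + 5*a2*r1 + 5*a2*r2 + 2*b1*k*p1 + 2*b1*k*p2 + 1*b1*k*r1 + 1*b1*k*r2 + 9*b1*p1 + 9*b1*p2 + 4*b1*r1 + 4*b1*r2 + 2*b2*k*p1 + 2*b2*k*p2 + 1*b2*k*r1 + 1*b2*k*r2 + 9*b2*p1 + 9*b2*p2 + 4*b2*r1 + 4*b2*r2) * h2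

theorem not_odd_of_frame (h2 : (2 : F) = 0) {v₁ v₂ u₁ u₂ : V} (hv : f v₁ v₂ = 0) (hu : f u₁ u₂ = 0)
    (h11 : f u₁ v₁ = 1) (h12 : f u₁ v₂ = 0) (h21 : f u₂ v₁ = 0) (h22 : f u₂ v₂ = 1) (s : G)
    (hs : s = transv v₁ (1 : F) * transv v₂ 1) :
    ∃ g : G, ¬ Commute s (g * s * g⁻¹) ∧ ¬ Odd (orderOf (s * (g * s * g⁻¹))) := by
  have hv' : f v₂ v₁ = 0 := by rw [comm2 h2, hv]
  have h11' : f v₁ u₁ = 1 := by rw [comm2 h2, h11]
  have h12' : f v₂ u₁ = 0 := by rw [comm2 h2, h12]
  have h21' : f v₁ u₂ = 0 := by rw [comm2 h2, h21]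
  have h22' : f v₂ u₂ = 1 := by rw [comm2 h2, h22]
  have hu' : f u₂ u₁ = 0 := by rw [comm2 h2, hu]
  have hinv : ∀ w : V, transv w (1 : F) * transv w 1 = 1 := by
    intro w
    rw [transv_mul, one_add_one_eq_two, h2, transv_zero]
  obtain ⟨g, hg⟩ : ∃ g : G, g = siegel v₁ u₂ 0 * transv (v₁ + u₁) 1 := ⟨_, rfl⟩
  have hg1 : g • v₁ = u₁ + u₂ := by
    rw [hg, mul_smul, transv_smul, sympForm_add_right, sympForm_self, h11', zero_add, mul_one,
      one_smul, ← add_assoc, add_self2 h2, zero_add, siegel_smul h21', hu', h11', zero_smul,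
      add_zero, one_smul, add_zero]
  have hg2 : g • v₂ = v₁ + v₂ := by
    rw [hg, mul_smul, transv_smul, sympForm_add_right, hv', h12', zero_add, mul_zero, zero_smul,
      add_zero, siegel_smul h21', h22, hv, zero_smul, add_zero, one_smul, add_comm]
  have hs' : g * s * g⁻¹ = transv (u₁ + u₂) 1 * transv (v₁ + v₂) 1 := by
    rw [hs, ← hg1, ← hg2, ← conj_transv, ← conj_transv]
    group
  refine ⟨g, ?_⟩
  rw [hs', hs]
  have hsq : ∀ x : V, ((transv v₁ (1 : F) * transv v₂ 1) * (transv (u₁ + u₂) 1 * transv (v₁ + v₂) 1)) ^ 2 • x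
      = x + (f x v₁ + f x v₂ + f x u₁ + f x u₂) • (v₁ + v₂) + (f x v₁ + f x v₂) • (u₁ + u₂) := by
    intro x
    rw [sq, mul_smul]
    exact sq_smul h2 hv h11 h12 h21 h22 x
  have hne : ((transv v₁ (1 : F) * transv v₂ 1) * (transv (u₁ + u₂) 1 * transv (v₁ + v₂) 1)) ^ 2 ≠ 1 := by
    intro h
    have h3 := hsq u₁
    rw [h, one_smul, h11, h12, sympForm_self, hu] at h3
    have h4 := congrArg (f v₁) h3
    simp only [sympForm_add_right, sympForm_smul_right, sympForm_self, hv, h11', h21'] at h4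
    have : (1 : F) = 0 := by linear_combination -h4
    exact one_ne_zero this
  have h4 : ((transv v₁ (1 : F) * transv v₂ 1) * (transv (u₁ + u₂) 1 * transv (v₁ + v₂) 1)) ^ 4 = 1 := by
    rw [show (4 : ℕ) = 2 + 2 from rfl, pow_add]
    apply ext_smul
    intro x
    rw [mul_smul, hsq x, hsq]
    simp only [sympForm_add_left, sympForm_smul_left, sympForm_self, hv, hv', h11, h11', h12, h12',
      h21, h21', h22, h22', hu, hu', one_smul]
    generalize f x v₁ = p1
    generalize f x v₂ = p2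
    generalize f x u₁ = r1
    generalize f x u₂ = r2
    funext i
    simp only [Pi.add_apply, Pi.smul_apply, smul_eq_mul]
    generalize v₁ i = a1
    generalize v₂ i = a2
    generalize u₁ i = b1
    generalize u₂ i = b2
    generalize x i = xi
    linear_combination (3*a1*p1 + 3*a1*p2 + 2*a1*r1 + 2*a1*r2 + 3*a2*p1 + 3*a2*p2 + 2*a2*r1 + 2*a2*r2 + 2*b1*p1 + 2*b1*p2 + 2*b2*p1 + 2*b2*p2) * h2
  refine ⟨fun hc => hne ?_, fun hodd => hne ?_⟩
  · have e1 : (transv v₁ (1 : F) * transv v₂ 1) ^ 2 = 1 := by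
      have hcv : Commute (transv v₁ (1 : F)) (transv v₂ 1) := by
        change transv v₁ (1 : F) * transv v₂ 1 = transv v₂ 1 * transv v₁ 1
        apply ext_smul
        intro x
        rw [mul_smul, mul_smul, transv_smul, transv_smul, transv_smul, transv_smul,
          sympForm_add_left, sympForm_smul_left, sympForm_add_left, sympForm_smul_left, hv, hv',
          mul_zero, add_zero, mul_zero, add_zero]
        abel
      rw [hcv.mul_pow, sq, sq, hinv, hinv, one_mul]
    have e2 : (transv (u₁ + u₂) (1 : F) * transv (v₁ + v₂) 1) ^ 2 = 1 := by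
      rw [← hs', conj_pow, hs, e1, mul_one, mul_inv_cancel]
    rw [hc.mul_pow 2, e1, e2, one_mul]
  · have hd := orderOf_dvd_of_pow_eq_one h4
    have h1 : orderOf ((transv v₁ (1 : F) * transv v₂ 1) * (transv (u₁ + u₂) 1 * transv (v₁ + v₂) 1)) ∣ 1 := by
      have hcop : Nat.Coprime (orderOf ((transv v₁ (1 : F) * transv v₂ 1) *
          (transv (u₁ + u₂) 1 * transv (v₁ + v₂) 1))) (2 ^ 2) :=
        Nat.Coprime.pow_right 2 (Nat.coprime_two_right.2 hodd)
      have h5 := Nat.Coprime.eq_one_of_dvd hcop hd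
      rw [h5]
    rw [Nat.dvd_one, orderOf_eq_one_iff] at h1
    rw [h1, one_pow]

open Cfsg.Agent.ClassicalGeometry.SympAutCentral in
theorem not_odd_ab [Finite F] (h2 : (2 : F) = 0) (hm : 2 ≤ m) {a b : F} (ha : a ≠ 0) (hb : b ≠ 0)
    (s : G) (hs : s = siegel (E F ⟨0, by omega⟩) (b • E F ⟨1, by omega⟩) a) :
    ∃ g : G, ¬ Commute s (g * s * g⁻¹) ∧ ¬ Odd (orderOf (s * (g * s * g⁻¹))) := by
  have hchar : CharP F 2 := by
    have : ringChar F = 2 := by
      have h := (ringChar.dvd (R := F) (x := 2)) (by exact_mod_cast h2)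
      rcases (Nat.dvd_prime Nat.prime_two).1 h with h1 | h1
      · have h3 : ringChar F ≠ 1 := CharP.ringChar_ne_one
        exact absurd h1 h3
      · exact h1
    rw [← this]
    exact ringChar.charP F
  obtain ⟨α, hα⟩ : ∃ α : F, α ^ 2 = a :=
    Finite.surjective_of_injective (CharTwo.sq_injective (R := F)) a
  have hα0 : α ≠ 0 := by
    rintro rfl
    apply ha
    rw [← hα]
    ring
  set i0 : Fin m := ⟨0, by omega⟩ with hi0
  set i1 : Fin m := ⟨1, by omega⟩ with hi1
  have h01 : i0 ≠ i1 := by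
    intro h
    have := congrArg Fin.val h
    simp [hi0, hi1] at this
  have hE01 : f (E F i0) (E F i1) = 0 := by rw [form_E_left, E_inr, neg_zero]
  have hE10 : f (E F i1) (E F i0) = 0 := by rw [form_E_left, E_inr, neg_zero]
  have hneg : ∀ c : F, -c = c := fun c => CharTwo.neg_eq c
  refine not_odd_of_frame h2 (v₁ := α • E F i0 + (b * α⁻¹) • E F i1) (v₂ := (b * α⁻¹) • E F i1)
    (u₁ := α⁻¹ • E' F i0) (u₂ := α⁻¹ • E' F i0 + (α * b⁻¹) • E' F i1) ?_ ?_ ?_ ?_ ?_ ?_ s ?_
  · simp only [sympForm_add_left, sympForm_smul_left, sympForm_smul_right, sympForm_self, hE01]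
    ring
  · simp only [sympForm_add_right, sympForm_smul_left, sympForm_smul_right, sympForm_self,
      form_E'_left, E'_inl]
    ring
  · simp only [sympForm_add_right, sympForm_smul_left, sympForm_smul_right, form_E'_left, E_inl,
      if_true, if_neg h01, mul_zero, add_zero, mul_one]
    exact mul_inv_cancel₀ hα0
  · simp only [sympForm_smul_left, sympForm_smul_right, form_E'_left, E_inl, if_neg h01, mul_zero]
  · simp only [sympForm_add_left, sympForm_add_right, sympForm_smul_left, sympForm_smul_right,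
      form_E'_left, E_inl, if_true, if_neg h01, if_neg h01.symm, mul_zero, add_zero, zero_add,
      mul_one]
    have hαα : α * α⁻¹ = 1 := mul_inv_cancel₀ hα0
    have hbb : b * b⁻¹ = 1 := mul_inv_cancel₀ hb
    linear_combination hαα + (b * b⁻¹) * hαα + hbb + h2
  · simp only [sympForm_add_left, sympForm_smul_left, sympForm_smul_right,
      form_E'_left, E_inl, if_true, if_neg h01, mul_zero, zero_add,
      mul_one]
    have hαα : α * α⁻¹ = 1 := mul_inv_cancel₀ hα0
    have hbb : b * b⁻¹ = 1 := mul_inv_cancel₀ hb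
    linear_combination (b * b⁻¹) * hαα + hbb
  · rw [hs]
    have hperp : f (E F i0) (b • E F i1) = 0 := by rw [sympForm_smul_right, hE01, mul_zero]
    apply ext_smul
    intro x
    rw [siegel_smul hperp, mul_smul, transv_smul, transv_smul]
    simp only [sympForm_add_left, sympForm_add_right, sympForm_smul_left, sympForm_smul_right,
      sympForm_self, hE10]
    rw [comm2 h2 (E F i1) x, comm2 h2 (E F i0) x, ← hα]
    generalize f x (E F i0) = p
    generalize f x (E F i1) = q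
    funext i
    simp only [Pi.add_apply, Pi.smul_apply, smul_eq_mul]
    generalize E F i0 i = y
    generalize E F i1 i = z
    generalize x i = xi
    have hαα : α * α⁻¹ = 1 := mul_inv_cancel₀ hα0
    generalize α⁻¹ = β at hαα
    linear_combination (-(b * q * y + b * p * z)) * hαα - (b ^ 2 * β ^ 2 * q * z) * h2

end Cfsg.Agent.ClassicalGeometry.SympNotOdd
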