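import Mathlib
import Cfsg.Prelude.Def_ClassicalGeometry
import Cfsg.Agent.ClassicalGeometry.SympBasic
import Cfsg.Agent.ClassicalGeometry.SympFrames

/-!
Stabilisers in `Sp_2m(q)` of chains of totally isotropic subspaces, counted by symplectic frames.
-/

set_option autoImplicit false
open Cfsg
open scoped Matrix

namespace Cfsg.Agent.ClassicalGeometry.SympStab

open Cfsg.Agent.ClassicalGeometry.SympBasic Cfsg.Agent.ClassicalGeometry.SympFrames

variable {F : Type*} [Field F] {m : ℕ}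

theorem mem_stabilizing_iff {H : Type*} [Group H] {ι : Type} [Fintype ι] [DecidableEq ι]
    {R : Type*} [CommRing R] (toMat : H →* Matrix ι ι R) (S : Set (ι → R)) (h : H) :
    h ∈ stabilizing toMat S ↔ ∀ v, v ∈ S ↔ toMat h *ᵥ v ∈ S := Iff.rfl

/-- The columns of a symplectic matrix are linearly independent. -/
theorem linearIndependent_col (A : Matrix.symplecticGroup (Fin m) F) :
    LinearIndependent F (A : Matrix (Fin m ⊕ Fin m) (Fin m ⊕ Fin m) F).col := by
  rw [Matrix.linearIndependent_cols_iff_isUnit, Matrix.isUnit_iff_isUnit_det]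
  exact SymplecticGroup.symplectic_det A.2

theorem mul_col (A B : Matrix.symplecticGroup (Fin m) F) (a : Fin m ⊕ Fin m) :
    ((A * B : Matrix.symplecticGroup (Fin m) F) :
      Matrix (Fin m ⊕ Fin m) (Fin m ⊕ Fin m) F).col a =
    (A : Matrix (Fin m ⊕ Fin m) (Fin m ⊕ Fin m) F) *ᵥ
      (B : Matrix (Fin m ⊕ Fin m) (Fin m ⊕ Fin m) F).col a := by
  rw [← Matrix.mulVec_single_one, ← Matrix.mulVec_single_one, coe_mul_mulVec]

/-- The span of the columns `inl i`, `i < k`, of a symplectic matrix has dimension `k`. -/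
theorem span_col_eq {k : ℕ} (hk : k ≤ m) (A : Matrix.symplecticGroup (Fin m) F)
    {W : Submodule F (Fin m ⊕ Fin m → F)} (hWk : Module.finrank F W = k)
    (hA : ∀ i : Fin m, (i : ℕ) < k →
      (A : Matrix (Fin m ⊕ Fin m) (Fin m ⊕ Fin m) F).col (Sum.inl i) ∈ W) :
    W = Submodule.span F (Set.range fun i : Fin k =>
      (A : Matrix (Fin m ⊕ Fin m) (Fin m ⊕ Fin m) F).col (Sum.inl (Fin.castLE hk i))) := by
  have hli : LinearIndependent F (fun i : Fin k =>
      (A : Matrix (Fin m ⊕ Fin m) (Fin m ⊕ Fin m) F).col (Sum.inl (Fin.castLE hk i))) :=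
    (linearIndependent_col A).comp (fun i : Fin k => Sum.inl (Fin.castLE hk i))
      (Sum.inl_injective.comp (Fin.castLE_injective hk))
  symm
  apply Submodule.eq_of_le_of_finrank_eq
  · rw [Submodule.span_le]
    rintro _ ⟨i, rfl⟩
    exact hA _ i.2
  · rw [finrank_span_eq_card hli, Fintype.card_fin, hWk]

/-- If `A` and `B` both map `⟨e_0, …, e_{k-1}⟩` onto `W`, then `B A⁻¹` maps `W` into `W`. -/
theorem mul_inv_mulVec_mem {k : ℕ} (hk : k ≤ m) (A B : Matrix.symplecticGroup (Fin m) F)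
    {W : Submodule F (Fin m ⊕ Fin m → F)} (hWk : Module.finrank F W = k)
    (hA : ∀ i : Fin m, (i : ℕ) < k →
      (A : Matrix (Fin m ⊕ Fin m) (Fin m ⊕ Fin m) F).col (Sum.inl i) ∈ W)
    (hB : ∀ i : Fin m, (i : ℕ) < k →
      (B : Matrix (Fin m ⊕ Fin m) (Fin m ⊕ Fin m) F).col (Sum.inl i) ∈ W)
    {v : Fin m ⊕ Fin m → F} (hv : v ∈ W) :
    ((B * A⁻¹ : Matrix.symplecticGroup (Fin m) F) :
      Matrix (Fin m ⊕ Fin m) (Fin m ⊕ Fin m) F) *ᵥ v ∈ W := by
  rw [span_col_eq hk A hWk hA] at hv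
  refine Submodule.span_induction ?_ ?_ ?_ ?_ hv
  · rintro _ ⟨i, rfl⟩
    have h := mul_col (B * A⁻¹) A (Sum.inl (Fin.castLE hk i))
    rw [inv_mul_cancel_right] at h
    rw [← h]
    exact hB _ i.2
  · rw [Matrix.mulVec_zero]
    exact W.zero_mem
  · intro a b _ _ ha hb
    rw [Matrix.mulVec_add]
    exact W.add_mem ha hb
  · intro c a _ ha
    rw [Matrix.mulVec_smul]
    exact W.smul_mem c ha

theorem mul_inv_mem_stabilizing {k : ℕ} (hk : k ≤ m) (A B : Matrix.symplecticGroup (Fin m) F)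
    {W : Submodule F (Fin m ⊕ Fin m → F)} (hWk : Module.finrank F W = k)
    (hA : ∀ i : Fin m, (i : ℕ) < k →
      (A : Matrix (Fin m ⊕ Fin m) (Fin m ⊕ Fin m) F).col (Sum.inl i) ∈ W)
    (hB : ∀ i : Fin m, (i : ℕ) < k →
      (B : Matrix (Fin m ⊕ Fin m) (Fin m ⊕ Fin m) F).col (Sum.inl i) ∈ W) :
    B * A⁻¹ ∈ stabilizing (spToMat m F) (W : Set (Fin m ⊕ Fin m → F)) := by
  rw [mem_stabilizing_iff]
  intro v
  constructor
  · intro hv
    exact mul_inv_mulVec_mem hk A B hWk hA hB hv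
  · intro hv
    have h := mul_inv_mulVec_mem hk B A hWk hB hA hv
    have h2 : ((A * B⁻¹ : Matrix.symplecticGroup (Fin m) F) :
        Matrix (Fin m ⊕ Fin m) (Fin m ⊕ Fin m) F) *ᵥ (spToMat m F (B * A⁻¹) *ᵥ v) = v := by
      have h3 := coe_mul_mulVec (A * B⁻¹) (B * A⁻¹) v
      have h4 : (A * B⁻¹) * (B * A⁻¹) = 1 := by group
      rw [h4] at h3
      exact h3.symm.trans (Matrix.one_mulVec v)
    rw [h2] at h
    exact h

theorem mul_col_mem {W : Submodule F (Fin m ⊕ Fin m → F)} {g A : Matrix.symplecticGroup (Fin m) F}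
    (hg : g ∈ stabilizing (spToMat m F) (W : Set (Fin m ⊕ Fin m → F))) (a : Fin m ⊕ Fin m)
    (hA : (A : Matrix (Fin m ⊕ Fin m) (Fin m ⊕ Fin m) F).col a ∈ W) :
    ((g * A : Matrix.symplecticGroup (Fin m) F) :
      Matrix (Fin m ⊕ Fin m) (Fin m ⊕ Fin m) F).col a ∈ W := by
  rw [mul_col]
  exact (((mem_stabilizing_iff _ _ _).1 hg) _).1 hA

/-- Symplectic matrices mapping `⟨e_0, …, e_{k-1}⟩` onto `W` form a coset of the stabiliser. -/
def stabEquiv {k : ℕ} (hk : k ≤ m) {W : Submodule F (Fin m ⊕ Fin m → F)}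
    (hWk : Module.finrank F W = k) (A₀ : Matrix.symplecticGroup (Fin m) F)
    (hA₀ : ∀ i : Fin m, (i : ℕ) < k →
      (A₀ : Matrix (Fin m ⊕ Fin m) (Fin m ⊕ Fin m) F).col (Sum.inl i) ∈ W) :
    ↥(stabilizing (spToMat m F) (W : Set (Fin m ⊕ Fin m → F))) ≃
      {A : Matrix.symplecticGroup (Fin m) F // ∀ i : Fin m, (i : ℕ) < k →
        (A : Matrix (Fin m ⊕ Fin m) (Fin m ⊕ Fin m) F).col (Sum.inl i) ∈ W} where
  toFun g := ⟨g.1 * A₀, fun i hi => mul_col_mem g.2 _ (hA₀ i hi)⟩
  invFun A := ⟨A.1 * A₀⁻¹, mul_inv_mem_stabilizing hk A₀ A.1 hWk hA₀ A.2⟩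
  left_inv _ := Subtype.ext (mul_inv_cancel_right _ _)
  right_inv _ := Subtype.ext (inv_mul_cancel_right _ _)

section Count

variable [Fintype F]

theorem card_cols_mem {k : ℕ} (hk : k ≤ m) (W : Submodule F (Fin m ⊕ Fin m → F))
    (hWk : Module.finrank F W = k) (hW : ∀ u ∈ W, ∀ v ∈ W, sympForm m F u v = 0) :
    Nat.card {A : Matrix.symplecticGroup (Fin m) F // ∀ i : Fin m, (i : ℕ) < k →
        (A : Matrix (Fin m ⊕ Fin m) (Fin m ⊕ Fin m) F).col (Sum.inl i) ∈ W} =
      (∏ n ∈ Finset.range m, (Fintype.card F ^ (if n < k then k else 2 * m - n) -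
        Fintype.card F ^ n)) * Fintype.card F ^ (m * (m + 1) / 2) := by
  classical
  rw [← card_constrained (fun n => if n < k then W else ⊤)
    (fun n => if n < k then k else 2 * m - n)]
  · refine Nat.card_congr (Equiv.subtypeEquivRight fun A => forall_congr' fun i => ?_)
    split_ifs with hi
    · exact ⟨fun h => h hi, fun h _ => h⟩
    · exact ⟨fun _ => Submodule.mem_top, fun _ h => absurd h hi⟩
  · intro n hn v hv
    by_cases hnk : n < k
    · have hC : (if n < k then W else ⊤) = W := if_pos hnk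
      have hvW : ∀ i, v i ∈ W := by
        intro i
        have := hv.1 i
        simp only at this
        rwa [if_pos (i.2.trans hnk)] at this
      have h1 : (if n < k then W else ⊤) ⊓ perp v = W := by
        rw [hC, inf_eq_left]
        intro x hx
        exact mem_perp.2 fun i => hW _ (hvW i) _ hx
      refine ⟨fun i => ?_, ?_⟩
      · simp only [hC]
        exact hvW i
      · change Module.finrank F ↥((if n < k then W else ⊤) ⊓ perp v) = _
        rw [h1, hWk, if_pos hnk]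
    · have hC : (if n < k then W else ⊤) = (⊤ : Submodule F (Fin m ⊕ Fin m → F)) := if_neg hnk
      have h1 : (if n < k then W else ⊤) ⊓ perp v = perp v := by
        rw [hC, top_inf_eq]
      refine ⟨fun i => ?_, ?_⟩
      · simp only [hC]
        exact Submodule.mem_top
      · change Module.finrank F ↥((if n < k then W else ⊤) ⊓ perp v) = _
        rw [h1, finrank_perp hv.2.1, if_neg hnk]

theorem card_stabilizer {k : ℕ} (hk : k ≤ m) (W : Submodule F (Fin m ⊕ Fin m → F))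
    (hWk : Module.finrank F W = k) (hW : ∀ u ∈ W, ∀ v ∈ W, sympForm m F u v = 0) :
    Nat.card ↥(stabilizing (spToMat m F) (W : Set (Fin m ⊕ Fin m → F))) =
      (∏ n ∈ Finset.range m, (Fintype.card F ^ (if n < k then k else 2 * m - n) -
        Fintype.card F ^ n)) * Fintype.card F ^ (m * (m + 1) / 2) := by
  have h := card_cols_mem hk W hWk hW
  have hq : 1 < Fintype.card F := Fintype.one_lt_card
  have hpos : 0 < Nat.card {A : Matrix.symplecticGroup (Fin m) F // ∀ i : Fin m, (i : ℕ) < k →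
        (A : Matrix (Fin m ⊕ Fin m) (Fin m ⊕ Fin m) F).col (Sum.inl i) ∈ W} := by
    rw [h]
    refine Nat.mul_pos (Finset.prod_pos fun n hn => ?_) (Nat.pow_pos (by omega))
    have hnm := Finset.mem_range.1 hn
    apply Nat.sub_pos_of_lt
    apply Nat.pow_lt_pow_right hq
    split_ifs
    · assumption
    · omega
  obtain ⟨⟨A₀, hA₀⟩⟩ := (Nat.card_pos_iff.1 hpos).1
  rw [← h]
  exact Nat.card_congr (stabEquiv hk hWk A₀ hA₀)

end Count

/-! ### Arithmetic -/

theorem two_mul_half (n : ℕ) : 2 * (n * (n + 1) / 2) = n * (n + 1) :=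
  Nat.mul_div_cancel' (Nat.even_mul_succ_self n).two_dvd

theorem prod_pow_add (q k l : ℕ) :
    (∏ x ∈ Finset.range l, q ^ (k + x)) * q ^ ((k + l) * (k + l + 1) / 2) =
      q ^ (k * (k + 1) / 2 + 2 * k * l) * q ^ (l ^ 2) := by
  rw [Finset.prod_pow_eq_pow_sum, ← pow_add, ← pow_add]
  congr 1
  have h1 : 2 * ∑ x ∈ Finset.range l, (k + x) + l = 2 * k * l + l * l := by
    induction l with
    | zero => simp
    | succ n ih =>
      rw [Finset.sum_range_succ]
      nlinarith [ih]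
  have h2 := two_mul_half (k + l)
  have h3 := two_mul_half k
  nlinarith [h1, h2, h3]

theorem prod_formula (q m k : ℕ) (hk : k ≤ m) :
    (∏ n ∈ Finset.range m, (q ^ (if n < k then k else 2 * m - n) - q ^ n)) *
        q ^ (m * (m + 1) / 2) =
      q ^ (k * (k + 1) / 2 + 2 * k * (m - k)) *
        (q ^ ((m - k) ^ 2) * ∏ i ∈ Finset.range (m - k), (q ^ (2 * (i + 1)) - 1)) *
        ∏ i : Fin k, (q ^ k - q ^ (i : ℕ)) := by
  obtain ⟨l, rfl⟩ := Nat.exists_eq_add_of_le hk
  rw [Nat.add_sub_cancel_left, Finset.prod_range_add]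
  have h1 : ∏ x ∈ Finset.range k, (q ^ (if x < k then k else 2 * (k + l) - x) - q ^ x) =
      ∏ i : Fin k, (q ^ k - q ^ (i : ℕ)) := by
    rw [Fin.prod_univ_eq_prod_range (fun i => q ^ k - q ^ i) k]
    refine Finset.prod_congr rfl fun x hx => ?_
    rw [if_pos (Finset.mem_range.1 hx)]
  have h2 : ∏ x ∈ Finset.range l,
      (q ^ (if k + x < k then k else 2 * (k + l) - (k + x)) - q ^ (k + x)) =
      (∏ x ∈ Finset.range l, q ^ (k + x)) *
        ∏ i ∈ Finset.range l, (q ^ (2 * (i + 1)) - 1) := by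
    rw [← Finset.prod_range_reflect (fun i => q ^ (2 * (i + 1)) - 1) l, ← Finset.prod_mul_distrib]
    refine Finset.prod_congr rfl fun x hx => ?_
    have hx' := Finset.mem_range.1 hx
    rw [if_neg (by omega), Nat.mul_sub, mul_one, ← pow_add]
    congr 2
    omega
  rw [h1, h2]
  have h3 := prod_pow_add q k l
  calc _ = (∏ i : Fin k, (q ^ k - q ^ (i : ℕ))) *
        (((∏ x ∈ Finset.range l, q ^ (k + x)) * q ^ ((k + l) * (k + l + 1) / 2)) *
          ∏ i ∈ Finset.range l, (q ^ (2 * (i + 1)) - 1)) := by ring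
    _ = _ := by rw [h3]; ring

end Cfsg.Agent.ClassicalGeometry.SympStab
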