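import Mathlib
import Cfsg.Agent.S0752

/-!
# Parity of the dimensions of intersections of maximal totally singular subspaces

For three totally singular subspaces `U, W, X` of dimension `m` in a `2m`-dimensional quadratic space with
nondegenerate polar form (any field), `dim (U ∩ W) + dim (W ∩ X) + dim (U ∩ X) + m` is even. The proof uses the
alternating form `((u,w),(u',w')) ↦ B(u,w')` on `{(u,w) : u ∈ U, w ∈ W, u + w ∈ X}`.
-/

set_option autoImplicit false

namespace Cfsg.Agent.ClassicalGeometry.TwoFamilies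

open Module

/-- The rank of an alternating form is even. -/
theorem exists_finrank_eq_ker_add {F V : Type*} [Field F] [AddCommGroup V] [Module F V]
    [FiniteDimensional F V] (B : LinearMap.BilinForm F V) (hA : B.IsAlt) :
    ∃ m : ℕ, finrank F V = finrank F (LinearMap.ker B) + (m + m) := by
  obtain ⟨m, k, b, h1, h2, h3, h4⟩ := Cfsg.Agent.S0752.result B hA
  refine ⟨m, ?_⟩
  have hker : LinearMap.ker B = Submodule.span F (Set.range fun j : Fin k => b (Sum.inr j)) := by
    apply le_antisymm
    · intro v hv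
      rw [LinearMap.mem_ker] at hv
      have hval : ∀ y : V, B v y = 0 := fun y => by rw [hv]; rfl
      have hsum := b.sum_repr v
      rw [Fintype.sum_sum_type, Fintype.sum_sum_type] at hsum
      have hr : ∀ (j : Fin k) (y : V), B y (b (Sum.inr j)) = 0 := by
        intro j y
        rw [← hA.neg_eq, h4, neg_zero]
      have he : ∀ j : Fin m, b.repr v (Sum.inl (Sum.inl j)) = 0 := by
        intro j
        have := hval (b (Sum.inl (Sum.inr j)))
        rw [← hsum] at this
        simp only [map_add, map_sum, map_smul, LinearMap.add_apply, LinearMap.sum_apply,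
          LinearMap.smul_apply, h1, h3, h4, smul_eq_mul, mul_zero, Finset.sum_const_zero,
          add_zero, mul_ite, mul_one, Finset.sum_ite_eq', Finset.mem_univ, if_true] at this
        exact this
      have hf : ∀ j : Fin m, b.repr v (Sum.inl (Sum.inr j)) = 0 := by
        intro j
        have h1' : ∀ i : Fin m, B (b (Sum.inl (Sum.inr i))) (b (Sum.inl (Sum.inl j))) =
            if i = j then -1 else 0 := by
          intro i
          rw [← hA.neg_eq, h1]
          by_cases hij : i = j
          · subst hij; simp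
          · rw [if_neg hij, if_neg (Ne.symm hij), neg_zero]
        have := hval (b (Sum.inl (Sum.inl j)))
        rw [← hsum] at this
        simp only [map_add, map_sum, map_smul, LinearMap.add_apply, LinearMap.sum_apply,
          LinearMap.smul_apply, h1', h2, h4, smul_eq_mul, mul_zero, Finset.sum_const_zero,
          add_zero, zero_add, mul_ite, mul_neg, mul_one, Finset.sum_ite_eq', Finset.mem_univ,
          if_true, neg_eq_zero] at this
        exact this
      rw [← hsum]
      simp only [he, hf, zero_smul, Finset.sum_const_zero, zero_add]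
      exact Submodule.sum_mem _ fun j _ =>
        Submodule.smul_mem _ _ (Submodule.subset_span ⟨j, rfl⟩)
    · rw [Submodule.span_le]
      rintro _ ⟨j, rfl⟩
      rw [SetLike.mem_coe, LinearMap.mem_ker]
      ext y
      exact h4 j y
  have hli : LinearIndependent F (fun j : Fin k => b (Sum.inr j)) :=
    b.linearIndependent.comp _ Sum.inr_injective
  rw [hker, finrank_span_eq_card hli, Fintype.card_fin, finrank_eq_card_basis b,
    Fintype.card_sum, Fintype.card_sum, Fintype.card_fin, Fintype.card_fin, add_comm]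

/-- Dimension of a submodule of `V × V` from its first projection and fibre over `0`. -/
theorem finrank_eq_map_fst_add {F V : Type*} [Field F] [AddCommGroup V] [Module F V]
    [FiniteDimensional F V] (K : Submodule F (V × V)) :
    finrank F K = finrank F (K.map (LinearMap.fst F V V)) +
      finrank F (K.comap (LinearMap.inr F V V)) := by
  have h1 := LinearMap.finrank_range_add_finrank_ker ((LinearMap.fst F V V).domRestrict K)
  rw [← h1]
  congr 1
  · rw [LinearMap.range_domRestrict]
  · -- the kernel is equivalent to the fibre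
    refine LinearEquiv.finrank_eq
      { toFun := fun x => ⟨x.1.1.2, ?_⟩
        invFun := fun w => ⟨⟨(0, w.1), w.2⟩, ?_⟩
        map_add' := fun x y => rfl
        map_smul' := fun c x => rfl
        left_inv := fun x => ?_
        right_inv := fun w => rfl }
    · have h := x.2
      rw [LinearMap.mem_ker] at h
      have h' : x.1.1.1 = 0 := h
      rw [Submodule.mem_comap, LinearMap.inr_apply, ← h']
      exact x.1.2
    · rw [LinearMap.mem_ker]; rfl
    · have h := x.2
      rw [LinearMap.mem_ker] at h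
      have h' : x.1.1.1 = 0 := h
      apply Subtype.ext
      apply Subtype.ext
      exact Prod.ext h'.symm rfl

section Parity

variable {F V : Type*} [Field F] [AddCommGroup V] [Module F V]

/-- The space of pairs `(u, w)` with `u ∈ U`, `w ∈ W`, `u + w ∈ X`. -/
def pairs (U W X : Submodule F V) : Submodule F (V × V) where
  carrier := {x | x.1 ∈ U ∧ x.2 ∈ W ∧ x.1 + x.2 ∈ X}
  add_mem' := by
    rintro a b ⟨h1, h2, h3⟩ ⟨h4, h5, h6⟩
    refine ⟨U.add_mem h1 h4, W.add_mem h2 h5, ?_⟩
    have : (a + b).1 + (a + b).2 = (a.1 + a.2) + (b.1 + b.2) := by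
      rw [Prod.fst_add, Prod.snd_add]; abel
    rw [this]
    exact X.add_mem h3 h6
  zero_mem' := ⟨U.zero_mem, W.zero_mem, by simp⟩
  smul_mem' := by
    rintro c a ⟨h1, h2, h3⟩
    refine ⟨U.smul_mem c h1, W.smul_mem c h2, ?_⟩
    rw [Prod.smul_fst, Prod.smul_snd, ← smul_add]
    exact X.smul_mem c h3

theorem mem_pairs {U W X : Submodule F V} {x : V × V} :
    x ∈ pairs U W X ↔ x.1 ∈ U ∧ x.2 ∈ W ∧ x.1 + x.2 ∈ X := Iff.rfl

theorem map_fst_pairs (U W X : Submodule F V) :
    (pairs U W X).map (LinearMap.fst F V V) = U ⊓ (W ⊔ X) := by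
  ext u
  simp only [Submodule.mem_map, LinearMap.fst_apply, Submodule.mem_inf, Submodule.mem_sup]
  constructor
  · rintro ⟨x, ⟨h1, h2, h3⟩, rfl⟩
    exact ⟨h1, -x.2, W.neg_mem h2, x.1 + x.2, h3, by abel⟩
  · rintro ⟨h1, w, hw, x, hx, rfl⟩
    exact ⟨(w + x, -w), ⟨h1, W.neg_mem hw, by simpa using hx⟩, rfl⟩

theorem map_snd_pairs (U W X : Submodule F V) :
    (pairs U W X).map (LinearMap.snd F V V) = W ⊓ (U ⊔ X) := by
  ext u
  simp only [Submodule.mem_map, LinearMap.snd_apply, Submodule.mem_inf, Submodule.mem_sup]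
  constructor
  · rintro ⟨x, ⟨h1, h2, h3⟩, rfl⟩
    exact ⟨h2, -x.1, U.neg_mem h1, x.1 + x.2, h3, by abel⟩
  · rintro ⟨h1, w, hw, x, hx, rfl⟩
    exact ⟨(-w, w + x), ⟨U.neg_mem hw, h1, by simpa using hx⟩, rfl⟩

theorem comap_inr_pairs (U W X : Submodule F V) :
    (pairs U W X).comap (LinearMap.inr F V V) = W ⊓ X := by
  ext w
  simp only [Submodule.mem_comap, LinearMap.inr_apply, mem_pairs, Submodule.mem_inf, zero_add]
  exact ⟨fun h => h.2, fun h => ⟨U.zero_mem, h⟩⟩

variable (B : LinearMap.BilinForm F V)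

/-- The form `((u,w),(u',w')) ↦ B(u,w')` on `V × V`. -/
def pairForm : LinearMap.BilinForm F (V × V) :=
  B.compl₁₂ (LinearMap.fst F V V) (LinearMap.snd F V V)

theorem pairForm_apply (x y : V × V) : pairForm B x y = B x.1 y.2 := rfl

/-- The radical of the form on `pairs U W X`, as a subspace of `V × V`. -/
def rad (U W X : Submodule F V) : Submodule F (V × V) :=
  (LinearMap.ker (LinearMap.BilinForm.restrict (pairForm B) (pairs U W X))).map
    (pairs U W X).subtype

theorem mem_rad {U W X : Submodule F V} {x : V × V} :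
    x ∈ rad B U W X ↔ x ∈ pairs U W X ∧ ∀ y ∈ pairs U W X, B x.1 y.2 = 0 := by
  rw [rad, Submodule.mem_map]
  constructor
  · rintro ⟨y, hy, rfl⟩
    rw [LinearMap.mem_ker] at hy
    refine ⟨y.2, fun z hz => ?_⟩
    have := LinearMap.congr_fun hy ⟨z, hz⟩
    exact this
  · rintro ⟨hx, h⟩
    refine ⟨⟨x, hx⟩, ?_, rfl⟩
    rw [LinearMap.mem_ker]
    ext y
    · exact h _ y.2

theorem comap_inr_rad (U W X : Submodule F V) :
    (rad B U W X).comap (LinearMap.inr F V V) = W ⊓ X := by
  ext w
  rw [← comap_inr_pairs U W X, Submodule.mem_comap, Submodule.mem_comap, mem_rad]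
  exact ⟨fun h => h.1, fun h => ⟨h, fun y _ => by simp⟩⟩

variable [FiniteDimensional F V]

/-- `(A ⊓ C)^⊥ = A^⊥ ⊔ C^⊥`. -/
theorem orthogonal_inf (hB : B.Nondegenerate) (hR : B.IsRefl) (A C : Submodule F V) :
    B.orthogonal (A ⊓ C) = B.orthogonal A ⊔ B.orthogonal C := by
  have h : B.orthogonal (B.orthogonal A ⊔ B.orthogonal C) = A ⊓ C := by
    apply le_antisymm
    · apply le_inf
      · rw [← LinearMap.BilinForm.orthogonal_orthogonal hB hR A]
        exact (LinearMap.BilinForm.orthogonal_le le_sup_left).trans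
          (by rw [LinearMap.BilinForm.orthogonal_orthogonal hB hR])
      · rw [← LinearMap.BilinForm.orthogonal_orthogonal hB hR C]
        exact (LinearMap.BilinForm.orthogonal_le le_sup_right).trans
          (by rw [LinearMap.BilinForm.orthogonal_orthogonal hB hR])
    · intro x hx y hy
      obtain ⟨a, ha, c, hc, rfl⟩ := Submodule.mem_sup.1 hy
      rw [map_add, LinearMap.add_apply, hR _ _ (ha x hx.1), hR _ _ (hc x hx.2), add_zero]
  rw [← h, LinearMap.BilinForm.orthogonal_orthogonal hB hR]

omit [FiniteDimensional F V] in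
theorem orthogonal_sup (A C : Submodule F V) :
    B.orthogonal (A ⊔ C) = B.orthogonal A ⊓ B.orthogonal C := by
  apply le_antisymm
  · exact le_inf (LinearMap.BilinForm.orthogonal_le le_sup_left)
      (LinearMap.BilinForm.orthogonal_le le_sup_right)
  · intro x hx y hy
    obtain ⟨a, ha, c, hc, rfl⟩ := Submodule.mem_sup.1 hy
    rw [map_add, LinearMap.add_apply, hx.1 a ha, hx.2 c hc, add_zero]

/-- **Parity of the intersections** of three maximal totally singular subspaces. -/
theorem even_intersections (Q : V → F) (hQ : ∀ u w, Q (u + w) = Q u + Q w + B u w)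
    (hB : B.Nondegenerate) (hR : B.IsRefl) (m : ℕ) (hV : finrank F V = 2 * m)
    (U W X : Submodule F V) (hU : finrank F U = m) (hW : finrank F W = m)
    (hX : finrank F X = m) (hU0 : ∀ u ∈ U, Q u = 0) (hW0 : ∀ u ∈ W, Q u = 0)
    (hX0 : ∀ u ∈ X, Q u = 0) :
    Even (finrank F ↥(U ⊓ W) + finrank F ↥(W ⊓ X) + finrank F ↥(U ⊓ X) + m) := by
  have hself : ∀ Y : Submodule F V, finrank F Y = m → (∀ u ∈ Y, Q u = 0) →
      B.orthogonal Y = Y := by
    intro Y hY hY0
    symm
    apply Submodule.eq_of_le_of_finrank_eq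
    · intro y hy z hz
      have := hQ z y
      rw [hY0 _ (Y.add_mem hz hy), hY0 z hz, hY0 y hy, zero_add, zero_add] at this
      exact this.symm
    · rw [LinearMap.BilinForm.finrank_orthogonal hB, hV, hY]; omega
  have hUo := hself U hU hU0
  have hWo := hself W hW hW0
  have hXo := hself X hX hX0
  -- the form on pairs is alternating
  have halt : (LinearMap.BilinForm.restrict (pairForm B) (pairs U W X)).IsAlt := by
    rintro ⟨x, h1, h2, h3⟩
    have := hQ x.1 x.2
    rw [hX0 _ h3, hU0 _ h1, hW0 _ h2, zero_add, zero_add] at this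
    exact this.symm
  obtain ⟨r, hr⟩ := exists_finrank_eq_ker_add _ halt
  have hrad : finrank F (rad B U W X) =
      finrank F (LinearMap.ker (LinearMap.BilinForm.restrict (pairForm B) (pairs U W X))) := by
    rw [rad]
    exact Submodule.finrank_map_subtype_eq _ _
  rw [← hrad, finrank_eq_map_fst_add, finrank_eq_map_fst_add (rad B U W X), map_fst_pairs,
    comap_inr_pairs, comap_inr_rad] at hr
  -- the first projection of the radical
  have hproj : (rad B U W X).map (LinearMap.fst F V V) = (U ⊓ W) ⊔ (U ⊓ X) := by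
    have h1 : (rad B U W X).map (LinearMap.fst F V V) =
        (U ⊓ (W ⊔ X)) ⊓ B.orthogonal (W ⊓ (U ⊔ X)) := by
      ext u
      rw [Submodule.mem_inf, ← map_fst_pairs, ← map_snd_pairs]
      simp only [Submodule.mem_map, LinearMap.fst_apply]
      constructor
      · rintro ⟨x, hx, rfl⟩
        rw [mem_rad] at hx
        refine ⟨⟨x, hx.1, rfl⟩, ?_⟩
        rintro _ ⟨y, hy, rfl⟩
        exact hR _ _ (hx.2 y hy)
      · rintro ⟨⟨x, hx, rfl⟩, h⟩
        refine ⟨x, ?_, rfl⟩
        rw [mem_rad]
        exact ⟨hx, fun y hy => hR _ _ (h y.2 ⟨y, hy, rfl⟩)⟩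
    rw [h1, orthogonal_inf B hB hR, orthogonal_sup B, hUo, hWo, hXo]
    -- `U ⊓ (W ⊔ X) ⊓ (W ⊔ (U ⊓ X)) = (U ⊓ W) ⊔ (U ⊓ X)`
    apply le_antisymm
    · rintro u ⟨⟨hu, -⟩, h⟩
      obtain ⟨w, hw, x, hx, rfl⟩ := Submodule.mem_sup.1 h
      refine Submodule.add_mem_sup ⟨?_, hw⟩ hx
      have := U.sub_mem hu hx.1
      rwa [add_sub_cancel_right] at this
    · apply sup_le
      · exact le_inf (le_inf inf_le_left (inf_le_right.trans le_sup_left))
          (inf_le_right.trans le_sup_left)
      · exact le_inf (le_inf inf_le_left (inf_le_right.trans le_sup_right)) le_sup_right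
  rw [hproj] at hr
  -- dimension of `U ⊓ (W ⊔ X)`
  have h2 : finrank F ↥(U ⊓ (W ⊔ X)) + finrank F ↥(U ⊔ (W ⊓ X)) = 2 * m := by
    have h3 : B.orthogonal (U ⊓ (W ⊔ X)) = U ⊔ (W ⊓ X) := by
      rw [orthogonal_inf B hB hR, orthogonal_sup B, hUo, hWo, hXo]
    have h4 := LinearMap.BilinForm.finrank_orthogonal hB (U ⊓ (W ⊔ X))
    rw [h3, hV] at h4
    have h5 : finrank F ↥(U ⊓ (W ⊔ X)) ≤ 2 * m := by
      rw [← hV]; exact Submodule.finrank_le _
    omega
  have h6 := Submodule.finrank_sup_add_finrank_inf_eq U (W ⊓ X)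
  have h7 := Submodule.finrank_sup_add_finrank_inf_eq (U ⊓ W) (U ⊓ X)
  have h8 : (U ⊓ W) ⊓ (U ⊓ X) = U ⊓ (W ⊓ X) := by
    rw [← inf_inf_distrib_left]
  rw [h8] at h7
  rw [hU] at h6
  rw [Nat.even_iff]
  omega

end Parity

end Cfsg.Agent.ClassicalGeometry.TwoFamilies
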