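import Mathlib

/-!
A version of Hua's theorem for two additive maps, and the extension of automorphisms of subfields of
finite fields.
-/

set_option autoImplicit false

namespace Cfsg.Agent.ClassicalGeometry.UnitAutHua

/-- If `φ`, `ψ` are additive with `φ 1 = ψ 1 = 1` and `ψ (s⁻¹) = (φ s)⁻¹` then `φ = ψ` is multiplicative
(finite fields). -/
theorem hua_pair {K : Type*} [Field K] [Finite K] (φ ψ : K →+ K) (h1 : φ 1 = 1) (h2 : ψ 1 = 1)
    (h : ∀ s : K, s ≠ 0 → ψ s⁻¹ * φ s = 1) :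
    (∀ s, φ s = ψ s) ∧ ∀ s t, φ (s * t) = φ s * φ t := by
  have hφ0 : ∀ s : K, s ≠ 0 → φ s ≠ 0 := fun s hs h0 => by
    have := h s hs
    rw [h0, mul_zero] at this
    exact zero_ne_one this
  have hψ0 : ∀ s : K, s ≠ 0 → ψ s ≠ 0 := fun s hs h0 => by
    have := h s⁻¹ (inv_ne_zero hs)
    rw [inv_inv, h0, zero_mul] at this
    exact zero_ne_one this
  have hψi : ∀ s : K, s ≠ 0 → ψ s⁻¹ = (φ s)⁻¹ := fun s hs => eq_inv_of_mul_eq_one_left (h s hs)
  have hφi : ∀ s : K, s ≠ 0 → φ s⁻¹ = (ψ s)⁻¹ := fun s hs => by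
    have := h s⁻¹ (inv_ne_zero hs)
    rw [inv_inv] at this
    exact eq_inv_of_mul_eq_one_right this
  have heq : ∀ s, φ s = ψ s := by
    intro s
    by_cases hs0 : s = 0
    · rw [hs0, map_zero, map_zero]
    by_cases hs1 : s = 1
    · rw [hs1, h1, h2]
    have ha : (1 : K) - s ≠ 0 := sub_ne_zero.2 (Ne.symm hs1)
    have hb : s⁻¹ - 1 ≠ 0 := by
      intro h0
      apply hs1
      have := sub_eq_zero.1 h0
      exact inv_eq_one.1 this
    have hid : (1 - s)⁻¹ = 1 + (s⁻¹ - 1)⁻¹ := by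
      have : s⁻¹ - 1 = (1 - s) / s := by field_simp
      rw [this]
      field_simp
      ring
    have e1 : φ ((1 - s)⁻¹) = (1 - ψ s)⁻¹ := by
      rw [hφi _ ha, map_sub, h2]
    have e2 : φ ((1 - s)⁻¹) = 1 + ((φ s)⁻¹ - 1)⁻¹ := by
      rw [hid, map_add, h1, hφi _ hb, map_sub, h2, hψi _ hs0]
    have hφ1 : (φ s)⁻¹ - 1 ≠ 0 := by
      rw [← hψi s hs0, ← h2, ← map_sub]
      exact hψ0 _ hb
    have hφs := hφ0 s hs0
    have hφ1' : 1 - φ s ≠ 0 := by
      intro h0
      apply hφ1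
      rw [← sub_eq_zero.1 h0, inv_one, sub_self]
    have e3 : 1 + ((φ s)⁻¹ - 1)⁻¹ = (1 - φ s)⁻¹ := by
      have : (φ s)⁻¹ - 1 = (1 - φ s) / φ s := by field_simp
      rw [this]
      field_simp
      ring
    rw [e1, e3] at e2
    have := inv_injective e2
    linear_combination this
  refine ⟨heq, ?_⟩
  have hinv : ∀ s : K, s ≠ 0 → φ s⁻¹ = (φ s)⁻¹ := fun s hs => by rw [hφi s hs, heq]
  have hsq : ∀ s t, φ (s * s * t) = φ s * φ s * φ t := by
    intro s t
    by_cases hs0 : s = 0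
    · rw [hs0]; simp
    by_cases ht0 : t = 0
    · rw [ht0]; simp
    by_cases hst : s * t = 1
    · have ht : t = s⁻¹ := eq_inv_of_mul_eq_one_right hst
      rw [ht, hinv s hs0]
      have := hφ0 s hs0
      rw [mul_assoc, mul_inv_cancel₀ hs0, mul_one]
      field_simp
    have h1st : 1 - s * t ≠ 0 := sub_ne_zero.2 (Ne.symm hst)
    have ha : t⁻¹ - s ≠ 0 := by
      intro h0
      apply hst
      rw [← sub_eq_zero.1 h0, inv_mul_cancel₀ ht0]
    have hb : s⁻¹ + (t⁻¹ - s)⁻¹ ≠ 0 := by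
      have : s⁻¹ + (t⁻¹ - s)⁻¹ = (s * (1 - s * t))⁻¹ := by
        have : t⁻¹ - s = (1 - s * t) / t := by field_simp
        rw [this]
        field_simp
        ring
      rw [this]
      exact inv_ne_zero (mul_ne_zero hs0 h1st)
    have hid : s * s * t = s - (s⁻¹ + (t⁻¹ - s)⁻¹)⁻¹ := by
      have : t⁻¹ - s = (1 - s * t) / t := by field_simp
      rw [this]
      have : s⁻¹ + ((1 - s * t) / t)⁻¹ = (s * (1 - s * t))⁻¹ := by
        field_simp
        ring
      rw [this, inv_inv]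
      ring
    have hφs := hφ0 s hs0
    have hφt := hφ0 t ht0
    have ha' : (φ t)⁻¹ - φ s ≠ 0 := by
      rw [← hinv t ht0, ← map_sub]
      exact hφ0 _ ha
    have hst' : 1 - φ s * φ t ≠ 0 := by
      intro h0
      apply ha'
      have : φ s * φ t = 1 := by linear_combination -h0
      rw [eq_inv_of_mul_eq_one_left this, sub_self]
    rw [hid, map_sub, hinv _ hb, map_add, hinv _ hs0, hinv _ ha, map_sub, hinv _ ht0]
    have : (φ t)⁻¹ - φ s = (1 - φ s * φ t) / φ t := by field_simp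
    rw [this]
    have : (φ s)⁻¹ + ((1 - φ s * φ t) / φ t)⁻¹ = (φ s * (1 - φ s * φ t))⁻¹ := by
      field_simp
      ring
    rw [this, inv_inv]
    ring
  intro s t
  by_cases hchar : (2 : K) = 0
  · -- characteristic two
    have hc : ringChar K = 2 := by
      have h3 : ((2 : ℕ) : K) = 0 := by exact_mod_cast hchar
      have h4 : ringChar K ∣ 2 := ringChar.dvd h3
      rcases (Nat.dvd_prime Nat.prime_two).1 h4 with h5 | h5
      · exact absurd h5 (CharP.ringChar_ne_one)
      · exact h5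
    obtain ⟨r, hr⟩ := FiniteField.isSquare_of_char_two hc s
    have h3 := hsq r 1
    rw [mul_one, h1, mul_one, ← hr] at h3
    rw [h3, hr, hsq]
  · have h3 := hsq (s + 1) t
    have h4 : (s + 1) * (s + 1) * t = s * s * t + 2 * (s * t) + t := by ring
    have h5 : φ (2 * (s * t)) = 2 * φ (s * t) := by rw [two_mul, map_add, two_mul]
    rw [h4, map_add, map_add, hsq, h5, map_add, h1] at h3
    have h6 : 2 * (φ (s * t) - φ s * φ t) = 0 := by linear_combination h3
    rcases mul_eq_zero.1 h6 with h7 | h7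
    · exact absurd h7 hchar
    · exact sub_eq_zero.1 h7

/-- Automorphisms of subfields of finite fields extend. -/
theorem exists_extend {F : Type*} [Field F] [Finite F] (K : Subfield F) (σ : K →+* K) :
    ∃ Φ : F ≃+* F, ∀ x : K, Φ (x : F) = (σ x : F) := by
  classical
  have : Fintype F := Fintype.ofFinite F
  obtain ⟨p, hp⟩ := CharP.exists F
  obtain ⟨m, hprime, hcard⟩ := FiniteField.card F p
  have := Fact.mk hprime
  have : CharP K p := (algebraMap K F).charP (algebraMap K F).injective p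
  let _ : Algebra (ZMod p) K := ZMod.algebra K p
  have hσ : Function.Bijective σ := Finite.injective_iff_bijective.1 σ.injective
  let e : K ≃ₐ[ZMod p] K := AlgEquiv.ofRingEquiv (f := RingEquiv.ofBijective σ hσ) (fun a => by
    have h1 : (σ.comp (algebraMap (ZMod p) K)) = algebraMap (ZMod p) K := Subsingleton.elim _ _
    exact RingHom.congr_fun h1 a)
  obtain ⟨⟨i, hi⟩, he⟩ := (FiniteField.bijective_frobeniusAlgEquivOfAlgebraic_pow (ZMod p) K).2 e
  refine ⟨iterateFrobeniusEquiv F p i, fun x => ?_⟩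
  have h1 : σ x = x ^ p ^ i := by
    have h2 : e x = σ x := rfl
    rw [← h2, ← he]
    change (FiniteField.frobeniusAlgEquivOfAlgebraic (ZMod p) K ^ i) x = _
    rw [AlgEquiv.coe_pow, FiniteField.coe_frobeniusAlgEquivOfAlgebraic_iterate, ZMod.card]
  rw [h1, iterateFrobeniusEquiv_def]
  rfl

end Cfsg.Agent.ClassicalGeometry.UnitAutHua
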