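import Mathlib
import Cfsg.Agent.ClassicalGeometry.UnitAutBasic
import Cfsg.Agent.LieClassical.HermCount

/-!
# Centres of Sylow subgroups of `SU_n(q)` in the defining characteristic

The centre of a Sylow `p`-subgroup of `SU_n(q)`, `n ≥ 3`, consists of the transvections with a fixed
centre. Consequently automorphisms of `PSU_n(q)` permute the images of transvections.
-/

set_option autoImplicit false

namespace Cfsg.Agent.ClassicalGeometry.UnitAutSylow

open Cfsg Cfsg.Agent.LieClassical.HermBasic Cfsg.Agent.LieClassical.HermSiegel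
open Cfsg.Agent.ClassicalGeometry.UnitAutBasic
open scoped Pointwise

variable {F : Type*} [Field F] [Fintype F] {q n : ℕ}

/-- The group of Siegel transformations with isotropic vector `u`. -/
def siegelAt (hF : Fintype.card F = q ^ 2) (u : Fin n → F) (hu : hermForm n F q u u = 0) :
    Subgroup (SU n F q) where
  carrier := {g | ∃ (w : Fin n → F) (μ : F) (h : IsSiegel q u w μ), g = siegel hF u w μ h}
  mul_mem' := by
    rintro _ _ ⟨w, μ, h, rfl⟩ ⟨w', μ', h', rfl⟩
    exact ⟨_, _, _, siegel_mul hF h h'⟩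
  one_mem' := ⟨0, 0, IsSiegel.zero hF hu, (siegel_zero hF _).symm⟩
  inv_mem' := by
    rintro _ ⟨w, μ, h, rfl⟩
    exact ⟨_, _, _, siegel_inv hF h⟩

theorem mem_siegelAt (hF : Fintype.card F = q ^ 2) {u : Fin n → F}
    (hu : hermForm n F q u u = 0) {g : SU n F q} :
    g ∈ siegelAt hF u hu ↔ ∃ (w : Fin n → F) (μ : F) (h : IsSiegel q u w μ),
      g = siegel hF u w μ h := Iff.rfl

theorem siegel_mem (hF : Fintype.card F = q ^ 2) {u w : Fin n → F} {μ : F}
    (hu : hermForm n F q u u = 0) (h : IsSiegel q u w μ) :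
    siegel hF u w μ h ∈ siegelAt hF u hu := ⟨w, μ, h, rfl⟩

theorem pow_card_siegel (hF : Fintype.card F = q ^ 2) {u w : Fin n → F} {μ : F}
    (h : IsSiegel q u w μ) : (siegel hF u w μ h) ^ Fintype.card F = 1 := by
  have h2 := two_le hF
  have hcube : (siegelMat q u w μ - 1) * (siegelMat q u w μ - 1) * (siegelMat q u w μ - 1) = 0 := by
    apply Matrix.ext_of_mulVec_single
    intro i
    set e : Fin n → F := Pi.single i 1
    have key : ∀ v : Fin n → F, (siegelMat q u w μ - 1).mulVec v =
        hermForm n F q v u • w + (μ * hermForm n F q v u - hermForm n F q v w) • u := by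
      intro v
      rw [Matrix.sub_mulVec, siegelMat_mulVec, Matrix.one_mulVec]
      abel
    rw [Matrix.zero_mulVec, ← Matrix.mulVec_mulVec, ← Matrix.mulVec_mulVec, key e, key, key]
    simp only [herm_add_left, herm_smul_left, h.iso, h.orth, h.orth' hF, mul_zero, add_zero,
      zero_sub, zero_smul, zero_add, sub_self]
  obtain ⟨p, hp⟩ := CharP.exists F
  obtain ⟨k, hprime, hcard⟩ := FiniteField.card F p
  have := Fact.mk hprime
  have h3 : 3 ≤ Fintype.card F := by rw [hF]; nlinarith
  apply mat_injective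
  have hmat : ∀ m : ℕ, mat ((siegel hF u w μ h) ^ m) = siegelMat q u w μ ^ m := by
    intro m
    induction m with
    | zero => rw [pow_zero, pow_zero, mat_one]
    | succ m ih => rw [pow_succ, mat_mul, ih, pow_succ]; rfl
  rw [hmat, mat_one]
  rcases Nat.eq_zero_or_pos n with rfl | hn
  · exact Subsingleton.elim _ _
  have : Nonempty (Fin n) := ⟨⟨0, hn⟩⟩
  set M := siegelMat q u w μ
  have hc : (M - 1) ^ Fintype.card F = M ^ Fintype.card F - 1 := by
    rw [hcard]
    have := sub_pow_char_pow_of_commute (R := Matrix (Fin n) (Fin n) F) (p := p) (n := (k : ℕ))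
      (Commute.one_right M)
    rw [this, one_pow]
  have h0 : (M - 1) ^ Fintype.card F = 0 := by
    obtain ⟨m, hm⟩ := Nat.exists_eq_add_of_le h3
    rw [hm, pow_add, pow_succ, pow_two, hcube, zero_mul]
  rw [h0] at hc
  exact (sub_eq_zero.1 hc.symm)

theorem isPGroup_siegelAt (hF : Fintype.card F = q ^ 2) {p f : ℕ} (hq : q = p ^ f)
    {u : Fin n → F} (hu : hermForm n F q u u = 0) : IsPGroup p (siegelAt hF u hu) := by
  rintro ⟨g, w, μ, h, rfl⟩
  refine ⟨f * 2, ?_⟩
  apply Subtype.ext
  change (siegel hF u w μ h) ^ p ^ (f * 2) = 1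
  rw [pow_mul, ← hq, ← hF]
  exact pow_card_siegel hF h

theorem le_normalizer_siegelAt (hF : Fintype.card F = q ^ 2)
    {u : Fin n → F} (hu : hermForm n F q u u = 0) {P : Subgroup (SU n F q)}
    (hP : ∀ g ∈ P, act g u = u) : P ≤ Subgroup.normalizer (siegelAt hF u hu : Set (SU n F q)) := by
  have key : ∀ g ∈ P, ∀ x ∈ siegelAt hF u hu, g * x * g⁻¹ ∈ siegelAt hF u hu := by
    rintro g hg _ ⟨w, μ, h, rfl⟩
    rw [conj_siegel]
    have h1 := h.map g
    have h2 := hP g hg
    refine ⟨act g w, μ, ?_, ?_⟩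
    · rw [h2] at h1; exact h1
    · exact siegel_congr hF _ _ h2 rfl rfl
  intro g hg
  rw [Subgroup.mem_normalizer_iff]
  intro x
  constructor
  · exact key g hg x
  · intro h
    have := key g⁻¹ (P.inv_mem hg) _ h
    simpa [mul_assoc] using this

/-- A Sylow subgroup fixing `u` contains the Siegel transformations at `u`. -/
theorem siegelAt_le (hF : Fintype.card F = q ^ 2) {p f : ℕ} (hq : q = p ^ f)
    {u : Fin n → F} (hu : hermForm n F q u u = 0) (P : Sylow p (SU n F q))
    (hP : ∀ g ∈ P, act g u = u) : siegelAt hF u hu ≤ P := by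
  have h1 : IsPGroup p ((P : Subgroup (SU n F q)) ⊔ siegelAt hF u hu : Subgroup (SU n F q)) :=
    P.isPGroup'.to_sup_of_normal_right' (isPGroup_siegelAt hF hq hu)
      (le_normalizer_siegelAt hF hu hP)
  have h2 := P.is_maximal' h1 le_sup_left
  rw [← h2]
  exact le_sup_right

/-! ### Fixed isotropic vectors -/

/-- The isotropic vectors. -/
def Iso (n : ℕ) (F : Type*) [Field F] (q : ℕ) : Type _ := {v : Fin n → F // hermForm n F q v v = 0}

instance isoAction : MulAction (SU n F q) (Iso n F q) where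
  smul g v := ⟨act g v.1, iso_act g v.2⟩
  one_smul v := Subtype.ext (act_one v.1)
  mul_smul g g' v := Subtype.ext (act_mul g g' v.1)

omit [Fintype F] in
theorem smul_iso_val (g : SU n F q) (v : Iso n F q) : (g • v).1 = act g v.1 := rfl

theorem dvd_card_iso (hF : Fintype.card F = q ^ 2) (hn : 2 ≤ n) : q ∣ Nat.card (Iso n F q) := by
  have h := LieClassical.HermCount.card_herm_eq_zero hF n
  have h2 := two_le hF
  have h3 : (q : ℤ) * q ∣ (q : ℤ) * Nat.card (Iso n F q) := by
    change (q : ℤ) * q ∣ (q : ℤ) * Nat.card {v : Fin n → F // hermForm n F q v v = 0}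
    rw [h]
    obtain ⟨m, rfl⟩ := Nat.exists_eq_add_of_le hn
    refine ⟨(q : ℤ) ^ (2 + 2 * m) + (-q : ℤ) ^ m * (q - 1), ?_⟩
    rw [show 2 * (2 + m) = 2 + (2 + 2 * m) by ring, pow_add, pow_add]
    ring
  have h4 : (q : ℤ) ∣ Nat.card (Iso n F q) :=
    (mul_dvd_mul_iff_left (by positivity)).1 h3
  exact_mod_cast h4

/-- Every `p`-subgroup of `SU` fixes a nonzero isotropic vector. -/
theorem exists_fixed_iso (hF : Fintype.card F = q ^ 2) (hn : 2 ≤ n) {p f : ℕ} [Fact p.Prime]
    (hf : 1 ≤ f) (hq : q = p ^ f) (P : Subgroup (SU n F q)) (hP : IsPGroup p P) :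
    ∃ v : Fin n → F, v ≠ 0 ∧ hermForm n F q v v = 0 ∧ ∀ g ∈ P, act g v = v := by
  have : Finite (Iso n F q) := by unfold Iso; infer_instance
  have hdvd : p ∣ Nat.card (Iso n F q) :=
    (hq ▸ dvd_pow_self p (by omega) : p ∣ q).trans (dvd_card_iso hF hn)
  let z : Iso n F q := ⟨0, herm_zero_left 0⟩
  have hz : z ∈ MulAction.fixedPoints P (Iso n F q) := by
    rintro ⟨g, hg⟩
    exact Subtype.ext (act_zero g)
  obtain ⟨v, hv, hne⟩ := hP.exists_fixed_point_of_prime_dvd_card_of_fixed_point _ hdvd hz
  refine ⟨v.1, ?_, v.2, ?_⟩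
  · intro h
    exact hne (Subtype.ext h.symm)
  · intro g hg
    exact congrArg Subtype.val (hv ⟨g, hg⟩)

/-- An element fixing `u` and commuting with the Siegel transformations at `u` is a transvection with
centre `u`. -/
theorem eq_T_of_comm (hF : Fintype.card F = q ^ 2) {u : Fin n → F} (h0 : u ≠ 0)
    (hu : hermForm n F q u u = 0) {g : SU n F q} (hg : act g u = u)
    (hc : ∀ x ∈ siegelAt hF u hu, g * x = x * g) : ∃ a : F, g = T hF (a • u) := by
  -- a vector with product one
  obtain ⟨y0, hy0⟩ : ∃ y : Fin n → F, hermForm n F q y u = 1 := by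
    obtain ⟨y, hy⟩ := exists_herm_ne_zero hF h0
    have hy' : hermForm n F q y u ≠ 0 := fun h => hy (herm_eq_zero_swap hF h)
    exact ⟨(hermForm n F q y u)⁻¹ • y, by rw [herm_smul_left, inv_mul_cancel₀ hy']⟩
  have step1 : ∀ w : Fin n → F, hermForm n F q w u = 0 →
      ∃ κ : F, κ ^ q = κ ∧ act g w = w + κ • u := by
    intro w hw
    obtain ⟨μ, hμ⟩ := exists_trace_eq hF (c := -hermForm n F q w w) (by
      rw [neg_pow_q hF, herm_self_pow hF])
    have hs : IsSiegel q u w μ := ⟨hu, hw, by rw [hμ]; ring⟩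
    have h1 := hc _ (siegel_mem hF hu hs)
    have h2 : siegel hF (act g u) (act g w) μ (hs.map g) = siegel hF u w μ hs := by
      rw [← conj_siegel hF hs g, h1, mul_inv_cancel_right]
    have h3 : ∀ y : Fin n → F, hermForm n F q y u • (act g w - w) =
        hermForm n F q y (act g w - w) • u := by
      intro y
      have h4 := congrArg (fun k : SU n F q => act k y) h2
      simp only [act_siegel] at h4
      rw [hg] at h4
      rw [herm_sub_right hF, smul_sub, sub_smul]
      have h5 : hermForm n F q y u • act g w - hermForm n F q y (act g w) • u =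
          hermForm n F q y u • w - hermForm n F q y w • u := by
        have h6 : y + hermForm n F q y u • act g w +
          (μ * hermForm n F q y u - hermForm n F q y (act g w)) • u -
          (y + (μ * hermForm n F q y u) • u) = y + hermForm n F q y u • w +
          (μ * hermForm n F q y u - hermForm n F q y w) • u -
          (y + (μ * hermForm n F q y u) • u) := by rw [h4]
        rw [sub_smul, sub_smul] at h6
        have e1 : ∀ a b c d e : Fin n → F, a + b + (c - d) - (a + c) = b - d := by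
          intros; abel
        rwa [e1 _ _ _ _ 0, e1 _ _ _ _ 0] at h6
      have e2 : ∀ a b c d : Fin n → F, a - b = c - d → a - c = b - d := by
        intro a b c d h
        rw [sub_eq_sub_iff_add_eq_add] at h ⊢
        rw [h, add_comm]
      exact e2 _ _ _ _ h5
    have h4 := h3 y0
    rw [hy0, one_smul] at h4
    set κ := hermForm n F q y0 (act g w - w) with hκ
    refine ⟨κ, ?_, by rw [← h4]; abel⟩
    have h5 : hermForm n F q y0 (act g w - w) = κ ^ q := by
      conv_lhs => rw [h4, herm_smul_right, hy0, mul_one]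
    rw [← h5]
  have step2 : ∀ w : Fin n → F, hermForm n F q w u = 0 → act g w = w := by
    intro w hw
    obtain ⟨κ, hκ, hgw⟩ := step1 w hw
    obtain ⟨t, ht⟩ := exists_not_fixed hF
    obtain ⟨κ', hκ', hgw'⟩ := step1 (t • w) (by rw [herm_smul_left, hw, mul_zero])
    rw [act_smul, hgw, smul_add, smul_smul, add_right_inj] at hgw'
    have h1 : t * κ = κ' := smul_left_injective F h0 hgw'
    have h2 : (t ^ q - t) * κ = 0 := by
      rw [← h1, mul_pow, hκ] at hκ'
      linear_combination hκ'
    rcases mul_eq_zero.1 h2 with h3 | h3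
    · exact absurd (sub_eq_zero.1 h3) ht
    · rw [hgw, h3, zero_smul, add_zero]
  have step3 : ∃ c : F, act g y0 = y0 + c • u := by
    -- `g y0 - y0` is orthogonal to everything orthogonal to `u`
    have h1 : ∀ w : Fin n → F, hermForm n F q w u = 0 → hermForm n F q (act g y0 - y0) w = 0 := by
      intro w hw
      rw [herm_sub_left, sub_eq_zero]
      conv_lhs => rw [← step2 w hw]
      rw [herm_act]
    set d := act g y0 - y0 with hd
    refine ⟨hermForm n F q d y0, ?_⟩
    have h2 : d = hermForm n F q d y0 • u := by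
      have h3 : ∀ y, hermForm n F q (d - hermForm n F q d y0 • u) y = 0 := by
        intro y
        have h4 := h1 (y - hermForm n F q y u • y0) (by
          rw [herm_sub_left, herm_smul_left, hy0, mul_one, sub_self])
        rw [herm_sub_right hF, herm_smul_right] at h4
        rw [herm_sub_left, herm_smul_left, herm_swap hF y u]
        linear_combination h4
      exact sub_eq_zero.1 (herm_nondeg hF h3)
    rw [← h2, hd]
    abel
  obtain ⟨c, hc'⟩ := step3
  have hcc : c + c ^ q = 0 := by
    have h1 := herm_act g y0 y0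
    rw [hc'] at h1
    simp only [herm_add_left, herm_add_right hF, herm_smul_left, herm_smul_right, hu, hy0,
      herm_swap hF y0 u, one_pow] at h1
    linear_combination h1
  obtain ⟨a, ha⟩ := exists_c0_mul_norm hF hcc
  refine ⟨a, ?_⟩
  apply ext_act
  intro x
  rw [act_T_smul hF hu, ha]
  have h1 : act g (x - hermForm n F q x u • y0) = x - hermForm n F q x u • y0 :=
    step2 _ (by rw [herm_sub_left, herm_smul_left, hy0, mul_one, sub_self])
  rw [act_sub, act_smul, hc', smul_add, smul_smul] at h1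
  have h2 : act g x = x + (hermForm n F q x u * c) • u := by
    have e1 : ∀ a b c d : Fin n → F, a - (b + c) = d - b → a = d + c := by
      intro a b c d h
      have : a = (a - (b + c)) + (b + c) := by abel
      rw [this, h]; abel
    exact e1 _ _ _ _ h1
  rw [h2, mul_comm]

/-- Transvections with centre `u` are Siegel transformations at `u`. -/
theorem T_smul_mem_siegelAt (hF : Fintype.card F = q ^ 2) {u : Fin n → F}
    (hu : hermForm n F q u u = 0) (a : F) : T hF (a • u) ∈ siegelAt hF u hu := by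
  have hs : IsSiegel q u 0 (c0 hF * (a * a ^ q)) := by
    refine ⟨hu, herm_zero_left u, ?_⟩
    rw [herm_zero_left, mul_pow, norm_pow_q hF, c0_pow]
    ring
  refine ⟨0, _, hs, ?_⟩
  apply ext_act
  intro x
  rw [act_T_smul hF hu, act_siegel, herm_zero_right hF, smul_zero, sub_zero, add_zero]

/-- The image in `PSU` of a transvection lies in, and centralises, a Sylow subgroup which fixes its
centre. -/
theorem tau_comm_sylow (hF : Fintype.card F = q ^ 2) {u : Fin n → F}
    (hu : hermForm n F q u u = 0) {g : SU n F q} (hg : act g u = u) :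
    g * T hF u = T hF u * g := by
  have h := conj_T hF g hu
  rw [hg] at h
  exact mul_inv_eq_iff_eq_mul.1 h

/-- A central element of `SU` of `p`-power order is trivial. -/
theorem eq_one_of_center (hF : Fintype.card F = q ^ 2) (hn : 3 ≤ n) {p f : ℕ} [Fact p.Prime]
    (hf : 1 ≤ f) (hq : q = p ^ f)
    {z : SU n F q} (hz : z ∈ Subgroup.center (SU n F q)) {k : ℕ} (hk : z ^ p ^ k = 1) : z = 1 := by
  obtain ⟨c, hc, hx⟩ := exists_scalar_of_mem_center hF hn hz
  have h1 : ∀ (m : ℕ) (x : Fin n → F), act (z ^ m) x = c ^ m • x := by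
    intro m
    induction m with
    | zero => intro x; rw [pow_zero, pow_zero, act_one, one_smul]
    | succ m ih => intro x; rw [pow_succ, act_mul, hx, act_smul, ih, smul_smul, pow_succ, mul_comm]
  have i0 : Fin n := ⟨0, by omega⟩
  have hck : c ^ p ^ k = 1 := by
    have h2 := congrFun (h1 (p ^ k) (Pi.single i0 1)) i0
    rw [hk, act_one] at h2
    simpa using h2.symm
  have hcop : Nat.Coprime (q + 1) (p ^ k) := by
    apply Nat.Coprime.pow_right
    rw [Nat.coprime_comm, Nat.Prime.coprime_iff_not_dvd Fact.out]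
    intro h
    have h3 : p ∣ q := hq ▸ dvd_pow_self p (by omega)
    have h4 : p ∣ 1 := (Nat.dvd_add_right h3).1 h
    exact (Fact.out : p.Prime).one_lt.ne' (Nat.dvd_one.1 h4)
  have hc1 : c = 1 := by
    have h2 : c ^ (q + 1) = 1 := by rw [pow_succ']; exact hc
    have h3 := pow_gcd_eq_one.2 ⟨h2, hck⟩
    rwa [Nat.Coprime.gcd_eq_one hcop, pow_one] at h3
  apply ext_act
  intro x
  rw [hx, hc1, one_smul, act_one]

/-- Automorphisms of `PSU` permute the groups of transvections with a given centre. -/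
theorem exists_tau_smul_eq (hF : Fintype.card F = q ^ 2) (hn : 3 ≤ n) (α : MulAut (PSU n F q))
    {v : Fin n → F} (h0 : v ≠ 0) (hv : hermForm n F q v v = 0) :
    ∃ u : Fin n → F, u ≠ 0 ∧ hermForm n F q u u = 0 ∧
      ∀ c : F, ∃ a : F, α (tau hF (c • v)) = tau hF (a • u) := by
  classical
  obtain ⟨p, f, hp, -, hq, hf⟩ := exists_prime_pow hF
  have := Fact.mk hp
  -- a Sylow subgroup fixing `v`
  obtain ⟨P, hP⟩ : ∃ P : Sylow p (SU n F q), ∀ g ∈ P, act g v = v := by
    obtain ⟨P0⟩ : Nonempty (Sylow p (SU n F q)) := inferInstance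
    obtain ⟨v0, hv00, hv0, hP0⟩ := exists_fixed_iso hF (n := n) (by omega) hf hq P0
      P0.isPGroup'
    obtain ⟨g, -, hg⟩ := LieClassical.HermGen.exists_map_iso hF hn le_rfl
      (LieClassical.HermGen.mem_coordSub_top v0) (LieClassical.HermGen.mem_coordSub_top v)
      hv00 h0 hv0 hv
    refine ⟨g • P0, ?_⟩
    intro x hx
    have hx' : x ∈ MulAut.conj g • (P0 : Subgroup (SU n F q)) := hx
    obtain ⟨y, hy, hyx⟩ := hx'
    have hy' := hP0 y hy
    rw [← hyx]
    change act (g * y * g⁻¹) v = v
    rw [act_mul, act_mul, ← hg, act_inv_act, hy']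
  have hTP : ∀ c : F, T hF (c • v) ∈ P := fun c =>
    siegelAt_le hF hq hv P hP (T_smul_mem_siegelAt hF hv c)
  -- the image Sylow subgroup and its image under `α`
  let P1 : Sylow p (PSU n F q) := P.mapSurjective (pr_surjective (n := n) (F := F) (q := q))
  let P2 : Sylow p (PSU n F q) := P1.mapSurjective (f := α.toMonoidHom) α.surjective
  obtain ⟨R, hR⟩ := Sylow.mapSurjective_surjective
    (pr_surjective (n := n) (F := F) (q := q)) p P2
  obtain ⟨u, hu0, hu, hfix⟩ := exists_fixed_iso hF (n := n) (by omega) hf hq R R.isPGroup'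
  have hRmem : ∀ y, y ∈ P2 ↔ ∃ x ∈ R, pr n F q x = y := by
    intro y
    rw [← hR]
    exact Subgroup.mem_map
  refine ⟨u, hu0, hu, fun c => ?_⟩
  have hmem : α (tau hF (c • v)) ∈ P2 := ⟨tau hF (c • v), ⟨T hF (c • v), hTP c, rfl⟩, rfl⟩
  obtain ⟨x, hxR, hx⟩ := (hRmem _).1 hmem
  have hcomm : ∀ y ∈ R, x * y = y * x := by
    intro y hy
    -- the images commute
    have h1 : pr n F q y ∈ P2 := (hRmem _).2 ⟨y, hy, rfl⟩
    obtain ⟨z', ⟨z, hz, hz'⟩, hyz⟩ := h1
    have h2 : pr n F q x * pr n F q y = pr n F q y * pr n F q x := by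
      rw [hx, ← hyz, ← hz']
      change α (tau hF (c • v)) * α (pr n F q z) = α (pr n F q z) * α (tau hF (c • v))
      rw [← map_mul, ← map_mul, tau_def, ← map_mul, ← map_mul,
        tau_comm_sylow hF (iso_smul c hv) (by rw [act_smul, hP z hz])]
    have h3 : (x * y)⁻¹ * (y * x) ∈ Subgroup.center (SU n F q) := by
      rw [← pr_eq_pr_iff, map_mul, map_mul, h2]
    have h4 : (x * y)⁻¹ * (y * x) ∈ (R : Subgroup (SU n F q)) :=
      mul_mem (inv_mem (mul_mem hxR hy)) (mul_mem hy hxR)
    obtain ⟨k, hk⟩ := R.isPGroup' ⟨_, h4⟩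
    have h5 : ((x * y)⁻¹ * (y * x)) ^ p ^ k = 1 := congrArg Subtype.val hk
    have h6 := eq_one_of_center hF hn hf hq h3 h5
    exact inv_mul_eq_one.1 h6
  obtain ⟨a, ha⟩ := eq_T_of_comm hF hu0 hu (hfix x hxR)
    (fun y hy => hcomm y (siegelAt_le hF hq hu R hfix hy))
  exact ⟨a, by rw [tau_def hF (a • u), ← ha, hx]⟩

end Cfsg.Agent.ClassicalGeometry.UnitAutSylow
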