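import Mathlib
import Cfsg.Agent.ClassicalGeometry.UnitAutSylow
import Cfsg.Agent.ClassicalGeometry.UnitAutHua

/-!
# The action of an automorphism of `PSU` on transvections

`Rel hF α v w` says that `v`, `w` are nonzero isotropic vectors with `α (tau v) = tau w`.
-/

set_option autoImplicit false

namespace Cfsg.Agent.ClassicalGeometry.UnitAutRel

open Cfsg Cfsg.Agent.LieClassical.HermBasic Cfsg.Agent.LieClassical.HermSiegel
open Cfsg.Agent.ClassicalGeometry.UnitAutBasic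
open Cfsg.Agent.ClassicalGeometry.UnitAutSylow (exists_tau_smul_eq)

variable {F : Type*} [Field F] [Fintype F] {q n : ℕ}

/-- The image of `tau v` under `α` is `tau w`. -/
structure Rel (hF : Fintype.card F = q ^ 2) (α : MulAut (PSU n F q)) (v w : Fin n → F) : Prop where
  ne : v ≠ 0
  iso : hermForm n F q v v = 0
  ne' : w ≠ 0
  iso' : hermForm n F q w w = 0
  eq : α (tau hF v) = tau hF w

theorem exists_rel (hF : Fintype.card F = q ^ 2) (hn : 3 ≤ n) (α : MulAut (PSU n F q))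
    {v : Fin n → F} (h0 : v ≠ 0) (hv : hermForm n F q v v = 0) : ∃ w, Rel hF α v w := by
  obtain ⟨u, hu0, hu, h⟩ := exists_tau_smul_eq hF hn α h0 hv
  obtain ⟨a, ha⟩ := h 1
  rw [one_smul] at ha
  refine ⟨a • u, h0, hv, ?_, iso_smul a hu, ha⟩
  intro h1
  rw [h1, tau_zero] at ha
  have h2 : tau hF v = 1 := α.injective (by rw [ha, map_one])
  exact h0 ((tau_eq_one_iff hF hn hv).1 h2)

section

variable {hF : Fintype.card F = q ^ 2} {α : MulAut (PSU n F q)}

theorem Rel.inv {v w : Fin n → F} (h : Rel hF α v w) : Rel hF α⁻¹ w v :=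
  ⟨h.ne', h.iso', h.ne, h.iso, by rw [← h.eq]; exact α.symm_apply_apply _⟩

theorem Rel.mul {β : MulAut (PSU n F q)} {u v w : Fin n → F} (h : Rel hF α u v)
    (h' : Rel hF β v w) : Rel hF (β * α) u w :=
  ⟨h.ne, h.iso, h'.ne', h'.iso', by rw [MulAut.mul_apply, h.eq, h'.eq]⟩

theorem Rel.unique (hn : 3 ≤ n) {v w w' : Fin n → F} (h : Rel hF α v w) (h' : Rel hF α v w') :
    ∃ ζ : F, ζ * ζ ^ q = 1 ∧ w' = ζ • w :=
  (tau_eq_tau_iff hF hn h.iso' h'.iso' h.ne').1 (by rw [← h.eq, ← h'.eq])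

theorem norm_ne_zero {ζ : F} (hζ : ζ * ζ ^ q = 1) : ζ ≠ 0 := by
  rintro rfl
  rw [zero_mul] at hζ
  exact zero_ne_one hζ

theorem tau_norm_one (hF : Fintype.card F = q ^ 2) {v : Fin n → F}
    (hv : hermForm n F q v v = 0) {ζ : F} (hζ : ζ * ζ ^ q = 1) :
    tau hF (ζ • v) = tau hF v := by
  have := tau_smul_congr hF hv (a := ζ) (b := 1) (by rw [hζ, one_pow, mul_one])
  rwa [one_smul] at this

theorem Rel.smul_right {v w : Fin n → F} (h : Rel hF α v w) {ζ : F} (hζ : ζ * ζ ^ q = 1) :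
    Rel hF α v (ζ • w) :=
  ⟨h.ne, h.iso, smul_ne_zero (norm_ne_zero hζ) h.ne', iso_smul ζ h.iso', by
    rw [tau_norm_one hF h.iso' hζ, h.eq]⟩

theorem Rel.smul_left {v w : Fin n → F} (h : Rel hF α v w) {ζ : F} (hζ : ζ * ζ ^ q = 1) :
    Rel hF α (ζ • v) w :=
  ⟨smul_ne_zero (norm_ne_zero hζ) h.ne, iso_smul ζ h.iso, h.ne', h.iso', by
    rw [tau_norm_one hF h.iso hζ, h.eq]⟩

/-- Scalar multiples go to scalar multiples. -/
theorem Rel.exists_smul (hn : 3 ≤ n) {v w : Fin n → F} (h : Rel hF α v w) (a : F) :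
    ∃ b : F, α (tau hF (a • v)) = tau hF (b • w) := by
  obtain ⟨u, hu0, hu, hu'⟩ := exists_tau_smul_eq hF hn α h.ne h.iso
  obtain ⟨a1, ha1⟩ := hu' 1
  obtain ⟨a2, ha2⟩ := hu' a
  rw [one_smul, h.eq] at ha1
  obtain ⟨ζ, hζ, h1⟩ := (tau_eq_tau_iff hF hn h.iso' (iso_smul a1 hu) h.ne').1 ha1
  have ha10 : a1 ≠ 0 := by
    rintro rfl
    rw [zero_smul] at h1
    exact smul_ne_zero (norm_ne_zero hζ) h.ne' h1.symm
  have h2 : u = (a1⁻¹ * ζ) • w := by rw [mul_smul, ← h1, smul_smul, inv_mul_cancel₀ ha10, one_smul]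
  exact ⟨a2 * (a1⁻¹ * ζ), by rw [ha2, h2, smul_smul]⟩

theorem Rel.smul_of_eq {v w : Fin n → F} (h : Rel hF α v w) (hn : 3 ≤ n) {a b : F} (ha : a ≠ 0)
    (hab : α (tau hF (a • v)) = tau hF (b • w)) : Rel hF α (a • v) (b • w) := by
  refine ⟨smul_ne_zero ha h.ne, iso_smul a h.iso, ?_, iso_smul b h.iso', hab⟩
  intro h1
  rw [h1, tau_zero] at hab
  have h2 : tau hF (a • v) = 1 := α.injective (by rw [hab, map_one])
  exact smul_ne_zero ha h.ne ((tau_eq_one_iff hF hn (iso_smul a h.iso)).1 h2)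

theorem Rel.act {v w : Fin n → F} (h : Rel hF α v w) {g g' : SU n F q}
    (hg : pr n F q g' = α (pr n F q g)) : Rel hF α (act g v) (act g' w) :=
  ⟨fun h0 => h.ne ((act_eq_zero g).1 h0), iso_act g h.iso,
    fun h0 => h.ne' ((act_eq_zero g').1 h0), iso_act g' h.iso', by
    rw [← conj_tau hF g h.iso, ← conj_tau hF g' h.iso', map_mul, map_mul, map_inv, hg, h.eq]⟩

theorem Rel.orth (hn : 3 ≤ n) {u u' v v' : Fin n → F} (h : Rel hF α u u') (h' : Rel hF α v v') :
    hermForm n F q u v = 0 ↔ hermForm n F q u' v' = 0 := by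
  rw [← tau_comm_iff hF hn h'.iso h.iso h.ne, ← tau_comm_iff hF hn h'.iso' h.iso' h.ne',
    ← h.eq, ← h'.eq, ← map_mul, ← map_mul]
  exact α.injective.eq_iff.symm

/-! ### Norms -/

/-- The fixed field. -/
def Kf (hF : Fintype.card F = q ^ 2) : Subfield F where
  carrier := {x | x ^ q = x}
  mul_mem' {a b} ha hb := by
    change (a * b) ^ q = a * b
    rw [mul_pow, show a ^ q = a from ha, show b ^ q = b from hb]
  one_mem' := one_pow q
  add_mem' {a b} ha hb := by
    change (a + b) ^ q = a + b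
    rw [add_pow_q hF, show a ^ q = a from ha, show b ^ q = b from hb]
  zero_mem' := zero_pow_q hF
  neg_mem' {a} ha := by
    change (-a) ^ q = -a
    rw [neg_pow_q hF, show a ^ q = a from ha]
  inv_mem' a ha := by
    change (a⁻¹) ^ q = a⁻¹
    rw [inv_pow, show a ^ q = a from ha]

theorem mem_Kf (hF : Fintype.card F = q ^ 2) {x : F} : x ∈ Kf hF ↔ x ^ q = x := Iff.rfl

/-- The norm, with values in the fixed field. -/
def Nm (hF : Fintype.card F = q ^ 2) (a : F) : Kf hF := ⟨a * a ^ q, norm_pow_q hF a⟩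

theorem Nm_coe (hF : Fintype.card F = q ^ 2) (a : F) : ((Nm hF a : Kf hF) : F) = a * a ^ q := rfl

theorem Nm_one (hF : Fintype.card F = q ^ 2) : Nm hF 1 = 1 := by
  apply Subtype.ext
  rw [Nm_coe, one_pow, mul_one]; rfl

theorem Nm_zero (hF : Fintype.card F = q ^ 2) : Nm hF 0 = 0 := by
  apply Subtype.ext
  rw [Nm_coe, zero_mul]; rfl

theorem Nm_mul (hF : Fintype.card F = q ^ 2) (a b : F) : Nm hF (a * b) = Nm hF a * Nm hF b := by
  apply Subtype.ext
  simp only [Nm_coe, Subfield.coe_mul, mul_pow]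
  ring

theorem Nm_eq_one_iff (hF : Fintype.card F = q ^ 2) {a : F} : Nm hF a = 1 ↔ a * a ^ q = 1 := by
  rw [Subtype.ext_iff, Nm_coe]; rfl

theorem Nm_eq_iff (hF : Fintype.card F = q ^ 2) {a b : F} :
    Nm hF a = Nm hF b ↔ a * a ^ q = b * b ^ q := by
  rw [Subtype.ext_iff, Nm_coe, Nm_coe]

theorem Nm_surjective (hF : Fintype.card F = q ^ 2) : Function.Surjective (Nm hF) := by
  rintro ⟨c, hc⟩
  obtain ⟨x, hx⟩ := exists_norm_eq hF (c := c) hc
  exact ⟨x, Subtype.ext hx⟩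

theorem Nm_eq_zero_iff (hF : Fintype.card F = q ^ 2) {a : F} : Nm hF a = 0 ↔ a = 0 := by
  rw [Subtype.ext_iff, Nm_coe]
  exact norm_eq_zero hF

theorem tau_eq_iff_Nm (hF : Fintype.card F = q ^ 2) (hn : 3 ≤ n) {v : Fin n → F} (h0 : v ≠ 0)
    (hv : hermForm n F q v v = 0) {a b : F} :
    tau hF (a • v) = tau hF (b • v) ↔ Nm hF a = Nm hF b := by
  constructor
  · intro h
    by_cases ha : a = 0
    · rw [ha, zero_smul, tau_zero, eq_comm, tau_eq_one_iff hF hn (iso_smul b hv)] at h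
      rcases smul_eq_zero.1 h with h1 | h1
      · rw [ha, h1]
      · exact absurd h1 h0
    · obtain ⟨ζ, hζ, h1⟩ := (tau_eq_tau_iff hF hn (iso_smul a hv) (iso_smul b hv)
        (smul_ne_zero ha h0)).1 h
      rw [smul_smul] at h1
      have h2 : b = ζ * a := smul_left_injective F h0 h1
      rw [h2, Nm_mul, (Nm_eq_one_iff hF).2 hζ, one_mul]
  · intro h
    exact tau_smul_congr hF hv ((Nm_eq_iff hF).1 h)

/-- The induced additive map on norms. -/
theorem Rel.exists_phi (hn : 3 ≤ n) {v w : Fin n → F} (h : Rel hF α v w) :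
    ∃ φ : Kf hF →+ Kf hF, φ 1 = 1 ∧
      ∀ a b : F, α (tau hF (a • v)) = tau hF (b • w) → φ (Nm hF a) = Nm hF b := by
  choose a ha using Nm_surjective hF
  choose b hb using fun c : F => h.exists_smul hn c
  have key : ∀ (s : Kf hF) (a' b' : F), Nm hF a' = s → α (tau hF (a' • v)) = tau hF (b' • w) →
      Nm hF (b (a s)) = Nm hF b' := by
    intro s a' b' ha' hb'
    rw [← tau_eq_iff_Nm hF hn h.ne' h.iso', ← hb, ← hb',
      tau_smul_congr hF h.iso ((Nm_eq_iff hF).1 ((ha s).trans ha'.symm))]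
  let φ : Kf hF → Kf hF := fun s => Nm hF (b (a s))
  have hadd : ∀ s t, φ (s + t) = φ s + φ t := by
    intro s t
    obtain ⟨c, hc⟩ := Nm_surjective hF (φ s + φ t)
    have h1 : tau hF (a s • v) * tau hF (a t • v) = tau hF (a (s + t) • v) := by
      apply tau_mul hF h.iso
      have := congrArg (fun x : Kf hF => (x : F)) (ha (s + t))
      simp only [Nm_coe, Subfield.coe_add] at this
      rw [this, ← Nm_coe hF, ← Nm_coe hF, ha, ha]
    have h2 : tau hF (b (a s) • w) * tau hF (b (a t) • w) = tau hF (c • w) := by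
      apply tau_mul hF h.iso'
      have := congrArg (fun x : Kf hF => (x : F)) hc
      simp only [Nm_coe, Subfield.coe_add, φ] at this
      exact this.symm
    have h3 : tau hF (b (a (s + t)) • w) = tau hF (c • w) := by
      rw [← hb, ← h1, map_mul, hb, hb, h2]
    rw [← hc]
    exact (tau_eq_iff_Nm hF hn h.ne' h.iso').1 h3
  refine ⟨AddMonoidHom.mk' φ hadd, ?_, ?_⟩
  · change φ 1 = 1
    have := key 1 1 1 (Nm_one hF) (by rw [one_smul, one_smul, h.eq])
    rw [Nm_one] at this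
    exact this
  · intro a' b' h'
    exact key _ a' b' rfl h'

/-! ### The key relation -/

theorem act_TTT (hF : Fintype.card F = q ^ 2) {u v : Fin n → F} (hu : hermForm n F q u u = 0)
    (hv : hermForm n F q v v = 0) (a b : F) :
    LieClassical.HermSiegel.act (T hF (a • u) * T hF (b • v) * T hF (a • u)) u =
      (1 + c0 hF ^ 2 * (a * a ^ q) * (b * b ^ q) *
        (hermForm n F q u v * hermForm n F q v u)) • u +
      (c0 hF * (b * b ^ q) * hermForm n F q u v) • v := by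
  rw [act_mul, act_mul, act_T_smul hF hu a u, hu, mul_zero, zero_smul, add_zero,
    act_T_smul hF hv b u, act_T_smul hF hu, herm_add_left, herm_smul_left, hu]
  ext i
  simp only [Pi.add_apply, Pi.smul_apply, smul_eq_mul]
  ring

theorem Rel.key (hn : 3 ≤ n) {u u' v v' : Fin n → F} (h1 : Rel hF α u u') (h2 : Rel hF α v v')
    (hne : hermForm n F q u v ≠ 0) {a b a' b' : F}
    (ha : α (tau hF (a • u)) = tau hF (a' • u')) (hb : α (tau hF (b • v)) = tau hF (b' • v'))
    (h : 1 + c0 hF ^ 2 * (a * a ^ q) * (b * b ^ q) *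
        (hermForm n F q u v * hermForm n F q v u) = 0) :
    1 + c0 hF ^ 2 * (a' * a' ^ q) * (b' * b' ^ q) *
        (hermForm n F q u' v' * hermForm n F q v' u') = 0 := by
  have hb0 : b ≠ 0 := by
    rintro rfl
    simp at h
  have hne' : hermForm n F q u' v' ≠ 0 := fun h0 => hne ((h1.orth hn h2).2 h0)
  have h3 : pr n F q (T hF (a' • u') * T hF (b' • v') * T hF (a' • u')) =
      α (pr n F q (T hF (a • u) * T hF (b • v) * T hF (a • u))) := by
    simp only [map_mul, ← tau_def, ha, hb]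
  have h4 := h1.act h3
  rw [act_TTT hF h1.iso h2.iso, act_TTT hF h1.iso' h2.iso', h, zero_smul, zero_add] at h4
  set κ : F := c0 hF * (b * b ^ q) * hermForm n F q u v with hκ
  have hκ0 : κ ≠ 0 := mul_ne_zero (mul_ne_zero (c0_ne_zero hF)
    (fun h0 => hb0 ((norm_eq_zero hF).1 h0))) hne
  obtain ⟨κ', hκ'⟩ := h2.exists_smul hn κ
  have h5 := h2.smul_of_eq hn hκ0 hκ'
  obtain ⟨ζ, hζ, h6⟩ := h5.unique hn h4
  by_contra hcon
  apply hne'
  set C := 1 + c0 hF ^ 2 * (a' * a' ^ q) * (b' * b' ^ q) *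
        (hermForm n F q u' v' * hermForm n F q v' u') with hC
  have h7 : C • u' = (ζ * κ' - c0 hF * (b' * b' ^ q) * hermForm n F q u' v') • v' := by
    rw [sub_smul, mul_smul, ← h6, add_sub_cancel_right]
  have h8 : C * hermForm n F q u' v' = 0 := by
    rw [← herm_smul_left, h7, herm_smul_left, h2.iso', mul_zero]
  rcases mul_eq_zero.1 h8 with h9 | h9
  · exact absurd h9 hcon
  · exact h9

end

end Cfsg.Agent.ClassicalGeometry.UnitAutRel
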