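import Mathlib
import Cfsg.Prelude.Def_ClassicalGeometry
import Cfsg.Agent.LieClassical.HermBasic
import Cfsg.Agent.ClassicalGeometry.UnitTransv

/-!
# Generation of `SU_n(q)` by unitary transvections

`T F n q` is the subgroup of `SU n F q` generated by the unitary transvections.
`Conn q k u v` : some element of `T` fixes `e_i` for all `i ≥ k` and maps `u` to `v`.
The main results: norm one vectors `u, v` of `V_k = ⟨e_0, ..., e_{k-1}⟩` are connected for `k ≥ 2`
unless `n = k = 3` and `q = 2`; so `T = SU` by descent (`transv_eq_top`).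
-/

set_option autoImplicit false

namespace Cfsg.Agent.ClassicalGeometry.UnitGen

open Cfsg Cfsg.Agent.LieClassical.HermBasic Cfsg.Agent.ClassicalGeometry.UnitTransv
open scoped Matrix

section Defs

variable {F : Type*} [Field F] {n : ℕ}

/-- The subgroup of `SU` generated by the unitary transvections. -/
def T (F : Type*) [Field F] (n q : ℕ) : Subgroup (SU n F q) :=
  Subgroup.closure {A : ↥(Cfsg.SU n F q) | ∃ (v : Fin n → F) (c : F), Cfsg.hermForm n F q v v = 0 ∧
    ((A : Matrix.SpecialLinearGroup (Fin n) F) : Matrix (Fin n) (Fin n) F) =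
      Cfsg.unitaryTransvection n q v c}

/-- Vectors supported on the coordinates `< k`. -/
def V (k : ℕ) (x : Fin n → F) : Prop := ∀ i : Fin n, k ≤ i.val → x i = 0

theorem V.add {k : ℕ} {x y : Fin n → F} (hx : V k x) (hy : V k y) : V k (x + y) := by
  intro i hi
  rw [Pi.add_apply, hx i hi, hy i hi, add_zero]

theorem V.sub {k : ℕ} {x y : Fin n → F} (hx : V k x) (hy : V k y) : V k (x - y) := by
  intro i hi
  rw [Pi.sub_apply, hx i hi, hy i hi, sub_zero]

theorem V.smul {k : ℕ} {x : Fin n → F} (c : F) (hx : V k x) : V k (c • x) := by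
  intro i hi
  rw [Pi.smul_apply, hx i hi, smul_zero]

theorem V.mono {k l : ℕ} (hkl : k ≤ l) {x : Fin n → F} (hx : V k x) : V l x :=
  fun i hi => hx i (hkl.trans hi)

theorem V_single {k : ℕ} {i : Fin n} (hi : i.val < k) (a : F) : V k (Pi.single i a : Fin n → F) := by
  intro j hj
  rw [Pi.single_eq_of_ne]
  rintro rfl
  omega

/-- `u` can be moved to `v` by an element of `T` fixing `e_i` for `i ≥ k`. -/
def Conn (q k : ℕ) (u v : Fin n → F) : Prop :=
  ∃ g : SU n F q, g ∈ T F n q ∧
    (∀ i : Fin n, k ≤ i.val → act g (Pi.single i 1) = Pi.single i 1) ∧ act g u = v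

theorem Conn.refl (q k : ℕ) (u : Fin n → F) : Conn q k u u :=
  ⟨1, one_mem _, fun _ _ => act_one _, act_one _⟩

theorem Conn.symm {q k : ℕ} {u v : Fin n → F} (h : Conn q k u v) : Conn q k v u := by
  obtain ⟨g, hg, hfix, huv⟩ := h
  refine ⟨g⁻¹, inv_mem hg, fun i hi => ?_, ?_⟩
  · conv_lhs => rw [← hfix i hi]
    exact act_inv_act g _
  · rw [← huv, act_inv_act]

theorem Conn.trans {q k : ℕ} {u v w : Fin n → F} (h : Conn q k u v) (h' : Conn q k v w) :
    Conn q k u w := by
  obtain ⟨g, hg, hfix, huv⟩ := h
  obtain ⟨g', hg', hfix', huv'⟩ := h'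
  refine ⟨g' * g, mul_mem hg' hg, fun i hi => ?_, ?_⟩
  · rw [act_mul, hfix i hi, hfix' i hi]
  · rw [act_mul, huv, huv']

end Defs

section Main

variable {F : Type*} [Field F] [Fintype F] {n q : ℕ} (hF : Fintype.card F = q ^ 2)
include hF

theorem utv_mem_T {v : Fin n → F} {c : F} (hv : hermForm n F q v v = 0) (hc : c + c ^ q = 0) :
    utv hF v c hv hc ∈ T F n q :=
  Subgroup.subset_closure ⟨v, c, hv, coe_utv hF hv hc⟩

theorem utv_fix {k : ℕ} {v : Fin n → F} {c : F} (hv : hermForm n F q v v = 0) (hc : c + c ^ q = 0)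
    (hV : V k v) (i : Fin n) (hi : k ≤ i.val) :
    act (utv hF v c hv hc) (Pi.single i 1) = Pi.single i 1 := by
  rw [act_utv, herm_single_left, hV i hi, zero_pow_q hF, mul_zero, mul_zero, zero_smul, add_zero]

/-- Two vectors of the same norm `a` with `h(u, v) = a - δ`, `δ ≠ 0` of trace zero, are exchanged
by the transvection attached to `u - v`. -/
theorem conn_swap {k : ℕ} {u v : Fin n → F} (hu : V k u) (hv : V k v)
    (huv : hermForm n F q u u = hermForm n F q v v) {δ : F} (hδ : δ + δ ^ q = 0) (hδ0 : δ ≠ 0)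
    (h : hermForm n F q u v = hermForm n F q u u - δ) : Conn q k u v := by
  have ha : (hermForm n F q u u) ^ q = hermForm n F q u u := herm_self_pow hF u
  have hvu : hermForm n F q v u = hermForm n F q u u - δ ^ q := by
    rw [herm_swap hF u v, h, sub_pow_q hF, ha]
  have hw : hermForm n F q (u - v) (u - v) = 0 := by
    rw [herm_sub_left, herm_sub_right hF, herm_sub_right hF, h, hvu, ← huv]
    linear_combination hδ
  have huw : hermForm n F q u (u - v) = δ := by
    rw [herm_sub_right hF, h]; ring
  have hδq : δ ^ q = -δ := by linear_combination hδ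
  have hc : (-δ⁻¹) + (-δ⁻¹) ^ q = 0 := by
    rw [neg_pow_q hF, inv_pow, hδq, inv_neg]; ring
  refine ⟨utv hF (u - v) (-δ⁻¹) hw hc, utv_mem_T hF hw hc, utv_fix hF hw hc (hu.sub hv), ?_⟩
  rw [act_utv, huw, neg_mul, inv_mul_cancel₀ hδ0]
  simp

/-- Existence of `θ` of norm `-1` such that `β - α θ^q` is not in the fixed field. -/
theorem exists_theta {α β : F} (hα : α ≠ 0) :
    ∃ θ : F, θ * θ ^ q = -1 ∧ (β - α * θ ^ q) ^ q ≠ β - α * θ ^ q := by
  classical
  by_contra hcon
  push Not at hcon
  have h1 : (-1 : F) ^ q = -1 := by rw [neg_pow_q hF, one_pow]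
  have hc1 := card_norm_eq hF h1 (neg_ne_zero.2 one_ne_zero)
  have hc2 := card_fixed hF
  let f : {x : F // x * x ^ q = -1} → {x : F // x ^ q = x} :=
    fun θ => ⟨β - α * θ.1 ^ q, hcon θ.1 θ.2⟩
  have hf : Function.Injective f := by
    rintro ⟨x, hx⟩ ⟨y, hy⟩ hxy
    have h2 : β - α * x ^ q = β - α * y ^ q := congrArg Subtype.val hxy
    have h3 : α * x ^ q = α * y ^ q := by linear_combination -h2
    exact Subtype.ext ((pow_q_inj hF).1 (mul_left_cancel₀ hα h3))
  have := Nat.card_le_card_of_injective f hf
  omega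

/-- The form on `⟨s, e⟩` for an orthonormal pair. -/
theorem herm_pair {s e : Fin n → F} (hs : hermForm n F q s s = 1) (he : hermForm n F q e e = 1)
    (hse : hermForm n F q s e = 0) (a b c d : F) :
    hermForm n F q (a • s + b • e) (c • s + d • e) = a * c ^ q + b * d ^ q := by
  have hes := herm_eq_zero_swap hF hse
  simp only [herm_add_left, herm_add_right hF, herm_smul_left, herm_smul_right, hs, he, hse, hes]
  ring

theorem conn_pair_core {k : ℕ} {s e : Fin n → F} (hVs : V k s) (hVe : V k e)
    (hs : hermForm n F q s s = 1) (he : hermForm n F q e e = 1)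
    (hse : hermForm n F q s e = 0) {α β : F} (hα : α ≠ 0) (hαβ : α * α ^ q + β * β ^ q = 1) :
    Conn q k (α • s + β • e) e := by
  have h1q : (1 : F) ^ q = 1 := one_pow q
  have he' : e = (0 : F) • s + (1 : F) • e := by rw [zero_smul, one_smul, zero_add]
  have hVu : V k (α • s + β • e) := (hVs.smul α).add (hVe.smul β)
  have hnu : hermForm n F q (α • s + β • e) (α • s + β • e) = 1 := by
    rw [herm_pair hF hs he hse, hαβ]
  have hue : ∀ a b : F, hermForm n F q (a • s + b • e) e = b := by
    intro a b
    conv_lhs => rw [he', ← he']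
    rw [herm_add_left, herm_smul_left, herm_smul_left, hse, he]; ring
  by_cases hβ : β + β ^ q = 2
  · refine conn_swap hF hVu hVe (by rw [hnu, he]) (δ := 1 - β) ?_ ?_ ?_
    · rw [sub_pow_q hF, h1q]; linear_combination -hβ
    · intro h0
      have hβ1 : β = 1 := by linear_combination -h0
      rw [hβ1, h1q] at hαβ
      have : α * α ^ q = 0 := by linear_combination hαβ
      exact hα ((norm_eq_zero hF).1 this)
    · rw [hue, hnu]; ring
  · obtain ⟨θ, hθ, hy⟩ := exists_theta hF (β := β) hα
    set y := β - α * θ ^ q with hydef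
    have hX : y - y ^ q ≠ 0 := sub_ne_zero.2 (Ne.symm hy)
    set δ : F := (2 - (β + β ^ q)) * (y - y ^ q)⁻¹ with hδdef
    have h2q : (2 : F) ^ q = 2 := by
      have : (2 : F) = 1 + 1 := by norm_num
      rw [this, add_pow_q hF, h1q]
    have hδq : δ ^ q = -δ := by
      rw [hδdef, mul_pow, inv_pow, sub_pow_q hF, sub_pow_q hF, trace_pow_q hF, pow_q_pow_q hF, h2q]
      have : y ^ q - y = -(y - y ^ q) := by ring
      rw [this, inv_neg]; ring
    have hδ0 : δ ≠ 0 := by
      refine mul_ne_zero ?_ (inv_ne_zero hX)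
      intro h0
      exact hβ (by linear_combination -h0)
    have hδX : δ * (y - y ^ q) = 2 - (β + β ^ q) := by
      rw [hδdef, mul_assoc, inv_mul_cancel₀ hX, mul_one]
    have hVz : V k ((δ * θ) • s + (1 - δ) • e) := (hVs.smul _).add (hVe.smul _)
    have hnz : hermForm n F q ((δ * θ) • s + (1 - δ) • e) ((δ * θ) • s + (1 - δ) • e) = 1 := by
      rw [herm_pair hF hs he hse, mul_pow, sub_pow_q hF, h1q, hδq]
      linear_combination (-δ ^ 2) * hθ
    have hze : Conn q k ((δ * θ) • s + (1 - δ) • e) e := by
      refine conn_swap hF hVz hVe (by rw [hnz, he]) (δ := δ) ?_ hδ0 ?_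
      · rw [hδq]; ring
      · rw [hue, hnz]
    refine Conn.trans ?_ hze
    -- the value `h(u, z)`
    have huz : hermForm n F q (α • s + β • e) ((δ * θ) • s + (1 - δ) • e) = β + δ * y := by
      rw [herm_pair hF hs he hse, mul_pow, sub_pow_q hF, h1q, hδq, hydef]; ring
    have htr : (β + δ * y) + (β + δ * y) ^ q = 2 := by
      rw [add_pow_q hF, mul_pow, hδq]
      linear_combination hδX
    by_cases h1 : β + δ * y = 1
    · -- then `u = z`
      have hw0 : α = δ * θ ∧ β = 1 - δ := by
        -- `w = u - z` is isotropic and orthogonal to `u`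
        set w0 := α - δ * θ with hw0
        set w1 := β - (1 - δ) with hw1
        have hw : α • s + β • e - ((δ * θ) • s + (1 - δ) • e) = w0 • s + w1 • e := by
          rw [hw0, hw1]; module
        have e1 : w0 * w0 ^ q + w1 * w1 ^ q = 0 := by
          rw [← herm_pair hF hs he hse, ← hw, herm_sub_left, herm_sub_right hF, herm_sub_right hF,
            hnu, hnz, huz, herm_swap hF (α • s + β • e), huz, h1, h1q]
          ring
        have e2 : α * w0 ^ q + β * w1 ^ q = 0 := by
          rw [← herm_pair hF hs he hse, ← hw, herm_sub_right hF, hnu, huz, h1]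
          ring
        by_cases hz : w0 * w0 ^ q = 0
        · have hz1 : w1 * w1 ^ q = 0 := by linear_combination e1 - hz
          exact ⟨sub_eq_zero.1 ((norm_eq_zero hF).1 hz), sub_eq_zero.1 ((norm_eq_zero hF).1 hz1)⟩
        · exfalso
          have e3 : (α * α ^ q) * (w0 * w0 ^ q) = (β * β ^ q) * (w1 * w1 ^ q) := by
            have e2' : α * w0 ^ q = -(β * w1 ^ q) := by linear_combination e2
            have e4 : (α * w0 ^ q) ^ q = (-(β * w1 ^ q)) ^ q := by rw [e2']
            rw [neg_pow_q hF, mul_pow, mul_pow, pow_q_pow_q hF, pow_q_pow_q hF] at e4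
            calc (α * α ^ q) * (w0 * w0 ^ q) = (α * w0 ^ q) * (α ^ q * w0) := by ring
              _ = (-(β * w1 ^ q)) * (-(β ^ q * w1)) := by rw [e2', e4]
              _ = _ := by ring
          have e5 : (α * α ^ q + β * β ^ q) * (w0 * w0 ^ q) = 0 := by
            linear_combination e3 + (β * β ^ q) * e1
          rw [hαβ, one_mul] at e5
          exact hz e5
      rw [← hw0.1, ← hw0.2]
      exact Conn.refl q k _
    · refine conn_swap hF hVu hVz (by rw [hnu, hnz]) (δ := 1 - (β + δ * y)) ?_ ?_ ?_
      · rw [sub_pow_q hF, h1q]; linear_combination -htr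
      · intro h0; exact h1 (by linear_combination -h0)
      · rw [huz, hnu]; ring

/-- Norm one vectors in the plane of an orthonormal pair `(s, e)` are connected to `e`. -/
theorem conn_pair {k : ℕ} {s e : Fin n → F} (hVs : V k s) (hVe : V k e)
    (hs : hermForm n F q s s = 1) (he : hermForm n F q e e = 1)
    (hse : hermForm n F q s e = 0) {α β : F} (hαβ : α * α ^ q + β * β ^ q = 1) :
    Conn q k (α • s + β • e) e := by
  by_cases hα : α = 0
  · rw [hα, zero_smul, zero_add]
    rw [hα, zero_mul, zero_add] at hαβ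
    have hβ0 : β ≠ 0 := by
      rintro rfl
      rw [zero_mul] at hαβ
      exact zero_ne_one hαβ
    obtain ⟨δ, hδ0, hδ⟩ := exists_trace_zero_ne hF
    have h1 : (-1 : F) ^ q = -1 := by rw [neg_pow_q hF, one_pow]
    obtain ⟨θ, hθ0, hθ⟩ := exists_norm_eq_ne hF h1 (neg_ne_zero.2 one_ne_zero)
    have hδq : δ ^ q = -δ := by linear_combination hδ
    have hnz : (δ * θ) * (δ * θ) ^ q + (1 - δ) * (1 - δ) ^ q = 1 := by
      rw [mul_pow, sub_pow_q hF, one_pow, hδq]
      linear_combination (-δ ^ 2) * hθ
    have c1 : Conn q k ((δ * θ) • s + (1 - δ) • e) e :=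
      conn_pair_core hF hVs hVe hs he hse (mul_ne_zero hδ0 hθ0) hnz
    have hβe : hermForm n F q (β • e) (β • e) = 1 := by
      rw [herm_smul_left, herm_smul_right, he, mul_one, hαβ]
    have hsβe : hermForm n F q s (β • e) = 0 := by
      rw [herm_smul_right, hse, mul_zero]
    have hβinv : β⁻¹ * (β⁻¹) ^ q = 1 := by
      rw [inv_pow, ← mul_inv, hαβ, inv_one]
    have c2 : Conn q k ((δ * θ) • s + ((1 - δ) * β⁻¹) • (β • e)) (β • e) := by
      refine conn_pair_core hF hVs (hVe.smul β) hs hβe hsβe (mul_ne_zero hδ0 hθ0) ?_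
      rw [norm_mul (1 - δ), hβinv, mul_one, hnz]
    rw [smul_smul, mul_assoc, inv_mul_cancel₀ hβ0, mul_one] at c2
    exact c2.symm.trans c1
  · exact conn_pair_core hF hVs hVe hs he hse hα hαβ

/-- Norm one vectors spanning a nondegenerate plane are connected. -/
theorem conn_of_norm_ne {k : ℕ} {u v : Fin n → F} (hVu : V k u) (hVv : V k v)
    (hu : hermForm n F q u u = 1) (hv : hermForm n F q v v = 1)
    (h : hermForm n F q u v * (hermForm n F q u v) ^ q ≠ 1) : Conn q k u v := by
  set b := hermForm n F q u v with hb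
  have hvu : hermForm n F q v u = b ^ q := herm_swap hF u v
  have hc : (1 - b * b ^ q) ^ q = 1 - b * b ^ q := by
    rw [sub_pow_q hF, norm_pow_q hF, one_pow]
  have hc0 : 1 - b * b ^ q ≠ 0 := sub_ne_zero.2 (Ne.symm h)
  obtain ⟨x, hx0, hx⟩ := exists_norm_eq_ne hF hc hc0
  have hxq0 : x ^ q ≠ 0 := pow_ne_zero _ hx0
  set s : Fin n → F := x⁻¹ • (u - b • v) with hs
  have hVs : V k s := (hVu.sub (hVv.smul b)).smul _
  have hss : hermForm n F q s s = 1 := by
    rw [hs, herm_smul_left, herm_smul_right, herm_sub_left, herm_sub_right hF, herm_sub_right hF,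
      herm_smul_left, herm_smul_left, herm_smul_right, herm_smul_right, ← hb, hu, hv, hvu, inv_pow]
    have : (1 : F) - b ^ q * b - (b * b ^ q - b * (b ^ q * 1)) = x * x ^ q := by
      rw [hx]; ring
    rw [this]
    field_simp
  have hsv : hermForm n F q s v = 0 := by
    rw [hs, herm_smul_left, herm_sub_left, herm_smul_left, ← hb, hv]; ring
  have hu' : u = x • s + b • v := by
    rw [hs, smul_smul, mul_inv_cancel₀ hx0, one_smul, sub_add_cancel]
  have hxb : x * x ^ q + b * b ^ q = 1 := by rw [hx]; ring
  rw [hu']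
  exact conn_pair hF hVs hVv hss hv hsv hxb

/-- Two norm one vectors of `V_k` which are both not in a degenerate plane with a third. -/
theorem conn_via {k : ℕ} {u v z : Fin n → F} (hVu : V k u) (hVv : V k v) (hVz : V k z)
    (hu : hermForm n F q u u = 1) (hv : hermForm n F q v v = 1) (hz : hermForm n F q z z = 1)
    (h : hermForm n F q u z * (hermForm n F q u z) ^ q ≠ 1)
    (h' : hermForm n F q z v * (hermForm n F q z v) ^ q ≠ 1) : Conn q k u v :=
  (conn_of_norm_ne hF hVu hVz hu hz h).trans (conn_of_norm_ne hF hVz hVv hz hv h')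

/-- If `q ≥ 3` there is an element whose norm is neither `0` nor `1`. -/
theorem exists_norm_ne (hq : 3 ≤ q) : ∃ z : F, z ≠ 0 ∧ z * z ^ q ≠ 1 := by
  classical
  have hc := card_fixed hF
  by_contra hcon
  push Not at hcon
  have h1 : ∀ c : {x : F // x ^ q = x}, c.1 = 0 ∨ c.1 = 1 := by
    rintro ⟨c, hc⟩
    by_cases h0 : c = 0
    · exact Or.inl h0
    · obtain ⟨x, hx0, hx⟩ := exists_norm_eq_ne hF hc h0
      right
      change c = 1
      rw [← hx, hcon x hx0]
  let f : {x : F // x ^ q = x} → Fin 2 := fun c => if c.1 = 0 then 0 else 1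
  have hf : Function.Injective f := by
    intro x y hxy
    rcases h1 x with hx | hx <;> rcases h1 y with hy | hy <;>
      simp only [f, hx, hy] at hxy ⊢
    · exact Subtype.ext (hx.trans hy.symm)
    · simp at hxy
    · simp at hxy
    · exact Subtype.ext (hx.trans hy.symm)
  have := Nat.card_le_card_of_injective f hf
  rw [hc] at this
  simp at this
  omega

/-- Case `q ≥ 3`: all norm one vectors of `V_(k+1)` are connected to `e_k` (`k ≥ 1`). -/
theorem conn_single_of_three_le (hq : 3 ≤ q) {j : Fin n} (hj : 0 < j.val) {u : Fin n → F}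
    (hVu : V (j.val + 1) u) (hu : hermForm n F q u u = 1) :
    Conn q (j.val + 1) u (Pi.single j 1) := by
  classical
  have he : hermForm n F q (Pi.single j (1 : F)) (Pi.single j 1) = 1 := by
    rw [herm_single_left, Pi.single_eq_same, one_pow, one_mul]
  have hVe : V (j.val + 1) (Pi.single j (1 : F) : Fin n → F) := V_single (by omega) 1
  have hue : hermForm n F q u (Pi.single j 1) = u j := by
    rw [herm_single_right hF, one_pow, mul_one]
  by_cases hN : u j * (u j) ^ q = 1
  swap
  · exact conn_of_norm_ne hF hVu hVe hu he (by rwa [hue])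
  -- the remaining part is isotropic
  set u0 : Fin n → F := u - u j • Pi.single j 1 with hu0
  have hu0j : u0 j = 0 := by simp [hu0]
  have hu0i : ∀ i, i ≠ j → u0 i = u i := by
    intro i hi
    simp [hu0, Pi.single_eq_of_ne hi]
  have hVu0 : V j.val u0 := by
    intro i hi
    by_cases hij : i = j
    · rw [hij, hu0j]
    · rw [hu0i i hij]
      refine hVu i ?_
      have : i.val ≠ j.val := fun h => hij (Fin.ext h)
      omega
  by_cases h0 : ∃ i : Fin n, i.val < j.val ∧ u i ≠ 0
  · obtain ⟨i, hij, hi⟩ := h0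
    have hne : i ≠ j := fun h => by rw [h] at hij; exact lt_irrefl _ hij
    obtain ⟨z, hz0, hz⟩ := exists_norm_ne hF hq
    -- `w = x u0 + z t e_i`, where `h(u0, t e_i) = 1`
    set t : F := ((u i)⁻¹) ^ q with ht
    have htq : u i * t ^ q = 1 := by
      rw [ht, pow_q_pow_q hF, mul_inv_cancel₀ hi]
    have h00 : hermForm n F q u0 u0 = 0 := by
      rw [hu0, herm_sub_left, herm_sub_right hF, herm_sub_right hF, herm_smul_left,
        herm_smul_left, herm_smul_right, herm_smul_right, he, hue, hu,
        herm_swap hF u (Pi.single j 1), hue]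
      linear_combination -hN
    have h0i : hermForm n F q u0 (Pi.single i t) = 1 := by
      rw [herm_single_right hF, hu0i i hne, htq]
    have hi0 : hermForm n F q (Pi.single i t) u0 = 1 := by
      rw [herm_swap hF u0, h0i, one_pow]
    have hii : hermForm n F q (Pi.single i t) (Pi.single i t) = t * t ^ q := by
      rw [herm_single_left, Pi.single_eq_same]
    have hsol : ∃ y : F, y + y ^ q = 1 - (z * z ^ q) * (t * t ^ q) := by
      apply exists_trace_eq hF
      rw [sub_pow_q hF, one_pow, mul_pow, norm_pow_q hF, norm_pow_q hF]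
    obtain ⟨y, hy⟩ := hsol
    have hzq : z ^ q ≠ 0 := pow_ne_zero _ hz0
    set x : F := y * (z ^ q)⁻¹ with hx
    have hxz : x * z ^ q = y := by rw [hx, mul_assoc, inv_mul_cancel₀ hzq, mul_one]
    have hzx : z * x ^ q = y ^ q := by
      have := congrArg (fun a => a ^ q) hxz
      simp only [mul_pow, pow_q_pow_q hF] at this
      rw [mul_comm]; exact this
    set w : Fin n → F := x • u0 + z • Pi.single i t with hw
    have hVw : V (j.val + 1) w :=
      ((hVu0.mono (Nat.le_succ _)).smul x).add ((V_single (by omega) t).smul z)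
    have hww : hermForm n F q w w = 1 := by
      rw [hw, herm_add_left, herm_add_right hF, herm_add_right hF]
      simp only [herm_smul_left, herm_smul_right, h00, h0i, hi0, hii]
      linear_combination hxz + hzx + hy
    have hwe : hermForm n F q w (Pi.single j 1) = 0 := by
      rw [herm_single_right hF, hw]
      simp [hu0j, Pi.single_eq_of_ne hne.symm]
    have hew : hermForm n F q (Pi.single j 1) w = 0 := herm_eq_zero_swap hF hwe
    have huw : hermForm n F q u w = z ^ q := by
      have : u = u0 + u j • Pi.single j 1 := by rw [hu0, sub_add_cancel]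
      rw [this, herm_add_left, herm_smul_left, hew, hw, herm_add_right hF, herm_smul_right,
        herm_smul_right, h00, h0i]
      ring
    refine conn_via hF hVu hVe hVw hu he hww ?_ ?_
    · rw [huw, pow_q_pow_q hF, mul_comm]; exact hz
    · rw [hwe, zero_mul]; exact zero_ne_one
  · push Not at h0
    -- `u` is a multiple of `e_j`
    have hu' : u = (0 : F) • Pi.single (⟨0, by omega⟩ : Fin n) 1 + u j • Pi.single j 1 := by
      rw [zero_smul, zero_add]
      funext i
      by_cases hij : i = j
      · rw [hij]; simp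
      · rw [Pi.smul_apply, Pi.single_eq_of_ne hij, smul_zero]
        by_cases hlt : i.val < j.val
        · exact h0 i hlt
        · refine hVu i ?_
          have : i.val ≠ j.val := fun h => hij (Fin.ext h)
          omega
    rw [hu']
    have hne : (⟨0, by omega⟩ : Fin n) ≠ j := by
      intro h
      have := congrArg Fin.val h
      simp at this
      omega
    refine conn_pair hF (V_single (by simp) 1) hVe ?_ he ?_ ?_
    · rw [herm_single_left, Pi.single_eq_same, one_pow, one_mul]
    · rw [herm_single_left, Pi.single_eq_of_ne hne, zero_pow_q hF, mul_zero]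
    · rw [zero_mul, zero_add, hN]

/-- The case `k = 2` for every `q`. -/
theorem conn_single_one {j : Fin n} (hj : j.val = 1) {u : Fin n → F}
    (hVu : V (j.val + 1) u) (hu : hermForm n F q u u = 1) :
    Conn q (j.val + 1) u (Pi.single j 1) := by
  classical
  have he : ∀ i : Fin n, hermForm n F q (Pi.single i (1 : F)) (Pi.single i 1) = 1 := by
    intro i
    rw [herm_single_left, Pi.single_eq_same, one_pow, one_mul]
  set i0 : Fin n := ⟨0, by omega⟩ with hi0
  have hne : i0 ≠ j := by
    intro h
    have := congrArg Fin.val h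
    simp [hi0] at this
    omega
  have hu' : u = u i0 • Pi.single i0 1 + u j • Pi.single j 1 := by
    funext i
    by_cases hij : i = j
    · rw [hij]; simp [hne.symm]
    · by_cases hi : i = i0
      · rw [hi]; simp [hne]
      · have h1 : i.val ≠ j.val := fun h => hij (Fin.ext h)
        have h2 : i.val ≠ 0 := fun h => hi (Fin.ext h)
        rw [hVu i (by omega)]
        simp [Pi.single_eq_of_ne hi, Pi.single_eq_of_ne hij]
  have hij : hermForm n F q (Pi.single i0 (1 : F)) (Pi.single j 1) = 0 := by
    rw [herm_single_left, Pi.single_eq_of_ne hne, zero_pow_q hF, mul_zero]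
  have hN : u i0 * u i0 ^ q + u j * u j ^ q = 1 := by
    rw [← herm_pair hF (he i0) (he j) hij, ← hu', hu]
  rw [hu']
  exact conn_pair hF (V_single (by simp [hi0]) 1) (V_single (by omega) 1) (he i0) (he j) hij hN

end Main

end Cfsg.Agent.ClassicalGeometry.UnitGen
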