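import Mathlib
import Cfsg.Prelude.Def_ClassicalGeometry
import Cfsg.Agent.LieClassical.HermBasic
import Cfsg.Agent.ClassicalGeometry.UnitTransv
import Cfsg.Agent.ClassicalGeometry.UnitGen

/-!
# Generation of `SU_n(q)` by unitary transvections: the case `q = 2` and the conclusion
-/

set_option autoImplicit false

namespace Cfsg.Agent.ClassicalGeometry.UnitGenTwo

open Cfsg Cfsg.Agent.LieClassical.HermBasic Cfsg.Agent.ClassicalGeometry.UnitTransv
open Cfsg.Agent.ClassicalGeometry.UnitGen
open scoped Matrix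

section General

variable {F : Type*} [Field F] [Fintype F] {n q : ℕ} (hF : Fintype.card F = q ^ 2)
include hF

/-- In the span of two non-orthogonal vectors there is a vector of norm one. -/
theorem exists_norm_one_of_pair {w w' : Fin n → F} (h : hermForm n F q w w' ≠ 0) :
    ∃ a b : F, hermForm n F q (a • w + b • w') (a • w + b • w') = 1 := by
  -- first a non-isotropic vector
  have key : ∃ a b : F, hermForm n F q (a • w + b • w') (a • w + b • w') ≠ 0 := by
    by_contra hcon
    push Not at hcon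
    apply h
    apply eq_zero_of_forall_trace hF
    intro c
    have h1 := hcon 1 0
    have h2 := hcon 0 1
    have h3 := hcon 1 (c ^ q)
    rw [one_smul, zero_smul, add_zero] at h1
    rw [one_smul, zero_smul, zero_add] at h2
    rw [one_smul, herm_add_left, herm_add_right hF, herm_add_right hF, herm_smul_left,
      herm_smul_left, herm_smul_right, herm_smul_right, h1, h2, pow_q_pow_q hF,
      herm_swap hF w w'] at h3
    rw [mul_pow]
    linear_combination h3
  obtain ⟨a, b, hab⟩ := key
  have hN : (hermForm n F q (a • w + b • w') (a • w + b • w')) ^ q =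
    hermForm n F q (a • w + b • w') (a • w + b • w') := herm_self_pow hF _
  obtain ⟨x, hx0, hx⟩ := exists_norm_eq_ne hF hN hab
  have hxq0 : x ^ q ≠ 0 := pow_ne_zero _ hx0
  refine ⟨x⁻¹ * a, x⁻¹ * b, ?_⟩
  have : (x⁻¹ * a) • w + (x⁻¹ * b) • w' = x⁻¹ • (a • w + b • w') := by
    rw [smul_add, smul_smul, smul_smul]
  rw [this, herm_smul_left, herm_smul_right, ← hx, inv_pow]
  field_simp

/-- In `V_3` there is a norm one vector orthogonal to a given vector. -/
theorem exists_perp_norm_one (hn : 3 ≤ n) (v : Fin n → F) :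
    ∃ s : Fin n → F, V 3 s ∧ hermForm n F q s v = 0 ∧ hermForm n F q s s = 1 := by
  classical
  by_cases h : ∃ j : Fin n, j.val < 3 ∧ v j = 0
  · obtain ⟨j, hj3, hj⟩ := h
    refine ⟨Pi.single j 1, V_single hj3 1, ?_, ?_⟩
    · rw [herm_single_left, hj, zero_pow_q hF, mul_zero]
    · rw [herm_single_left, Pi.single_eq_same, one_pow, one_mul]
  · push Not at h
    let i : Fin n := ⟨0, by omega⟩
    let j : Fin n := ⟨1, by omega⟩
    let k : Fin n := ⟨2, by omega⟩
    have hij : i ≠ j := by simp [i, j]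
    have hik : i ≠ k := by simp [i, k]
    have hjk : j ≠ k := by simp [j, k]
    have hi3 : i.val < 3 := by simp [i]
    have hj3 : j.val < 3 := by simp [j]
    have hk3 : k.val < 3 := by simp [k]
    set w : Fin n → F := Pi.single j (v i ^ q) - Pi.single i (v j ^ q) with hw
    set w' : Fin n → F := Pi.single k (v i ^ q) - Pi.single i (v k ^ q) with hw'
    have hwv : hermForm n F q w v = 0 := by
      rw [hw, herm_sub_left, herm_single_left, herm_single_left]; ring
    have hwv' : hermForm n F q w' v = 0 := by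
      rw [hw', herm_sub_left, herm_single_left, herm_single_left]; ring
    have hww' : hermForm n F q w w' ≠ 0 := by
      rw [hw, hw', herm_sub_left, herm_single_left, herm_single_left]
      simp only [Pi.sub_apply, Pi.single_eq_same, Pi.single_eq_of_ne hjk,
        Pi.single_eq_of_ne hik, Pi.single_eq_of_ne hij.symm, sub_self, zero_pow_q hF, mul_zero,
        zero_sub, neg_pow_q hF, pow_q_pow_q hF]
      rw [mul_neg, neg_neg]
      exact mul_ne_zero (pow_ne_zero _ (h j hj3)) (h k hk3)
    obtain ⟨a, b, hab⟩ := exists_norm_one_of_pair hF hww'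
    refine ⟨a • w + b • w', ?_, ?_, hab⟩
    · exact (((V_single hj3 _).sub (V_single hi3 _)).smul a).add
        (((V_single hk3 _).sub (V_single hi3 _)).smul b)
    · rw [herm_add_left, herm_smul_left, herm_smul_left, hwv, hwv', mul_zero, mul_zero, add_zero]

/-- All norm one vectors of `V_(k+1)` are connected to `e_k`, when `k ≥ 3`. -/
theorem conn_single_of_three_lt {j : Fin n} (hj : 3 ≤ j.val) {u : Fin n → F}
    (hVu : V (j.val + 1) u) (hu : hermForm n F q u u = 1) :
    Conn q (j.val + 1) u (Pi.single j 1) := by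
  classical
  have hn : 3 ≤ n := by have := j.isLt; omega
  obtain ⟨s, hVs, hsu, hss⟩ := exists_perp_norm_one hF hn u
  have he : hermForm n F q (Pi.single j (1 : F)) (Pi.single j 1) = 1 := by
    rw [herm_single_left, Pi.single_eq_same, one_pow, one_mul]
  have hVe : V (j.val + 1) (Pi.single j (1 : F) : Fin n → F) := V_single (by omega) 1
  have hse : hermForm n F q s (Pi.single j 1) = 0 := by
    rw [herm_single_right hF, hVs j hj, zero_mul]
  refine conn_via hF hVu hVe (hVs.mono (by omega)) hu he hss ?_ ?_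
  · rw [herm_eq_zero_swap hF hsu, zero_mul]; exact zero_ne_one
  · rw [hse, zero_mul]; exact zero_ne_one

end General

section Two

variable {F : Type*} [Field F] [Fintype F] {n : ℕ} (hF : Fintype.card F = 2 ^ 2)
include hF

theorem two_eq_zero : (2 : F) = 0 := by
  have h : ((Fintype.card F : ℕ) : F) = 0 := by
    have := FiniteField.cast_card_eq_zero F
    exact this
  rw [hF] at h
  have h4 : (2 : F) ^ 2 = 0 := by rw [← h]; norm_num
  exact pow_eq_zero_iff (two_ne_zero) |>.1 h4

theorem exists_omega : ∃ w : F, w ^ 2 = w + 1 := by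
  obtain ⟨x, hx⟩ := exists_not_fixed hF
  have hx0 : x ≠ 0 := by
    rintro rfl
    apply hx
    ring
  have hx1 : x ≠ 1 := by
    rintro rfl
    apply hx
    ring
  have h3 : x ^ 3 = 1 := by
    have := FiniteField.pow_card_sub_one_eq_one x hx0
    rwa [hF] at this
  refine ⟨x, ?_⟩
  have h4 : (x - 1) * (x ^ 2 + x + 1) = 0 := by linear_combination h3
  have h5 : x ^ 2 + x + 1 = 0 := by
    rcases mul_eq_zero.1 h4 with h | h
    · exact absurd (sub_eq_zero.1 h) hx1
    · exact h
  have h2 := two_eq_zero hF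
  linear_combination h5 - (x + 1) * h2

/-- Linear combination of four vectors. -/
def L (f : Fin 4 → (Fin n → F)) (a b c d : F) : Fin n → F :=
  a • f 0 + b • f 1 + c • f 2 + d • f 3

theorem herm_L {f : Fin 4 → (Fin n → F)}
    (hf : ∀ i j, hermForm n F 2 (f i) (f j) = if i = j then 1 else 0) (a b c d a' b' c' d' : F) :
    hermForm n F 2 (L f a b c d) (L f a' b' c' d') =
      a * a' ^ 2 + b * b' ^ 2 + c * c' ^ 2 + d * d' ^ 2 := by
  simp only [L, herm_add_left, herm_add_right hF, herm_smul_left, herm_smul_right, hf]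
  simp
  ring

/-- The explicit word. -/
theorem word {f : Fin 4 → (Fin n → F)}
    (hf : ∀ i j, hermForm n F 2 (f i) (f j) = if i = j then 1 else 0)
    (hV : ∀ i, V 4 (f i)) :
    ∃ g : SU n F 2, g ∈ T F n 2 ∧
      (∀ i : Fin n, 4 ≤ i.val → act g (Pi.single i 1) = Pi.single i 1) ∧
      act g (L f 0 0 0 1) = L f 0 0 0 1 ∧ act g (L f 1 1 1 0) = L f 0 0 1 0 := by
  obtain ⟨w, hw⟩ := exists_omega hF
  have h2 := two_eq_zero hF
  have hc : (1 : F) + 1 ^ 2 = 0 := by linear_combination h2
  -- isotropic vectors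
  have iso : ∀ a b c d : F, a * a ^ 2 + b * b ^ 2 + c * c ^ 2 + d * d ^ 2 = 0 →
      hermForm n F 2 (L f a b c d) (L f a b c d) = 0 := by
    intro a b c d h
    rw [herm_L hF hf, h]
  have hVL : ∀ a b c d : F, V 4 (L f a b c d) := fun a b c d =>
    ((((hV 0).smul a).add ((hV 1).smul b)).add ((hV 2).smul c)).add ((hV 3).smul d)
  have step : ∀ (a b c d : F) (hi : hermForm n F 2 (L f a b c d) (L f a b c d) = 0)
      (x y z t : F), act (utv hF (L f a b c d) 1 hi hc) (L f x y z t) =
        L f (x + (x * a ^ 2 + y * b ^ 2 + z * c ^ 2 + t * d ^ 2) * a)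
          (y + (x * a ^ 2 + y * b ^ 2 + z * c ^ 2 + t * d ^ 2) * b)
          (z + (x * a ^ 2 + y * b ^ 2 + z * c ^ 2 + t * d ^ 2) * c)
          (t + (x * a ^ 2 + y * b ^ 2 + z * c ^ 2 + t * d ^ 2) * d) := by
    intro a b c d hi x y z t
    rw [act_utv, one_mul, herm_L hF hf]
    simp only [L]
    module
  have w3 : w ^ 3 = 1 := by
    have : w ^ 3 = w * w ^ 2 := by ring
    rw [this, hw]
    linear_combination hw + w * h2
  have i1 := iso 0 0 1 1 (by linear_combination h2)
  have i2 := iso 0 0 1 w (by linear_combination w3 + h2)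
  have i3 := iso 1 1 w 1 (by linear_combination w3 + 2 * h2)
  have i4 := iso 1 1 w (w ^ 2) (by linear_combination (w ^ 3 + 2) * w3 + 2 * h2)
  refine ⟨utv hF _ 1 i4 hc * (utv hF _ 1 i3 hc * (utv hF _ 1 i2 hc * utv hF _ 1 i1 hc)),
    mul_mem (utv_mem_T hF _ _) (mul_mem (utv_mem_T hF _ _)
      (mul_mem (utv_mem_T hF _ _) (utv_mem_T hF _ _))), ?_, ?_, ?_⟩
  · intro i hi
    rw [act_mul, act_mul, act_mul, utv_fix hF i1 hc (hVL _ _ _ _) i hi,
      utv_fix hF i2 hc (hVL _ _ _ _) i hi, utv_fix hF i3 hc (hVL _ _ _ _) i hi,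
      utv_fix hF i4 hc (hVL _ _ _ _) i hi]
  · rw [act_mul, act_mul, act_mul, step]
    have e1 : L f ((0 : F) + (0 * 0 ^ 2 + 0 * 0 ^ 2 + 0 * 1 ^ 2 + 1 * 1 ^ 2) * 0)
        (0 + (0 * 0 ^ 2 + 0 * 0 ^ 2 + 0 * 1 ^ 2 + 1 * 1 ^ 2) * 0)
        (0 + (0 * 0 ^ 2 + 0 * 0 ^ 2 + 0 * 1 ^ 2 + 1 * 1 ^ 2) * 1)
        (1 + (0 * 0 ^ 2 + 0 * 0 ^ 2 + 0 * 1 ^ 2 + 1 * 1 ^ 2) * 1) = L f 0 0 1 0 := by
      congr 1
      · ring
      · ring
      · ring
      · linear_combination h2
    rw [e1, step]
    have e2 : L f ((0 : F) + (0 * 0 ^ 2 + 0 * 0 ^ 2 + 1 * 1 ^ 2 + 0 * w ^ 2) * 0)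
        (0 + (0 * 0 ^ 2 + 0 * 0 ^ 2 + 1 * 1 ^ 2 + 0 * w ^ 2) * 0)
        (1 + (0 * 0 ^ 2 + 0 * 0 ^ 2 + 1 * 1 ^ 2 + 0 * w ^ 2) * 1)
        (0 + (0 * 0 ^ 2 + 0 * 0 ^ 2 + 1 * 1 ^ 2 + 0 * w ^ 2) * w) = L f 0 0 0 w := by
      congr 1
      · ring
      · ring
      · linear_combination h2
      · ring
    rw [e2, step]
    have e3 : L f ((0 : F) + (0 * 1 ^ 2 + 0 * 1 ^ 2 + 0 * w ^ 2 + w * 1 ^ 2) * 1)
        (0 + (0 * 1 ^ 2 + 0 * 1 ^ 2 + 0 * w ^ 2 + w * 1 ^ 2) * 1)
        (0 + (0 * 1 ^ 2 + 0 * 1 ^ 2 + 0 * w ^ 2 + w * 1 ^ 2) * w)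
        (w + (0 * 1 ^ 2 + 0 * 1 ^ 2 + 0 * w ^ 2 + w * 1 ^ 2) * 1) = L f w w (w ^ 2) 0 := by
      congr 1
      · ring
      · ring
      · ring
      · linear_combination w * h2
    rw [e3, step]
    have e5 : (w * 1 ^ 2 + w * 1 ^ 2 + w ^ 2 * w ^ 2 + 0 * (w ^ 2) ^ 2) = w := by
      linear_combination w * w3 + w * h2
    rw [e5]
    congr 1
    · linear_combination w * h2
    · linear_combination w * h2
    · linear_combination w ^ 2 * h2
    · linear_combination w3
  · rw [act_mul, act_mul, act_mul, step]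
    have e1 : L f ((1 : F) + (1 * 0 ^ 2 + 1 * 0 ^ 2 + 1 * 1 ^ 2 + 0 * 1 ^ 2) * 0)
        (1 + (1 * 0 ^ 2 + 1 * 0 ^ 2 + 1 * 1 ^ 2 + 0 * 1 ^ 2) * 0)
        (1 + (1 * 0 ^ 2 + 1 * 0 ^ 2 + 1 * 1 ^ 2 + 0 * 1 ^ 2) * 1)
        (0 + (1 * 0 ^ 2 + 1 * 0 ^ 2 + 1 * 1 ^ 2 + 0 * 1 ^ 2) * 1) = L f 1 1 0 1 := by
      congr 1
      · ring
      · ring
      · linear_combination h2
      · ring
    rw [e1, step]
    have e2' : ((1 : F) * 0 ^ 2 + 1 * 0 ^ 2 + 0 * 1 ^ 2 + 1 * w ^ 2) = w ^ 2 := by ring
    rw [e2']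
    have e2 : L f ((1 : F) + w ^ 2 * 0) (1 + w ^ 2 * 0) (0 + w ^ 2 * 1) (1 + w ^ 2 * w) =
        L f 1 1 (w ^ 2) 0 := by
      congr 1
      · ring
      · ring
      · ring
      · linear_combination w3 + h2
    rw [e2, step]
    have e3' : ((1 : F) * 1 ^ 2 + 1 * 1 ^ 2 + w ^ 2 * w ^ 2 + 0 * 1 ^ 2) = w := by
      linear_combination h2 + w * w3
    rw [e3']
    have e3 : L f ((1 : F) + w * 1) (1 + w * 1) (w ^ 2 + w * w) (0 + w * 1) =
        L f (w ^ 2) (w ^ 2) 0 w := by
      congr 1
      · linear_combination -hw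
      · linear_combination -hw
      · linear_combination w ^ 2 * h2
      · ring
    rw [e3, step]
    have e4' : (w ^ 2 * 1 ^ 2 + w ^ 2 * 1 ^ 2 + 0 * w ^ 2 + w * (w ^ 2) ^ 2) = w ^ 2 := by
      linear_combination w ^ 2 * h2 + w ^ 2 * w3
    rw [e4']
    congr 1
    · linear_combination w ^ 2 * h2
    · linear_combination w ^ 2 * h2
    · linear_combination w3
    · linear_combination w * w3 + w * h2

theorem norm_of_ne_zero {x : F} (hx : x ≠ 0) : x * x ^ 2 = 1 := by
  have := FiniteField.pow_card_sub_one_eq_one x hx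
  rw [hF] at this
  rw [← this]
  ring

/-- The case `q = 2`, `k = 3`, `n ≥ 4`. -/
theorem conn_single_two (hn : 4 ≤ n) {j : Fin n} (hj : j.val = 2) {u : Fin n → F}
    (hVu : V 3 u) (hu : hermForm n F 2 u u = 1) :
    Conn 2 3 u (Pi.single j 1) := by
  classical
  have hee : ∀ i : Fin n, hermForm n F 2 (Pi.single i (1 : F)) (Pi.single i 1) = 1 := by
    intro i
    rw [herm_single_left, Pi.single_eq_same, one_pow, one_mul]
  have hVe : V 3 (Pi.single j (1 : F) : Fin n → F) := V_single (by omega) 1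
  have hue : hermForm n F 2 u (Pi.single j 1) = u j := by
    rw [herm_single_right hF, one_pow, mul_one]
  by_cases hN : u j * (u j) ^ 2 = 1
  swap
  · exact conn_of_norm_ne hF hVu hVe hu (hee j) (by rwa [hue])
  have hj0 : u j ≠ 0 := by
    intro h
    rw [h] at hN
    simp at hN
  set i0 : Fin n := ⟨0, by omega⟩ with hi0
  set i1 : Fin n := ⟨1, by omega⟩ with hi1
  set i3 : Fin n := ⟨3, by omega⟩ with hi3
  have n01 : i0 ≠ i1 := by simp [hi0, hi1]
  have n0j : i0 ≠ j := by intro h; have := congrArg Fin.val h; simp [hi0] at this; omega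
  have n1j : i1 ≠ j := by intro h; have := congrArg Fin.val h; simp [hi1] at this; omega
  have n03 : i0 ≠ i3 := by simp [hi0, hi3]
  have n13 : i1 ≠ i3 := by simp [hi1, hi3]
  have nj3 : j ≠ i3 := by intro h; have := congrArg Fin.val h; simp [hi3] at this; omega
  have hus : u = u i0 • Pi.single i0 1 + u i1 • Pi.single i1 1 + u j • Pi.single j 1 := by
    funext i
    by_cases h0 : i = i0
    · rw [h0]; simp [n01, n0j]
    by_cases h1 : i = i1
    · rw [h1]; simp [n01.symm, n1j]
    by_cases h2 : i = j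
    · rw [h2]; simp [n0j.symm, n1j.symm]
    rw [hVu i (by
      have e0 : i.val ≠ 0 := fun h => h0 (Fin.ext h)
      have e1 : i.val ≠ 1 := fun h => h1 (Fin.ext h)
      have e2 : i.val ≠ j.val := fun h => h2 (Fin.ext h)
      omega)]
    simp [Pi.single_eq_of_ne h0, Pi.single_eq_of_ne h1, Pi.single_eq_of_ne h2]
  have hsn : ∀ i i' : Fin n, i ≠ i' →
      hermForm n F 2 (Pi.single i (1 : F)) (Pi.single i' 1) = 0 := by
    intro i i' h
    rw [herm_single_left, Pi.single_eq_of_ne h, zero_pow_q hF, mul_zero]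
  have hnorm : u i0 * u i0 ^ 2 + u i1 * u i1 ^ 2 + u j * u j ^ 2 = 1 := by
    have h := hu
    rw [hus] at h
    simp only [herm_add_left, herm_add_right hF, herm_smul_left, herm_smul_right, hee,
      hsn _ _ n01, hsn _ _ n0j, hsn _ _ n1j, hsn _ _ n01.symm, hsn _ _ n0j.symm,
      hsn _ _ n1j.symm] at h
    linear_combination h
  have h01 : u i0 * u i0 ^ 2 + u i1 * u i1 ^ 2 = 0 := by linear_combination hnorm - hN
  have h2 := two_eq_zero hF
  have hlast : Conn (F := F) 2 3 (u j • Pi.single j (1 : F)) (Pi.single j 1) := by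
    have := conn_pair hF (k := 3) (V_single (i := i0) (by simp [hi0]) 1) hVe (hee i0) (hee j)
      (hsn _ _ n0j) (α := 0) (β := u j) (by rw [hN]; ring)
    rwa [zero_smul, zero_add] at this
  by_cases h0 : u i0 = 0
  · have h1 : u i1 = 0 := by
      by_contra h1
      rw [h0, norm_of_ne_zero hF h1] at h01
      simp at h01
    rw [h0, h1, zero_smul, zero_smul, zero_add, zero_add] at hus
    rw [hus]
    simpa using hlast
  · have h1 : u i1 ≠ 0 := by
      intro h1
      rw [h1, norm_of_ne_zero hF h0] at h01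
      simp at h01
    -- the orthonormal frame
    let f : Fin 4 → (Fin n → F) := ![u i0 • Pi.single i0 (1 : F), u i1 • Pi.single i1 (1 : F),
      u j • Pi.single j (1 : F), Pi.single i3 (1 : F)]
    have hf : ∀ a b, hermForm n F 2 (f a) (f b) = if a = b then 1 else 0 := by
      have m0 : u i0 ^ 2 * u i0 = 1 := by rw [mul_comm]; exact norm_of_ne_zero hF h0
      have m1 : u i1 ^ 2 * u i1 = 1 := by rw [mul_comm]; exact norm_of_ne_zero hF h1
      have mj : u j ^ 2 * u j = 1 := by rw [mul_comm]; exact hN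
      intro a b
      fin_cases a <;> fin_cases b <;>
        simp [f, herm_smul_left, herm_smul_right, hee, hsn _ _ n01, hsn _ _ n0j, hsn _ _ n1j,
          hsn _ _ n01.symm, hsn _ _ n0j.symm, hsn _ _ n1j.symm, hsn _ _ n03, hsn _ _ n03.symm,
          hsn _ _ n13, hsn _ _ n13.symm, hsn _ _ nj3, hsn _ _ nj3.symm, m0, m1, mj]
    have hV : ∀ a, V 4 (f a) := by
      intro a
      fin_cases a
      · exact (V_single (by simp [hi0]) 1).smul _
      · exact (V_single (by simp [hi1]) 1).smul _
      · exact (V_single (by omega) 1).smul _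
      · exact V_single (by simp [hi3]) 1
    obtain ⟨g, hgT, hgfix, hg3, hgu⟩ := word hF hf hV
    have e3 : L f 0 0 0 1 = Pi.single i3 (1 : F) := by simp [L, f]
    have eu : L f 1 1 1 0 = u := by
      rw [hus]
      simp only [L, one_smul, zero_smul, add_zero]
      simp [f]
    have ej : L f 0 0 1 0 = u j • Pi.single j (1 : F) := by simp [L, f]
    rw [e3] at hg3
    rw [eu, ej] at hgu
    refine Conn.trans ⟨g, hgT, ?_, hgu⟩ hlast
    intro i hi
    by_cases h : i.val = 3
    · have : i = i3 := Fin.ext h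
      rw [this, hg3]
    · exact hgfix i (by omega)

end Two

section Final

variable {F : Type*} [Field F] [Fintype F] {n q : ℕ} (hF : Fintype.card F = q ^ 2)
include hF

/-- Transitivity of the transvection group on norm one vectors, in the filtered form. -/
theorem conn_single (h32 : ¬ (n = 3 ∧ q = 2)) {j : Fin n} (hj : 1 ≤ j.val) {u : Fin n → F}
    (hVu : V (j.val + 1) u) (hu : hermForm n F q u u = 1) :
    Conn q (j.val + 1) u (Pi.single j 1) := by
  by_cases hq : 3 ≤ q
  · exact conn_single_of_three_le hF hq hj hVu hu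
  · have hq2 : q = 2 := by have := two_le hF; omega
    subst hq2
    by_cases h3 : 3 ≤ j.val
    · exact conn_single_of_three_lt hF h3 hVu hu
    · by_cases h2 : j.val = 2
      · have hn : 4 ≤ n := by have := j.isLt; omega
        rw [h2] at hVu ⊢
        exact conn_single_two hF hn h2 hVu hu
      · exact conn_single_one hF (by omega) hVu hu

/-- An element of `SU` fixing `e_i` for all `i ≥ 1` is trivial. -/
theorem eq_one_of_fix {A : SU n F q} (hA : ∀ i : Fin n, 1 ≤ i.val →
    act A (Pi.single i 1) = Pi.single i 1) : A = 1 := by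
  classical
  rcases Nat.eq_zero_or_pos n with h0 | hn
  · subst h0
    apply ext_act
    intro x
    exact Subsingleton.elim _ _
  set i0 : Fin n := ⟨0, hn⟩ with hi0
  set M : Matrix (Fin n) (Fin n) F :=
    ((A : Matrix.SpecialLinearGroup (Fin n) F) : Matrix (Fin n) (Fin n) F) with hM
  have hcol : ∀ i j : Fin n, M i j = act A (Pi.single j 1) i := by
    intro i j
    rw [act_def, Matrix.mulVec_single_one]
    rfl
  -- off-diagonal entries vanish
  have hoff : ∀ i j : Fin n, i ≠ j → M i j = 0 := by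
    intro i j hij
    by_cases hj : j = i0
    · -- column `0`, row `i ≥ 1`
      have hi : 1 ≤ i.val := by
        have : i.val ≠ 0 := by
          intro h
          apply hij
          rw [hj]
          exact Fin.ext h
        omega
      have h1 := herm_act A (Pi.single j 1) (Pi.single i 1)
      rw [hA i hi, herm_single_right hF, herm_single_right hF, one_pow, mul_one, mul_one,
        Pi.single_eq_of_ne hij] at h1
      rw [hcol, h1]
    · have hj1 : 1 ≤ j.val := by
        have : j.val ≠ 0 := fun h => hj (Fin.ext h)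
        omega
      rw [hcol, hA j hj1, Pi.single_eq_of_ne hij]
  have hdiag : M = Matrix.diagonal (fun i => M i i) := by
    ext i j
    by_cases h : i = j
    · rw [h, Matrix.diagonal_apply_eq]
    · rw [Matrix.diagonal_apply_ne _ h, hoff i j h]
  have hd1 : ∀ i : Fin n, i ≠ i0 → M i i = 1 := by
    intro i hi
    have : 1 ≤ i.val := by
      have : i.val ≠ 0 := fun h => hi (Fin.ext h)
      omega
    rw [hcol, hA i this, Pi.single_eq_same]
  have hdet : M.det = 1 := (A : Matrix.SpecialLinearGroup (Fin n) F).2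
  have h00 : M i0 i0 = 1 := by
    rw [hdiag, Matrix.det_diagonal, Finset.prod_eq_single i0] at hdet
    · exact hdet
    · intro i _ hi
      exact hd1 i hi
    · intro h; exact absurd (Finset.mem_univ _) h
  have hM1 : M = 1 := by
    rw [hdiag, ← Matrix.diagonal_one]
    congr 1
    funext i
    by_cases h : i = i0
    · rw [h, h00]
    · exact hd1 i h
  apply Subtype.ext
  apply Subtype.ext
  exact hM1

/-- Descent. -/
theorem mem_T_of_fix (h32 : ¬ (n = 3 ∧ q = 2)) (k : ℕ) (hk : k ≤ n) (A : SU n F q)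
    (hA : ∀ i : Fin n, k ≤ i.val → act A (Pi.single i 1) = Pi.single i 1) : A ∈ T F n q := by
  classical
  induction k generalizing A with
  | zero =>
    rw [eq_one_of_fix hF (A := A) (fun i _ => hA i (Nat.zero_le _))]
    exact one_mem _
  | succ k ih =>
    by_cases hk0 : k = 0
    · subst hk0
      rw [eq_one_of_fix hF (A := A) (fun i hi => hA i (by omega))]
      exact one_mem _
    set j : Fin n := ⟨k, hk⟩ with hj
    have hu : hermForm n F q (act A (Pi.single j 1)) (act A (Pi.single j 1)) = 1 := by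
      rw [herm_act, herm_single_left, Pi.single_eq_same, one_pow, one_mul]
    have hVu : V (j.val + 1) (act A (Pi.single j 1)) := by
      intro i hi
      have hij : i ≠ j := by
        intro h
        rw [h] at hi
        omega
      have h1 := herm_act A (Pi.single j 1) (Pi.single i 1)
      rw [hA i hi, herm_single_right hF, herm_single_right hF, one_pow, mul_one, mul_one,
        Pi.single_eq_of_ne hij] at h1
      exact h1
    obtain ⟨g, hgT, hgfix, hg⟩ := conn_single hF h32 (j := j) (by change 1 ≤ k; omega) hVu hu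
    have h2 : g * A ∈ T F n q := by
      refine ih (by omega) (g * A) ?_
      intro i hi
      rw [act_mul]
      by_cases hik : i.val = k
      · have : i = j := Fin.ext hik
        rw [this, hg]
      · have hi' : k + 1 ≤ i.val := by omega
        rw [hA i hi', hgfix i hi']
    have h3 : A = g⁻¹ * (g * A) := by group
    rw [h3]
    exact mul_mem (inv_mem hgT) h2

/-- `SU_n(q)` is generated by unitary transvections unless `(n, q) = (3, 2)`. -/
theorem T_eq_top (h32 : ¬ (n = 3 ∧ q = 2)) : T F n q = ⊤ := by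
  rw [eq_top_iff]
  intro A _
  refine mem_T_of_fix hF h32 n le_rfl A ?_
  intro i hi
  exact absurd i.isLt (by omega)

end Final

end Cfsg.Agent.ClassicalGeometry.UnitGenTwo
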